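import Cfsg.Agent.Lib.GW.CycDih
import Cfsg.Agent.Lib.Linear.AutPSL.FieldCentralizer
import Cfsg.Agent.Lib.Linear.SLBasic

/-!
# Almost simple groups over `PSL₂(q)` with dihedral Sylow 2-subgroups

`X` with a normal `E ≅ PSL₂(q)`, `q` odd, `C(E) = 1` and all 2-subgroups cyclic or dihedral: the
elements inducing inner-diagonal automorphisms form a normal subgroup `diag` with abelian quotient which
contains every involution and in which `E` has index at most two; if it is all of `X`, then `X` is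
`PSL₂(q)` or `PGL₂(q)`. An involution of `diag` outside `E` has at most `q² + q - 1` conjugates.
-/

set_option autoImplicit false
set_option linter.style.haveILetI false

namespace Cfsg.Lib.GW.PGL

open Subgroup Matrix Cfsg.Lib.Linear.AutPSL Cfsg.Lib.Linear.Descent
open scoped commutatorElement

universe u

/-- An elementary abelian 2-group which is cyclic or dihedral has order at most four. -/
theorem card_le_four_of_cycDih {P : Type*} [Group P] [Finite P] (h : CycDih P) (hsq : ∀ x : P, x * x = 1) :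
    Nat.card P ≤ 4 := by
  obtain ⟨R, hR, hi, -⟩ := h
  obtain ⟨a, ha⟩ := IsCyclic.exists_generator (α := R)
  have h2 : orderOf a ≤ 2 :=
    orderOf_le_of_pow_eq_one two_pos (Subtype.ext (by rw [pow_two]; exact hsq a))
  rw [orderOf_eq_card_of_forall_mem_zpowers ha] at h2
  rw [← card_mul_index R]
  calc Nat.card R * R.index ≤ 2 * 2 := Nat.mul_le_mul h2 hi
    _ = 4 := rfl

section Field

variable {F : Type*} [Field F] [Fintype F]

local notation "PSL2" => Matrix.ProjectiveSpecialLinearGroup (Fin 2) F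

theorem mk_ne_one_of_offDiag {s : Matrix.SpecialLinearGroup (Fin 2) F} (h : s.1 0 1 ≠ 0 ∨ s.1 1 0 ≠ 0) :
    (QuotientGroup.mk s : PSL2) ≠ 1 := by
  rw [Ne, QuotientGroup.eq_one_iff, Matrix.SpecialLinearGroup.mem_center_iff]
  rintro ⟨r, -, hr⟩
  rw [← hr] at h
  simp at h

/-- A field automorphism centralizes a four group of `PSL₂(q)`, `q` odd. -/
theorem exists_fixed_four (hodd : Odd (Fintype.card F)) (σ : F ≃+* F) :
    ∃ a b : PSL2, a * a = 1 ∧ b * b = 1 ∧ a ≠ 1 ∧ b ≠ 1 ∧ a ≠ b ∧ a * b = b * a ∧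
      (fld σ : MulAut PSL2) a = a ∧ (fld σ : MulAut PSL2) b = b := by
  obtain ⟨p, hp⟩ := CharP.exists F
  haveI : Fact p.Prime := ⟨CharP.char_is_prime F p⟩
  obtain ⟨x, y, hxy⟩ := ZMod.sq_add_sq p (-1)
  let f := ZMod.castHom (dvd_refl p) F
  have hσ : ∀ z, σ (f z) = f z := fun z => by
    rw [show σ (f z) = ((σ.toRingHom).comp f) z from rfl, Subsingleton.elim (σ.toRingHom.comp f) f]
  have h2 : (2 : F) ≠ 0 := by
    intro h
    have hdvd : p ∣ 2 := (CharP.cast_eq_zero_iff F p 2).1 (by exact_mod_cast h)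
    obtain ⟨n, hpp, hn⟩ := FiniteField.card F p
    rw [(Nat.prime_dvd_prime_iff_eq hpp Nat.prime_two).1 hdvd] at hn
    rw [hn] at hodd
    exact absurd hodd (Nat.not_odd_iff_even.2 (even_two.pow_of_ne_zero n.ne_zero))
  have hm : (-1 : F) ≠ 1 := fun h => h2 (by linear_combination -h)
  have hab : f x ^ 2 + f y ^ 2 = -1 := by rw [← map_pow, ← map_pow, ← map_add, hxy, map_neg, map_one]
  let s₁ : Matrix.SpecialLinearGroup (Fin 2) F := ⟨!![0, 1; -1, 0], by simp [Matrix.det_fin_two]⟩
  let s₂ : Matrix.SpecialLinearGroup (Fin 2) F := ⟨!![f x, f y; f y, -f x], by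
    simp [Matrix.det_fin_two]; linear_combination -hab⟩
  let z : Matrix.SpecialLinearGroup (Fin 2) F := ⟨!![-1, 0; 0, -1], by simp [Matrix.det_fin_two]⟩
  have hz : z ∈ center (Matrix.SpecialLinearGroup (Fin 2) F) := by
    rw [Matrix.SpecialLinearGroup.mem_center_iff]
    refine ⟨-1, by simp, ?_⟩
    ext i j
    fin_cases i <;> fin_cases j <;> simp [z]
  have h11 : s₁ * s₁ = z := Subtype.ext (by
    show s₁.1 * s₁.1 = z.1
    ext i j; fin_cases i <;> fin_cases j <;> simp [s₁, z, Matrix.SpecialLinearGroup.coe_mul, Matrix.mul_apply, Fin.sum_univ_two])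
  have h22 : s₂ * s₂ = z := Subtype.ext (by
    show s₂.1 * s₂.1 = z.1
    ext i j
    fin_cases i <;> fin_cases j <;> simp [s₂, z, Matrix.SpecialLinearGroup.coe_mul, Matrix.mul_apply, Fin.sum_univ_two] <;>
      (first | linear_combination hab | ring1))
  have h12 : s₁ * s₂ = s₂ * s₁ * z := Subtype.ext (by
    show s₁.1 * s₂.1 = s₂.1 * s₁.1 * z.1
    ext i j; fin_cases i <;> fin_cases j <;> simp [s₁, s₂, z, Matrix.SpecialLinearGroup.coe_mul, Matrix.mul_apply, Fin.sum_univ_two])
  have hz1 : (QuotientGroup.mk z : PSL2) = 1 := (QuotientGroup.eq_one_iff _).2 hz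
  refine ⟨QuotientGroup.mk s₁, QuotientGroup.mk s₂, ?_, ?_, ?_, ?_, ?_, ?_, ?_, ?_⟩
  · rw [← QuotientGroup.mk_mul, h11, hz1]
  · rw [← QuotientGroup.mk_mul, h22, hz1]
  · exact mk_ne_one_of_offDiag (Or.inl (by simp [s₁]))
  · by_cases hy : f y = 0
    · intro h
      rw [QuotientGroup.eq_one_iff, Matrix.SpecialLinearGroup.mem_center_iff] at h
      obtain ⟨r, -, hr⟩ := h
      have e0 := congrFun (congrFun hr 0) 0
      have e1 := congrFun (congrFun hr 1) 1
      simp [s₂] at e0 e1
      have hx0 : f x = 0 := by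
        have : (2 : F) * f x = 0 := by linear_combination -e0 + e1
        exact (mul_eq_zero.1 this).resolve_left h2
      rw [hx0, hy] at hab
      simp at hab
    · exact mk_ne_one_of_offDiag (Or.inl (by simpa [s₂] using hy))
  · intro h
    rw [QuotientGroup.eq] at h
    rw [Matrix.SpecialLinearGroup.mem_center_iff] at h
    obtain ⟨r, -, hr⟩ := h
    let w : Matrix.SpecialLinearGroup (Fin 2) F :=
      ⟨!![-f y, f x; f x, f y], by simp [Matrix.det_fin_two]; linear_combination -hab⟩
    have hprod : s₁⁻¹ * s₂ = w := inv_mul_eq_of_eq_mul (Subtype.ext (by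
      show s₂.1 = s₁.1 * w.1
      ext i j; fin_cases i <;> fin_cases j <;> simp [s₁, s₂, w, Matrix.mul_apply, Fin.sum_univ_two]))
    rw [hprod] at hr
    have e00 := congrFun (congrFun hr 0) 0
    have e01 := congrFun (congrFun hr 0) 1
    have e11 := congrFun (congrFun hr 1) 1
    simp [w] at e00 e01 e11
    have hy0 : f y = 0 := by
      have : (2 : F) * f y = 0 := by linear_combination e00 - e11
      exact (mul_eq_zero.1 this).resolve_left h2
    rw [← e01, hy0] at hab
    simp at hab
  · rw [← QuotientGroup.mk_mul, ← QuotientGroup.mk_mul, h12]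
    exact (map_mul (QuotientGroup.mk' (center (Matrix.SpecialLinearGroup (Fin 2) F))) (s₂ * s₁) z).trans
      ((congrArg _ hz1).trans (mul_one _))
  · rw [fld_mk]
    refine congrArg _ (Subtype.ext ?_)
    rw [frobHom_coe]
    ext i j; fin_cases i <;> fin_cases j <;> simp [s₁]
  · rw [fld_mk]
    refine congrArg _ (Subtype.ext ?_)
    rw [frobHom_coe]
    ext i j; fin_cases i <;> fin_cases j <;> simp [s₂, hσ]

end Field

variable {X : Type u} [Group X] [Finite X] {F : Type} [Field F] [Fintype F] {E : Subgroup X} [E.Normal]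

local notation "PSL2" => Matrix.ProjectiveSpecialLinearGroup (Fin 2) F

/-- The automorphisms induced on `E ≅ PSL₂(q)`. -/
def autHom (e : E ≃* PSL2) : X →* MulAut PSL2 :=
  (MulAut.congr e).toMonoidHom.comp MulAut.conjNormal

theorem autHom_apply (e : E ≃* PSL2) (x : X) (y : PSL2) :
    autHom e x y = e (MulAut.conjNormal x (e.symm y)) := rfl

theorem autHom_injective (e : E ≃* PSL2) (hC : centralizer (E : Set X) = ⊥) : Function.Injective (autHom e) := by
  rw [← MonoidHom.ker_eq_bot_iff, eq_bot_iff]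
  intro x hx
  rw [← hC, mem_centralizer_iff]
  intro y hy
  have h := DFunLike.congr_fun (MonoidHom.mem_ker.1 hx) (e ⟨y, hy⟩)
  rw [autHom_apply, e.symm_apply_apply, MulAut.one_apply, e.apply_eq_iff_eq] at h
  have h' := congrArg Subtype.val h
  rw [MulAut.conjNormal_apply] at h'
  exact (mul_inv_eq_iff_eq_mul.1 h').symm

theorem autHom_mem (e : E ≃* PSL2) {x : X} (hx : x ∈ E) : autHom e x = MulAut.conj (e ⟨x, hx⟩) := by
  ext y
  rw [autHom_apply, MulAut.conj_apply]
  have h : MulAut.conjNormal x (e.symm y) = ⟨x, hx⟩ * e.symm y * (⟨x, hx⟩ : E)⁻¹ :=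
    Subtype.ext (by rw [MulAut.conjNormal_apply]; rfl)
  rw [h, map_mul, map_mul, map_inv, e.apply_symm_apply]

/-- Every automorphism of `PSL₂` is inner-diagonal times field. -/
theorem exists_decomp_two (β : MulAut PSL2) :
    ∃ (A : GL (Fin 2) F) (σ : F ≃+* F), β = innd A * fld σ := by
  obtain ⟨p, hp⟩ := CharP.exists F
  haveI : Fact p.Prime := ⟨CharP.char_is_prime F p⟩
  obtain ⟨g, σ, h | h⟩ := exists_decomp (p := p) le_rfl β
  · exact ⟨g, σ, h⟩
  · obtain ⟨g', hg'⟩ := gr_eq_innd_two (F := F)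
    refine ⟨g * sm σ g', σ, ?_⟩
    rw [h, hg', mul_assoc, fld_mul_innd', map_mul, mul_assoc]

theorem range_innd_normal : ((innd : GL (Fin 2) F →* MulAut PSL2).range).Normal := by
  refine ⟨fun n hn β => ?_⟩
  obtain ⟨B, rfl⟩ := hn
  obtain ⟨A, σ, rfl⟩ := exists_decomp_two β
  refine ⟨A * sm σ B * A⁻¹, ?_⟩
  rw [map_mul, map_mul, map_inv, _root_.mul_inv_rev, mul_assoc (innd A) (fld σ), fld_mul_innd']
  group

/-- The elements inducing inner-diagonal automorphisms. -/
def diag (e : E ≃* PSL2) : Subgroup X := (innd : GL (Fin 2) F →* MulAut PSL2).range.comap (autHom e)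

theorem diag_normal (e : E ≃* PSL2) : (diag e).Normal := by
  haveI := range_innd_normal (F := F)
  exact Normal.comap inferInstance _

theorem le_diag (e : E ≃* PSL2) : E ≤ diag e := fun x hx => by
  obtain ⟨s, hs⟩ := QuotientGroup.mk_surjective (e ⟨x, hx⟩)
  exact ⟨_, ((autHom_mem e hx).trans (by rw [← hs, conj_mk])).symm⟩

theorem commutator_le_diag (e : E ≃* PSL2) : commutator X ≤ diag e := by
  rw [_root_.commutator_def, commutator_le]
  intro x _ y _
  show autHom e ⁅x, y⁆ ∈ (innd : GL (Fin 2) F →* MulAut PSL2).range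
  rw [map_commutatorElement]
  obtain ⟨A, σ, hA⟩ := exists_decomp_two (autHom e x)
  obtain ⟨B, τ, hB⟩ := exists_decomp_two (autHom e y)
  haveI := range_innd_normal (F := F)
  rw [← QuotientGroup.eq_one_iff, ← QuotientGroup.mk'_apply, map_commutatorElement, hA, hB, map_mul, map_mul]
  have h1 : ∀ C : GL (Fin 2) F, QuotientGroup.mk' (innd : GL (Fin 2) F →* MulAut PSL2).range (innd C) = 1 :=
    fun C => (QuotientGroup.eq_one_iff _).2 ⟨C, rfl⟩
  rw [h1, h1, one_mul, one_mul, ← map_commutatorElement, ← map_commutatorElement,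
    commutatorElement_eq_one_iff_mul_comm.2, map_one, map_one]
  obtain ⟨p, hp⟩ := CharP.exists F
  haveI : Fact p.Prime := ⟨CharP.char_is_prime F p⟩
  obtain ⟨f, hfp, hf⟩ := FiniteField.card F p
  exact ringEquiv_comm f.pos hf σ τ

/-- With dihedral 2-subgroups every involution induces an inner-diagonal automorphism. -/
theorem involution_mem_diag (e : E ≃* PSL2) (hodd : Odd (Fintype.card F)) (hC : centralizer (E : Set X) = ⊥)
    (hD : TwoCycDih X) {x : X} (hx : x * x = 1) : x ∈ diag e := by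
  by_contra hxd
  have hxE : x ∉ E := fun h => hxd (le_diag e h)
  obtain ⟨A, σ, hA⟩ := exists_decomp_two (autHom e x)
  have hσ1 : σ ≠ 1 := fun h => hxd ⟨A, by rw [hA, h, map_one, mul_one]⟩
  have h2 : (innd A * fld σ : MulAut PSL2) * (innd A * fld σ) = 1 := by rw [← hA, ← map_mul, hx, map_one]
  have hσ2 : orderOf σ = 2 := by
    refine orderOf_eq_prime ?_ hσ1
    have h3 : innd (A * sm σ A) * fld (σ ^ 2) = (1 : MulAut PSL2) := by
      rw [map_mul, map_pow, pow_two, ← mul_assoc, mul_assoc (innd A), ← fld_mul_innd', ← mul_assoc, mul_assoc, h2]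
    exact fld_eq_of_eq (n := 2) (g := A * sm σ A) (g' := 1) (σ := σ ^ 2) (σ' := 1) le_rfl
      (h3.trans (by rw [map_one, map_one, mul_one]))
  have ho : orderOf (innd A * fld σ : MulAut PSL2) = 2 := by
    refine orderOf_eq_prime (by rw [pow_two, h2]) ?_
    rw [← hA]
    exact fun h => hxE (by rw [autHom_injective e hC (h.trans (map_one _).symm)]; exact one_mem _)
  obtain ⟨k, -, hk⟩ := (field_coset (n := 2) le_rfl Nat.prime_two hσ2 A).1 ho
  obtain ⟨a, b, ha, hb, ha1, hb1, hab, hcomm, hfa, hfb⟩ := exists_fixed_four hodd σ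
  -- pull the four group back to `E`
  have hfix : ∀ y : PSL2, (fld σ : MulAut PSL2) y = y → x * (e.symm (k y) : X) = (e.symm (k y) : X) * x := by
    intro y hy
    have h := autHom_apply e x (k y)
    rw [hA, hk, MulAut.mul_apply, MulAut.mul_apply, MulAut.inv_apply_self, hy] at h
    have h' := congrArg Subtype.val (congrArg e.symm h)
    rw [e.symm_apply_apply, MulAut.conjNormal_apply] at h'
    exact mul_inv_eq_iff_eq_mul.1 h'.symm
  let a' : X := e.symm (k a)
  let b' : X := e.symm (k b)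
  have hinj : ∀ y z : PSL2, (e.symm (k y) : X) = e.symm (k z) → y = z := fun y z h =>
    k.injective (e.symm.injective (Subtype.ext h))
  let S : Set X := {x, a', b'}
  have hSc : ∀ u ∈ S, ∀ v ∈ S, u * v = v * u := by
    have h1 := hfix a hfa
    have h2 := hfix b hfb
    have h3 : a' * b' = b' * a' := by
      show ((e.symm (k a) : E) : X) * (e.symm (k b) : E) = (e.symm (k b) : E) * (e.symm (k a) : E)
      rw [← Subgroup.coe_mul, ← Subgroup.coe_mul, ← map_mul, ← map_mul, ← map_mul, ← map_mul, hcomm]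
    rintro u (rfl | rfl | rfl) v (rfl | rfl | rfl) <;>
      first | rfl | exact h1 | exact h1.symm | exact h2 | exact h2.symm | exact h3 | exact h3.symm
  haveI := Subgroup.isMulCommutative_closure hSc
  let P := closure S
  have hsq : ∀ u ∈ P, u * u = 1 := by
    intro u hu
    induction hu using closure_induction with
    | mem u hu =>
      rcases hu with rfl | rfl | rfl
      · exact hx
      · show ((e.symm (k a) : E) : X) * (e.symm (k a) : E) = 1
        rw [← Subgroup.coe_mul, ← map_mul, ← map_mul, ha, map_one, map_one]; rfl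
      · show ((e.symm (k b) : E) : X) * (e.symm (k b) : E) = 1
        rw [← Subgroup.coe_mul, ← map_mul, ← map_mul, hb, map_one, map_one]; rfl
    | one => exact one_mul 1
    | mul u v hu hv hu2 hv2 =>
      have h : u * v = v * u := congrArg Subtype.val
        ((inferInstance : IsMulCommutative P).is_comm.comm ⟨u, hu⟩ ⟨v, hv⟩)
      rw [mul_assoc, ← mul_assoc v, ← h, mul_assoc, hv2, mul_one, hu2]
    | inv u _ hu2 => rw [← _root_.mul_inv_rev, hu2, inv_one]
  have hPp : IsPGroup 2 P := fun u => ⟨1, Subtype.ext (by rw [pow_one, pow_two]; exact hsq u u.2)⟩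
  have hle := card_le_four_of_cycDih (hD P hPp) fun u => Subtype.ext (hsq u u.2)
  haveI := Fintype.ofFinite P
  have mx : x ∈ P := subset_closure (Or.inl rfl)
  have ma : a' ∈ P := subset_closure (Or.inr (Or.inl rfl))
  have mb : b' ∈ P := subset_closure (Or.inr (Or.inr rfl))
  classical
  let five : Finset P := {1, ⟨a', ma⟩, ⟨b', mb⟩, ⟨a' * b', mul_mem ma mb⟩, ⟨x, mx⟩}
  have hE : ∀ y, ((e.symm (k y) : E) : X) ∈ E := fun y => (e.symm (k y)).2
  have e1 : ∀ y, y ≠ 1 → ((e.symm (k y) : E) : X) ≠ 1 := fun y hy h => hy (hinj y 1 (by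
    rw [h, map_one, map_one]; rfl))
  have hab' : a' * b' ∈ E := mul_mem (hE a) (hE b)
  have hfive : five.card = 5 := by
    simp only [five]
    rw [Finset.card_insert_of_notMem, Finset.card_insert_of_notMem, Finset.card_insert_of_notMem,
      Finset.card_insert_of_notMem, Finset.card_singleton]
    · simp only [Finset.mem_singleton, Subtype.mk.injEq]
      exact fun h => hxE (h ▸ hab')
    · simp only [Finset.mem_insert, Finset.mem_singleton, Subtype.mk.injEq, not_or]
      exact ⟨fun h => e1 a ha1 (mul_eq_right.1 h.symm), fun h => hxE (h ▸ hE b)⟩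
    · simp only [Finset.mem_insert, Finset.mem_singleton, Subtype.mk.injEq, not_or]
      exact ⟨fun h => hab (hinj a b h), fun h => e1 b hb1 (mul_eq_left.1 h.symm), fun h => hxE (h ▸ hE a)⟩
    · simp only [Finset.mem_insert, Finset.mem_singleton, Subtype.ext_iff, not_or]
      refine ⟨fun h => e1 a ha1 h.symm, fun h => e1 b hb1 h.symm, fun h => ?_, fun h => hxE (h ▸ one_mem E)⟩
      refine hab (hinj a b ?_)
      show a' = b'
      have hb' : b' * b' = 1 := hsq b' mb
      calc a' = a' * b' * b' := by rw [mul_assoc, hb', mul_one]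
        _ = b' := by rw [← h]; exact one_mul _
  have := five.card_le_univ
  rw [hfive, ← Nat.card_eq_fintype_card] at this
  omega

theorem card_innd_range :
    Nat.card (innd : GL (Fin 2) F →* MulAut PSL2).range = Nat.card (Matrix.ProjGenLinGroup (Fin 2) F) := by
  have hker : (innd : GL (Fin 2) F →* MulAut PSL2).ker = center (GL (Fin 2) F) := by
    ext A
    rw [MonoidHom.mem_ker, innd_eq_one_iff le_rfl, GeneralLinearGroup.center_eq_range_scalar]
    exact ⟨fun ⟨c, hc⟩ => ⟨c, hc.symm⟩, fun ⟨c, hc⟩ => ⟨c, hc.symm⟩⟩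
  exact (Nat.card_congr ((QuotientGroup.quotientKerEquivRange (innd : GL (Fin 2) F →* MulAut PSL2)).symm.trans
    (QuotientGroup.quotientMulEquivOfEq hker)).toEquiv :)

theorem card_pgl_eq (hodd : Odd (Fintype.card F)) :
    Nat.card (Matrix.ProjGenLinGroup (Fin 2) F) = 2 * Nat.card PSL2 := by
  rw [Cfsg.Lib.Linear.card_PGL_eq_card_SL, Cfsg.Lib.Linear.card_SL_eq_gcd_mul_card_PSL, Fintype.card_fin]
  obtain ⟨m, hm⟩ := hodd
  rw [show Fintype.card F - 1 = 2 * m by omega, Nat.gcd_mul_right_right]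

/-- `E` has index at most two in `diag`. -/
theorem relIndex_diag_le (e : E ≃* PSL2) (hodd : Odd (Fintype.card F)) (hC : centralizer (E : Set X) = ⊥) :
    E.relIndex (diag e) ≤ 2 := by
  have h1 : Nat.card (diag e) ≤ 2 * Nat.card E := by
    rw [Nat.card_congr e.toEquiv, ← card_pgl_eq hodd, ← card_innd_range]
    exact Nat.card_le_card_of_injective (fun x : diag e => (⟨autHom e x, x.2⟩ : (innd : GL (Fin 2) F →* MulAut PSL2).range))
      fun x y h => Subtype.ext (autHom_injective e hC (congrArg Subtype.val h))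
  have h2 := relIndex_mul_relIndex (⊥ : Subgroup X) E (diag e) bot_le (le_diag e)
  rw [relIndex_bot_left, relIndex_bot_left] at h2
  rw [← h2, mul_comm 2] at h1
  exact Nat.le_of_mul_le_mul_left h1 Nat.card_pos

/-- If all of `X` acts as inner-diagonal automorphisms, `X` is `PSL₂(q)` or `PGL₂(q)`. -/
theorem psl_or_pgl (e : E ≃* PSL2) (hodd : Odd (Fintype.card F)) (hC : centralizer (E : Set X) = ⊥)
    (htop : diag e = ⊤) :
    Nonempty (X ≃* PSL2) ∨ Nonempty (X ≃* Matrix.ProjGenLinGroup (Fin 2) F) := by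
  by_cases hE : E = ⊤
  · exact Or.inl ⟨(topEquiv.symm.trans (MulEquiv.subgroupCongr hE.symm)).trans e⟩
  refine Or.inr ?_
  have h2 : E.index = 2 := by
    have h1 := relIndex_diag_le e hodd hC
    rw [htop, relIndex_top_right] at h1
    have h0 : E.index ≠ 0 := index_ne_zero_of_finite
    have hne : E.index ≠ 1 := fun h => hE (index_eq_one.1 h)
    omega
  have hrange : (autHom e).range = (innd : GL (Fin 2) F →* MulAut PSL2).range := by
    refine eq_of_le_of_card_ge ?_ ?_
    · rintro _ ⟨x, rfl⟩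
      exact (htop ▸ mem_top x : x ∈ diag e)
    · rw [card_innd_range, card_pgl_eq hodd, ← Nat.card_congr e.toEquiv,
        ← Nat.card_congr (MonoidHom.ofInjective (autHom_injective e hC)).toEquiv, ← card_mul_index E, h2,
        mul_comm]
  have hker : (innd : GL (Fin 2) F →* MulAut PSL2).ker = center (GL (Fin 2) F) := by
    ext A
    rw [MonoidHom.mem_ker, innd_eq_one_iff le_rfl, GeneralLinearGroup.center_eq_range_scalar]
    exact ⟨fun ⟨c, hc⟩ => ⟨c, hc.symm⟩, fun ⟨c, hc⟩ => ⟨c, hc.symm⟩⟩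
  exact ⟨((MonoidHom.ofInjective (autHom_injective e hC)).trans (MulEquiv.subgroupCongr hrange)).trans
    ((QuotientGroup.quotientKerEquivRange (innd : GL (Fin 2) F →* MulAut PSL2)).symm.trans
      (QuotientGroup.quotientMulEquivOfEq hker))⟩

/-- An involution of `diag` has at most `q² + q - 1` conjugates. -/
theorem card_conjugates_le (e : E ≃* PSL2) (hC : centralizer (E : Set X) = ⊥) {x : X} (hx : x * x = 1)
    (hxd : x ∈ diag e) (hx1 : x ≠ 1) :
    (centralizer ({x} : Set X)).index ≤ Fintype.card F ^ 2 + Fintype.card F - 1 := by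
  classical
  set q := Fintype.card F
  -- the points of `PGL₂` of trace zero
  let T : Finset (F × F × F) :=
    Finset.univ.filter fun v => v.1 * v.1 + v.2.1 * v.2.2 ≠ 0 ∧
      (v.1 = 1 ∨ (v.1 = 0 ∧ v.2.1 = 1))
  have hT : T.card ≤ q ^ 2 + q - 1 := by
    have hsub : T ⊆ ((Finset.univ : Finset (F × F)).image fun w => ((1 : F), w)) ∪
        (((Finset.univ : Finset F).erase 0).image fun w => ((0 : F), (1 : F), w)) := by
      rintro ⟨a, b, c⟩ hv
      simp only [T, Finset.mem_filter, Finset.mem_univ, true_and] at hv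
      obtain ⟨h1, rfl | ⟨rfl, rfl⟩⟩ := hv
      · exact Finset.mem_union_left _ (Finset.mem_image.2 ⟨(b, c), Finset.mem_univ _, rfl⟩)
      · refine Finset.mem_union_right _ (Finset.mem_image.2 ⟨c, Finset.mem_erase.2 ⟨?_, Finset.mem_univ _⟩, rfl⟩)
        rintro rfl
        simp at h1
    refine (Finset.card_le_card hsub).trans ((Finset.card_union_le _ _).trans ?_)
    refine (Nat.add_le_add Finset.card_image_le Finset.card_image_le).trans ?_
    rw [Finset.card_univ, Fintype.card_prod, Finset.card_erase_of_mem (Finset.mem_univ _), Finset.card_univ,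
      ← pow_two]
    have : 1 ≤ q := Fintype.card_pos
    simp only [q] at *
    omega
  -- every conjugate is the automorphism of one of these points
  have hkey : ∀ g : X, ∃ v ∈ T, ∃ A : GL (Fin 2) F,
      A.val = !![v.1, v.2.1; v.2.2, -v.1] ∧ autHom e (g * x * g⁻¹) = innd A := by
    intro g
    obtain ⟨A, hA⟩ : autHom e (g * x * g⁻¹) ∈ (innd : GL (Fin 2) F →* MulAut PSL2).range :=
      (diag_normal e).conj_mem x hxd g
    have h2 : (innd (A * A) : MulAut PSL2) = 1 := by
      rw [map_mul, hA, ← map_mul, show g * x * g⁻¹ * (g * x * g⁻¹) = g * (x * x) * g⁻¹ by group, hx]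
      simp
    have hne : ∀ c : Fˣ, A ≠ sc c := fun c hc => by
      refine hx1 (conj_eq_one_iff.1 (autHom_injective e hC (a₁ := g * x * g⁻¹) (a₂ := 1) ?_) : x = 1)
      rw [← hA, hc, innd_sc, map_one]
    obtain ⟨c, hc⟩ := (innd_eq_one_iff le_rfl).1 h2
    have hc' : A.val * A.val = (c : F) • (1 : Matrix (Fin 2) (Fin 2) F) := by
      rw [← Units.val_mul, hc, sc_val]
    set M := A.val with hM
    have e00 := congrFun (congrFun hc' 0) 0
    have e01 := congrFun (congrFun hc' 0) 1
    have e10 := congrFun (congrFun hc' 1) 0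
    have e11 := congrFun (congrFun hc' 1) 1
    simp [Matrix.mul_apply, Fin.sum_univ_two] at e00 e01 e10 e11
    have htr : M 1 1 = -M 0 0 := by
      by_contra htr
      have hs : M 0 0 + M 1 1 ≠ 0 := fun h => htr (by linear_combination h)
      have h01 : M 0 1 = 0 := (mul_eq_zero.1 (by linear_combination e01 : (M 0 0 + M 1 1) * M 0 1 = 0)).resolve_left hs
      have h10 : M 1 0 = 0 := (mul_eq_zero.1 (by linear_combination e10 : (M 0 0 + M 1 1) * M 1 0 = 0)).resolve_left hs
      have hd : M 0 0 = M 1 1 := sub_eq_zero.1 ((mul_eq_zero.1 (by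
        linear_combination e00 - e11 : (M 0 0 + M 1 1) * (M 0 0 - M 1 1) = 0)).resolve_left hs)
      have h00 : M 0 0 ≠ 0 := fun h => hs (by rw [← hd, h, add_zero])
      refine hne (Units.mk0 _ h00) (Units.ext ?_)
      rw [sc_val, ← hM, Units.val_mk0]
      ext i j
      fin_cases i <;> fin_cases j <;> simp [h01, h10, hd]
    have hdet : M 0 0 * M 0 0 + M 0 1 * M 1 0 ≠ 0 := by
      intro h
      exact c.ne_zero (by rw [← e00]; exact h)
    obtain ⟨r, hr, hcase⟩ : ∃ r : F, r ≠ 0 ∧ (r * M 0 0 = 1 ∨ (r * M 0 0 = 0 ∧ r * M 0 1 = 1)) := by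
      by_cases h : M 0 0 = 0
      · refine ⟨(M 0 1)⁻¹, inv_ne_zero ?_, Or.inr ⟨by rw [h, mul_zero], inv_mul_cancel₀ ?_⟩⟩ <;>
        · intro h'; exact hdet (by rw [h, h']; ring)
      · exact ⟨(M 0 0)⁻¹, inv_ne_zero h, Or.inl (inv_mul_cancel₀ h)⟩
    refine ⟨(r * M 0 0, r * M 0 1, r * M 1 0), Finset.mem_filter.2 ⟨Finset.mem_univ _, ?_, hcase⟩,
      sc (Units.mk0 r hr) * A, ?_, ?_⟩
    · intro h
      refine hdet ((mul_eq_zero.1 (?_ : r * r * (M 0 0 * M 0 0 + M 0 1 * M 1 0) = 0)).resolve_left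
        (mul_ne_zero hr hr))
      linear_combination h
    · rw [Units.val_mul, sc_val, ← hM, Units.val_mk0, Matrix.smul_mul, Matrix.one_mul]
      ext i j
      fin_cases i <;> fin_cases j <;> simp [htr]
    · rw [map_mul (innd : GL (Fin 2) F →* MulAut PSL2) (sc _) A, innd_sc, one_mul, hA]
  choose v hv A hAv hAe using hkey
  rw [index_eq_card]
  let f : X ⧸ centralizer ({x} : Set X) → T := fun u => ⟨v u.out, hv _⟩
  refine (Nat.card_le_card_of_injective f ?_).trans ?_
  · intro u w h
    have h' : v u.out = v w.out := congrArg Subtype.val h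
    have hA' : A u.out = A w.out := Units.ext (by rw [hAv, hAv, h'])
    have hxx := autHom_injective e hC ((hAe u.out).trans ((congrArg innd hA').trans (hAe w.out).symm))
    rw [← QuotientGroup.out_eq' u, ← QuotientGroup.out_eq' w, QuotientGroup.eq, mem_centralizer_singleton_iff]
    have h3 := congrArg (fun y => (w.out)⁻¹ * y * u.out) hxx
    simp only [mul_assoc, inv_mul_cancel_left, inv_mul_cancel, mul_one] at h3
    calc (u.out)⁻¹ * w.out * x = (u.out)⁻¹ * (w.out * x * (w.out)⁻¹) * w.out := by group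
      _ = (u.out)⁻¹ * (u.out * x * (u.out)⁻¹) * w.out := by rw [hxx]
      _ = x * ((u.out)⁻¹ * w.out) := by group
  · rw [Nat.card_eq_finsetCard]
    exact hT

end Cfsg.Lib.GW.PGL
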