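import Cfsg.Agent.Lib.GW.Shape

/-!
# Gorenstein–Walter for perfect groups, from the simple case
-/

set_option autoImplicit false
set_option linter.style.haveILetI false

namespace Cfsg.Lib.GW

open Subgroup

universe u

variable {G : Type u} [Group G] [Finite G]

theorem commutator_quotient (hp : commutator G = ⊤) (N : Subgroup G) [N.Normal] :
    commutator (G ⧸ N) = ⊤ := by
  rw [_root_.commutator_def, ← map_top_of_surjective _ (QuotientGroup.mk'_surjective N), ← map_commutator,
    ← _root_.commutator_def, hp]

theorem subsingleton_of_perfect_solvable (hp : commutator G = ⊤) [Group.IsSolvable G] :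
    Subsingleton G := by
  by_contra hn
  haveI : Nontrivial G := not_subsingleton_iff_nontrivial.1 hn
  exact (Group.IsSolvable.commutator_lt_top_of_nontrivial G).ne hp

/-- The shape of `G / O(G)`. -/
theorem shape_quotient (hD : TwoCycDih G) (hG : GWSections (G ⧸ Cfsg.oddCore G)) :
    Shape (G ⧸ Cfsg.oddCore G) :=
  shape (hD.quotient _) hG (Cfsg.Lib.Core.pPrimeCore_quotient_eq_bot (p := 2))

/-- The theorem of Gorenstein and Walter for perfect groups, from the one for simple groups. -/
theorem perfect_isGW (h : SimpleGW.{u}) (hperf : commutator G = ⊤) (hD : SylowDihedral G) :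
    IsGW (G ⧸ Cfsg.oddCore G) := by
  haveI : Fact (Nat.Prime 2) := ⟨Nat.prime_two⟩
  have hDq : TwoCycDih (G ⧸ Cfsg.oddCore G) := hD.twoCycDih.quotient _
  have hq := commutator_quotient hperf (Cfsg.oddCore G)
  have hno : ¬ Group.IsSolvable (G ⧸ Cfsg.oddCore G) := fun hs => by
    haveI := hs
    haveI := subsingleton_of_perfect_solvable hq
    have htop : Cfsg.oddCore G = ⊤ := QuotientGroup.subsingleton_iff.1 inferInstance
    obtain ⟨S⟩ : Nonempty (Sylow 2 G) := inferInstance
    obtain ⟨n, hn, ⟨e⟩⟩ := hD S
    have hodd : Odd (Nat.card G) := by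
      have := ZStar.odd_card_oddCore (G := G)
      rwa [htop, Subgroup.card_top] at this
    have h2 : 2 ∣ Nat.card G := (Dvd.intro n (by rw [Nat.card_congr e.toEquiv,
      DihedralGroup.nat_card]) : 2 ∣ Nat.card (S : Subgroup G)).trans (card_subgroup_dvd_card _)
    exact Nat.not_even_iff_odd.2 hodd (even_iff_two_dvd.2 h2)
  rcases shape_quotient hD.twoCycDih (gwSections_of_simpleGW h hDq) with
    h2 | ⟨V, hV, hK, -, hc⟩ | ⟨E, hE, -, -, hgw, -, -, -, h4⟩
  · haveI := h2.isNilpotent
    exact absurd (inferInstance : Group.IsSolvable (G ⧸ Cfsg.oddCore G)) hno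
  · haveI := hV
    have h4 : ¬ 4 ∣ Nat.card ((G ⧸ Cfsg.oddCore G) ⧸ V) := by
      have hcard := card_mul_index V
      rw [hK.card_four] at hcard
      rw [← index_eq_card]
      omega
    haveI := isSolvable_of_not_four_dvd h4
    haveI : Group.IsSolvable V := by
      haveI : IsMulCommutative V :=
        ⟨⟨fun a b => mul_comm_of_exponent_two hK.exponent_two a b⟩⟩
      exact Cfsg.Lib.Core.isSolvable_of_isMulCommutative _
    exact absurd (Group.isSolvable_of_ker_le_range V.subtype (QuotientGroup.mk' V) (by simp)) hno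
  · haveI := hE
    rw [index_eq_card] at h4
    haveI := isSolvable_of_not_four_dvd h4
    haveI := subsingleton_of_perfect_solvable (commutator_quotient hq E)
    have htop : E = ⊤ := QuotientGroup.subsingleton_iff.1 inferInstance
    exact hgw.congr ((topEquiv.symm).trans (MulEquiv.subgroupCongr htop.symm))

end Cfsg.Lib.GW
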