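import Cfsg.Agent.Lib.GW.Cases
import Cfsg.Agent.Lib.Dickson.Overgroups
import Cfsg.Agent.Lib.Recog.Icosahedral
import Cfsg.Agent.Lib.Fusion.Alperin
import Cfsg.Agent.S0508
import Cfsg.Agent.S1255
import Cfsg.Agent.S3864
import Mathlib.GroupTheory.FixedPointFree

/-!
# Gorenstein–Walter: first facts on a minimal counterexample

One class of involutions; centralizers of four groups; the reduction of the case of self-centralizing
four groups to hypothesis (c) of Brauer–Suzuki–Wall (`isGW_of_normalizer_le`).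
-/

set_option autoImplicit false
set_option linter.style.haveILetI false

namespace Cfsg.Lib.GW

open Subgroup

universe u

section

variable {G : Type u} [Group G] [Finite G]

/-- In a dihedral group `sr i` does not commute with an element of order greater than two. -/
theorem not_commute_sr {P : Type*} [Group P] {n : ℕ} (e : P ≃* DihedralGroup n) {s : P} (hs : s * s ≠ 1)
    {z : P} {j : ZMod n} (hz : e z = DihedralGroup.sr j) : ¬ Commute s z := by
  intro hc
  rcases he : e s with i | i
  · have h := (hc.map e.toMonoidHom).eq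
    simp only [MulEquiv.coe_toMonoidHom, he, hz, DihedralGroup.r_mul_sr, DihedralGroup.sr_mul_r,
      DihedralGroup.sr.injEq] at h
    refine hs (e.injective ?_)
    rw [map_mul, he, DihedralGroup.r_mul_r, map_one, DihedralGroup.one_def]
    congr 1
    linear_combination -h
  · refine hs (e.injective ?_)
    rw [map_mul, he, DihedralGroup.sr_mul_self, map_one]

/-- Every element of a dihedral 2-group which is neither `1` nor the central involution `z` is an
involution different from `z` or a product of two such. -/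
theorem eq_mul_involutions {P : Type*} [Group P] {n : ℕ} (e : P ≃* DihedralGroup n) {z s : P}
    (hzc : Commute s z) (hs : s * s ≠ 1) :
    ∃ a b : P, a * a = 1 ∧ a ≠ 1 ∧ a ≠ z ∧ b * b = 1 ∧ b ≠ 1 ∧ b ≠ z ∧ s = a * b := by
  obtain ⟨i, hi⟩ : ∃ i, e s = DihedralGroup.r i := by
    rcases he : e s with i | i
    · exact ⟨i, rfl⟩
    · exact absurd (e.injective (by rw [map_mul, he, DihedralGroup.sr_mul_self, map_one])) hs
  have hne : ∀ j, e.symm (DihedralGroup.sr j) ≠ 1 ∧ e.symm (DihedralGroup.sr j) ≠ z ∧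
      e.symm (DihedralGroup.sr j) * e.symm (DihedralGroup.sr j) = 1 := by
    intro j
    refine ⟨fun h => ?_, fun h => ?_, ?_⟩
    · have h2 := congrArg e h
      rw [e.apply_symm_apply, map_one, DihedralGroup.one_def] at h2
      nomatch h2
    · exact not_commute_sr e hs (by rw [← h, e.apply_symm_apply]) hzc
    · rw [← map_mul, DihedralGroup.sr_mul_self, map_one]
  refine ⟨e.symm (DihedralGroup.sr 0), e.symm (DihedralGroup.sr i), (hne 0).2.2, (hne 0).1, (hne 0).2.1,
    (hne i).2.2, (hne i).1, (hne i).2.1, e.injective ?_⟩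
  rw [map_mul, e.apply_symm_apply, e.apply_symm_apply, hi, DihedralGroup.sr_mul_sr, sub_zero]

/-- The centralizer of a four group `V` is `V` times a subgroup of odd order. -/
theorem klein_sylow_centralizer (hD : TwoCycDih G) (V : Subgroup G) (hV : IsKleinFour V)
    (P : Sylow 2 ↥(centralizer (V : Set G))) :
    (P : Subgroup ↥(centralizer (V : Set G))).map (centralizer (V : Set G)).subtype = V := by
  haveI : Fact (Nat.Prime 2) := ⟨Nat.prime_two⟩
  haveI := hV
  have hVC : V ≤ (centralizer (V : Set G)) := fun x hx => mem_centralizer_iff.2 fun y hy => Cfsg.Lib.Invol.klein_comm hy hx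
  have hVp : IsPGroup 2 V := IsPGroup.of_card (n := 2) (by rw [IsKleinFour.card_four]; norm_num)
  haveI : (V.subgroupOf (centralizer (V : Set G))).Normal := by
    refine ⟨fun x hx g => ?_⟩
    rw [mem_subgroupOf] at hx ⊢
    have hg : (g : G) * (x : G) = (x : G) * (g : G) :=
      (mem_centralizer_iff.1 g.2 _ hx).symm
    simpa [hg] using hx
  have hle : V.subgroupOf (centralizer (V : Set G)) ≤ (P : Subgroup (centralizer (V : Set G))) :=
    (Cfsg.Lib.Core.le_pCore (hVp.of_equiv (subgroupOfEquivOfLe hVC).symm)).trans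
      (Cfsg.Lib.Core.pCore_le_sylow P)
  refine le_antisymm ?_ fun x hx =>
    ⟨⟨x, hVC hx⟩, hle (mem_subgroupOf.2 (show ((⟨x, hVC hx⟩ : centralizer (V : Set G)) : G) ∈ V from hx)), rfl⟩
  rintro _ ⟨x, hx, rfl⟩
  by_contra hxV
  set W := (P : Subgroup (centralizer (V : Set G))).map (centralizer (V : Set G)).subtype with hW
  have hWp : IsPGroup 2 W := P.2.map _
  obtain ⟨R, hR, hidx, hout⟩ := hD W hWp
  have hVW : V ≤ W := fun v hv => ⟨⟨v, hVC hv⟩, hle (mem_subgroupOf.2 hv), rfl⟩
  have hcomm : ∀ a : W, ∀ b : W, (b : G) ∈ V → Commute a b := by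
    intro a b hb
    obtain ⟨c, -, hc⟩ := a.2
    have := mem_centralizer_iff.1 c.2 _ hb
    exact Subtype.ext (by simpa [← hc] using this.symm)
  haveI := hR
  have hVnR : ∃ v : W, (v : G) ∈ V ∧ v ∉ R := by
    by_contra hall
    push Not at hall
    have : IsCyclic V := isCyclic_of_injective
      ((MonoidHom.codRestrict (inclusion hVW) R fun v => hall _ v.2)) fun a b h => by
        exact inclusion_injective hVW (congrArg Subtype.val h)
    exact IsKleinFour.not_isCyclic this
  obtain ⟨v, hv, hvR⟩ := hVnR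
  have hR2 : ∀ r ∈ R, r * r = 1 := by
    intro r hr
    have h := CycDih.inverts hout hvR hr
    rw [← (hcomm r v hv).eq, mul_inv_cancel_right] at h
    exact mul_eq_one_iff_eq_inv.2 h
  have hcard : Nat.card W ≤ 4 := by
    have h1 : Nat.card R ≤ 2 := by
      obtain ⟨g, hg⟩ := IsCyclic.exists_generator (α := R)
      rw [← orderOf_eq_card_of_forall_mem_zpowers hg]
      refine orderOf_le_of_pow_eq_one two_pos ?_
      rw [sq]
      exact Subtype.ext (hR2 _ g.2)
    calc Nat.card W = Nat.card R * R.index := (R.card_mul_index).symm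
      _ ≤ 2 * 2 := Nat.mul_le_mul h1 hidx
  have := eq_of_le_of_card_ge hVW (hcard.trans_eq IsKleinFour.card_four.symm)
  exact hxV (this.ge (mem_map_of_mem (centralizer (V : Set G)).subtype hx))

/-- The centralizer of a four group has a normal 2-complement. -/
theorem klein_centralizer_complement (hD : TwoCycDih G) (V : Subgroup G) (hV : IsKleinFour V) :
    Cfsg.HasNormalPComplement 2 ↥(centralizer (V : Set G)) := by
  haveI : Fact (Nat.Prime 2) := ⟨Nat.prime_two⟩
  obtain ⟨P⟩ : Nonempty (Sylow 2 ↥(centralizer (V : Set G))) := inferInstance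
  have hPV := klein_sylow_centralizer hD V hV P
  refine (Cfsg.Lib.Fusion.frobenius P).2 fun Q hQ g _ _ => ?_
  refine mem_centralizer_iff.2 fun x hx => Subtype.ext ?_
  exact mem_centralizer_iff.1 g.2 _
    (le_of_eq hPV (mem_map_of_mem (centralizer (V : Set G)).subtype (hQ hx)))

/-- If some four group is not self-centralizing, one is centralized by a nontrivial element of odd
order. -/
theorem exists_odd_centralizing (hD : TwoCycDih G) (h : ¬ KleinSelfCentralizing G) :
    ∃ V : Subgroup G, IsKleinFour V ∧ ∃ w ∈ centralizer (V : Set G), w ≠ 1 ∧ Odd (orderOf w) := by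
  haveI : Fact (Nat.Prime 2) := ⟨Nat.prime_two⟩
  obtain ⟨V, hV, hle⟩ : ∃ V : Subgroup G, IsKleinFour V ∧ ¬ centralizer (V : Set G) ≤ V := by
    simpa [KleinSelfCentralizing] using h
  refine ⟨V, hV, ?_⟩
  obtain ⟨P⟩ : Nonempty (Sylow 2 ↥(centralizer (V : Set G))) := inferInstance
  have hPV := klein_sylow_centralizer hD V hV P
  have hc := klein_centralizer_complement hD V hV
  have hodd := Nat.coprime_two_right.1 (Cfsg.Lib.Fusion.hasNormalPComplement_iff_coprime.1 hc)
  rcases bot_or_exists_ne_one (Cfsg.pResidual 2 ↥(centralizer (V : Set G))) with hb | ⟨w, hw, hw1⟩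
  · refine absurd (fun x hx => ?_) hle
    have htop := Cfsg.Lib.Fusion.sylow_sup_pResidual P
    rw [hb, sup_bot_eq] at htop
    have hmem : (⟨x, hx⟩ : centralizer (V : Set G)) ∈ (P : Subgroup _) := htop ▸ mem_top _
    exact le_of_eq hPV (mem_map_of_mem (centralizer (V : Set G)).subtype hmem)
  · refine ⟨w, w.2, fun h => hw1 (Subtype.ext h), ?_⟩
    rw [orderOf_coe]
    exact hodd.of_dvd_nat ((Subgroup.orderOf_dvd_natCard _ hw))

end

namespace GWMin

variable {G : Type u} [Group G] [Finite G] (hG : GWMin G)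
include hG

theorem twoCycDih : TwoCycDih G := hG.sylow.twoCycDih

theorem not_isSolvable : ¬ Group.IsSolvable G :=
  haveI := hG.isSimple
  not_isSolvable_of_simple hG.nonab

theorem pResidual_eq_top : Cfsg.pResidual 2 G = ⊤ := by
  haveI := hG.isSimple
  haveI : Fact (Nat.Prime 2) := ⟨Nat.prime_two⟩
  refine (IsSimpleGroup.eq_bot_or_eq_top_of_normal (Cfsg.pResidual 2 G) inferInstance).resolve_left fun h => ?_
  have hp : IsPGroup 2 (G ⧸ Cfsg.pResidual 2 G) := Cfsg.Lib.Fusion.isPGroup_quotient_pResidual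
  haveI := hp.isNilpotent
  refine hG.not_isSolvable (solvable_of_solvable_injective (f := QuotientGroup.mk' (Cfsg.pResidual 2 G)) ?_)
  rw [← MonoidHom.ker_eq_bot_iff, QuotientGroup.ker_mk', h]

theorem oneClass : OneClass G := by
  haveI : Fact (Nat.Prime 2) := ⟨Nat.prime_two⟩
  obtain ⟨S⟩ : Nonempty (Sylow 2 G) := inferInstance
  obtain ⟨n, hn, ⟨e⟩⟩ := hG.sylow S
  haveI : NeZero n := ⟨by omega⟩
  set R : Subgroup (S : Subgroup G) :=
    (zpowers (DihedralGroup.r 1 : DihedralGroup n)).map e.symm.toMonoidHom with hR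
  haveI : IsCyclic R := isCyclic_of_surjective
    (e.symm.toMonoidHom.subgroupMap (zpowers (DihedralGroup.r 1 : DihedralGroup n)))
    (MonoidHom.subgroupMap_surjective _ _)
  set Q : Subgroup G := R.map (S : Subgroup G).subtype with hQ
  haveI : IsCyclic Q := isCyclic_of_surjective ((S : Subgroup G).subtype.subgroupMap R)
    (MonoidHom.subgroupMap_surjective _ _)
  have hQle : Q ≤ (S : Subgroup G) := map_subtype_le R
  have hQi : Q.relIndex (S : Subgroup G) = 2 := by
    have hSc : Nat.card (S : Subgroup G) = 2 * n := (Nat.card_congr e.toEquiv).trans DihedralGroup.nat_card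
    have h := Cfsg.Lib.Core.card_mul_relIndex hQle
    rw [hQ, card_map_of_injective (S : Subgroup G).subtype_injective, hR,
      card_map_of_injective e.symm.injective, Nat.card_zpowers, DihedralGroup.orderOf_r_one, hSc,
      mul_comm 2] at h
    exact Nat.eq_of_mul_eq_mul_left (by omega) h
  intro a b ha hb
  exact isConj_iff.2 (Cfsg.Agent.S3864.one_class S Q hQle hQi hG.pResidual_eq_top a b ha hb)

/-- Every involution is central in some Sylow 2-subgroup. -/
theorem exists_sylow_central {t : G} (ht : orderOf t = 2) :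
    ∃ S : Sylow 2 G, t ∈ (S : Subgroup G) ∧ ∀ s ∈ (S : Subgroup G), s * t = t * s := by
  haveI : Fact (Nat.Prime 2) := ⟨Nat.prime_two⟩
  obtain ⟨T⟩ : Nonempty (Sylow 2 G) := inferInstance
  haveI : Nontrivial (T : Subgroup G) := by
    obtain ⟨n, hn, ⟨e⟩⟩ := hG.sylow T
    haveI : NeZero n := ⟨by omega⟩
    exact e.toEquiv.nontrivial
  haveI := T.2.center_nontrivial
  obtain ⟨z, hz⟩ := exists_prime_orderOf_dvd_card' (G := center (T : Subgroup G)) 2 (by
    obtain ⟨k, hk⟩ := (T.2.to_subgroup (center (T : Subgroup G))).exists_card_eq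
    have h1 : 1 < Nat.card (center (T : Subgroup G)) := Finite.one_lt_card
    obtain ⟨j, rfl⟩ : ∃ j, k = j + 1 := Nat.exists_eq_succ_of_ne_zero (by rintro rfl; omega)
    rw [hk, pow_succ]; exact dvd_mul_left 2 _)
  have hzo : orderOf (((z : (T : Subgroup G))) : G) = 2 := by rw [orderOf_coe, orderOf_coe, hz]
  obtain ⟨g, hg⟩ := isConj_iff.1 (hG.oneClass _ t hzo ht)
  refine ⟨g • T, ?_, fun s hs => ?_⟩
  · rw [Sylow.coe_subgroup_smul, Subgroup.mem_smul_pointwise_iff_exists]
    exact ⟨_, (z : (T : Subgroup G)).2, hg⟩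
  · rw [Sylow.coe_subgroup_smul, Subgroup.mem_smul_pointwise_iff_exists] at hs
    obtain ⟨x, hx, rfl⟩ := hs
    have h : x * ((z : (T : Subgroup G)) : G) = ((z : (T : Subgroup G)) : G) * x :=
      congrArg Subtype.val (mem_center_iff.1 z.2 ⟨x, hx⟩)
    show g * x * g⁻¹ * t = t * (g * x * g⁻¹)
    rw [← hg]
    calc g * x * g⁻¹ * (g * _ * g⁻¹) = g * (x * ((z : (T : Subgroup G)) : G)) * g⁻¹ := by group
      _ = g * (((z : (T : Subgroup G)) : G) * x) * g⁻¹ := by rw [h]
      _ = _ := by group

theorem centralizer_complement {t : G} (ht : orderOf t = 2) :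
    Cfsg.HasNormalPComplement 2 ↥(centralizer ({t} : Set G)) := by
  refine complement_of_central (hG.twoCycDih.subgroup _)
    (z := ⟨t, mem_centralizer_singleton_iff.2 rfl⟩) ((orderOf_coe _).symm.trans ht) ?_
  exact mem_center_iff.2 fun g => Subtype.ext (mem_centralizer_singleton_iff.1 g.2)

/-- A noncentral involution of a Sylow 2-subgroup inverts the odd core of the centralizer of the central
one, if four groups are self-centralizing. -/
theorem inverts_core (hV : KleinSelfCentralizing G) {t u : G} (ht : orderOf t = 2) (hu : orderOf u = 2)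
    (hne : u ≠ t) (hc : Commute u t) {y : G}
    (hy : y ∈ (Cfsg.oddCore (centralizer ({t} : Set G))).map (centralizer ({t} : Set G)).subtype) :
    u * y * u⁻¹ = y⁻¹ := by
  haveI : Fact (Nat.Prime 2) := ⟨Nat.prime_two⟩
  set C := centralizer ({t} : Set G) with hC
  obtain ⟨V, hVK, huV, htV, -⟩ := Cfsg.Agent.S1255.exists_four
    (by rw [← sq, ← hu, pow_orderOf_eq_one]) (by rw [← sq, ← ht, pow_orderOf_eq_one])
    (Cfsg.Lib.Invol.ne_one hu) (Cfsg.Lib.Invol.ne_one ht) hne hc.eq
  haveI := hVK
  let uC : C := ⟨u, mem_centralizer_singleton_iff.2 hc.eq⟩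
  obtain ⟨z, hz, rfl⟩ := hy
  let φ : (Cfsg.oddCore C) →* (Cfsg.oddCore C) :=
    (MulAut.conjNormal uC).toMonoidHom
  have hfix : MonoidHom.FixedPointFree φ := by
    intro a ha
    have hau : Commute (((a : C)) : G) u := by
      have h : uC * (a : C) * uC⁻¹ = (a : C) := by
        simpa [φ] using congrArg Subtype.val ha
      have h2 := congrArg (Subtype.val : C → G) h
      simp only [Subgroup.coe_mul, InvMemClass.coe_inv, uC] at h2
      show _ = _
      exact (mul_inv_eq_iff_eq_mul.1 h2).symm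
    have haV : ((a : C) : G) ∈ V := by
      refine hV V hVK (mem_centralizer_iff.2 fun w hw => ?_)
      have hat : Commute ((a : C) : G) t := mem_centralizer_singleton_iff.1 (a : C).2
      by_cases hw1 : w = 1
      · simp [hw1]
      rcases Cfsg.Lib.Invol.klein_mem_cases huV htV (Cfsg.Lib.Invol.ne_one hu) (Cfsg.Lib.Invol.ne_one ht)
        hne hw hw1 with rfl | rfl | rfl
      · exact hau.symm.eq
      · exact hat.symm.eq
      · exact (hau.symm.mul_left hat.symm).eq
    have h2 : (a : C) * (a : C) = 1 := Subtype.ext (Cfsg.Lib.Invol.klein_mul_self haV)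
    refine orderOf_eq_one_iff.1 (Nat.eq_one_of_dvd_coprimes ?_ (orderOf_dvd_natCard a)
      (orderOf_dvd_of_pow_eq_one (n := 2) (by rw [sq]; exact Subtype.ext h2)))
    exact Nat.coprime_two_right.2 Cfsg.Lib.ZStar.odd_card_oddCore
  have hinv : Function.Involutive φ := by
    intro a
    have h1 : uC * uC = 1 := Subtype.ext (show u * u = 1 by rw [← sq, ← hu, pow_orderOf_eq_one])
    apply Subtype.ext
    show uC * (uC * (a : C) * uC⁻¹) * uC⁻¹ = (a : C)
    rw [show uC * (uC * (a : C) * uC⁻¹) * uC⁻¹ = (uC * uC) * (a : C) * (uC * uC)⁻¹ by group, h1]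
    simp
  have h := congrFun (hfix.coe_eq_inv_of_involutive hinv) ⟨z, hz⟩
  exact congrArg (fun a : Cfsg.oddCore C => ((a : C) : G)) h

/-- With self-centralizing four groups, hypothesis (c) of Brauer, Suzuki and Wall is enough. -/
theorem isGW_of_normalizer_le (hV : KleinSelfCentralizing G)
    (hc : ∀ t : G, orderOf t = 2 → ∀ Y : Subgroup G,
      Y ≤ (Cfsg.oddCore (centralizer ({t} : Set G))).map (centralizer ({t} : Set G)).subtype → Y ≠ ⊥ →
      normalizer (Y : Set G) ≤ centralizer ({t} : Set G)) : IsGW G := by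
  classical
  haveI := hG.isSimple
  haveI : Fact (Nat.Prime 2) := ⟨Nat.prime_two⟩
  obtain ⟨t, ht⟩ : ∃ t : G, orderOf t = 2 := by
    refine exists_prime_orderOf_dvd_card' 2 (Nat.dvd_of_mod_eq_zero ?_)
    by_contra h
    exact hG.not_isSolvable (Cfsg.Agent.S0205.result (Nat.odd_iff.2 (by omega)))
  obtain ⟨S, htS, htZ⟩ := hG.exists_sylow_central ht
  obtain ⟨n, hn, ⟨e⟩⟩ := hG.sylow S
  set O := (Cfsg.oddCore (centralizer ({t} : Set G))).map (centralizer ({t} : Set G)).subtype with hO
  have key : ∀ u ∈ (S : Subgroup G), orderOf u = 2 → u ≠ t → ∀ y ∈ O, u * y * u⁻¹ = y⁻¹ :=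
    fun u hu ho hne y hy => inverts_core hG hV ht ho hne (htZ u hu) hy
  have htO : ∀ y ∈ O, t * y = y * t := by
    rintro _ ⟨z, -, rfl⟩
    exact (mem_centralizer_singleton_iff.1 z.2).symm
  have hact : ∀ s ∈ (S : Subgroup G),
      (∀ y ∈ O, s * y * s⁻¹ = y) ∨ (∀ y ∈ O, s * y * s⁻¹ = y⁻¹) := by
    intro s hs
    by_cases hss : s * s = 1
    · by_cases h1 : s = 1
      · exact Or.inl fun y _ => by simp [h1]
      by_cases hst : s = t
      · exact Or.inl fun y hy => by rw [hst, htO y hy, mul_inv_cancel_right]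
      exact Or.inr (key s hs (orderOf_eq_prime (by rw [sq, hss]) h1) hst)
    · obtain ⟨a, b, ha, ha1, hat, hb, hb1, hbt, hab⟩ := eq_mul_involutions e
        (z := ⟨t, htS⟩) (s := ⟨s, hs⟩) (Subtype.ext (htZ s hs)) fun h => hss (congrArg Subtype.val h)
      refine Or.inl fun y hy => ?_
      have hoa : orderOf (a : G) = 2 :=
        orderOf_eq_prime (by rw [sq]; exact congrArg Subtype.val ha) fun h => ha1 (Subtype.ext h)
      have hob : orderOf (b : G) = 2 :=
        orderOf_eq_prime (by rw [sq]; exact congrArg Subtype.val hb) fun h => hb1 (Subtype.ext h)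
      rw [show s = (a : G) * (b : G) from congrArg Subtype.val hab,
        show (a : G) * b * y * ((a : G) * b)⁻¹ = a * (b * y * (b : G)⁻¹) * (a : G)⁻¹ by group,
        key b b.2 hob (fun h => hbt (Subtype.ext h)) y hy,
        key a a.2 hoa (fun h => hat (Subtype.ext h)) _ (inv_mem hy), inv_inv]
  have hb : ∀ s ∈ (S : Subgroup G), s ∉ centralizer (O : Set G) → ∀ y ∈ O, s * y * s⁻¹ = y⁻¹ := by
    intro s hs hns
    refine (hact s hs).resolve_left fun h => hns (mem_centralizer_iff.2 fun y hy => ?_)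
    exact (mul_inv_eq_iff_eq_mul.1 (h y hy)).symm
  have ha : O ≠ ⊥ → IsCyclic ((S : Subgroup G) ⊓ centralizer (O : Set G) : Subgroup G) ∧
      ((S : Subgroup G) ⊓ centralizer (O : Set G)).relIndex (S : Subgroup G) = 2 := by
    intro hO0
    obtain ⟨y, hy, hy1⟩ := (bot_or_exists_ne_one O).resolve_left hO0
    have hyinv : y⁻¹ ≠ y := by
      intro h
      obtain ⟨z, hz, rfl⟩ := hy
      have h2 : z * z = 1 := Subtype.ext (by
        rw [Subgroup.coe_mul]; exact mul_eq_one_iff_eq_inv.2 h.symm)
      have := Cfsg.Lib.ZStar.odd_orderOf_oddCore hz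
      have h3 : orderOf z ∣ 2 := orderOf_dvd_of_pow_eq_one (by rw [sq, h2])
      rcases (Nat.dvd_prime Nat.prime_two).1 h3 with h4 | h4
      · exact hy1 (by rw [orderOf_eq_one_iff.1 h4]; rfl)
      · rw [h4] at this; exact absurd this (by decide)
    set K := (S : Subgroup G) ⊓ centralizer (O : Set G) with hK
    have hout : ∀ u ∈ (S : Subgroup G), orderOf u = 2 → u ≠ t → u ∉ K := by
      intro u hu ho hne hk
      have h1 := key u hu ho hne y hy
      rw [← mem_centralizer_iff.1 (inf_le_right (a := (S : Subgroup G)) hk) y hy, mul_inv_cancel_right] at h1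
      exact hyinv h1.symm
    obtain ⟨u, hu, huo, hut⟩ : ∃ u ∈ (S : Subgroup G), orderOf u = 2 ∧ u ≠ t := by
      haveI : NeZero n := ⟨by omega⟩
      by_contra hno
      push Not at hno
      have h0 : ∀ j : ZMod n, ((e.symm (DihedralGroup.sr j)) : G) = t := fun j =>
        hno _ (e.symm _).2 (by rw [orderOf_coe, MulEquiv.orderOf_eq, DihedralGroup.orderOf_sr])
      have h1 : e.symm (DihedralGroup.sr 0) = e.symm (DihedralGroup.sr 1) :=
        Subtype.ext ((h0 0).trans (h0 1).symm)
      have h2 := DihedralGroup.sr.inj (e.symm.injective h1)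
      haveI : Fact (1 < n) := ⟨by omega⟩
      exact zero_ne_one h2
    refine ⟨?_, ?_⟩
    · have hKS : K ≤ (S : Subgroup G) := inf_le_left
      rcases (hG.twoCycDih K (S.2.to_le hKS)).cyclic_or_dihedral with h | ⟨m, hm, ⟨f⟩⟩
      · exact h
      exfalso
      haveI : NeZero m := ⟨by omega⟩
      haveI : Fact (1 < m) := ⟨by omega⟩
      have h0 : ∀ j : ZMod m, ((f.symm (DihedralGroup.sr j)) : G) = t := fun j => by
        by_contra h
        exact hout _ (hKS (f.symm _).2)
          (by rw [orderOf_coe, MulEquiv.orderOf_eq, DihedralGroup.orderOf_sr]) h (f.symm _).2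
      have h1 : f.symm (DihedralGroup.sr 0) = f.symm (DihedralGroup.sr 1) :=
        Subtype.ext ((h0 0).trans (h0 1).symm)
      exact zero_ne_one (DihedralGroup.sr.inj (f.symm.injective h1))
    · rw [Subgroup.relIndex, index_eq_two_iff]
      refine ⟨⟨u, hu⟩, fun b => ?_⟩
      simp only [mem_subgroupOf, Subgroup.coe_mul]
      have huinv := key u hu huo hut
      by_cases hbK : (b : G) ∈ K
      · refine Or.inr ⟨hbK, fun h => hout u hu huo hut ?_⟩
        have := K.mul_mem (K.inv_mem hbK) h
        rwa [inv_mul_cancel_left] at this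
      · refine Or.inl ⟨⟨(S : Subgroup G).mul_mem b.2 hu, ?_⟩, hbK⟩
        have hbinv := hb b b.2 fun h => hbK ⟨b.2, h⟩
        refine mem_centralizer_iff.2 fun z hz => ?_
        have h : (b : G) * u * z * ((b : G) * u)⁻¹ = z := by
          rw [show (b : G) * u * z * ((b : G) * u)⁻¹ = b * (u * z * u⁻¹) * (b : G)⁻¹ by group,
            huinv z hz, hbinv _ (inv_mem hz), inv_inv]
        exact (mul_inv_eq_iff_eq_mul.1 h).symm
  obtain ⟨F, i, j, hodd, hiso⟩ :=
    Cfsg.Agent.S0508.result S n hn ⟨e⟩ t ht htS htZ O hO ha hb (hc t ht)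
  refine Or.inl ⟨F, i, j, hodd, ?_, hiso⟩
  by_contra h3
  have hq : Fintype.card F = 3 := by
    have h1 := Fintype.one_lt_card (α := F)
    rcases hodd with ⟨k, hk⟩
    omega
  refine hG.not_isSolvable (Cfsg.Lib.Recog.Icosa.solvable_of_lt_sixty (Nat.card G) G rfl ?_)
  have h2 := Cfsg.Lib.Dickson.card_psl_mul (K := F) (by omega)
  rw [Nat.card_congr hiso.some.toEquiv]
  rw [hq] at h2
  omega

end GWMin

end Cfsg.Lib.GW
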