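import Cfsg.Agent.Lib.GW.RankOne
import Cfsg.Agent.Lib.GW.Min
import Cfsg.Prelude.Def_PLocal

/-!
# Gorenstein–Walter: groups with quaternion Sylow 2-subgroups

`Ω₁(S) O(G)` is normal (Brauer and Suzuki); the quotient by it has dihedral Sylow 2-subgroups and trivial
odd core.
-/

set_option autoImplicit false
set_option linter.style.haveILetI false

namespace Cfsg.Lib.GW

open Subgroup

universe u

theorem commutative_sup_of_commute {G : Type*} [Group G] {a b : G} (h : Commute a b) :
    IsMulCommutative ↥(closure ({a, b} : Set G)) := by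
  refine isMulCommutative_closure ?_
  rintro x (rfl | rfl) y (rfl | rfl)
  exacts [rfl, h.eq, h.eq.symm, rfl]

/-- A `p`-group of rank one has only one subgroup of order `p`. -/
theorem unique_prime_of_rank_one {P : Type*} [Group P] [Finite P] {p : ℕ} [Fact p.Prime]
    (hP : IsPGroup p P) (h1 : Cfsg.PRankLE p 1 P) (H K : Subgroup P) (hH : Nat.card H = p)
    (hK : Nat.card K = p) : H = K := by
  have key : ∀ H : Subgroup P, Nat.card H = p → ∃ a : P, orderOf a = p ∧ H = zpowers a := fun H hH => by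
    obtain ⟨a, ha⟩ := exists_prime_orderOf_dvd_card' p (G := H) (by rw [hH])
    refine ⟨a, by rw [Subgroup.orderOf_coe, ha], (eq_of_le_of_card_ge (zpowers_le.2 a.2) ?_).symm⟩
    rw [Nat.card_zpowers, Subgroup.orderOf_coe, ha, hH]
  obtain ⟨a, ha, rfl⟩ := key H hH
  obtain ⟨b, hb, rfl⟩ := key K hK
  haveI : Nontrivial P := ⟨⟨a, 1, fun h => by
    rw [h, orderOf_one] at ha; exact (Fact.out : p.Prime).one_lt.ne ha⟩⟩
  haveI := hP.center_nontrivial
  obtain ⟨z, hz⟩ := exists_prime_orderOf_dvd_card' p (G := center P) (by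
    obtain ⟨k, hk, hc⟩ := (hP.to_subgroup (center P)).nontrivial_iff_card.1 inferInstance
    rw [hc]; exact dvd_pow_self p hk.ne')
  have hz' : orderOf (z : P) = p := by rw [Subgroup.orderOf_coe, hz]
  have hone : ∀ c : P, orderOf c = p → zpowers c = zpowers (z : P) := by
    intro c hc
    have hcz : Commute c (z : P) := mem_center_iff.1 z.2 c
    haveI := commutative_sup_of_commute hcz
    set A := closure ({c, (z : P)} : Set P)
    have hexp : ∀ x ∈ A, x ^ p = 1 := by
      intro x hx
      induction hx using Subgroup.closure_induction with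
      | mem y hy =>
        rcases hy with rfl | rfl
        · rw [← hc]; exact pow_orderOf_eq_one _
        · rw [← hz']; exact pow_orderOf_eq_one _
      | one => exact one_pow p
      | mul y w hy hw hy1 hw1 =>
        have hyw : Commute y w := congrArg Subtype.val ((IsMulCommutative.is_comm (M := A)).comm ⟨y, hy⟩ ⟨w, hw⟩)
        rw [hyw.mul_pow, hy1, hw1, one_mul]
      | inv y _ hy1 => rw [inv_pow, hy1, inv_one]
    have hA := h1 A inferInstance hexp
    rw [pow_one] at hA
    have e1 : zpowers c = A := eq_of_le_of_card_ge (zpowers_le.2 (subset_closure (Or.inl rfl)))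
      (by rw [Nat.card_zpowers, hc]; exact hA)
    have e2 : zpowers (z : P) = A := eq_of_le_of_card_ge (zpowers_le.2 (subset_closure (Or.inr rfl)))
      (by rw [Nat.card_zpowers, hz']; exact hA)
    rw [e1, e2]
  rw [hone a ha, hone b hb]

theorem card_comap_eq {A B : Type*} [Group A] [Finite A] [Group B] (f : A →* B) (hf : Function.Surjective f)
    (H : Subgroup B) : Nat.card (H.comap f) = Nat.card f.ker * Nat.card H := by
  haveI : Finite B := Finite.of_surjective f hf
  have h1 := (H.comap f).card_mul_index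
  rw [H.index_comap_of_surjective hf] at h1
  have h2 : Nat.card A = Nat.card f.ker * Nat.card B := by
    rw [card_eq_card_quotient_mul_card_subgroup f.ker,
      Nat.card_congr (QuotientGroup.quotientKerEquivOfSurjective f hf).toEquiv, mul_comm]
  have h3 := H.card_mul_index
  have h0 : H.index ≠ 0 := index_ne_zero_of_finite
  refine Nat.eq_of_mul_eq_mul_right (Nat.pos_of_ne_zero h0) ?_
  rw [h1, h2, ← h3, mul_assoc]

variable {G : Type u} [Group G] [Finite G]

/-- `Ω₁(S) O(G)` for a quaternion Sylow 2-subgroup `S`. -/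
theorem quaternion_omega (S : Sylow 2 G) {n : ℕ} (hn : 1 ≤ n)
    (e : (S : Subgroup G) ≃* QuaternionGroup (2 ^ n)) :
    ∃ (N : Subgroup G) (_ : N.Normal), N = Cfsg.omegaOne 2 (S : Subgroup G) ⊔ Cfsg.pPrimeCore 2 G ∧
      Cfsg.oddCore (G ⧸ N) = ⊥ ∧ ((Cfsg.oddCore G).subgroupOf N).index = 2 ∧
      ∃ T : Sylow 2 (G ⧸ N), Nonempty ((T : Subgroup (G ⧸ N)) ≃* DihedralGroup (2 ^ n)) := by
  haveI : Fact (Nat.Prime 2) := ⟨Nat.prime_two⟩
  haveI : NeZero (2 ^ n) := ⟨by positivity⟩
  obtain ⟨m, rfl⟩ : ∃ m, n = m + 1 := ⟨n - 1, by omega⟩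
  let q := QuotientGroup.mk' (Cfsg.oddCore G)
  have hq : Function.Surjective q := QuotientGroup.mk'_surjective _
  let S' : Sylow 2 (G ⧸ Cfsg.oddCore G) := S.mapSurjective (f := q) hq
  have hinj : Function.Injective (q.subgroupMap (S : Subgroup G)) := by
    rw [← MonoidHom.ker_eq_bot_iff, eq_bot_iff]
    intro x hx
    have hxO : (x : G) ∈ Cfsg.oddCore G := (QuotientGroup.eq_one_iff _).1 (congrArg Subtype.val hx)
    obtain ⟨i, hi⟩ := IsPGroup.iff_orderOf.1 S.isPGroup' x
    rw [← Subgroup.orderOf_coe] at hi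
    have h7 := ((Nat.coprime_two_left.2 (ZStar.odd_orderOf_oddCore hxO)).pow_left i).eq_one_of_dvd
      (dvd_of_eq hi.symm)
    exact Subgroup.mem_bot.2 (Subtype.ext (orderOf_eq_one_iff.1 (hi.trans h7)))
  let eS : (S : Subgroup G) ≃* (S' : Subgroup (G ⧸ Cfsg.oddCore G)) :=
    MulEquiv.ofBijective _ ⟨hinj, q.subgroupMap_surjective _⟩
  have hO : Cfsg.oddCore (G ⧸ Cfsg.oddCore G) = ⊥ := Cfsg.Lib.Core.pPrimeCore_quotient_eq_bot (p := 2)
  have hZ : Nat.card (center (G ⧸ Cfsg.oddCore G)) = 2 :=
    Cfsg.Lib.ZStar.card_center_of_quaternion hO S' (eS.symm.trans e)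
  have hZS : center (G ⧸ Cfsg.oddCore G) ≤ (S' : Subgroup (G ⧸ Cfsg.oddCore G)) := center_two_le S' hZ
  have hinv : ∀ {a b : (S : Subgroup G)}, orderOf a = 2 → orderOf b = 2 → a = b := fun {a b} ha hb =>
    e.injective ((Cfsg.Lib.Invol.quaternion_eq_of_orderOf_two (by rw [e.orderOf_eq, ha])).trans
      (Cfsg.Lib.Invol.quaternion_eq_of_orderOf_two (by rw [e.orderOf_eq, hb])).symm)
  have hord : ∀ {a : (S : Subgroup G)}, a * a = 1 → a ≠ 1 → orderOf a = 2 := fun ha h1 =>
    orderOf_eq_prime (by rw [pow_two, ha]) h1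
  -- an element of the Sylow subgroup is central modulo the core iff its square is trivial
  have hzS : ∀ x : (S : Subgroup G), q x ∈ center (G ⧸ Cfsg.oddCore G) ↔ x * x = 1 := by
    refine fun x => ⟨fun hx => ?_, fun hx => ?_⟩
    · have h1 : (⟨q x, hx⟩ : center (G ⧸ Cfsg.oddCore G)) ^ 2 = 1 :=
        (congrArg (fun j : ℕ => (⟨q x, hx⟩ : center (G ⧸ Cfsg.oddCore G)) ^ j) hZ).symm.trans pow_card_eq_one'
      rw [pow_two] at h1
      refine eS.injective ?_
      rw [map_mul, map_one]
      exact Subtype.ext (congrArg (fun y : center (G ⧸ Cfsg.oddCore G) => (y : G ⧸ Cfsg.oddCore G)) h1)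
    · by_cases h1 : x = 1
      · rw [h1]; simp
      obtain ⟨⟨z, hz⟩, hz1⟩ := exists_prime_orderOf_dvd_card' 2 (G := center (G ⧸ Cfsg.oddCore G))
        (dvd_of_eq hZ.symm)
      have hoz : orderOf (eS.symm ⟨z, hZS hz⟩) = 2 := by
        rw [eS.symm.orderOf_eq, ← Subgroup.orderOf_coe]
        rwa [← Subgroup.orderOf_coe] at hz1
      have hxz : eS x = ⟨z, hZS hz⟩ := by rw [hinv (hord hx h1) hoz, eS.apply_symm_apply]
      have hqz : q x = z := congrArg Subtype.val hxz
      rw [hqz]; exact hz
  set N := (center (G ⧸ Cfsg.oddCore G)).comap q with hN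
  haveI hNn : N.Normal := Normal.comap inferInstance q
  have hON : Cfsg.oddCore G ≤ N := fun x hx => by
    rw [hN, mem_comap, show q x = 1 from (QuotientGroup.eq_one_iff x).2 hx]
    exact one_mem _
  refine ⟨N, hNn, ?_, ?_, ?_, ?_⟩
  · refine le_antisymm (fun x hx => ?_) (sup_le ((closure_le N).2 ?_) hON)
    · obtain ⟨s, hs, hsx⟩ := hZS hx
      have h2 : (⟨s, hs⟩ : (S : Subgroup G)) * ⟨s, hs⟩ = 1 :=
        (hzS ⟨s, hs⟩).1 (by show q s ∈ _; rw [hsx]; exact hx)
      have ho : s⁻¹ * x ∈ Cfsg.pPrimeCore 2 G := (QuotientGroup.eq).1 hsx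
      rw [show x = s * (s⁻¹ * x) by group]
      refine mul_mem (mem_sup_left (subset_closure ⟨hs, ?_⟩)) (mem_sup_right ho)
      rw [pow_two]
      exact congrArg Subtype.val h2
    · rintro s ⟨hs, hs2⟩
      exact (hzS ⟨s, hs⟩).2 (Subtype.ext (by rw [← pow_two]; exact hs2))
  · -- the core
    set π := QuotientGroup.mk' N
    set M := (Cfsg.oddCore (G ⧸ N)).comap π with hM
    haveI : M.Normal := Normal.comap inferInstance π
    have hNM : N ≤ M := fun x hx => by
      rw [hM, mem_comap, show π x = 1 from (QuotientGroup.eq_one_iff x).2 hx]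
      exact one_mem _
    set O' := (Cfsg.oddCore (G ⧸ N)) with hO'
    have hcardN : Nat.card N = 2 * Nat.card (Cfsg.oddCore G) := by
      rw [hN, card_comap_eq q hq, hZ, QuotientGroup.ker_mk', mul_comm]
    have hcardM : Nat.card M = 2 * (Nat.card (Cfsg.oddCore G) * Nat.card O') := by
      rw [hM, card_comap_eq π (QuotientGroup.mk'_surjective N), QuotientGroup.ker_mk', hcardN]
      ring
    have hoddp : Odd (Nat.card (Cfsg.oddCore G) * Nat.card O') :=
      (ZStar.odd_card_oddCore).mul (ZStar.odd_card_oddCore)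
    have hcompl : Cfsg.HasNormalPComplement 2 M := by
      obtain ⟨T⟩ : Nonempty (Sylow 2 M) := inferInstance
      haveI : IsCyclic (T : Subgroup M) := isCyclic_of_prime_card (p := 2) (by
        rw [T.card_eq_multiplicity, hcardM, Nat.factorization_mul two_ne_zero
          (mul_ne_zero Nat.card_pos.ne' Nat.card_pos.ne'), Finsupp.add_apply,
          Nat.prime_two.factorization_self,
          Nat.factorization_eq_zero_of_not_dvd (fun h => Nat.not_even_iff_odd.2 hoddp (even_iff_two_dvd.2 h))]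
        norm_num)
      exact Cfsg.Lib.FTCons.MetacyclicSylow.complement_of_cyclic T
    have hR : Odd (Nat.card (Cfsg.pResidual 2 M)) :=
      Nat.coprime_two_right.1 (Cfsg.Lib.Fusion.hasNormalPComplement_iff_coprime.1 hcompl)
    set R := (Cfsg.pResidual 2 M).map M.subtype with hRdef
    haveI : R.Normal := by
      haveI : (Cfsg.pResidual 2 M).Characteristic := by
        rw [characteristic_iff_map_le]
        intro φ
        show (Subgroup.closure _).map _ ≤ Subgroup.closure _
        rw [MonoidHom.map_closure]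
        refine closure_mono ?_
        rintro _ ⟨g, hg, rfl⟩
        show Nat.Coprime (orderOf (φ g)) 2
        rw [φ.orderOf_eq]
        exact hg
      exact ConjAct.normal_of_characteristic_of_normal
    have hRc : Nat.card R = Nat.card (Cfsg.pResidual 2 M) := card_map_of_injective M.subtype_injective
    have hRO : R ≤ Cfsg.oddCore G := Cfsg.Lib.Core.le_pPrimeCore (p := 2)
      (Nat.coprime_two_right.2 (by rwa [hRc]))
    obtain ⟨k, hk⟩ := Cfsg.Lib.Fusion.index_pResidual_eq_pow (p := 2) (G := M)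
    have h3 := (Cfsg.pResidual 2 M).card_mul_index
    rw [hk, hcardM] at h3
    have h5 : Nat.card (Cfsg.oddCore G) * Nat.card O' ∣ Nat.card (Cfsg.pResidual 2 M) :=
      ((Nat.coprime_two_right.2 hoddp).pow_right k).dvd_of_dvd_mul_right (by rw [h3]; exact dvd_mul_left _ 2)
    have h6 : Nat.card (Cfsg.pResidual 2 M) ∣ Nat.card (Cfsg.oddCore G) := hRc ▸ card_dvd_of_le hRO
    have h7 := Nat.le_of_dvd Nat.card_pos (h5.trans h6)
    refine Subgroup.card_eq_one.1 ?_
    have := Nat.card_pos (α := Cfsg.oddCore G)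
    have := Nat.card_pos (α := O')
    nlinarith
  · have h1 := ((Cfsg.oddCore G).subgroupOf N).card_mul_index
    rw [Nat.card_congr (subgroupOfEquivOfLe hON).toEquiv,
      show Nat.card N = Nat.card (Cfsg.oddCore G) * 2 by
        rw [hN, card_comap_eq q hq, hZ, QuotientGroup.ker_mk']] at h1
    exact Nat.eq_of_mul_eq_mul_left Nat.card_pos h1
  · -- the Sylow subgroup
    let π := QuotientGroup.mk' N
    let T : Sylow 2 (G ⧸ N) := S.mapSurjective (f := π) (QuotientGroup.mk'_surjective N)
    let f : (S : Subgroup G) →* (T : Subgroup (G ⧸ N)) := π.subgroupMap S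
    have hf : Function.Surjective f := π.subgroupMap_surjective S
    let g := (Cfsg.Lib.FusionSys.Lin.quaternionToDihedral (2 ^ (m + 1))).comp e.toMonoidHom
    have hg : Function.Surjective g :=
      (Cfsg.Lib.FusionSys.Lin.quaternionToDihedral_surjective _).comp e.surjective
    have hker : f.ker = g.ker := by
      ext x
      rw [MonoidHom.mem_ker, MonoidHom.mem_ker]
      show f x = 1 ↔ Cfsg.Lib.FusionSys.Lin.quaternionToDihedral _ (e x) = 1
      rw [Cfsg.Lib.FusionSys.Lin.quaternionToDihedral_eq_one, ← map_mul, map_eq_one_iff e e.injective,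
        Subtype.ext_iff]
      show π (x : G) = 1 ↔ _
      rw [QuotientGroup.mk'_apply, QuotientGroup.eq_one_iff, hN, mem_comap, hzS x, Subtype.ext_iff]
    exact ⟨T, ⟨(QuotientGroup.quotientKerEquivOfSurjective f hf).symm.trans
      ((QuotientGroup.quotientMulEquivOfEq hker).trans (QuotientGroup.quotientKerEquivOfSurjective g hg))⟩⟩

/-- A group with trivial centralizer of a normal subgroup `E ≅ P` is a group of automorphisms of `P`. -/
theorem exists_aut_subgroup {X P : Type*} [Group X] [Group P] (E : Subgroup X) [E.Normal] (e : E ≃* P)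
    (hC : centralizer (E : Set X) = ⊥) :
    ∃ K : Subgroup (MulAut P), (MulAut.conj : P →* MulAut P).range ≤ K ∧ Nonempty (X ≃* K) := by
  let ψ : X →* MulAut P := (MulAut.congr e).toMonoidHom.comp MulAut.conjNormal
  have hψ : Function.Injective ψ := by
    rw [← MonoidHom.ker_eq_bot_iff, eq_bot_iff, ← hC]
    intro x hx
    refine mem_centralizer_iff.2 fun y hy => ?_
    have h1 : MulAut.conjNormal (H := E) x = 1 := (MulAut.congr e).injective (hx.trans (map_one _).symm)
    have h2 : x * y * x⁻¹ = y := congrArg (fun f : MulAut E => ((f ⟨y, hy⟩ : E) : X)) h1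
    exact (mul_inv_eq_iff_eq_mul.1 h2).symm
  refine ⟨ψ.range, ?_, ⟨MonoidHom.ofInjective hψ⟩⟩
  rintro _ ⟨a, rfl⟩
  refine ⟨(e.symm a : X), ?_⟩
  refine MulEquiv.ext fun b => ?_
  show e (MulAut.conjNormal (H := E) (e.symm a : X) (e.symm b)) = a * b * a⁻¹
  rw [show MulAut.conjNormal (H := E) (e.symm a : X) (e.symm b) = e.symm a * e.symm b * (e.symm a)⁻¹ from
    Subtype.ext (by simp), ← map_inv, ← map_mul, ← map_mul, e.apply_symm_apply]

end Cfsg.Lib.GW
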