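import Cfsg.Agent.Lib.GW.DGroup
import Cfsg.Agent.Lib.GW.Perfect
import Cfsg.Agent.Lib.GW.PGL
import Cfsg.Agent.Lib.Dickson.Involutions
import Cfsg.Agent.Lib.Invol.Basic
import Cfsg.Agent.S0016
import Cfsg.Agent.S0111
import Cfsg.Agent.S1189
import Cfsg.Agent.S2119
import Cfsg.Agent.S3116
import Cfsg.Agent.S3224
import Cfsg.Agent.S4420
import Cfsg.Agent.Lib.GW.Quaternion
import Cfsg.Agent.Lib.ZStar.Main

/-!
# Self-centralizing D-groups: the dihedral case

`H = B ∪ hB` with one involution in `B`: conditional on the theorem of Gorenstein and Walter, a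
nonsolvable group is `PSL₂(q)` or `PGL₂(q)` over its odd core.
-/

set_option autoImplicit false
set_option linter.style.haveILetI false

namespace Cfsg.Lib.GW.DGroup

open Subgroup

universe u

/-- Centralizers of involutions pass to quotients by normal subgroups of odd order. -/
theorem centralizer_lift {G : Type*} [Group G] [Finite G] (N : Subgroup G) [N.Normal] (hN : Odd (Nat.card N))
    {j : G} (hj : orderOf j = 2) :
    centralizer ({QuotientGroup.mk' N j} : Set (G ⧸ N)) = (centralizer ({j} : Set G)).map (QuotientGroup.mk' N) := by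
  refine le_antisymm ?_ ?_
  · intro y hy
    obtain ⟨g, rfl⟩ := QuotientGroup.mk'_surjective N y
    rw [mem_centralizer_singleton_iff] at hy
    set j' := g * j * g⁻¹ with hj'
    have hj'o : orderOf j' = 2 := by rw [hj', ← MulAut.conj_apply, (MulAut.conj g).orderOf_eq, hj]
    have hmem : j * j' ∈ N := by
      rw [← QuotientGroup.eq_one_iff, ← QuotientGroup.mk'_apply, map_mul, hj', map_mul, map_mul, hy,
        map_inv, mul_inv_cancel_right, ← map_mul, Cfsg.Lib.Invol.inv_mul_self hj, map_one]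
    have hodd : Odd (orderOf (j * j')) := hN.of_dvd_nat (by
      rw [← Subgroup.orderOf_mk _ hmem]; exact orderOf_dvd_natCard _)
    obtain ⟨d, hd, hdj⟩ := Cfsg.Lib.Invol.exists_conj_of_odd hj hj'o hodd
    obtain ⟨k, hk⟩ := (Cfsg.Lib.Invol.mem_closure_pair hj hj'o).1 hd
    have hc : d⁻¹ * g ∈ centralizer ({j} : Set G) := by
      rw [mem_centralizer_singleton_iff]
      calc d⁻¹ * g * j = d⁻¹ * (g * j * g⁻¹) * g := by group
        _ = d⁻¹ * (d * j * d⁻¹) * g := by rw [← hj', hdj]
        _ = j * (d⁻¹ * g) := by group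
    have hjc : j ∈ centralizer ({j} : Set G) := mem_centralizer_singleton_iff.2 rfl
    have h1 : QuotientGroup.mk' N ((j * j') ^ k) = 1 :=
      (QuotientGroup.eq_one_iff _).2 (zpow_mem hmem k)
    rcases hk with rfl | rfl
    · refine ⟨_, hc, ?_⟩
      rw [map_mul, map_inv, h1, inv_one, one_mul]
    · refine ⟨j * ((j * (j * j') ^ k)⁻¹ * g), mul_mem hjc hc, ?_⟩
      rw [map_mul, map_mul, map_inv, map_mul, h1, mul_one, mul_inv_cancel_left]
  · rintro _ ⟨g, hg, rfl⟩
    rw [mem_centralizer_singleton_iff, ← map_mul, ← map_mul]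
    exact congrArg _ (mem_centralizer_singleton_iff.1 hg)

/-- Involutions of `A₇` have cycle type `2²`, so are conjugate. -/
theorem alt_seven_conj {x y : alternatingGroup (Fin 7)} (hx : orderOf x = 2) (hy : orderOf y = 2) :
    IsConj x y := by
  have htype : ∀ z : alternatingGroup (Fin 7), orderOf z = 2 → (z : Equiv.Perm (Fin 7)).cycleType = {2, 2} := by
    intro z hz
    have hz' : orderOf (z : Equiv.Perm (Fin 7)) = 2 := by rw [Subgroup.orderOf_coe, hz]
    have hall : ∀ n ∈ (z : Equiv.Perm (Fin 7)).cycleType, n = 2 := fun n hn => by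
      have h1 := hz' ▸ Equiv.Perm.dvd_of_mem_cycleType hn
      have h2 := Equiv.Perm.two_le_of_mem_cycleType hn
      have := Nat.le_of_dvd two_pos h1
      omega
    rw [Multiset.eq_replicate_card.2 hall]
    have hsum : (z : Equiv.Perm (Fin 7)).cycleType.sum ≤ 7 := by
      rw [Equiv.Perm.sum_cycleType]
      exact (Finset.card_le_univ _).trans_eq (Fintype.card_fin 7)
    have hsign := Equiv.Perm.mem_alternatingGroup.1 z.2
    rw [Equiv.Perm.sign_of_cycleType, Multiset.eq_replicate_card.2 hall, Multiset.sum_replicate,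
      Multiset.card_replicate, smul_eq_mul] at hsign
    have hne : Multiset.card (z : Equiv.Perm (Fin 7)).cycleType ≠ 0 := fun h => by
      rw [Multiset.card_eq_zero, Equiv.Perm.cycleType_eq_zero] at h
      rw [h, orderOf_one] at hz'
      omega
    rw [Multiset.eq_replicate_card.2 hall, Multiset.sum_replicate, smul_eq_mul] at hsum
    generalize Multiset.card (z : Equiv.Perm (Fin 7)).cycleType = k at *
    have hk3 : k ≤ 3 := by omega
    interval_cases k <;> first | exact absurd rfl hne | rfl | (exfalso; revert hsign; decide)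
  obtain ⟨σ, hσ⟩ := isConj_iff.1 (Equiv.Perm.isConj_iff_cycleType_eq.2 ((htype x hx).trans (htype y hy).symm))
  rcases Int.units_eq_one_or (Equiv.Perm.sign σ) with h1 | h1
  · exact isConj_iff.2 ⟨⟨σ, Equiv.Perm.mem_alternatingGroup.2 h1⟩, Subtype.ext hσ⟩
  · -- multiply by a transposition inside the support, commuting with `x`
    obtain ⟨a, ha⟩ : ∃ a, (x : Equiv.Perm (Fin 7)) a ≠ a := by
      by_contra hne
      push Not at hne
      have : x = 1 := Subtype.ext (Equiv.ext hne)
      rw [this, orderOf_one] at hx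
      omega
    set b := (x : Equiv.Perm (Fin 7)) a
    have hxb : (x : Equiv.Perm (Fin 7)) b = a := by
      have h := pow_orderOf_eq_one x
      rw [hx] at h
      have h' := congrArg (fun z : alternatingGroup (Fin 7) => (z : Equiv.Perm (Fin 7)) a) h
      simpa [pow_two, b] using h'
    have hcomm : Equiv.swap a b * (x : Equiv.Perm (Fin 7)) * (Equiv.swap a b)⁻¹ = x := by
      rw [mul_inv_eq_iff_eq_mul, Equiv.mul_swap_eq_swap_mul, show (x : Equiv.Perm (Fin 7)) a = b from rfl, hxb,
        Equiv.swap_comm]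
    refine isConj_iff.2 ⟨⟨σ * Equiv.swap a b, Equiv.Perm.mem_alternatingGroup.2 ?_⟩, Subtype.ext ?_⟩
    · rw [map_mul, h1, Equiv.Perm.sign_swap ha.symm]; decide
    · show σ * Equiv.swap a b * (x : Equiv.Perm (Fin 7)) * (σ * Equiv.swap a b)⁻¹ = y
      calc _ = σ * (Equiv.swap a b * (x : Equiv.Perm (Fin 7)) * (Equiv.swap a b)⁻¹) * σ⁻¹ := by group
        _ = _ := by rw [hcomm, hσ]

/-- `A₇` is the whole of an almost simple group with dihedral Sylow 2-subgroups. -/
theorem eq_top_of_alt_seven {X : Type u} [Group X] [Finite X] (hD : TwoCycDih X) (E : Subgroup X) [E.Normal]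
    (hC : centralizer (E : Set X) = ⊥) (e : E ≃* alternatingGroup (Fin 7)) : E = ⊤ := by
  by_contra hne
  let ψ := MulEquiv.ofBijective _ (Cfsg.Agent.S2119.result 7 (by norm_num) (by norm_num))
  let φ : X →* Equiv.Perm (Fin 7) :=
    ψ.symm.toMonoidHom.comp ((MulAut.congr e).toMonoidHom.comp MulAut.conjNormal)
  have hφ : Function.Injective φ := by
    refine ψ.symm.injective.comp ((MulAut.congr e).injective.comp ?_)
    rw [← MonoidHom.ker_eq_bot_iff, eq_bot_iff]
    intro x hx
    rw [← hC, mem_centralizer_iff]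
    intro y hy
    have h := congrArg Subtype.val (DFunLike.congr_fun (MonoidHom.mem_ker.1 hx) ⟨y, hy⟩)
    rw [MulAut.conjNormal_apply, MulAut.one_apply] at h
    exact (mul_inv_eq_iff_eq_mul.1 h).symm
  have hle : Nat.card (Equiv.Perm (Fin 7)) ≤ Nat.card X := by
    have hi : 2 ≤ E.index := by
      have h0 : E.index ≠ 0 := index_ne_zero_of_finite
      have h1 : E.index ≠ 1 := fun h => hne (index_eq_one.1 h)
      omega
    calc Nat.card (Equiv.Perm (Fin 7)) = 2 * Nat.card (alternatingGroup (Fin 7)) :=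
          (two_mul_nat_card_alternatingGroup (α := Fin 7)).symm
      _ = Nat.card E * 2 := by rw [mul_comm, Nat.card_congr e.toEquiv]
      _ ≤ Nat.card E * E.index := Nat.mul_le_mul_left _ hi
      _ = Nat.card X := card_mul_index E
  have hbij : Function.Bijective φ := (Nat.bijective_iff_injective_and_card φ).2
    ⟨hφ, le_antisymm (Nat.card_le_card_of_injective φ hφ) hle⟩
  let f := (MulEquiv.ofBijective φ hbij).symm
  let S : Set (Equiv.Perm (Fin 7)) := {Equiv.swap 0 1, Equiv.swap 2 3, Equiv.swap 4 5}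
  have hS : ∀ u ∈ S, ∀ v ∈ S, u * v = v * u := by
    rintro u (rfl | rfl | rfl) v (rfl | rfl | rfl) <;> decide
  haveI := Subgroup.isMulCommutative_closure hS
  let P := closure S
  have hsq : ∀ u ∈ P, u * u = 1 := by
    intro u hu
    induction hu using closure_induction with
    | mem u hu => rcases hu with rfl | rfl | rfl <;> exact Equiv.swap_mul_self _ _
    | one => exact one_mul 1
    | mul u v hu hv hu2 hv2 =>
      have h : u * v = v * u := congrArg Subtype.val
        ((inferInstance : IsMulCommutative P).is_comm.comm ⟨u, hu⟩ ⟨v, hv⟩)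
      rw [mul_assoc, ← mul_assoc v, ← h, mul_assoc, hv2, mul_one, hu2]
    | inv u _ hu2 => rw [← _root_.mul_inv_rev, hu2, inv_one]
  let P' := P.map f.toMonoidHom
  have hsq' : ∀ u ∈ P', u * u = 1 := by
    rintro _ ⟨u, hu, rfl⟩
    rw [← map_mul, hsq u hu, map_one]
  have hp : IsPGroup 2 P' := fun u => ⟨1, Subtype.ext (by rw [pow_one, pow_two]; exact hsq' u u.2)⟩
  have h4 := PGL.card_le_four_of_cycDih (hD P' hp) fun u => Subtype.ext (hsq' u u.2)
  rw [card_map_of_injective f.injective] at h4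
  haveI := Fintype.ofFinite P
  classical
  have ma : Equiv.swap 0 1 ∈ P := subset_closure (Or.inl rfl)
  have mb : Equiv.swap 2 3 ∈ P := subset_closure (Or.inr (Or.inl rfl))
  have mc : Equiv.swap 4 5 ∈ P := subset_closure (Or.inr (Or.inr rfl))
  let five : Finset P := {1, ⟨_, ma⟩, ⟨_, mb⟩, ⟨_, mc⟩, ⟨_, mul_mem ma mb⟩}
  have hfive : five.card = 5 := by
    rw [← Finset.card_map ⟨Subtype.val, Subtype.val_injective⟩]
    simp only [five, Finset.map_insert, Finset.map_singleton, Function.Embedding.coeFn_mk, OneMemClass.coe_one]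
    decide
  have := five.card_le_univ
  rw [hfive, ← Nat.card_eq_fintype_card] at this
  omega

/-- The subgroup generated by involutions lies in every normal subgroup of odd index. -/
theorem involution_mem_of_odd_index {X : Type*} [Group X] [Finite X] (N : Subgroup X) [N.Normal]
    (hN : Odd N.index) {x : X} (hx : x * x = 1) : x ∈ N := by
  rw [← QuotientGroup.eq_one_iff, ← orderOf_eq_one_iff]
  refine Nat.eq_one_of_dvd_coprimes (Nat.coprime_two_right.2 hN) ?_ ?_
  · rw [index_eq_card]; exact orderOf_dvd_natCard _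
  · exact orderOf_dvd_of_pow_eq_one (by rw [pow_two, ← QuotientGroup.mk_mul, hx]; rfl)

/-- A dihedral group is generated by its involutions. -/
theorem cycDih_le {P : Type*} [Group P] (h : CycDih P) (hnc : ¬ IsCyclic P) (M : Subgroup P)
    (hM : ∀ x : P, x * x = 1 → x ∈ M) : M = ⊤ := by
  obtain ⟨R, hR, -, hout⟩ := h
  obtain ⟨u, hu⟩ : ∃ u, u ∉ R := by
    by_contra hne
    push Not at hne
    exact hnc (isCyclic_of_surjective R.subtype fun x => ⟨⟨x, hne x⟩, rfl⟩)
  refine eq_top_iff.2 fun x _ => ?_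
  by_cases hx : x ∈ R
  · have h2 : u * x ∈ M := hM _ (hout _ fun h => hu ((mul_mem_cancel_right hx).1 h))
    have := mul_mem (inv_mem (hM u (hout u hu))) h2
    rwa [inv_mul_cancel_left] at this
  · exact hM x (hout x hx)

/-- Almost simple with dihedral Sylow 2-subgroups and a D-group as the centralizer of an involution. -/
theorem psl_or_pgl_of_component {X : Type u} [Group X] [Finite X] (hD : TwoCycDih X) (E : Subgroup X) [E.Normal]
    (hC : centralizer (E : Set X) = ⊥) (hs : IsSimpleGroup E) (hna : ¬ IsMulCommutative E) (hgw : IsGW E)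
    (h4 : ¬ 4 ∣ E.index) (hns : ¬ Group.IsSolvable X)
    {j : X} (hj : orderOf j = 2) (B : Subgroup X) (hBC : B ≤ centralizer ({j} : Set X))
    (hB : ∀ b ∈ B, b * b = 1 → b = 1 ∨ b = j)
    (hout : ∀ x ∈ centralizer ({j} : Set X), x ∉ B → x * x = 1 ∧ ∀ b ∈ B, x * b * x⁻¹ = b⁻¹)
    (hne : ∃ x ∈ centralizer ({j} : Set X), x ∉ B) :
    ∃ (F : Type) (_ : Field F) (_ : Fintype F), 3 < Fintype.card F ∧
      (Nonempty (X ≃* Matrix.ProjectiveSpecialLinearGroup (Fin 2) F) ∨
        Nonempty (X ≃* Matrix.ProjGenLinGroup (Fin 2) F)) := by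
  haveI : Fact (Nat.Prime 2) := ⟨Nat.prime_two⟩
  have hjj : j * j = 1 := Cfsg.Lib.Invol.inv_mul_self hj
  rcases hgw with ⟨F, i, i', hodd, h3, ⟨e⟩⟩ | hA7
  · refine ⟨F, i, i', h3, PGL.psl_or_pgl e hodd hC ?_⟩
    haveI := PGL.diag_normal e
    have hinv : ∀ x : X, x * x = 1 → x ∈ PGL.diag e := fun x hx => PGL.involution_mem_diag e hodd hC hD hx
    have hCd : centralizer ({j} : Set X) ≤ PGL.diag e := by
      obtain ⟨u, hu, huB⟩ := hne
      intro x hx
      by_cases hxB : x ∈ B
      · have h2 : u * x ∉ B := fun h => huB ((mul_mem_cancel_right hxB).1 h)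
        have := mul_mem (inv_mem (hinv u (hout u hu huB).1)) (hinv _ (hout _ (mul_mem hu hx) h2).1)
        rwa [inv_mul_cancel_left] at this
      · exact hinv x (hout x hx hxB).1
    refine eq_top_iff.2 fun x _ => ?_
    by_cases hjE : j ∈ E
    · -- one class of involutions in `E`
      obtain ⟨c, hc⟩ := Cfsg.Lib.Dickson.exists_conj_involution (Nat.odd_iff.1 hodd)
        (x := e ⟨j, hjE⟩) (y := e ⟨x * j * x⁻¹, Normal.conj_mem inferInstance j hjE x⟩)
        (by rw [← map_pow, show (⟨j, hjE⟩ : E) ^ 2 = 1 from Subtype.ext (by simp [pow_two, hjj]), map_one])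
        (fun h => by
          have h1 : j = 1 := congrArg Subtype.val (e.map_eq_one_iff.1 h)
          rw [h1, orderOf_one] at hj; omega)
        (by rw [← map_pow, show (⟨x * j * x⁻¹, Normal.conj_mem inferInstance j hjE x⟩ : E) ^ 2 = 1 from
              Subtype.ext (by
                rw [pow_two]
                show x * j * x⁻¹ * (x * j * x⁻¹) = 1
                rw [show x * j * x⁻¹ * (x * j * x⁻¹) = x * (j * j) * x⁻¹ by group, hjj]; group),
            map_one])
        (fun h => by
          have h1 : x * j * x⁻¹ = 1 := congrArg Subtype.val (e.map_eq_one_iff.1 h)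
          rw [conj_eq_one_iff.1 h1, orderOf_one] at hj; omega)
      set g : E := e.symm c
      have hg : (g : X)⁻¹ * j * g = x * j * x⁻¹ := by
        have h := congrArg Subtype.val (congrArg e.symm hc)
        simpa [g, map_mul, map_inv] using h
      have hmem : (g : X) * x ∈ centralizer ({j} : Set X) := by
        rw [mem_centralizer_singleton_iff]
        calc (g : X) * x * j = (g : X) * (x * j * x⁻¹) * x := by group
          _ = j * ((g : X) * x) := by rw [← hg]; group
      exact (mul_mem_cancel_left (PGL.le_diag e g.2)).1 (hCd hmem)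
    · -- Frattini
      have hdd : ¬ 4 ∣ (PGL.diag e).index := fun h =>
        h4 (h.trans (index_dvd_of_le (PGL.le_diag e)))
      have hrel : E.relIndex (PGL.diag e) = 2 := by
        have h1 := PGL.relIndex_diag_le e hodd hC
        have h0 : E.relIndex (PGL.diag e) ≠ 0 := index_ne_zero_of_finite
        have hne1 : E.relIndex (PGL.diag e) ≠ 1 := fun h => hjE (relIndex_eq_one.1 h (hinv j hjj))
        omega
      have hoddi : ¬ 2 ∣ (PGL.diag e).index := fun h => h4 (by
        rw [← relIndex_mul_index (PGL.le_diag e), hrel]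
        exact mul_dvd_mul_left 2 h)
      obtain ⟨P, hP⟩ := (IsPGroup.of_card (n := 1) (by rw [Nat.card_zpowers, hj]; rfl) :
        IsPGroup 2 (zpowers j)).exists_le_sylow
      have hjP : j ∈ (P : Subgroup X) := hP (mem_zpowers j)
      have hPd : (P : Subgroup X) ≤ PGL.diag e := by
        have h := cycDih_le (hD _ P.isPGroup') (not_isCyclic_sylow hns P) ((PGL.diag e).subgroupOf P)
          fun y hy => hinv _ (congrArg Subtype.val hy)
        intro y hy
        exact (h ▸ mem_top (⟨y, hy⟩ : (P : Subgroup X)) : (⟨y, hy⟩ : (P : Subgroup X)) ∈ (PGL.diag e).subgroupOf P)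
      have h8 : 8 ∣ Nat.card (P : Subgroup X) := by
        have h4E : 4 ∣ Nat.card E := by
          by_contra h
          haveI := hs
          exact not_isSolvable_of_simple hna (isSolvable_of_not_four_dvd h)
        have h8X : 8 ∣ Nat.card X := by
          rw [← card_mul_index E, ← relIndex_mul_index (PGL.le_diag e), hrel]
          exact mul_dvd_mul h4E (dvd_mul_right 2 _)
        rw [← card_mul_index (P : Subgroup X)] at h8X
        exact ((((Nat.prime_two.coprime_iff_not_dvd).2 P.not_dvd_index).pow_left 3).dvd_of_dvd_mul_right h8X :)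
      obtain ⟨n, hn, ⟨eP⟩⟩ := sylowDihedral_of_not_solvable hD hns P
      have hn4 : 4 ≤ n := by
        rw [Nat.card_congr eP.toEquiv, DihedralGroup.nat_card] at h8
        have := Nat.le_of_dvd (by omega) h8
        omega
      have haut := Cfsg.Agent.S3116.result P.isPGroup' (Or.inl ⟨n, hn4, ⟨eP⟩⟩)
      have hF := Sylow.normalizer_sup_eq_top' P hPd
      have hx : x ∈ normalizer ((P : Subgroup X) : Set X) ⊔ PGL.diag e := hF ▸ mem_top x
      obtain ⟨y, hy, d, hd, rfl⟩ := mem_sup_of_normal_right.1 hx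
      refine mul_mem ?_ hd
      -- odd elements normalizing `P` centralize `j`
      obtain ⟨k, m, hm, hkm⟩ := Nat.exists_eq_two_pow_mul_odd (orderOf_pos y).ne'
      have hy1 : y ^ (2 ^ k) ∈ PGL.diag e := by
        refine hCd ?_
        rw [mem_centralizer_singleton_iff]
        let yN : normalizer ((P : Subgroup X) : Set X) := ⟨y ^ (2 ^ k), pow_mem hy _⟩
        have h1 : (P : Subgroup X).normalizerMonoidHom yN = 1 := by
          obtain ⟨l, hl⟩ := haut ((P : Subgroup X).normalizerMonoidHom yN)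
          refine orderOf_eq_one_iff.1 (Nat.eq_one_of_dvd_coprimes
            ((Nat.coprime_two_right.2 hm).pow_right l) ?_ (orderOf_dvd_of_pow_eq_one hl))
          refine orderOf_dvd_of_pow_eq_one ?_
          rw [← map_pow, show yN ^ m = 1 from Subtype.ext (by
            show (y ^ 2 ^ k) ^ m = 1
            rw [← pow_mul, ← hkm, pow_orderOf_eq_one]), map_one]
        have h2 := congrArg Subtype.val (DFunLike.congr_fun h1 ⟨j, hjP⟩)
        exact mul_inv_eq_iff_eq_mul.1 h2
      have hy2 : y ^ m ∈ PGL.diag e := by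
        rw [← QuotientGroup.eq_one_iff, ← orderOf_eq_one_iff]
        refine Nat.eq_one_of_dvd_coprimes (((Nat.prime_two.coprime_iff_not_dvd.2 hoddi).symm).pow_right k) ?_ ?_
        · rw [index_eq_card]; exact orderOf_dvd_natCard _
        · refine orderOf_dvd_of_pow_eq_one ?_
          rw [← QuotientGroup.mk_pow, ← pow_mul, mul_comm, ← hkm, pow_orderOf_eq_one]; rfl
      have hgcd : Nat.gcd (2 ^ k) m = 1 := (Nat.coprime_two_left.2 hm).pow_left k
      have := Nat.gcd_eq_gcd_ab (2 ^ k) m
      rw [hgcd, Nat.cast_one] at this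
      rw [← zpow_one y, this, zpow_add, _root_.zpow_mul, _root_.zpow_mul, zpow_natCast, zpow_natCast]
      exact mul_mem (zpow_mem hy1 _) (zpow_mem hy2 _)
  · -- `A₇` is impossible
    exfalso
    obtain ⟨e⟩ := hA7
    have htop := eq_top_of_alt_seven hD E hC e
    let f : alternatingGroup (Fin 7) ≃* X := e.symm.trans ((MulEquiv.subgroupCongr htop).trans topEquiv)
    set a : alternatingGroup (Fin 7) := ⟨Equiv.swap 0 1 * Equiv.swap 2 3, Equiv.Perm.mem_alternatingGroup.2 (by decide)⟩
    set b : alternatingGroup (Fin 7) := ⟨Equiv.swap 0 2 * Equiv.swap 1 3, Equiv.Perm.mem_alternatingGroup.2 (by decide)⟩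
    set c : alternatingGroup (Fin 7) := ⟨Equiv.swap 4 5 * Equiv.swap 5 6, Equiv.Perm.mem_alternatingGroup.2 (by decide)⟩
    obtain ⟨g, hg⟩ := isConj_iff.1 (alt_seven_conj (x := a) (y := f.symm j)
      (orderOf_eq_prime (by decide) (by decide)) (by rw [f.symm.orderOf_eq, hj]))
    let φ : alternatingGroup (Fin 7) →* X := f.toMonoidHom.comp (MulAut.conj g).toMonoidHom
    have hφ : Function.Injective φ := f.injective.comp (MulAut.conj g).injective
    have hja : φ a = j := by
      show f (g * a * g⁻¹) = j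
      rw [hg, f.apply_symm_apply]
    have hmem : ∀ z, z * a = a * z → φ z ∈ centralizer ({j} : Set X) := fun z hz => by
      rw [mem_centralizer_singleton_iff, ← hja, ← map_mul, ← map_mul, hz]
    have hbB : φ b ∉ B := fun h => by
      rcases hB _ h (by rw [← map_mul, show b * b = 1 by decide, map_one]) with h1 | h1
      · exact absurd (hφ (h1.trans (map_one φ).symm)) (by decide)
      · exact absurd (hφ (h1.trans hja.symm)) (by decide)
    have hcB : φ c ∈ B := by
      by_contra h
      have h1 := (hout _ (hmem c (by decide)) h).1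
      rw [← map_mul] at h1
      exact absurd (hφ (h1.trans (map_one φ).symm)) (by decide)
    have h2 := (hout _ (hmem b (by decide)) hbB).2 _ hcB
    rw [← map_inv, ← map_mul, ← map_mul, ← map_inv] at h2
    exact absurd (hφ h2) (by decide)

/-- The order of `PSL₂(q)`, `q` odd. -/
theorem card_psl_two {F : Type} [Field F] [Fintype F] (hodd : Odd (Fintype.card F)) :
    2 * Nat.card (Matrix.ProjectiveSpecialLinearGroup (Fin 2) F) + Fintype.card F = Fintype.card F ^ 3 := by
  set q := Fintype.card F with hq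
  obtain ⟨m, hm⟩ := hodd
  have h1 := Cfsg.Lib.Linear.card_SL_mul (F := F) 2 (by norm_num)
  rw [Cfsg.Lib.Linear.card_SL_eq_gcd_mul_card_PSL, Fintype.card_fin, ← hq, hm,
    show 2 * m + 1 - 1 = 2 * m by omega, Nat.gcd_mul_right_right, Fin.prod_univ_two] at h1
  simp only [Fin.val_zero, pow_zero, Fin.val_one, pow_one] at h1
  rcases Nat.eq_zero_or_pos m with rfl | hm0
  · exact absurd Fintype.one_lt_card (by rw [← hq, hm]; norm_num)
  generalize Nat.card (Matrix.ProjectiveSpecialLinearGroup (Fin 2) F) = P at h1 ⊢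
  have e1 : (2 * m + 1) ^ 2 - 1 = 2 * m * (2 * m + 2) := by
    rw [show (2 * m + 1) ^ 2 = 2 * m * (2 * m + 2) + 1 by ring]; omega
  have e2 : (2 * m + 1) ^ 2 - (2 * m + 1) = 2 * m * (2 * m + 1) := by
    rw [show (2 * m + 1) ^ 2 = 2 * m * (2 * m + 1) + (2 * m + 1) by ring]; omega
  rw [e1, e2, mul_assoc (2 * m) (2 * m + 2)] at h1
  have h2 := Nat.eq_of_mul_eq_mul_left (show 0 < 2 * m by omega) h1
  rw [hm, h2]
  ring

/-- No almost simple group with dihedral Sylow 2-subgroups has an outer involution whose centralizer has order at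
most four. -/
theorem false_of_outer_small {X : Type u} [Group X] [Finite X] (hD : TwoCycDih X) (E : Subgroup X) [E.Normal]
    (hC : centralizer (E : Set X) = ⊥) (hgw : IsGW E) {j : X} (hj : orderOf j = 2) (hjE : j ∉ E)
    (hC4 : Nat.card (centralizer ({j} : Set X)) ≤ 4) : False := by
  rcases hgw with ⟨F, i, i', hodd, h3, ⟨e⟩⟩ | hA7
  · have hjj : j * j = 1 := Cfsg.Lib.Invol.inv_mul_self hj
    have h1 := PGL.card_conjugates_le e hC hjj (PGL.involution_mem_diag e hodd hC hD hjj)
      fun h => by rw [h, orderOf_one] at hj; omega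
    have hi : 2 ≤ E.index := by
      have h0 : E.index ≠ 0 := index_ne_zero_of_finite
      have h1 : E.index ≠ 1 := fun h => hjE (index_eq_one.1 h ▸ mem_top j)
      omega
    have h2 : 2 * Nat.card E ≤ 4 * (Fintype.card F ^ 2 + Fintype.card F - 1) := by
      calc 2 * Nat.card E ≤ Nat.card E * E.index := by rw [mul_comm]; exact Nat.mul_le_mul_left _ hi
        _ = Nat.card (centralizer ({j} : Set X)) * (centralizer ({j} : Set X)).index := by
          rw [card_mul_index, card_mul_index]
        _ ≤ _ := Nat.mul_le_mul hC4 h1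
    rw [Nat.card_congr e.toEquiv] at h2
    have h5 := card_psl_two (F := F) hodd
    obtain ⟨m, hm⟩ := hodd
    have hq : 5 ≤ Fintype.card F := by omega
    have h6 : 5 * Fintype.card F ^ 2 ≤ Fintype.card F ^ 3 := by
      rw [pow_succ' (Fintype.card F) 2]; exact Nat.mul_le_mul_right _ hq
    have h7 : 5 * Fintype.card F ≤ Fintype.card F ^ 2 := by
      rw [pow_two]; exact Nat.mul_le_mul_right _ hq
    omega
  · obtain ⟨e⟩ := hA7
    exact hjE (eq_top_of_alt_seven hD E hC e ▸ mem_top j)

namespace DCtx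

variable {G : Type u} [Group G] [Finite G] {H B : Subgroup G}

/-- The conclusion of the dihedral case. -/
def _root_.Cfsg.Lib.GW.DGroup.ConclOdd (G : Type u) [Group G] : Prop :=
  ∃ (N : Subgroup G) (_ : N.Normal), Odd (Nat.card ↥N) ∧
    ∃ (F : Type) (_ : Field F) (_ : Fintype F), 3 < Fintype.card F ∧
      (Nonempty (G ⧸ N ≃* Matrix.ProjectiveSpecialLinearGroup (Fin 2) F) ∨
        Nonempty (G ⧸ N ≃* Matrix.ProjGenLinGroup (Fin 2) F))

theorem not_solvable_quotient (hns : ¬ Group.IsSolvable G) (N : Subgroup G) [N.Normal] (hN : Group.IsSolvable N) :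
    ¬ Group.IsSolvable (G ⧸ N) := fun hs => hns
  (Group.isSolvable_of_ker_le_range N.subtype (QuotientGroup.mk' N) (by rw [QuotientGroup.ker_mk', range_subtype]))

/-- A nonsolvable group with trivial core, cyclic or dihedral 2-subgroups and known sections has a component. -/
theorem component_of (h : SimpleGW.{u}) (hD : TwoCycDih G) (hO : Cfsg.oddCore G = ⊥) (hns : ¬ Group.IsSolvable G) :
    ∃ E : Subgroup G, E.Normal ∧ IsSimpleGroup E ∧ ¬ IsMulCommutative E ∧ IsGW E ∧
      centralizer (E : Set G) = ⊥ ∧ (∀ M : Subgroup G, M.Normal → M ≠ ⊥ → E ≤ M) ∧ ¬ 4 ∣ E.index := by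
  haveI : Fact (Nat.Prime 2) := ⟨Nat.prime_two⟩
  rcases shape hD (gwSections_of_simpleGW h hD) hO with h2 | ⟨V, hV, hK, -, hc⟩ | ⟨E, hE, hs, hna, hgw, -, hC, hle, h4⟩
  · haveI : Group.IsNilpotent G := IsPGroup.isNilpotent (p := 2) h2
    exact (hns inferInstance).elim
  · haveI := hV
    haveI := hK
    have h4 : ¬ 4 ∣ Nat.card (G ⧸ V) := by
      have hcard := card_mul_index V
      rw [hK.card_four] at hcard
      rw [← index_eq_card]
      omega
    haveI := isSolvable_of_not_four_dvd h4
    haveI : IsMulCommutative V := ⟨⟨fun a b => mul_comm_of_exponent_two hK.exponent_two a b⟩⟩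
    exact absurd (inferInstance : Group.IsSolvable (G ⧸ V))
      (not_solvable_quotient hns V (Cfsg.Lib.Core.isSolvable_of_isMulCommutative _))
  · exact ⟨E, hE, hs, hna, hgw, hC, hle, h4⟩

/-- The dihedral Sylow case. -/
theorem concl_of_twoCycDih (h : SimpleGW.{u}) (c : DCtx H B) (hD : TwoCycDih G) (hns : ¬ Group.IsSolvable G)
    {j : G} (hjB : j ∈ B) (hj : orderOf j = 2) (huniq : ∀ b ∈ B, b * b = 1 → b = 1 ∨ b = j) :
    ConclOdd G := by
  set O := Cfsg.oddCore G
  have hOodd : Odd (Nat.card O) := ZStar.odd_card_oddCore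
  have hOsol : Group.IsSolvable O := isSolvable_of_not_four_dvd fun h4 =>
    Nat.not_even_iff_odd.2 hOodd (even_iff_two_dvd.2 ((show 2 ∣ 4 by norm_num).trans h4))
  obtain ⟨E, hE, hs, hna, hgw, hC, -, h4⟩ := component_of h (hD.quotient O)
    (Cfsg.Lib.Core.pPrimeCore_quotient_eq_bot (p := 2)) (not_solvable_quotient hns O hOsol)
  haveI := hE
  set π := QuotientGroup.mk' O
  have hO1 : ∀ x : G, x * x = 1 → π x = 1 → x = 1 := fun x hx hπ => orderOf_eq_one_iff.1
    (Nat.eq_one_of_dvd_coprimes (Nat.coprime_two_right.2 hOodd)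
      (by rw [← Subgroup.orderOf_mk x ((QuotientGroup.eq_one_iff x).1 hπ)]; exact orderOf_dvd_natCard _)
      (orderOf_dvd_of_pow_eq_one (by rw [pow_two, hx])))
  have hjj : j * j = 1 := Cfsg.Lib.Invol.inv_mul_self hj
  have hj' : orderOf (π j) = 2 := orderOf_eq_prime (by rw [pow_two, ← map_mul, hjj, map_one])
    fun hπ => by rw [hO1 j hjj hπ, orderOf_one] at hj; omega
  have hcent : centralizer ({π j} : Set (G ⧸ O)) = H.map π := by
    rw [centralizer_lift O hOodd hj, c.cent j hjB hj]
  refine (fun ⟨F, i, i', h3, hiso⟩ => ⟨O, inferInstance, hOodd, F, i, i', h3, hiso⟩)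
    (psl_or_pgl_of_component (hD.quotient O) E hC hs hna hgw h4
      (not_solvable_quotient hns O hOsol) hj' (B.map π) (by rw [hcent]; exact map_mono c.le) ?_ ?_ ?_)
  · rintro _ ⟨b, hb, rfl⟩ hb2
    have hb2' : b * b ∈ O := (QuotientGroup.eq_one_iff _).1 (by
      rw [← map_mul] at hb2; exact hb2)
    obtain ⟨m, hm⟩ : Odd (orderOf (b * b)) := hOodd.of_dvd_nat (by
      rw [← Subgroup.orderOf_mk _ hb2']; exact orderOf_dvd_natCard _)
    have hpow : π (b ^ (2 * m + 1)) = π b := by
      rw [map_pow, pow_succ, _root_.pow_mul, pow_two, hb2, one_pow, one_mul]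
    have hsq : b ^ (2 * m + 1) * b ^ (2 * m + 1) = 1 := by
      rw [← (Commute.refl b).mul_pow, ← hm, pow_orderOf_eq_one]
    rcases huniq _ (pow_mem hb _) hsq with h1 | h1
    · left; rw [← hpow, h1, map_one]
    · right; rw [← hpow, h1]
  · rw [hcent]
    rintro _ ⟨x, hx, rfl⟩ hxB
    have hxB' : x ∉ B := fun hb => hxB ⟨x, hb, rfl⟩
    refine ⟨by rw [← map_mul, c.sq x hx hxB', map_one], ?_⟩
    rintro _ ⟨b, hb, rfl⟩
    rw [← map_inv, ← map_mul, ← map_mul, ← map_inv, c.inv x hx hxB' b hb]
  · obtain ⟨h0, hh0, hh0B⟩ := c.exists_outside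
    refine ⟨π h0, by rw [hcent]; exact mem_map_of_mem _ hh0, ?_⟩
    rintro ⟨b, hb, hbe⟩
    have hnot : b⁻¹ * h0 ∉ B := fun h' => hh0B ((mul_mem_cancel_left (inv_mem hb)).1 h')
    have h1 := hO1 _ (c.sq _ (mul_mem (inv_mem (c.le hb)) hh0) hnot) (by rw [map_mul, map_inv, hbe, inv_mul_cancel])
    exact hnot (h1 ▸ one_mem B)

/-- The semidihedral Sylow case is impossible. -/
theorem false_of_quasiDihedral (h : SimpleGW.{u}) (c : DCtx H B) (hns : ¬ Group.IsSolvable G)
    {j : G} (hjB : j ∈ B) (hj : orderOf j = 2) (huniq : ∀ b ∈ B, b * b = 1 → b = 1 ∨ b = j)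
    (P : Sylow 2 G) (hjP : j ∈ (P : Subgroup G)) (hQ : Cfsg.IsQuasiDihedral (P : Subgroup G))
    {z : G} (hzP : z ∈ (P : Subgroup G)) (hz : orderOf z = 2) (hzc : ∀ y ∈ (P : Subgroup G), y * z = z * y)
    (hzH : z ∈ H) (hzB : z ∉ B) (hP0 : ∀ y ∈ (P : Subgroup G), y ∈ H → y = 1 ∨ y = j ∨ y = z ∨ y = j * z)
    (S : Sylow 2 H) (hS : Nat.card S ≤ 4) : False := by
  classical
  haveI : Fact (Nat.Prime 2) := ⟨Nat.prime_two⟩
  have hQ' := Cfsg.Agent.S1189.result hQ
  obtain ⟨n, hn, hcard, x, y, hx, hy, hrel⟩ := hQ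
  have hzz : z * z = 1 := Cfsg.Lib.Invol.inv_mul_self hz
  have hjj : j * j = 1 := Cfsg.Lib.Invol.inv_mul_self hj
  have hP16 : 16 ≤ Nat.card (P : Subgroup G) := by
    rw [hcard]; exact (show 2 ^ 4 = 16 by norm_num) ▸ Nat.pow_le_pow_right two_pos (by omega)
  -- `j` is not conjugate to `z`
  have hjz : ∀ g : G, g * z * g⁻¹ ≠ j := by
    intro g hg
    have hsub : (P : Subgroup G).map (MulAut.conj g).toMonoidHom ≤ H := by
      rintro _ ⟨w, hw, rfl⟩
      rw [← c.cent j hjB hj, ← hg]
      exact mem_centralizer_conj.2 (mem_centralizer_singleton_iff.2 (hzc w hw))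
    obtain ⟨R, hR⟩ := ((P.isPGroup'.map (MulAut.conj g).toMonoidHom).comap_subtype (K := H)).exists_le_sylow
    have h1 := card_le_of_le hR
    have h2 : Nat.card ((P : Subgroup G).map (MulAut.conj g).toMonoidHom) ≤ Nat.card R :=
      (Nat.card_congr (subgroupOfEquivOfLe hsub).toEquiv).symm.le.trans h1
    rw [card_map_of_injective (MulAut.conj g).injective, Nat.card_congr (R.equiv S).toEquiv] at h2
    omega
  have hzj : z ≠ j := fun e => hzB (e ▸ hjB)
  -- the cyclic subgroup of index two
  set R := zpowers x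
  have hRi : R.index = 2 := by
    have h1 := card_mul_index R
    rw [Nat.card_zpowers, hx, hcard, pow_succ] at h1
    exact Nat.eq_of_mul_eq_mul_left (Nat.two_pow_pos n) h1
  haveI := normal_of_index_eq_two hRi
  set w := x ^ 2 ^ (n - 1)
  have hw : orderOf w = 2 := by
    rw [orderOf_pow_of_dvd (pow_ne_zero _ two_ne_zero) (hx ▸ pow_dvd_pow 2 (Nat.sub_le n 1)), hx,
      Nat.pow_div (Nat.sub_le n 1) two_pos, show n - (n - 1) = 1 by omega, pow_one]
  have hwR : w ∈ R := pow_mem (mem_zpowers x) _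
  have hwc : ∀ v : (P : Subgroup G), v * w = w * v := fun v => mul_inv_eq_iff_eq_mul.1
    (Cfsg.Lib.Invol.eq_of_pow_two_group_cyclic (inferInstance : IsCyclic R)
      (Normal.conj_mem inferInstance w hwR v) hwR (by rw [← MulAut.conj_apply, (MulAut.conj v).orderOf_eq, hw]) hw)
  have hPH : ¬ (P : Subgroup G) ≤ H := by
    intro hle
    have hsub : ((P : Subgroup G) : Set G) ⊆ {1, j, z, j * z} := fun y hy => hP0 y hy (hle hy)
    have h4 : Set.ncard ({1, j, z, j * z} : Set G) ≤ 4 := by
      refine (Set.ncard_insert_le _ _).trans (Nat.succ_le_succ ?_)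
      refine (Set.ncard_insert_le _ _).trans (Nat.succ_le_succ ?_)
      exact (Set.ncard_insert_le _ _).trans (by rw [Set.ncard_singleton])
    have h5 := Set.ncard_le_ncard hsub (Set.toFinite _)
    rw [← Nat.card_coe_set_eq] at h5
    exact absurd (hP16.trans (h5.trans h4)) (by norm_num)
  have hjc : ¬ ∀ v ∈ (P : Subgroup G), v * j = j * v := fun hc => hPH fun v hv => by
    rw [← c.cent j hjB hj]; exact mem_centralizer_singleton_iff.2 (hc v hv)
  -- the central involution is `z`
  have hwz : (w : G) = z := by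
    have hwj : (w : G) * j = j * (w : G) := (congrArg Subtype.val (hwc ⟨j, hjP⟩)).symm
    rcases hP0 _ w.2 (c.cent j hjB hj ▸ mem_centralizer_singleton_iff.2 hwj) with h1 | h1 | h1 | h1
    · rw [← Subgroup.orderOf_coe, h1, orderOf_one] at hw; omega
    · exact absurd (fun v hv => h1 ▸ congrArg Subtype.val (hwc ⟨v, hv⟩)) hjc
    · exact h1
    · refine absurd (fun v hv => ?_) hjc
      have h2 : v * (w : G) = (w : G) * v := congrArg Subtype.val (hwc ⟨v, hv⟩)
      rw [h1, ← mul_assoc, mul_assoc j z v, ← hzc v hv, ← mul_assoc] at h2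
      exact mul_right_cancel h2
  have hjR : (⟨j, hjP⟩ : (P : Subgroup G)) ∉ R := fun hm => hzj (by
    rw [← hwz]
    exact congrArg Subtype.val (Cfsg.Lib.Invol.eq_of_pow_two_group_cyclic (inferInstance : IsCyclic R) hwR hm hw
      (by rw [Subgroup.orderOf_mk, hj])))
  have hsqout : ∀ v : (P : Subgroup G), v ∉ R → (v * v : (P : Subgroup G)) ∈ zpowers w := by
    intro v hv
    have hyR : y ∉ R := fun hm => by
      have h1 : y = w := Cfsg.Lib.Invol.eq_of_pow_two_group_cyclic (inferInstance : IsCyclic R) hm hwR hy hw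
      rw [h1, ← hwc x, mul_inv_cancel_right] at hrel
      have h2 : x ^ (2 ^ (n - 1) - 1) * x⁻¹ = 1 := by
        rw [mul_inv_eq_one]; exact hrel.symm
      have h3 : x ^ (2 ^ (n - 1) - 2) = 1 := by
        rw [show 2 ^ (n - 1) - 1 = 2 ^ (n - 1) - 2 + 1 by
          have : 2 ^ 1 ≤ 2 ^ (n - 1) := Nat.pow_le_pow_right two_pos (by omega)
          omega, pow_succ, mul_inv_cancel_right] at h2
        exact h2
      have h4 := Nat.le_of_dvd (by
        have : 2 ^ 2 ≤ 2 ^ (n - 1) := Nat.pow_le_pow_right two_pos (by omega)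
        omega) (hx ▸ orderOf_dvd_of_pow_eq_one h3)
      have h5 : 2 ^ (n - 1) ≤ 2 ^ n := Nat.pow_le_pow_right two_pos (by omega)
      have := Nat.two_pow_pos (n - 1)
      omega
    obtain ⟨i, hi⟩ : y * v ∈ R := (mul_mem_iff_of_index_two hRi).2 (iff_of_false hyR hv)
    have hyy : y * y = 1 := Cfsg.Lib.Invol.inv_mul_self hy
    have hv' : v = y * x ^ i := by
      change x ^ i = y * v at hi
      rw [hi, ← mul_assoc, hyy, one_mul]
    refine ⟨i, ?_⟩
    show w ^ i = v * v
    rw [hv', show y * x ^ i * (y * x ^ i) = (y * x * y⁻¹) ^ i * x ^ i by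
      rw [conj_zpow, inv_eq_of_mul_eq_one_right hyy]; group,
      hrel, ← (((Commute.refl x).pow_left (2 ^ (n - 1) - 1)).mul_zpow i), ← pow_succ,
      Nat.sub_add_cancel (Nat.one_le_two_pow)]
  -- a normal subgroup of index two avoiding `j`
  have hone : ∀ v : (P : Subgroup G), orderOf v = 2 → v = w ∨ IsConj ⟨j, hjP⟩ v := by
    intro v hv
    by_contra hne
    push Not at hne
    set T := {C : ConjClasses (P : Subgroup G) // ∃ t, orderOf t = 2 ∧ ConjClasses.mk t = C}
    let five : Fin 3 → T := ![⟨_, w, hw, rfl⟩, ⟨_, ⟨j, hjP⟩, by rw [Subgroup.orderOf_mk, hj], rfl⟩, ⟨_, v, hv, rfl⟩]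
    have hcen : ∀ a, IsConj w a → a = w := fun a ha => by
      obtain ⟨g, hg⟩ := isConj_iff.1 ha
      rw [← hg, hwc g, mul_inv_cancel_right]
    have h1 : ¬ IsConj w ⟨j, hjP⟩ := fun hc => hzj
      (hwz.symm.trans (congrArg Subtype.val (hcen _ hc).symm))
    have h2 : ¬ IsConj w v := fun hc => hne.1 (hcen _ hc)
    have hinj : Function.Injective five := by
      intro a b hab
      have hab := congrArg Subtype.val hab
      fin_cases a <;> fin_cases b <;>
        simp [five, -isConj_iff, ConjClasses.mk_eq_mk_iff_isConj] at hab ⊢ <;>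
        first | exact h1 hab | exact h1 hab.symm | exact h2 hab | exact h2 hab.symm | exact hne.2 hab | exact hne.2 hab.symm
    have h3 := Nat.card_le_card_of_injective five hinj
    rw [hQ'.1, Nat.card_fin] at h3
    omega
  obtain ⟨M, hM, hMi, hjM⟩ : ∃ M : Subgroup G, M.Normal ∧ M.index = 2 ∧ j ∉ M := by
    refine (Cfsg.Agent.S0111.result P (R.map (P : Subgroup G).subtype) (map_subtype_le _) ?_ j hj hjP ?_).resolve_right ?_
    · show ((R.map (P : Subgroup G).subtype).subgroupOf (P : Subgroup G)).index = 2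
      rw [subgroupOf, comap_map_eq_self_of_injective (subtype_injective _), hRi]
    · rintro ⟨v, hv, hvj⟩
      exact hjR ((Subtype.ext hvj : v = ⟨j, hjP⟩) ▸ hv)
    · rintro ⟨g, v, hv, hvj⟩
      change (v : G) = g * j * g⁻¹ at hvj
      have hv2 : orderOf v = 2 := by
        rw [← Subgroup.orderOf_coe, hvj, ← MulAut.conj_apply, (MulAut.conj g).orderOf_eq, hj]
      have hvw := Cfsg.Lib.Invol.eq_of_pow_two_group_cyclic (inferInstance : IsCyclic R) hv hwR hv2 hw
      refine hjz g⁻¹ ?_
      rw [← hwz, ← hvw, hvj]; group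
  haveI := hM
  -- the involutions of `P ⊓ M`
  have hPM : ∀ v ∈ (P : Subgroup G), v ∈ M → orderOf v = 2 → v = z := by
    intro v hv hvM hv2
    rcases hone ⟨v, hv⟩ (by rw [Subgroup.orderOf_mk, hv2]) with h1 | h1
    · exact (congrArg Subtype.val h1).trans hwz
    · obtain ⟨g, hg⟩ := isConj_iff.1 h1.symm
      refine absurd ?_ hjM
      rw [show j = (g : G) * v * (g : G)⁻¹ from (congrArg Subtype.val hg).symm]
      exact hM.conj_mem v hvM g
  have hzM : z ∈ M := by
    have h1 : (M.subgroupOf (P : Subgroup G)).index ≤ 2 := by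
      show M.relIndex (P : Subgroup G) ≤ 2
      exact (relIndex_le_of_le_right le_top (by rw [relIndex_top_right, hMi]; norm_num)).trans
        (by rw [relIndex_top_right, hMi])
    have h2 : 2 ∣ Nat.card (M.subgroupOf (P : Subgroup G)) := by
      obtain ⟨k, hk⟩ := (P.isPGroup'.to_subgroup (M.subgroupOf (P : Subgroup G))).exists_card_eq
      rcases k with _ | k
      · have := card_mul_index (M.subgroupOf (P : Subgroup G))
        rw [hk, pow_zero, one_mul] at this
        omega
      · rw [hk]; exact dvd_pow_self 2 (Nat.succ_ne_zero k)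
    obtain ⟨v, hv⟩ := exists_prime_orderOf_dvd_card' 2 h2
    have h3 : orderOf ((v : (P : Subgroup G)) : G) = 2 := by rw [Subgroup.orderOf_coe, Subgroup.orderOf_coe, hv]
    rw [← hPM _ v.1.2 v.2 h3]
    exact v.2
  have hiso : Cfsg.IsIsolatedInvolution z := Cfsg.Lib.Invol.isolated_of_sylow P hz fun g hg =>
    hPM _ hg (hM.conj_mem z hzM g) (by rw [← MulAut.conj_apply, (MulAut.conj g).orderOf_eq, hz])
  -- modulo the core
  set O := Cfsg.oddCore G
  have hOodd : Odd (Nat.card O) := ZStar.odd_card_oddCore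
  set π := QuotientGroup.mk' O
  have hπs : Function.Surjective π := QuotientGroup.mk'_surjective O
  have hO1 : ∀ x : G, x * x = 1 → π x = 1 → x = 1 := fun x hx hπ => orderOf_eq_one_iff.1
    (Nat.eq_one_of_dvd_coprimes (Nat.coprime_two_right.2 hOodd)
      (by rw [← Subgroup.orderOf_mk x ((QuotientGroup.eq_one_iff x).1 hπ)]; exact orderOf_dvd_natCard _)
      (orderOf_dvd_of_pow_eq_one (by rw [pow_two, hx])))
  have hord : ∀ v : G, orderOf v = 2 → orderOf (π v) = 2 := fun v hv =>
    orderOf_eq_prime (by rw [pow_two, ← map_mul, Cfsg.Lib.Invol.inv_mul_self hv, map_one])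
      fun hπ => by rw [hO1 v (Cfsg.Lib.Invol.inv_mul_self hv) hπ, orderOf_one] at hv; omega
  have hzC : ∀ k : G ⧸ O, k * π z = π z * k := by
    intro k
    obtain ⟨g, rfl⟩ := hπs k
    have h1 : π (z * g * z⁻¹ * g⁻¹) = 1 :=
      (QuotientGroup.eq_one_iff _).2 (Cfsg.Lib.ZStar.zStarHolds G z hiso g)
    rw [map_mul, map_mul, map_mul, map_inv, map_inv, mul_inv_eq_one, mul_inv_eq_iff_eq_mul] at h1
    exact h1.symm
  have hC4 : Nat.card (centralizer ({π j} : Set (G ⧸ O))) ≤ 4 := by
    rw [centralizer_lift O hOodd hj, c.cent j hjB hj]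
    have hBsq : ∀ b ∈ B, π b = 1 ∨ π b = π j := by
      intro b hb
      have hb2 : π (b * b) = 1 := by
        have h1 := congrArg π (c.inv z hzH hzB b hb)
        rw [map_mul, map_mul, map_inv, ← hzC, mul_inv_cancel_right, map_inv, ← mul_eq_one_iff_eq_inv] at h1
        rw [map_mul, h1]
      obtain ⟨m, hm⟩ : Odd (orderOf (b * b)) := hOodd.of_dvd_nat (by
        rw [← Subgroup.orderOf_mk _ ((QuotientGroup.eq_one_iff (b * b)).1 hb2)]; exact orderOf_dvd_natCard _)
      have hpow : π (b ^ (2 * m + 1)) = π b := by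
        rw [map_pow, pow_succ, _root_.pow_mul, pow_two, ← map_mul, hb2, one_pow, one_mul]
      have hsq : b ^ (2 * m + 1) * b ^ (2 * m + 1) = 1 := by
        rw [← (Commute.refl b).mul_pow, ← hm, pow_orderOf_eq_one]
      rcases huniq _ (pow_mem hb _) hsq with h1 | h1
      · left; rw [← hpow, h1, map_one]
      · right; rw [← hpow, h1]
    have hsub : ((H.map π : Subgroup (G ⧸ O)) : Set (G ⧸ O)) ⊆ {1, π j, π z, π (z * j)} := by
      rintro _ ⟨v, hv, rfl⟩
      by_cases hvB : v ∈ B
      · rcases hBsq v hvB with h1 | h1 <;> simp [h1]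
      · have hzv : z * v ∈ B := by
          have := (mul_mem_iff_of_index_two (H := B.subgroupOf H) c.index
            (a := ⟨z, hzH⟩) (b := ⟨v, hv⟩)).2 (iff_of_false hzB hvB)
          exact this
        have hv' : π v = π z * π (z * v) := by rw [← map_mul, ← mul_assoc, hzz, one_mul]
        rcases hBsq _ hzv with h1 | h1
        · rw [hv', h1, mul_one]; simp
        · rw [hv', h1, ← map_mul]; simp
    have h4 : Set.ncard ({1, π j, π z, π (z * j)} : Set (G ⧸ O)) ≤ 4 := by
      refine (Set.ncard_insert_le _ _).trans (Nat.succ_le_succ ?_)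
      refine (Set.ncard_insert_le _ _).trans (Nat.succ_le_succ ?_)
      exact (Set.ncard_insert_le _ _).trans (by rw [Set.ncard_singleton])
    have h5 := Set.ncard_le_ncard hsub (Set.toFinite _)
    rw [← Nat.card_coe_set_eq] at h5
    exact h5.trans h4
  -- modulo `z`
  set Z := zpowers (π z)
  have hZc : ∀ a ∈ Z, ∀ k : G ⧸ O, k * a = a * k := by
    rintro _ ⟨i, rfl⟩ k
    exact ((show Commute k (π z) from hzC k).zpow_right i).eq
  haveI hZn : Z.Normal := ⟨fun a ha k => by rwa [hZc a ha k, mul_inv_cancel_right]⟩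
  have hZcard : Nat.card Z = 2 := by rw [Nat.card_zpowers, hord z hz]
  set ρ := QuotientGroup.mk' Z
  have hρs : Function.Surjective ρ := QuotientGroup.mk'_surjective Z
  have hM1 : π.ker ≤ M := by
    rw [QuotientGroup.ker_mk']
    intro v hv
    rw [← QuotientGroup.eq_one_iff, ← orderOf_eq_one_iff]
    refine Nat.eq_one_of_dvd_coprimes 
      (Nat.coprime_two_right.2 (ZStar.odd_orderOf_oddCore hv)) (orderOf_map_dvd (QuotientGroup.mk' M) v) ?_
    exact (_root_.orderOf_dvd_natCard _).trans (by rw [← index_eq_card, hMi])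
  set M1 := M.map π
  haveI : M1.Normal := hM.map π hπs
  have hM1i : M1.index = 2 := (index_map_eq _ hπs hM1).trans hMi
  have hjM1 : π j ∉ M1 := fun hm => hjM (by
    rw [← comap_map_eq_self hM1]; exact hm)
  have hM2 : ρ.ker ≤ M1 := by
    rw [QuotientGroup.ker_mk', zpowers_le]; exact mem_map_of_mem _ hzM
  set M2 := M1.map ρ
  haveI : M2.Normal := Normal.map inferInstance ρ hρs
  have hM2i : M2.index = 2 := (index_map_eq _ hρs hM2).trans hM1i
  have hjM2 : ρ (π j) ∉ M2 := fun hm => hjM1 (by rw [← comap_map_eq_self hM2]; exact hm)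
  have hj2 : orderOf (ρ (π j)) = 2 := orderOf_eq_prime
    (by rw [pow_two, ← map_mul, ← map_mul, hjj, map_one, map_one]) fun e => hjM2 (by rw [e]; exact one_mem _)
  have hC' : Nat.card (centralizer ({ρ (π j)} : Set ((G ⧸ O) ⧸ Z))) ≤ 4 := by
    set C' := (centralizer ({ρ (π j)} : Set ((G ⧸ O) ⧸ Z))).comap ρ
    have hjj' : π j * π j = 1 := by rw [← map_mul, hjj, map_one]
    have hmem : ∀ k : C', (k : G ⧸ O) * π j * (k : G ⧸ O)⁻¹ * π j ∈ Z := fun k => by
      rw [← QuotientGroup.eq_one_iff, ← QuotientGroup.mk'_apply]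
      show ρ _ = 1
      rw [map_mul, map_mul, map_mul, map_inv, mem_centralizer_singleton_iff.1 k.2, mul_inv_cancel_right,
        ← map_mul, hjj', map_one]
    let φ : C' →* Z :=
      { toFun := fun k => ⟨_, hmem k⟩
        map_one' := Subtype.ext (by simp [hjj'])
        map_mul' := fun a b => Subtype.ext (by
          show _ = ((a : G ⧸ O) * π j * (a : G ⧸ O)⁻¹ * π j) * ((b : G ⧸ O) * π j * (b : G ⧸ O)⁻¹ * π j)
          have h1 : (b : G ⧸ O) * π j * (b : G ⧸ O)⁻¹ =
              ((b : G ⧸ O) * π j * (b : G ⧸ O)⁻¹ * π j) * π j := by simp only [mul_assoc, hjj', mul_one]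
          generalize hc : (b : G ⧸ O) * π j * (b : G ⧸ O)⁻¹ * π j = d at h1 ⊢
          have hd := hZc d (hc ▸ hmem b)
          calc ((a * b : C') : G ⧸ O) * π j * ((a * b : C') : G ⧸ O)⁻¹ * π j
              = (a : G ⧸ O) * ((b : G ⧸ O) * π j * (b : G ⧸ O)⁻¹) * (a : G ⧸ O)⁻¹ * π j := by
                simp only [Subgroup.coe_mul]; group
            _ = d * ((a : G ⧸ O) * π j * (a : G ⧸ O)⁻¹ * π j) := by
                rw [h1, ← mul_assoc (a : G ⧸ O) d, hd (a : G ⧸ O)]; group
            _ = _ := (hd _).symm) }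
    have h1 : Nat.card φ.ker ≤ 4 := by
      let f : φ.ker →* centralizer ({π j} : Set (G ⧸ O)) :=
        (C'.subtype.comp φ.ker.subtype).codRestrict _ fun k => by
          have h2 : ((k : C') : G ⧸ O) * π j * ((k : C') : G ⧸ O)⁻¹ * π j = 1 :=
            congrArg Subtype.val (MonoidHom.mem_ker.1 k.2)
          rw [← eq_inv_iff_mul_eq_one, inv_eq_of_mul_eq_one_right hjj', mul_inv_eq_iff_eq_mul] at h2
          exact mem_centralizer_singleton_iff.2 h2
      exact (Nat.card_le_card_of_injective f fun a b hab =>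
        Subtype.ext (Subtype.ext (congrArg Subtype.val hab :))).trans hC4
    have h2 : Nat.card C' ≤ 8 := by
      rw [← card_mul_index φ.ker, index_ker]
      exact Nat.mul_le_mul h1 ((card_le_card_group φ.range).trans_eq hZcard)
    rw [card_comap_eq ρ hρs, QuotientGroup.ker_mk', hZcard] at h2
    omega
  have hns1 : ¬ Group.IsSolvable (G ⧸ O) := not_solvable_quotient hns O (isSolvable_of_not_four_dvd fun h4 =>
    Nat.not_even_iff_odd.2 hOodd (even_iff_two_dvd.2 ((show 2 ∣ 4 by norm_num).trans h4)))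
  haveI : IsMulCommutative Z := ⟨⟨fun a b => Subtype.ext (hZc b b.2 a)⟩⟩
  have hns2 : ¬ Group.IsSolvable ((G ⧸ O) ⧸ Z) :=
    not_solvable_quotient hns1 Z (Cfsg.Lib.Core.isSolvable_of_isMulCommutative _)
  have hD : TwoCycDih ((G ⧸ O) ⧸ Z) := by
    set f := ρ.comp π
    refine TwoCycDih.of_sylow (P.mapSurjective (f := f) (hρs.comp hπs)) ?_
    refine ⟨R.map (f.subgroupMap (P : Subgroup G)), ?_, ?_, ?_⟩
    · exact isCyclic_of_surjective ((f.subgroupMap (P : Subgroup G)).subgroupMap R)
        (MonoidHom.subgroupMap_surjective _ R)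
    · exact (Nat.le_of_dvd (by omega) (index_map_dvd R (MonoidHom.subgroupMap_surjective f _))).trans hRi.le
    · intro v hv
      obtain ⟨u, rfl⟩ := MonoidHom.subgroupMap_surjective f (P : Subgroup G) v
      obtain ⟨i, hi⟩ := hsqout u fun hu => hv (mem_map_of_mem _ hu)
      refine Subtype.ext ?_
      show f (u : G) * f (u : G) = 1
      rw [← map_mul, ← Subgroup.coe_mul, ← hi, SubgroupClass.coe_zpow, map_zpow, hwz, show f z = 1 from (QuotientGroup.eq_one_iff _).2 (mem_zpowers _), one_zpow]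
  -- modulo the core again
  set O2 := Cfsg.oddCore ((G ⧸ O) ⧸ Z)
  have hO2 : Odd (Nat.card O2) := ZStar.odd_card_oddCore
  set σ := QuotientGroup.mk' O2
  have hσs : Function.Surjective σ := QuotientGroup.mk'_surjective O2
  have hM3 : σ.ker ≤ M2 := by
    rw [QuotientGroup.ker_mk']
    intro v hv
    rw [← QuotientGroup.eq_one_iff, ← orderOf_eq_one_iff]
    refine Nat.eq_one_of_dvd_coprimes (Nat.coprime_two_right.2 (ZStar.odd_orderOf_oddCore hv))
      (orderOf_map_dvd (QuotientGroup.mk' M2) v) ?_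
    exact (_root_.orderOf_dvd_natCard _).trans (by rw [← index_eq_card, hM2i])
  set M3 := M2.map σ
  haveI : M3.Normal := Normal.map inferInstance σ hσs
  have hM3i : M3.index = 2 := (index_map_eq _ hσs hM3).trans hM2i
  have hjM3 : σ (ρ (π j)) ∉ M3 := fun hm => hjM2 (by rw [← comap_map_eq_self hM3]; exact hm)
  have hns3 : ¬ Group.IsSolvable (((G ⧸ O) ⧸ Z) ⧸ O2) := not_solvable_quotient hns2 O2
    (isSolvable_of_not_four_dvd fun h4 =>
      Nat.not_even_iff_odd.2 hO2 (even_iff_two_dvd.2 ((show 2 ∣ 4 by norm_num).trans h4)))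
  obtain ⟨E, hE, -, -, hgw, hC, hle, -⟩ := component_of h (hD.quotient O2)
    (Cfsg.Lib.Core.pPrimeCore_quotient_eq_bot (p := 2)) hns3
  haveI := hE
  refine false_of_outer_small (hD.quotient O2) E hC hgw
    (orderOf_eq_prime (by rw [pow_two, ← map_mul, Cfsg.Lib.Invol.inv_mul_self hj2, map_one])
      fun e => hjM3 (by rw [e]; exact one_mem _)) (fun hm => hjM3 (hle M3 inferInstance (fun e => ?_) hm)) ?_
  · rw [e, index_bot] at hM3i
    exact hns3 (isSolvable_of_not_four_dvd (by rw [hM3i]; norm_num))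
  · rw [centralizer_lift O2 hO2 hj2]
    exact (Nat.le_of_dvd Nat.card_pos (card_map_dvd _ _)).trans hC'

/-- The case of one involution in `B`. -/
theorem main_cyclic (h : SimpleGW.{u}) (c : DCtx H B) (h4 : 4 ∣ Nat.card H) (h2 : Nat.card c.two < 4)
    (hns : ¬ Group.IsSolvable G) : ConclOdd G := by
  classical
  haveI : Fact (Nat.Prime 2) := ⟨Nat.prime_two⟩
  obtain ⟨j, hjB, hj⟩ : ∃ j ∈ B, orderOf j = 2 := by
    have h1 := card_mul_index (B.subgroupOf H)
    rw [show (B.subgroupOf H).index = 2 from c.index, Nat.card_congr (subgroupOfEquivOfLe c.le).toEquiv] at h1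
    obtain ⟨v, hv⟩ := exists_prime_orderOf_dvd_card' 2 (G := B) (by omega)
    exact ⟨v, v.2, by rw [Subgroup.orderOf_coe, hv]⟩
  have hjj : j * j = 1 := Cfsg.Lib.Invol.inv_mul_self hj
  have hj1 : j ≠ 1 := fun e => by rw [e, orderOf_one] at hj; omega
  have huniq : ∀ b ∈ B, b * b = 1 → b = 1 ∨ b = j := by
    intro b hb hb2
    by_contra hne
    push Not at hne
    have hp : IsPGroup 2 c.two := fun x => ⟨1, Subtype.ext (by rw [pow_one, pow_two]; exact x.2.2)⟩
    obtain ⟨k, hk⟩ := hp.exists_card_eq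
    let three : Fin 3 → c.two := ![1, ⟨j, hjB, hjj⟩, ⟨b, hb, hb2⟩]
    have hinj : Function.Injective three := by
      intro u v huv
      fin_cases u <;> fin_cases v <;>
        simp [three, Subtype.ext_iff, hne.1, hne.2, hne.1.symm, hne.2.symm, hj1, hj1.symm] at huv ⊢
    have h3 := Nat.card_le_card_of_injective three hinj
    rw [Nat.card_fin, hk] at h3
    rw [hk] at h2
    rcases k with _ | _ | k
    · norm_num at h3
    · norm_num at h3
    · have : 2 ^ 2 ≤ 2 ^ (k + 1 + 1) := Nat.pow_le_pow_right two_pos (by omega)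
      omega
  have hjH : j ∈ H := c.le hjB
  have hjS : IsPGroup 2 (zpowers (⟨j, hjH⟩ : H)) :=
    IsPGroup.of_card (n := 1) (by rw [Nat.card_zpowers, Subgroup.orderOf_mk, hj]; rfl)
  obtain ⟨S, hS⟩ := hjS.exists_le_sylow
  obtain ⟨P, hP⟩ := (S.isPGroup'.map H.subtype).exists_le_sylow
  have hPS : (P : Subgroup G) ⊓ H = (S : Subgroup H).map H.subtype := by
    refine le_antisymm ?_ (le_inf hP (map_subtype_le _))
    have hmax := S.is_maximal' (P.isPGroup'.comap_subtype (K := H)) fun x hx => hP (mem_map_of_mem _ hx)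
    intro x hx
    exact ⟨⟨x, hx.2⟩, hmax ▸ (show (⟨x, hx.2⟩ : H) ∈ (P : Subgroup G).comap H.subtype from hx.1), rfl⟩
  have hjP : j ∈ (P : Subgroup G) := hP ⟨⟨j, hjH⟩, hS (mem_zpowers _), rfl⟩
  have hmemH : ∀ v : G, v * j = j * v → v ∈ H := fun v hv => by
    rw [← c.cent j hjB hj]; exact mem_centralizer_singleton_iff.2 hv
  by_cases hle : (P : Subgroup G) ≤ H
  · refine concl_of_twoCycDih h c (TwoCycDih.of_sylow P ⟨B.subgroupOf P, ?_, ?_, fun v hv => ?_⟩) hns hjB hj huniq
    · haveI : IsMulCommutative (B.subgroupOf (P : Subgroup G)) :=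
        ⟨⟨fun a b => Subtype.ext (Subtype.ext (c.comm _ a.2 _ b.2))⟩⟩
      have hone' : ∀ U V : Subgroup (B.subgroupOf (P : Subgroup G)), Nat.card U = 2 → Nat.card V = 2 → U = V := by
        intro U V hU hV
        have key : ∀ U : Subgroup (B.subgroupOf (P : Subgroup G)), Nat.card U = 2 →
            ∀ u, u ∈ U ↔ (u : G) = 1 ∨ (u : G) = j := by
          intro U hU u
          constructor
          · intro hu
            refine huniq _ u.2 ?_
            have h1 : u ^ 2 = 1 := by
              have := pow_card_eq_one' (G := U) (x := ⟨u, hu⟩)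
              rw [hU] at this
              exact congrArg Subtype.val this
            rw [← pow_two]
            exact congrArg (fun t : B.subgroupOf (P : Subgroup G) => ((t : (P : Subgroup G)) : G)) h1
          · rintro (h1 | h1)
            · rw [show u = 1 from Subtype.ext (Subtype.ext h1)]; exact one_mem U
            · obtain ⟨v, hv⟩ := exists_prime_orderOf_dvd_card' 2 (G := U) (by rw [hU])
              have h2 : orderOf (((v : B.subgroupOf (P : Subgroup G)) : (P : Subgroup G)) : G) = 2 := by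
                exact (orderOf_injective (((P : Subgroup G).subtype.comp (B.subgroupOf (P : Subgroup G)).subtype).comp U.subtype)
                  ((subtype_injective _).comp ((subtype_injective _).comp (subtype_injective _))) v).trans hv
              rcases huniq _ v.1.2 (Cfsg.Lib.Invol.inv_mul_self h2) with h3 | h3
              · rw [show (((v : B.subgroupOf (P : Subgroup G)) : (P : Subgroup G)) : G) = 1 from h3, orderOf_one] at h2; omega
              · rw [show u = v.1 from Subtype.ext (Subtype.ext (h1.trans h3.symm))]; exact v.2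
        ext u
        rw [key U hU, key V hV]
      rcases Cfsg.Agent.S0016.result 2 (P.isPGroup'.to_subgroup (B.subgroupOf (P : Subgroup G))) hone'
        with hc | ⟨-, k, ⟨e⟩⟩
      · exact hc
      · match k, e with
        | 0, e =>
          haveI : IsCyclic (QuaternionGroup (2 ^ 0)) := QuaternionGroup.quaternionGroup_one_isCyclic
          exact isCyclic_of_surjective e.symm e.symm.surjective
        | k + 1, e =>
          exfalso
          have h5 : (QuaternionGroup.a 1 : QuaternionGroup (2 ^ (k + 1))) * QuaternionGroup.xa 0 =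
              QuaternionGroup.xa 0 * QuaternionGroup.a 1 := by
            refine e.symm.injective ?_
            rw [map_mul, map_mul]
            exact (inferInstance : IsMulCommutative (B.subgroupOf (P : Subgroup G))).is_comm.comm _ _
          rw [QuaternionGroup.a_mul_xa, QuaternionGroup.xa_mul_a, QuaternionGroup.xa.injEq] at h5
          have h6 : ((2 : ℕ) : ZMod (2 * 2 ^ (k + 1))) = 0 := by
            push_cast
            linear_combination -h5
          rw [ZMod.natCast_eq_zero_iff] at h6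
          have h7 := Nat.le_of_dvd two_pos h6
          have : 2 ^ 1 ≤ 2 ^ (k + 1) := Nat.pow_le_pow_right two_pos (by omega)
          omega
    · exact (relIndex_le_of_le_right hle (by rw [c.index]; norm_num)).trans c.index.le
    · exact Subtype.ext (c.sq _ (hle v.2) hv)
  · haveI : Nontrivial (P : Subgroup G) :=
      ⟨⟨⟨j, hjP⟩, 1, fun e => hj1 (congrArg Subtype.val e)⟩⟩
    haveI := P.isPGroup'.center_nontrivial
    obtain ⟨z', hz'⟩ := exists_prime_orderOf_dvd_card' 2 (G := center (P : Subgroup G)) (by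
      obtain ⟨k, hk, hc⟩ := (P.isPGroup'.to_subgroup (center (P : Subgroup G))).nontrivial_iff_card.1 inferInstance
      rw [hc]; exact dvd_pow_self 2 hk.ne')
    set z : G := ((z' : (P : Subgroup G)) : G)
    have hzP : z ∈ (P : Subgroup G) := z'.1.2
    have hz : orderOf z = 2 := by rw [Subgroup.orderOf_coe, Subgroup.orderOf_coe, hz']
    have hzc : ∀ y ∈ (P : Subgroup G), y * z = z * y := fun y hy =>
      congrArg Subtype.val (mem_center_iff.1 z'.2 ⟨y, hy⟩)
    have hzH : z ∈ H := hmemH z (hzc j hjP).symm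
    have hzj : z ≠ j := fun e => hle fun v hv => hmemH v (e ▸ hzc v hv)
    have hzB : z ∉ B := fun hm => by
      rcases huniq z hm (Cfsg.Lib.Invol.inv_mul_self hz) with h1 | h1
      · rw [h1, orderOf_one] at hz; omega
      · exact hzj h1
    have hB0 : ∀ b ∈ (P : Subgroup G), b ∈ B → b = 1 ∨ b = j := fun b hb hbB => by
      refine huniq b hbB ?_
      have h1 := c.inv z hzH hzB b hbB
      rw [← hzc b hb, mul_inv_cancel_right] at h1
      exact mul_eq_one_iff_eq_inv.2 h1
    have hP0 : ∀ y ∈ (P : Subgroup G), y ∈ H → y = 1 ∨ y = j ∨ y = z ∨ y = j * z := by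
      intro y hy hyH
      by_cases hyB : y ∈ B
      · rcases hB0 y hy hyB with h1 | h1
        · exact Or.inl h1
        · exact Or.inr (Or.inl h1)
      · have hzy : z * y ∈ B :=
          (mul_mem_iff_of_index_two (H := B.subgroupOf H) c.index (a := ⟨z, hzH⟩) (b := ⟨y, hyH⟩)).2
            (iff_of_false hzB hyB)
        have hy' : y = z * (z * y) := by rw [← mul_assoc, Cfsg.Lib.Invol.inv_mul_self hz, one_mul]
        rcases hB0 _ (mul_mem hzP hy) hzy with h1 | h1
        · exact Or.inr (Or.inr (Or.inl (by rw [hy', h1, mul_one])))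
        · exact Or.inr (Or.inr (Or.inr (by rw [hy', h1, hzc j hjP])))
    have hjz' : j * z ≠ 1 ∧ j * z ≠ j ∧ j * z ≠ z := by
      refine ⟨fun e => hzj ?_, fun e => ?_, fun e => ?_⟩
      · rw [mul_eq_one_iff_eq_inv, Cfsg.Lib.Invol.inv_eq_self hz] at e; exact e.symm
      · rw [mul_eq_left] at e; rw [e, orderOf_one] at hz; omega
      · rw [mul_eq_right] at e; exact hj1 e
    have hz1 : z ≠ 1 := fun e => by rw [e, orderOf_one] at hz; omega
    set T : Finset G := {1, j, z, j * z}
    have hT : T.card = 4 := by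
      simp [T, hj1.symm, hz1.symm, hzj.symm, hjz'.1.symm, hjz'.2.1.symm, hjz'.2.2.symm]
    have hPH : (((P : Subgroup G) ⊓ H : Subgroup G) : Set G) = (T : Set G) := by
      refine Set.Subset.antisymm (fun y hy => ?_) fun y hy => ?_
      · simp only [T, Finset.coe_insert, Finset.coe_singleton, Set.mem_insert_iff, Set.mem_singleton_iff]
        exact hP0 y hy.1 hy.2
      · simp only [T, Finset.coe_insert, Finset.coe_singleton, Set.mem_insert_iff, Set.mem_singleton_iff] at hy
        rcases hy with rfl | rfl | rfl | rfl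
        · exact one_mem _
        · exact ⟨hjP, hjH⟩
        · exact ⟨hzP, hzH⟩
        · exact ⟨mul_mem hjP hzP, mul_mem hjH hzH⟩
    have hcard : Nat.card ((P : Subgroup G) ⊓ H : Subgroup G) = 4 := by
      rw [show Nat.card ((P : Subgroup G) ⊓ H : Subgroup G) = Nat.card (((P : Subgroup G) ⊓ H : Subgroup G) : Set G)
        from rfl, Nat.card_coe_set_eq, hPH, Set.ncard_coe_finset, hT]
    have hC : centralizer ({⟨j, hjP⟩} : Set (P : Subgroup G)) = ((P : Subgroup G) ⊓ H).subgroupOf P := by
      ext v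
      rw [mem_centralizer_singleton_iff, mem_subgroupOf, mem_inf]
      constructor
      · exact fun hv => ⟨v.2, hmemH _ (congrArg Subtype.val hv :)⟩
      · rintro ⟨-, hv⟩
        rw [← c.cent j hjB hj] at hv
        exact Subtype.ext (mem_centralizer_singleton_iff.1 hv)
    rcases Cfsg.Agent.S3224.result P.isPGroup' ⟨j, hjP⟩ (by rw [Subgroup.orderOf_mk, hj])
      (by rw [hC, Nat.card_congr (subgroupOfEquivOfLe inf_le_left).toEquiv, hcard]) with ⟨n, ⟨e⟩⟩ | hQ | h4'
    · refine concl_of_twoCycDih h c (TwoCycDih.of_sylow P ?_) hns hjB hj huniq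
      haveI : NeZero n := ⟨fun h0 => by
        subst h0
        exact (Finite.of_equiv _ e.toEquiv : Finite (DihedralGroup 0)).false⟩
      exact CycDih.of_dihedral e
    · refine (false_of_quasiDihedral h c hns hjB hj huniq P hjP hQ hzP hz hzc hzH hzB hP0 S ?_).elim
      have : Nat.card ((S : Subgroup H).map H.subtype) = Nat.card S := card_map_of_injective H.subtype_injective
      rw [← hPS, hcard] at this
      omega
    · refine absurd (fun v hv => ?_) hle
      have : (P : Subgroup G) ⊓ H = P := eq_of_le_of_card_ge inf_le_left (by rw [hcard, h4'])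
      rw [← this] at hv
      exact hv.2

end DCtx

/-- A nonsolvable group with a self-centralizing D-subgroup. -/
theorem d_group_centralizer (h : SimpleGW.{u}) {G : Type u} [Group G] [Finite G] (H A : Subgroup G) (hAH : A < H)
    (hD : ∀ x ∈ H, x ∉ A → x ^ 2 = 1) (h4 : 4 ∣ Nat.card ↥H)
    (hC : ∀ j ∈ H, orderOf j = 2 → (∀ h ∈ H, h * j = j * h) → centralizer ({j} : Set G) = H)
    (hns : ¬ Group.IsSolvable G) :
    ∃ (N : Subgroup G) (_ : N.Normal), (Odd (Nat.card ↥N) ∨ ∃ m : ℕ, Odd m ∧ Nat.card ↥N = 2 * m) ∧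
      ∃ (F : Type) (_ : Field F) (_ : Fintype F), 3 < Fintype.card F ∧
        (Nonempty (G ⧸ N ≃* Matrix.ProjectiveSpecialLinearGroup (Fin 2) F) ∨
          Nonempty (G ⧸ N ≃* Matrix.ProjGenLinGroup (Fin 2) F)) := by
  have ofConcl : Concl G → _ := fun ⟨N, i, hN, F, i1, i2, h3, e⟩ =>
    (⟨N, i, hN, F, i1, i2, h3, Or.inl e⟩ : ∃ (N : Subgroup G) (_ : N.Normal),
      (Odd (Nat.card ↥N) ∨ ∃ m : ℕ, Odd m ∧ Nat.card ↥N = 2 * m) ∧
      ∃ (F : Type) (_ : Field F) (_ : Fintype F), 3 < Fintype.card F ∧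
        (Nonempty (G ⧸ N ≃* Matrix.ProjectiveSpecialLinearGroup (Fin 2) F) ∨
          Nonempty (G ⧸ N ≃* Matrix.ProjGenLinGroup (Fin 2) F)))
  have hA : A.subgroupOf H ≠ ⊤ := fun e => hAH.not_ge (subgroupOf_eq_top.1 e)
  obtain ⟨B, -, hBc, hBi, hB, -⟩ := Cfsg.Agent.S4420.result (A.subgroupOf H) hA
    fun x hx => Subtype.ext (hD x x.2 hx)
  by_cases hel : ∀ x ∈ H, x * x = 1
  · refine ofConcl (main_elementary H hel h4 (fun j hjH hjo => hC j hjH hjo fun v hv => ?_) hns)
    have h1 := hel (v * j) (mul_mem hv hjH)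
    rw [mul_eq_one_iff_eq_inv, mul_inv_rev, inv_eq_of_mul_eq_one_right (hel v hv),
      inv_eq_of_mul_eq_one_right (hel j hjH)] at h1
    exact h1
  push Not at hel
  obtain ⟨x0, hx0, hx02⟩ := hel
  have hmap : ∀ v : G, v ∈ B.map H.subtype → ∃ hv : v ∈ H, (⟨v, hv⟩ : H) ∈ B := by
    rintro _ ⟨v, hv, rfl⟩; exact ⟨v.2, hv⟩
  have hmem : ∀ v (hv : v ∈ H), v ∈ B.map H.subtype ↔ (⟨v, hv⟩ : H) ∈ B := fun v hv =>
    ⟨fun hm => (hmap v hm).2, fun hm => ⟨_, hm, rfl⟩⟩
  have hsq : ∀ x ∈ H, x ∉ B.map H.subtype → x * x = 1 := fun x hx hxB => by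
    have h1 := congrArg Subtype.val (hB ⟨x, hx⟩ fun hm => hxB ((hmem x hx).2 hm)).1
    simpa [pow_two] using h1
  have hinv : ∀ x ∈ H, x ∉ B.map H.subtype → ∀ b ∈ B.map H.subtype, x * b * x⁻¹ = b⁻¹ :=
    fun x hx hxB b hb => by
      obtain ⟨hbH, hb'⟩ := hmap b hb
      exact congrArg Subtype.val ((hB ⟨x, hx⟩ fun hm => hxB ((hmem x hx).2 hm)).2 _ hb')
  have hcomm : ∀ a ∈ B.map H.subtype, ∀ b ∈ B.map H.subtype, a * b = b * a := fun a ha b hb => by
    obtain ⟨haH, ha'⟩ := hmap a ha
    obtain ⟨hbH, hb'⟩ := hmap b hb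
    exact congrArg (fun t : B => ((t : H) : G)) (hBc.is_comm.comm ⟨_, ha'⟩ ⟨_, hb'⟩)
  have c : DCtx H (B.map H.subtype) :=
    { le := map_subtype_le B
      comm := hcomm
      index := by
        show ((B.map H.subtype).subgroupOf H).index = 2
        rw [subgroupOf, comap_map_eq_self_of_injective H.subtype_injective, hBi]
      sq := hsq
      inv := hinv
      exp := ⟨x0, by_contra fun hm => hx02 (hsq x0 hx0 hm), hx02⟩
      cent := fun j hjB hjo => hC j (map_subtype_le B hjB) hjo fun v hv => by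
        by_cases hvB : v ∈ B.map H.subtype
        · exact hcomm v hvB j hjB
        · have h1 := hinv v hv hvB j hjB
          rw [Cfsg.Lib.Invol.inv_eq_self hjo] at h1
          exact mul_inv_eq_iff_eq_mul.1 h1 }
  rcases Nat.lt_or_ge (Nat.card c.two) 4 with h2 | h2
  · obtain ⟨N, i, hN, rest⟩ := c.main_cyclic h h4 h2 hns
    exact ⟨N, i, Or.inl hN, rest⟩
  · exact ofConcl (c.main h2 hns)

end Cfsg.Lib.GW.DGroup
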