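import Cfsg.Agent.Lib.Block.DihedralOrder

/-!
# Gorenstein–Walter: the two order equations of the principal block

For a dihedral Sylow two-subgroup and one class of involutions the class multiplication
coefficients of the involutions at the cosets of `σ` and of the central involution give two
equations between the group order, the orders of the odd parts and the signed degrees
`X = δ₁ χ₁(1)`, `a = δ₂ χ₂(1)`, `b = δ₃ χ₃(1)` of the nontrivial exceptional characters.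
-/

set_option autoImplicit false
set_option linter.unusedSectionVars false
set_option maxHeartbeats 1000000

namespace Cfsg.Lib.GW

open Cfsg Cfsg.Lib.Block Cfsg.Lib.Char
open scoped ComplexConjugate

universe u

variable {G : Type u} [Group G] [Fintype G] {M : Ideal AlgInt}
variable {P : Sylow 2 G} {σ τ : G} {h : ℕ} [Fact (Nat.Prime 2)]

theorem parity_sum (f : ℕ → ℕ) (m : ℕ) :
    ∑ i ∈ Finset.range (2 * m), f (i % 2) = m * (f 0 + f 1) := by
  induction m with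
  | zero => simp
  | succ m ih =>
    rw [show 2 * (m + 1) = 2 * m + 1 + 1 by omega, Finset.sum_range_succ, Finset.sum_range_succ, ih,
      show (2 * m + 1) % 2 = 1 by omega, show 2 * m % 2 = 0 by omega]
    ring

/-- A character with the same integer value on all nonidentity powers has that value congruent
to its degree. -/
theorem degree_congr_of_const (χ : IrrCharacter G) {g : G} {m : ℕ} (hm : 0 < m) (hg : g ^ m = 1)
    {d : ℤ} (hd : ∀ l : ℕ, 0 < l → l < m → (χ : G → ℂ) (g ^ l) = d) :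
    (m : ℤ) ∣ (charDegree (χ : G → ℂ) : ℤ) - d := by
  obtain ⟨ζ, hζ⟩ : ∃ ζ : ℂ, IsPrimitiveRoot ζ m :=
    ⟨_, Complex.isPrimitiveRoot_exp m hm.ne'⟩
  obtain ⟨N, hN⟩ := exists_multiplicity χ hζ hm hg
  have e : ∑ l ∈ Finset.range m, (χ : G → ℂ) (g ^ l) = (m : ℂ) * N 0 := by
    simp only [hN]
    rw [Finset.sum_comm, Finset.sum_eq_single 0]
    · simp [mul_comm]
    · intro j hj hj0
      rw [← Finset.mul_sum]
      have hne : ζ ^ j ≠ 1 := fun e => by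
        have := Nat.le_of_dvd (Nat.pos_of_ne_zero hj0) ((hζ.pow_eq_one_iff_dvd j).1 e)
        exact absurd (Finset.mem_range.1 hj) (by omega)
      simp only [pow_mul]
      rw [geom_sum_eq hne, ← pow_mul, mul_comm j m, pow_mul, hζ.pow_eq_one, one_pow, sub_self,
        zero_div, mul_zero]
    · intro h0; exact absurd (Finset.mem_range.2 hm) h0
  obtain ⟨m', rfl⟩ : ∃ m', m = m' + 1 := ⟨m - 1, by omega⟩
  rw [Finset.sum_range_succ', pow_zero, apply_one_eq_charDegree,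
    Finset.sum_congr rfl (g := fun _ => (d : ℂ)) fun l hl => hd (l + 1) (Nat.succ_pos _) (by
      have := Finset.mem_range.1 hl; omega),
    Finset.sum_const, Finset.card_range, nsmul_eq_mul] at e
  refine ⟨(N 0 : ℤ) - d, ?_⟩
  apply Int.cast_injective (α := ℂ)
  push_cast at e ⊢
  linear_combination e

/-- Solving the class coefficient equation for the block sum. -/
theorem solve_coeff {g K o m S B : ℚ} (hK : K ≠ 0) (ho : o ≠ 0) (hg : g = K * (4 * m * o))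
    (e : g * (m * S) = K * K * o * B) : g * B = 16 * m ^ 3 * o * S := by
  subst hg
  refine mul_left_cancel₀ (mul_ne_zero (mul_ne_zero hK hK) ho) ?_
  linear_combination -(K * (4 * m * o)) * e

/-- The outcome: three characters with their signs, the signed degrees and the two equations. -/
structure Companion (M : Ideal AlgInt) (P : Sylow 2 G) (σ τ : G) (h : ℕ) where
  χ₁ : IrrCharacter G
  χ₂ : IrrCharacter G
  χ₃ : IrrCharacter G
  δ₁ : ℤ
  δ₂ : ℤ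
  δ₃ : ℤ
  X : ℤ
  a : ℤ
  b : ℤ
  hδ₁ : δ₁ = 1 ∨ δ₁ = -1
  hδ₂ : δ₂ = 1 ∨ δ₂ = -1
  hδ₃ : δ₃ = 1 ∨ δ₃ = -1
  ne_triv : χ₁ ≠ trivChar G ∧ χ₂ ≠ trivChar G ∧ χ₃ ≠ trivChar G
  mem_block : χ₁ ∈ principalBlock M G
  mem_block₂₃ : χ₂ ∈ principalBlock M G ∧ χ₃ ∈ principalBlock M G
  /-- The family of the characters of degree `|X + 1|`. -/
  family : ∃ (ζ : ℂ) (χ' : Fin (h - 1) → IrrCharacter G), IsPrimitiveRoot ζ (2 * h) ∧ ∀ j,
    χ' j ∈ principalBlock M G ∧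
    (∀ l : ℕ, 0 < l → l < 2 * h → (χ' j : G → ℂ) (σ ^ l) =
      δ₁ * (ζ ^ (((j : ℕ) + 1) * l) + (ζ ^ (((j : ℕ) + 1) * l))⁻¹)) ∧
    ∀ ρ : G, IsPRegular 2 ρ → 1 + δ₁ * (χ₁ : G → ℂ) ρ = δ₁ * (χ' j : G → ℂ) ρ
  degX : X = δ₁ * charDegree (χ₁ : G → ℂ)
  dega : a = δ₂ * charDegree (χ₂ : G → ℂ)
  degb : b = δ₃ * charDegree (χ₃ : G → ℂ)
  value : ∀ l : ℕ, 0 < l → l < 2 * h → (χ₁ : G → ℂ) (σ ^ l) = δ₁
  value₂ : ∀ l : ℕ, 0 < l → l < 2 * h → (χ₂ : G → ℂ) (σ ^ l) = δ₂ * (-1) ^ (l + 1)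
  value₃ : ∀ l : ℕ, 0 < l → l < 2 * h → (χ₃ : G → ℂ) (σ ^ l) = δ₃ * (-1) ^ (l + 1)
  regular : ∀ ρ : G, IsPRegular 2 ρ →
    1 + δ₁ * (χ₁ : G → ℂ) ρ = -δ₂ * (χ₂ : G → ℂ) ρ - δ₃ * (χ₃ : G → ℂ) ρ
  congr : (2 * h : ℤ) ∣ X - 1
  sum_eq : a + b = -(X + 1)
  eqJ : (Nat.card G : ℚ) * (1 + 1 / X - 1 / a - 1 / b - 8 / (X + 1)) =
    16 * h ^ 3 * ((DihSylow.oddPart σ h).card : ℚ) ^ 3 *
      (1 / ((DihSylow.oddFix σ h τ).card : ℚ) ^ 2 + 1 / ((DihSylow.oddFix σ h (σ * τ)).card : ℚ) ^ 2)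
  eqσ : (Nat.card G : ℚ) * (1 + 1 / X + 1 / a + 1 / b) =
    32 * h ^ 3 * ((DihSylow.oddPart σ h).card : ℚ) ^ 3 /
      (((DihSylow.oddFix σ h τ).card : ℚ) * ((DihSylow.oddFix σ h (σ * τ)).card : ℚ))

open Classical in
/-- The companion equations hold. -/
theorem exists_companion (hM : IsPModular 2 M) (D : DihSylow P σ τ h)
    (hconjJ : ∀ a : G, a * a = 1 → a ≠ 1 → IsConj (σ ^ h) a) :
    Nonempty (Companion M P σ τ h) := by
  obtain ⟨hJ2, hJ1, -⟩ := D.central_involution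
  have hev := D.even
  have hle := D.two_le
  have hσo := D.orderσ
  have hrel := D.rel
  obtain ⟨ζ, hζ⟩ : ∃ ζ : ℂ, IsPrimitiveRoot ζ (2 * h) :=
    ⟨_, Complex.isPrimitiveRoot_exp (2 * h) (by omega)⟩
  obtain ⟨c, x₂, x₃, χ', δ, δ₂, δ₃, d1, d2, d3, hinj, n1, n2, n3, n12, n13, n23, hne, hset, -,
    hv, hreg⟩ := D.principal_shape hM hζ
  have hneg : ζ ^ h = -1 :=
    (hζ.pow (a := h) (by omega) (mul_comm 2 h)).eq_neg_one_of_two_right
  have hδδ : δ * δ = 1 := by rcases d1 with q | q <;> subst q <;> norm_num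
  have hdeg1 : ∀ χ : IrrCharacter G, (χ : G → ℂ) 1 = ((charDegree (χ : G → ℂ) : ℤ) : ℂ) := fun χ => by
    rw [apply_one_eq_charDegree, Int.cast_natCast]
  have hdpos : ∀ χ : IrrCharacter G, (0 : ℤ) < charDegree (χ : G → ℂ) := fun χ => by
    exact_mod_cast charDegree_pos χ
  obtain ⟨x, hx⟩ : ∃ x : ℤ, x = (charDegree (c : G → ℂ) : ℤ) := ⟨_, rfl⟩
  obtain ⟨X, hX⟩ : ∃ X : ℤ, X = δ * x := ⟨_, rfl⟩
  obtain ⟨a, ha⟩ : ∃ a : ℤ, a = δ₂ * (charDegree (x₂ : G → ℂ) : ℤ) := ⟨_, rfl⟩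
  obtain ⟨b, hb⟩ : ∃ b : ℤ, b = δ₃ * (charDegree (x₃ : G → ℂ) : ℤ) := ⟨_, rfl⟩
  have hone : IsPRegular 2 (1 : G) := by simp [IsPRegular]
  have hxC : (c : G → ℂ) 1 = (x : ℂ) := by rw [hdeg1, hx]
  have hdeg : ∀ j, (χ' j : G → ℂ) 1 = ((δ * (X + 1) : ℤ) : ℂ) := fun j => by
    have e := (hreg 1 hone).2 j
    rw [hxC] at e
    have e2 : ((δ : ℂ)) * δ = 1 := by exact_mod_cast hδδ
    rw [hX]
    push_cast
    linear_combination (-(δ : ℂ)) * e - ((χ' j : G → ℂ) 1) * e2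
  have hsum : a + b = -(X + 1) := by
    have e := (hreg 1 hone).1
    rw [hxC, hdeg1 x₂, hdeg1 x₃] at e
    apply Int.cast_injective (α := ℂ)
    rw [ha, hb, hX]
    push_cast at e ⊢
    linear_combination e
  have hX0 : X ≠ 0 := by
    have := hx ▸ hdpos c
    rw [hX]; exact mul_ne_zero (by rcases d1 with q | q <;> omega) this.ne'
  have hX1 : X + 1 ≠ 0 := by
    intro e
    have e' := hdeg ⟨0, by omega⟩
    rw [e, mul_zero, Int.cast_zero, hdeg1, Int.cast_eq_zero] at e'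
    have := hdpos (χ' ⟨0, by omega⟩)
    omega
  have ha0 : a ≠ 0 := by
    rw [ha]; exact mul_ne_zero (by rcases d2 with q | q <;> omega) (hdpos x₂).ne'
  have hb0 : b ≠ 0 := by
    rw [hb]; exact mul_ne_zero (by rcases d3 with q | q <;> omega) (hdpos x₃).ne'
  have hcongr : (2 * h : ℤ) ∣ X - 1 := by
    have e := degree_congr_of_const c (g := σ) (m := 2 * h) (by omega)
      (by rw [← hσo, pow_orderOf_eq_one]) (d := δ) (fun l hl hl' => (hv l hl hl').1)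
    rw [hX, show δ * x - 1 = δ * (x - δ) by rw [mul_sub, hδδ], hx]
    exact dvd_mul_of_dvd_right (by exact_mod_cast e) _
  -- the block sums
  have hBeq : (principalBlock M G).toFinset =
      ({trivChar G, c, x₂, x₃} : Finset (IrrCharacter G)) ∪ Finset.univ.image χ' := by
    ext y
    rw [Set.mem_toFinset, hset]
    simp [eq_comm]
  have hconjI : ∀ d : ℤ, conj (d : ℂ) = d := fun d => map_intCast _ _
  have vJ := hv h (by omega) (by omega)
  have hJsgn : (-1 : ℂ) ^ (h + 1) = -1 := by rw [pow_succ, hev.neg_one_pow, one_mul]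
  rw [hJsgn] at vJ
  have hJj : ∀ j : Fin (h - 1), (χ' j : G → ℂ) (σ ^ h) = 2 * δ * (-1) ^ ((j : ℕ) + 1) := fun j => by
    rw [vJ.2.2.2 j, mul_comm ((j : ℕ) + 1) h, pow_mul, hneg]
    rcases neg_one_pow_eq_or ℂ ((j : ℕ) + 1) with r | r <;> rw [r] <;> ring
  have hblock : ∀ f : IrrCharacter G → ℂ, ∑ χ ∈ (principalBlock M G).toFinset, f χ =
      f (trivChar G) + f c + f x₂ + f x₃ + ∑ j : Fin (h - 1), f (χ' j) := by
    intro f
    rw [hBeq, Finset.sum_union (Finset.disjoint_left.2 (by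
        intro y hy hy'
        obtain ⟨j, -, rfl⟩ := Finset.mem_image.1 hy'
        simp only [Finset.mem_insert, Finset.mem_singleton] at hy
        obtain ⟨a1, a2, a3, a4⟩ := hne j
        rcases hy with e | e | e | e <;> contradiction)),
      Finset.sum_image fun a _ b _ e => hinj e,
      Finset.sum_insert (by simp [n1.symm, n2.symm, n3.symm]),
      Finset.sum_insert (by simp [n12, n13]), Finset.sum_pair n23]
    ring
  have hsm : ∑ j : Fin (h - 1), (-1 : ℂ) ^ ((j : ℕ) + 1) = -1 := by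
    rw [Fin.sum_univ_eq_sum_range (fun i => (-1 : ℂ) ^ (i + 1))]
    simp only [pow_succ, mul_neg_one, Finset.sum_neg_distrib, neg_one_geom_sum]
    rw [if_neg (by rw [Nat.not_even_iff_odd]; obtain ⟨r, hr⟩ := hev; exact ⟨r - 1, by omega⟩)]
  have hinvζ : ∀ i, i < h → (ζ ^ i)⁻¹ = -ζ ^ (h - i) := fun i hi => by
    refine inv_eq_of_mul_eq_one_right ?_
    rw [mul_neg, ← pow_add, show i + (h - i) = h by omega, hneg, neg_neg]
  have hsz : ∑ j : Fin (h - 1), ((ζ ^ ((j : ℕ) + 1)) + (ζ ^ ((j : ℕ) + 1))⁻¹) = 0 := by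
    rw [Finset.sum_add_distrib]
    have e : ∑ i ∈ Finset.range (h - 1), (ζ ^ (i + 1))⁻¹ =
        ∑ i ∈ Finset.range (h - 1), -ζ ^ (h - 1 - 1 - i + 1) := Finset.sum_congr rfl fun i hi => by
      have := Finset.mem_range.1 hi
      rw [hinvζ _ (by omega)]
      congr 2
      omega
    rw [Fin.sum_univ_eq_sum_range (fun i => ζ ^ (i + 1)),
      Fin.sum_univ_eq_sum_range (fun i => (ζ ^ (i + 1))⁻¹), e, Finset.sum_neg_distrib,
      Finset.sum_range_reflect (fun i => ζ ^ (i + 1)), add_neg_cancel]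
  have hn : ‖ζ‖ = 1 := Complex.norm_eq_one_of_pow_eq_one hζ.pow_eq_one (by omega)
  have hXC : (X : ℂ) = δ * x := by rw [hX, Int.cast_mul]
  have hXne : (X : ℂ) ≠ 0 := Int.cast_ne_zero.2 hX0
  have hX1ne : (X : ℂ) + 1 ≠ 0 := by exact_mod_cast hX1
  have hδne : (δ : ℂ) ≠ 0 := by rcases d1 with q | q <;> subst q <;> norm_num
  have hδsq : (δ : ℂ) ^ 2 = 1 := by rw [sq]; exact_mod_cast hδδ
  have haC : (a : ℂ) ≠ 0 := Int.cast_ne_zero.2 ha0
  have hbC : (b : ℂ) ≠ 0 := Int.cast_ne_zero.2 hb0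
  have hsumJ : ∑ χ ∈ (principalBlock M G).toFinset, (χ : G → ℂ) (σ ^ h) * (χ : G → ℂ) (σ ^ h) *
      conj ((χ : G → ℂ) (σ ^ h)) / (χ : G → ℂ) 1 =
      1 + 1 / (X : ℂ) - 1 / (a : ℂ) - 1 / (b : ℂ) - 8 / ((X : ℂ) + 1) := by
    rw [hblock, trivChar_coe, vJ.1, vJ.2.1, vJ.2.2.1, hxC, hdeg1 x₂, hdeg1 x₃,
      Finset.sum_congr rfl (g := fun j : Fin (h - 1) =>
        8 / ((X : ℂ) + 1) * (-1) ^ ((j : ℕ) + 1)) fun j _ => ?_, ← Finset.mul_sum, hsm, ha, hb, hXC]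
    · have e2 : ((δ₂ : ℂ)) * δ₂ = 1 := by rcases d2 with q | q <;> subst q <;> norm_num
      have e3 : ((δ₃ : ℂ)) * δ₃ = 1 := by rcases d3 with q | q <;> subst q <;> norm_num
      simp only [map_one, map_mul, map_neg, hconjI]
      rcases d1 with q | q <;> rcases d2 with q' | q' <;> rcases d3 with q'' | q'' <;>
        subst q q' q'' <;> push_cast <;> ring
    · rw [hJj j, hdeg j, map_mul, map_mul, hconjI, map_pow, map_neg, map_one, map_ofNat]
      generalize hP : (X : ℂ) + 1 = P at hX1ne ⊢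
      push_cast
      rw [hP]
      rcases neg_one_pow_eq_or ℂ ((j : ℕ) + 1) with r | r <;> rw [r] <;>
        rcases d1 with q | q <;> subst q <;> push_cast <;> field_simp <;> ring
  have hsumσ : ∑ χ ∈ (principalBlock M G).toFinset, (χ : G → ℂ) (σ ^ h) * (χ : G → ℂ) (σ ^ h) *
      conj ((χ : G → ℂ) σ) / (χ : G → ℂ) 1 =
      1 + 1 / (X : ℂ) + 1 / (a : ℂ) + 1 / (b : ℂ) := by
    have v1 := hv 1 one_pos (by omega)
    rw [pow_one] at v1
    rw [hblock, trivChar_coe, vJ.1, vJ.2.1, vJ.2.2.1, v1.1, v1.2.1, v1.2.2.1, hxC, hdeg1 x₂,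
      hdeg1 x₃,
      Finset.sum_congr rfl (g := fun j : Fin (h - 1) =>
        4 / ((X : ℂ) + 1) * (ζ ^ ((j : ℕ) + 1) + (ζ ^ ((j : ℕ) + 1))⁻¹)) fun j _ => ?_,
      ← Finset.mul_sum, hsz, ha, hb, hXC]
    · simp only [map_one, map_mul, map_neg, map_pow, hconjI]
      rcases d1 with q | q <;> rcases d2 with q' | q' <;> rcases d3 with q'' | q'' <;>
        subst q q' q'' <;> push_cast <;> ring
    · rw [hJj j, v1.2.2.2 j, mul_one, hdeg j, map_mul, map_add, hconjI, map_inv₀, map_pow,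
        ← Complex.inv_eq_conj hn, inv_pow, inv_inv]
      push_cast
      rw [add_comm (ζ ^ ((j : ℕ) + 1))⁻¹ (ζ ^ ((j : ℕ) + 1))]
      generalize ζ ^ ((j : ℕ) + 1) + (ζ ^ ((j : ℕ) + 1))⁻¹ = Z
      rcases neg_one_pow_eq_or ℂ ((j : ℕ) + 1) with r | r <;> rw [r] <;>
        rcases d1 with q | q <;> subst q <;> push_cast <;> field_simp <;> ring
  -- the counting
  obtain ⟨K, hK⟩ : ∃ K, K = (classFinset (σ ^ h)).card := ⟨_, rfl⟩
  obtain ⟨o, ho⟩ : ∃ o, o = (DihSylow.oddPart σ h).card := ⟨_, rfl⟩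
  obtain ⟨N₀, hN₀⟩ : ∃ N₀, N₀ = (DihSylow.invCoset σ h τ).card := ⟨_, rfl⟩
  obtain ⟨N₁, hN₁⟩ : ∃ N₁, N₁ = (DihSylow.invCoset σ h (σ * τ)).card := ⟨_, rfl⟩
  have hpair : ∀ u : G, u ∈ Subgroup.zpowers σ → u ≠ 1 → (∃ k : ℕ, u ^ k = σ ^ h) →
      (σ ^ h * u * (σ ^ h * u) = 1 → u = σ ^ h) →
      (((∑ i ∈ Finset.range (2 * h), (DihSylow.invCoset σ h (σ ^ i * τ)).card *
          (DihSylow.invCoset σ h (σ ^ i * τ * u)).card : ℕ)) : ℂ) =
      (K : ℂ) * K / (Nat.card G : ℂ) * ((o : ℂ) * ∑ χ ∈ (principalBlock M G).toFinset,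
        (χ : G → ℂ) (σ ^ h) * (χ : G → ℂ) (σ ^ h) * conj ((χ : G → ℂ) u) / (χ : G → ℂ) 1) := by
    intro u hu hu1 ⟨k, hk⟩ huJ
    rw [← D.card_product_coset hconjJ hu hk huJ, Nat.cast_sum,
      Finset.sum_congr rfl fun y _ => card_class_product (σ ^ h) (σ ^ h) (y * u), ← hK,
      ← Finset.mul_sum, Finset.sum_comm]
    congr 1
    have hterm : ∀ χ : IrrCharacter G, ∑ y ∈ DihSylow.oddPart σ h,
        (χ : G → ℂ) (σ ^ h) * (χ : G → ℂ) (σ ^ h) * conj ((χ : G → ℂ) (y * u)) /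
          (χ : G → ℂ) 1 = if χ ∈ principalBlock M G then (o : ℂ) *
        ((χ : G → ℂ) (σ ^ h) * (χ : G → ℂ) (σ ^ h) * conj ((χ : G → ℂ) u) / (χ : G → ℂ) 1)
        else 0 := fun χ => by
      rw [← Finset.sum_div, ← Finset.mul_sum, ← map_sum, D.sum_coset_irr hM hu hk hu1 χ, ← ho,
        map_mul, Complex.conj_natCast]
      split_ifs
      · ring
      · simp
    rw [Finset.sum_congr rfl fun χ _ => hterm χ, ← Finset.sum_filter, Finset.mul_sum]
    exact Finset.sum_congr (by ext; simp) fun _ _ => rfl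
  have hNi : ∀ i, (DihSylow.invCoset σ h (σ ^ i * τ)).card = if i % 2 = 0 then N₀ else N₁ := by
    intro i
    rw [D.card_invCoset_parity]
    rcases Nat.mod_two_eq_zero_or_one i with e | e <;> rw [e]
    · rw [pow_zero, one_mul, if_pos rfl, hN₀]
    · rw [pow_one, if_neg one_ne_zero, hN₁]
  obtain ⟨r, hr⟩ := hev
  have hJN : ∑ i ∈ Finset.range (2 * h), (DihSylow.invCoset σ h (σ ^ i * τ)).card *
      (DihSylow.invCoset σ h (σ ^ i * τ * σ ^ h)).card = h * (N₀ * N₀ + N₁ * N₁) := by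
    rw [Finset.sum_congr rfl (g := fun i => (fun e => if e = 0 then N₀ * N₀ else N₁ * N₁) (i % 2))
      fun i _ => ?_, parity_sum (fun e => if e = 0 then N₀ * N₀ else N₁ * N₁)]
    · simp
    rw [mul_assoc, (D.central_involution.2.2 τ D.memτ).eq, ← mul_assoc, ← pow_add, hNi, hNi,
      show (i + h) % 2 = i % 2 by omega]
    split_ifs <;> simp_all
  have hσN : ∑ i ∈ Finset.range (2 * h), (DihSylow.invCoset σ h (σ ^ i * τ)).card *
      (DihSylow.invCoset σ h (σ ^ i * τ * σ)).card = h * (N₀ * N₁ + N₁ * N₀) := by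
    rw [Finset.sum_congr rfl (g := fun i => (fun e => if e = 0 then N₀ * N₁ else N₁ * N₀) (i % 2))
      fun i _ => ?_, parity_sum (fun e => if e = 0 then N₀ * N₁ else N₁ * N₀)]
    · simp
    have e : σ ^ i * τ * σ = σ ^ (i + (2 * h - 1)) * τ := by
      have e1 : τ * σ = σ⁻¹ * τ := mul_inv_eq_iff_eq_mul.1 hrel
      have e2 : σ⁻¹ = σ ^ (2 * h - 1) := inv_eq_of_mul_eq_one_right (by
        rw [← pow_succ', show 2 * h - 1 + 1 = 2 * h by omega, ← hσo, pow_orderOf_eq_one])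
      rw [mul_assoc, e1, e2, ← mul_assoc, ← pow_add]
    rw [e, hNi, hNi]
    rcases Nat.mod_two_eq_zero_or_one i with e | e
    · rw [if_pos e, if_neg (by omega), e]; rfl
    · rw [if_neg (by omega), if_pos (by omega), e]; rfl
  have hS1 := hpair σ (Subgroup.mem_zpowers σ) (by
      intro e; rw [e, orderOf_one] at hσo; omega) ⟨h, rfl⟩ (fun e => by
      exfalso
      rw [← pow_succ, ← pow_add, ← orderOf_dvd_iff_pow_eq_one, hσo] at e
      obtain ⟨q, hq⟩ := e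
      rcases q with _ | _ | q
      · omega
      · omega
      · nlinarith)
  have hS2 := hpair (σ ^ h) (D.mem_pow h) hJ1 ⟨1, pow_one _⟩ fun _ => rfl
  rw [hσN, hsumσ] at hS1
  rw [hJN, hsumJ] at hS2
  have hGK : Nat.card G = K * (4 * h * o) := by
    rw [hK, card_classFinset, ho, ← D.oddPart_spec.2.2.2.2.2.2, mul_comm,
      Subgroup.card_mul_index]
  have hGne : (Nat.card G : ℂ) ≠ 0 := Nat.cast_ne_zero.2 Nat.card_pos.ne'
  -- the number of involutions in a coset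
  have hτP : τ ∈ (P : Subgroup G) ∧ τ ∉ Subgroup.zpowers σ :=
    D.reflection_iff.2 ⟨0, by omega, by rw [pow_zero, one_mul]⟩
  have hστP : σ * τ ∈ (P : Subgroup G) ∧ σ * τ ∉ Subgroup.zpowers σ :=
    D.reflection_iff.2 ⟨1, by omega, by rw [pow_one]⟩
  have hA := (D.card_invCoset_mul hτP.1 hτP.2).1
  have hB := (D.card_invCoset_mul hστP.1 hστP.2).1
  rw [← hN₀, ← ho] at hA
  rw [← hN₁, ← ho] at hB
  have hopos : 0 < o := ho ▸ Finset.card_pos.2 ⟨1, D.oddPart_spec.1⟩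
  have hK0 : K ≠ 0 := by
    rintro rfl
    have := Nat.card_pos (α := G)
    rw [hGK, zero_mul] at this
    omega
  have hwA : (DihSylow.oddFix σ h τ).card ≠ 0 := by intro e; rw [e, mul_zero] at hA; omega
  have hwB : (DihSylow.oddFix σ h (σ * τ)).card ≠ 0 := by intro e; rw [e, mul_zero] at hB; omega
  have eA : (N₀ : ℚ) = o / (DihSylow.oddFix σ h τ).card := by
    rw [eq_div_iff (Nat.cast_ne_zero.2 hwA)]; exact_mod_cast hA
  have eB : (N₁ : ℚ) = o / (DihSylow.oddFix σ h (σ * τ)).card := by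
    rw [eq_div_iff (Nat.cast_ne_zero.2 hwB)]; exact_mod_cast hB
  have q2 : (Nat.card G : ℚ) * (h * (N₀ * N₀ + N₁ * N₁)) =
      (K : ℚ) * K * o * (1 + 1 / X - 1 / a - 1 / b - 8 / (X + 1)) := by
    apply Rat.cast_injective (α := ℂ)
    push_cast at hS2 ⊢
    rw [hS2]
    field_simp
  have q1 : (Nat.card G : ℚ) * (h * (N₀ * N₁ + N₁ * N₀)) =
      (K : ℚ) * K * o * (1 + 1 / X + 1 / a + 1 / b) := by
    apply Rat.cast_injective (α := ℂ)
    push_cast at hS1 ⊢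
    rw [hS1]
    field_simp
  have hKne : (K : ℚ) ≠ 0 := Nat.cast_ne_zero.2 hK0
  have hone' : (o : ℚ) ≠ 0 := Nat.cast_ne_zero.2 hopos.ne'
  refine ⟨⟨c, x₂, x₃, δ, δ₂, δ₃, X, a, b, d1, d2, d3, ⟨n1, n2, n3⟩, hset ▸ Or.inr (Or.inl rfl),
    ⟨hset ▸ Or.inr (Or.inr (Or.inl rfl)), hset ▸ Or.inr (Or.inr (Or.inr (Or.inl rfl)))⟩,
    ⟨ζ, χ', hζ, fun j => ⟨hset ▸ Or.inr (Or.inr (Or.inr (Or.inr ⟨j, rfl⟩))),
      fun l hl hl' => (hv l hl hl').2.2.2 j, fun ρ hρ => (hreg ρ hρ).2 j⟩⟩,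
    hx ▸ hX, ha, hb, fun l hl hl' => (hv l hl hl').1, fun l hl hl' => (hv l hl hl').2.1,
    fun l hl hl' => (hv l hl hl').2.2.1, fun ρ hρ => (hreg ρ hρ).1, hcongr, hsum, ?_, ?_⟩⟩
  · rw [← ho, solve_coeff hKne hone' (by rw [hGK]; push_cast; ring) q2, eA, eB]
    ring
  · rw [← ho, solve_coeff hKne hone' (by rw [hGK]; push_cast; ring) q1, eA, eB]
    ring

end Cfsg.Lib.GW
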