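import Cfsg.Agent.Lib.GW.Companion

/-!
# Gorenstein–Walter, Case Two: the arithmetic of the companion equations

With `W₀, W₁` the orders of the odd parts of the centralizers of the two classes of four groups,
the equations give `a b ((W₀ - W₁)² (X + 1)² + 16 X W₀ W₁) = X (X + 1)² (W₀ + W₁)²`. When one of
the orders is a proper multiple of the other, the ratio is `3` with `X = -15` or `5` with `X = -7`.
-/

set_option autoImplicit false
set_option linter.unusedSectionVars false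

namespace Cfsg.Lib.GW

open Cfsg Cfsg.Lib.Block Cfsg.Lib.Char

/-- The two equations in product form. -/
theorem product_of_equations {g k : ℚ} {X a b W₀ W₁ : ℤ} (hg : g ≠ 0)
    (hX : X ≠ 0) (hX1 : X + 1 ≠ 0) (ha : a ≠ 0) (hb : b ≠ 0) (h₀ : W₀ ≠ 0) (h₁ : W₁ ≠ 0)
    (hsum : a + b = -(X + 1))
    (eA : g * (1 + 1 / X - 1 / a - 1 / b - 8 / (X + 1)) = k * (1 / (W₀ : ℚ) ^ 2 + 1 / (W₁ : ℚ) ^ 2))
    (eB : g * (1 + 1 / X + 1 / a + 1 / b) = 2 * k / ((W₀ : ℚ) * W₁)) :
    a * b * ((W₀ - W₁) ^ 2 * (X + 1) ^ 2 + 16 * X * W₀ * W₁) =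
      X * (X + 1) ^ 2 * (W₀ + W₁) ^ 2 := by
  have hXq : (X : ℚ) ≠ 0 := Int.cast_ne_zero.2 hX
  have hX1q : (X : ℚ) + 1 ≠ 0 := by exact_mod_cast hX1
  have haq : (a : ℚ) ≠ 0 := Int.cast_ne_zero.2 ha
  have hbq : (b : ℚ) ≠ 0 := Int.cast_ne_zero.2 hb
  have h₀q : (W₀ : ℚ) ≠ 0 := Int.cast_ne_zero.2 h₀
  have h₁q : (W₁ : ℚ) ≠ 0 := Int.cast_ne_zero.2 h₁
  have hs : (b : ℚ) = -((X : ℚ) + 1) - a := by
    rw [eq_sub_iff_add_eq, add_comm]; exact_mod_cast hsum
  have key : (1 + 1 / (X : ℚ) + 1 / a + 1 / b) * ((W₀ : ℚ) ^ 2 + (W₁ : ℚ) ^ 2) =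
      2 * ((W₀ : ℚ) * W₁) * (1 + 1 / X - 1 / a - 1 / b - 8 / (X + 1)) := by
    refine mul_left_cancel₀ hg ?_
    rw [← mul_assoc, eB, mul_left_comm, eA]
    field_simp
    ring
  apply Int.cast_injective (α := ℚ)
  push_cast
  field_simp at key
  rw [hs] at key ⊢
  linear_combination key

/-- Unless the two orders agree, the discriminant is a square. -/
theorem discriminant {X a b W₀ W₁ : ℤ} (hsum : a + b = -(X + 1))
    (hprod : a * b * ((W₀ - W₁) ^ 2 * (X + 1) ^ 2 + 16 * X * W₀ * W₁) =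
      X * (X + 1) ^ 2 * (W₀ + W₁) ^ 2) :
    (a - b) ^ 2 * ((W₀ - W₁) ^ 2 * (X + 1) ^ 2 + 16 * X * W₀ * W₁) =
      ((X + 1) * (W₀ - W₁) * (X - 1)) ^ 2 := by
  have hb : b = -(X + 1) - a := by omega
  subst hb
  linear_combination -4 * hprod

/-- The finite search. -/
theorem small_ratio : ∀ c ∈ List.range 8, ∀ E ∈ List.range 8, ∀ r ∈ List.range 50,
    0 < c → E % 2 = 1 → r * r + (2 * E + 1) * (2 * c + 1) = c * E * (c * E) →
      (c = 1 ∧ E = 7) ∨ (c = 2 ∧ E = 3) ∨ (c = 2 ∧ E = 7) ∨ (c = 4 ∧ E = 3) ∨ (c = 7 ∧ E = 1) := by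
  decide +kernel

/-- If the ratio of the orders is an integer `2 c + 1 > 1`, it is `3` with `X = -15` or `5` with
`X = -7`. -/
theorem ratio_cases {c X a b : ℤ} (hc : 1 ≤ c) (hX : (4 : ℤ) ∣ X - 1) (hX1 : X ≠ 1) (ha : Odd a)
    (hsum : a + b = -(X + 1))
    (hprod : a * b * ((2 * c) ^ 2 * (X + 1) ^ 2 + 16 * X * (2 * c + 1)) =
      X * (X + 1) ^ 2 * (2 * c + 2) ^ 2) :
    (c = 1 ∧ X = -15) ∨ (c = 2 ∧ X = -7) := by
  obtain ⟨d, hd⟩ := hX
  obtain ⟨e, he⟩ : ∃ e, e = 2 * d + 1 := ⟨_, rfl⟩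
  obtain rfl : X = 2 * e - 1 := by omega
  obtain ⟨q, hq⟩ : ∃ q, q = c ^ 2 * e ^ 2 + (2 * e - 1) * (2 * c + 1) := ⟨_, rfl⟩
  have hdisc : (a - b) ^ 2 * q = (2 * c * e * (e - 1)) ^ 2 := by
    have h := discriminant (W₀ := 2 * c + 1) (W₁ := 1) hsum (by linear_combination hprod)
    refine mul_left_cancel₀ (show (16 : ℤ) ≠ 0 by norm_num) ?_
    rw [hq]
    linear_combination h
  have hne : 2 * c * e * (e - 1) ≠ 0 :=
    mul_ne_zero (mul_ne_zero (by omega) (by omega)) (by omega)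
  have hab : a - b ≠ 0 := fun h => hne (by
    rw [h] at hdisc
    exact pow_eq_zero_iff two_ne_zero |>.1 (by rw [← hdisc]; ring))
  obtain ⟨r₀, hr₀⟩ := (Int.pow_dvd_pow_iff two_ne_zero).1 (Dvd.intro q hdisc)
  have hqr : q = r₀ ^ 2 := by
    refine mul_left_cancel₀ (pow_ne_zero 2 hab) ?_
    rw [hdisc, hr₀, mul_pow]
  rw [← sq_abs] at hqr
  obtain ⟨r, hr0, hqr⟩ : ∃ r, 0 ≤ r ∧ q = r ^ 2 := ⟨|r₀|, abs_nonneg _, hqr⟩
  rw [hq] at hqr
  rcases (show 1 ≤ e ∨ e ≤ -1 by omega) with hp | hp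
  · exfalso
    obtain ⟨i, rfl⟩ : ∃ i, r = c * e + i := ⟨r - c * e, by ring⟩
    have hi : 1 ≤ i := by
      by_contra hlt
      nlinarith [mul_le_mul_of_nonneg_left hp (show (0 : ℤ) ≤ c by omega),
        mul_le_mul hp hc (by norm_num) (by omega),
        mul_nonneg (show (0 : ℤ) ≤ -i by omega) (show (0 : ℤ) ≤ c * e + i + c * e by
          nlinarith [mul_nonneg (show (0 : ℤ) ≤ c by omega) (show (0 : ℤ) ≤ e by omega)])]
    have heq : 2 * (c * e * i) + i * i = 4 * (c * e) + 2 * e - 2 * c - 1 := by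
      linear_combination -hqr
    rcases (show i = 1 ∨ i = 2 ∨ 3 ≤ i by omega) with rfl | rfl | hi3
    · have : (c + 1) * (e - 1) = 0 := by linarith
      rcases mul_eq_zero.1 this with h | h <;> omega
    · omega
    · nlinarith [mul_le_mul_of_nonneg_left hi3 (show (0 : ℤ) ≤ c * e by positivity),
        mul_le_mul hi3 hi3 (by norm_num) (by omega)]
  · obtain ⟨E, rfl⟩ : ∃ E, e = -E := ⟨-e, by omega⟩
    obtain ⟨i, hi'⟩ : ∃ i, i = c * E - r := ⟨_, rfl⟩
    have hcE : 0 ≤ c * E := mul_nonneg (by omega) (by omega)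
    have hi : 1 ≤ i := by
      by_contra hlt
      nlinarith [mul_nonneg (show (0 : ℤ) ≤ -i by omega) (show (0 : ℤ) ≤ r + c * E by omega)]
    have hir : i ≤ c * E := by omega
    have heq : 2 * (c * E * i) - i * i = 4 * (c * E) + 2 * E + 2 * c + 1 := by
      obtain rfl : r = c * E - i := by omega
      linear_combination hqr
    have hbd : c ≤ 7 ∧ E ≤ 7 := by
      rcases (show i = 1 ∨ i = 2 ∨ i = 3 ∨ i = 4 ∨ 5 ≤ i by omega) with rfl | rfl | rfl | rfl | h5
      · omega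
      · omega
      · have h6 : (c - 1) * (E - 1) = 6 := by linarith
        constructor
        · by_contra hlt
          rcases (show E = 1 ∨ 2 ≤ E by omega) with rfl | h2
          · omega
          · nlinarith
        · by_contra hlt
          rcases (show c = 1 ∨ 2 ≤ c by omega) with rfl | h2
          · omega
          · nlinarith
      · omega
      · have h26 : 6 * (c * E) - 2 * E - 2 * c ≤ 26 := by
          linarith [mul_nonneg (show (0 : ℤ) ≤ i - 5 by omega)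
            (show (0 : ℤ) ≤ 2 * (c * E) - 5 - i by omega)]
        constructor
        · by_contra hlt
          linarith [mul_nonneg (show (0 : ℤ) ≤ E - 1 by omega) (show (0 : ℤ) ≤ 6 * c - 2 by omega)]
        · by_contra hlt
          linarith [mul_nonneg (show (0 : ℤ) ≤ c - 1 by omega) (show (0 : ℤ) ≤ 6 * E - 2 by omega)]
    lift c to ℕ using (by omega) with c'
    lift E to ℕ using (by omega) with E'
    lift r to ℕ using hr0 with r'
    have hcE' : c' * E' ≤ 49 := Nat.mul_le_mul (show c' ≤ 7 by omega) (show E' ≤ 7 by omega)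
    have hEodd : E' % 2 = 1 := by omega
    have hr' : r' < 50 := by
      have : (r' : ℤ) ≤ ((c' * E' : ℕ) : ℤ) := by push_cast; omega
      omega
    have hsq : r' * r' + (2 * E' + 1) * (2 * c' + 1) = c' * E' * (c' * E') := by
      apply Int.natCast_inj.1
      push_cast
      linear_combination -hqr
    rcases small_ratio c' (List.mem_range.2 (by omega)) E' (List.mem_range.2 (by omega)) r'
        (List.mem_range.2 hr') (by omega) hEodd hsq with
      ⟨rfl, rfl⟩ | ⟨rfl, rfl⟩ | ⟨rfl, rfl⟩ | ⟨rfl, rfl⟩ | ⟨rfl, rfl⟩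
    · left; norm_num
    · right; norm_num
    · norm_num at hprod; omega
    · norm_num at hprod; omega
    · have hb : Odd b := by
        obtain ⟨m, hm⟩ := ha
        exact ⟨(b - 1) / 2, by push_cast at hsum; omega⟩
      have := ha.mul hb
      norm_num at hprod
      obtain ⟨m, hm⟩ := this
      omega


namespace Companion

universe u

variable {G : Type u} [Group G] [Fintype G] {M : Ideal AlgInt}
variable {P : Sylow 2 G} {σ τ : G} {h : ℕ} [Fact (Nat.Prime 2)] (D : DihSylow P σ τ h)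
  (co : Companion M P σ τ h)

include D

theorem X_ne_zero : co.X ≠ 0 := by
  rw [co.degX]
  exact mul_ne_zero (by rcases co.hδ₁ with e | e <;> omega)
    (Int.natCast_ne_zero.2 (charDegree_pos co.χ₁).ne')

theorem a_ne_zero : co.a ≠ 0 := by
  rw [co.dega]
  exact mul_ne_zero (by rcases co.hδ₂ with e | e <;> omega)
    (Int.natCast_ne_zero.2 (charDegree_pos co.χ₂).ne')

theorem b_ne_zero : co.b ≠ 0 := by
  rw [co.degb]
  exact mul_ne_zero (by rcases co.hδ₃ with e | e <;> omega)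
    (Int.natCast_ne_zero.2 (charDegree_pos co.χ₃).ne')

theorem X_add_one_ne_zero : co.X + 1 ≠ 0 := by
  intro e
  have h2 : ((2 * 2 : ℕ) : ℤ) ∣ (2 * h : ℤ) := by
    obtain ⟨r, hr⟩ := D.even
    exact ⟨r, by push_cast; omega⟩
  obtain ⟨k, hk⟩ := h2.trans co.congr
  push_cast at hk
  omega

theorem four_dvd : (4 : ℤ) ∣ co.X - 1 := by
  obtain ⟨r, hr⟩ := D.even
  exact dvd_trans ⟨r, by omega⟩ co.congr

/-- The degree of the second character is odd. -/
theorem odd_a : Odd co.a := by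
  have hle := D.two_le
  obtain ⟨hJ2, -, -⟩ := D.central_involution
  obtain ⟨k, hk, hpar⟩ := exists_value_parity co.χ₂ hJ2
  rw [co.value₂ h (by omega) (by omega)] at hk
  have hk1 : k = 1 ∨ k = -1 := by
    rcases co.hδ₂ with e | e <;> rw [e] at hk <;>
      rcases neg_one_pow_eq_or ℂ (h + 1) with r | r <;> rw [r] at hk <;> norm_num at hk <;>
      first
        | exact Or.inl (by exact_mod_cast hk.symm)
        | exact Or.inr (by exact_mod_cast hk.symm)
  obtain ⟨m, hm⟩ := hpar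
  rw [co.dega, Int.odd_iff]
  rcases co.hδ₂ with e | e <;> rw [e] <;> omega

theorem oddFix_ne_zero (x : G) : ((DihSylow.oddFix σ h x).card : ℤ) ≠ 0 := by
  classical
  exact Int.natCast_ne_zero.2 (Finset.card_ne_zero.2
    ⟨1, DihSylow.mem_oddFix.2 ⟨D.oddPart_spec.1, Commute.one_left _⟩⟩)

/-- The product equation. -/
theorem product :
    co.a * co.b * ((((DihSylow.oddFix σ h τ).card : ℤ) - (DihSylow.oddFix σ h (σ * τ)).card) ^ 2 *
        (co.X + 1) ^ 2 + 16 * co.X * (DihSylow.oddFix σ h τ).card *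
          (DihSylow.oddFix σ h (σ * τ)).card) =
      co.X * (co.X + 1) ^ 2 *
        (((DihSylow.oddFix σ h τ).card : ℤ) + (DihSylow.oddFix σ h (σ * τ)).card) ^ 2 :=
  product_of_equations (g := (Nat.card G : ℚ))
    (k := 16 * h ^ 3 * ((DihSylow.oddPart σ h).card : ℚ) ^ 3)
    (Nat.cast_ne_zero.2 Nat.card_pos.ne') (co.X_ne_zero D) (co.X_add_one_ne_zero D)
    (co.a_ne_zero D) (co.b_ne_zero D) (oddFix_ne_zero D τ) (oddFix_ne_zero D (σ * τ)) co.sum_eq
    (by rw [co.eqJ, Int.cast_natCast, Int.cast_natCast])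
    (by rw [co.eqσ, Int.cast_natCast, Int.cast_natCast]; ring)

/-- The order formula. -/
theorem order_formula :
    (Nat.card G : ℚ) * ((co.X : ℚ) - 1) ^ 2 = 8 * h ^ 3 * co.X * ((co.X : ℚ) + 1) *
      ((DihSylow.oddPart σ h).card : ℚ) ^ 3 *
      (1 / ((DihSylow.oddFix σ h τ).card : ℚ) + 1 / ((DihSylow.oddFix σ h (σ * τ)).card : ℚ)) ^ 2 := by
  have hX : (co.X : ℚ) ≠ 0 := Int.cast_ne_zero.2 (co.X_ne_zero D)
  have hX1 : (co.X : ℚ) + 1 ≠ 0 := by exact_mod_cast co.X_add_one_ne_zero D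
  have e : ((co.X : ℚ) - 1) ^ 2 = co.X * ((co.X : ℚ) + 1) / 2 *
      ((1 + 1 / co.X - 1 / co.a - 1 / co.b - 8 / (co.X + 1)) +
        (1 + 1 / co.X + 1 / co.a + 1 / co.b)) := by
    field_simp
    ring
  rw [e, show ∀ g c A B : ℚ, g * (c * (A + B)) = c * (g * A + g * B) from fun _ _ _ _ => by ring,
    co.eqJ, co.eqσ]
  ring

theorem X_ne_one : co.X ≠ 1 := by
  intro e
  have hf := co.order_formula D
  rw [e, Int.cast_one, sub_self, zero_pow two_ne_zero, mul_zero] at hf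
  have hh : (0 : ℚ) < h := Nat.cast_pos.2 (by have := D.two_le; omega)
  have ho : (0 : ℚ) < (DihSylow.oddPart σ h).card := by
    exact_mod_cast Finset.card_pos.2 ⟨1, D.oddPart_spec.1⟩
  have h0 : (0 : ℚ) < (DihSylow.oddFix σ h τ).card := by
    have := oddFix_ne_zero D τ
    exact_mod_cast (show 0 < (DihSylow.oddFix σ h τ).card by omega)
  have h1 : (0 : ℚ) ≤ (DihSylow.oddFix σ h (σ * τ)).card := Nat.cast_nonneg _
  exact hf.not_lt (by positivity)

/-- If one order is a proper multiple of the other, the ratio is `3` with `X = -15` or `5` with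
`X = -7`. -/
theorem ratio {W W' : ℕ}
    (hW : W = (DihSylow.oddFix σ h τ).card ∧ W' = (DihSylow.oddFix σ h (σ * τ)).card ∨
      W' = (DihSylow.oddFix σ h τ).card ∧ W = (DihSylow.oddFix σ h (σ * τ)).card)
    {c : ℕ} (hc : 1 ≤ c) (he : W = (2 * c + 1) * W') :
    (c = 1 ∧ co.X = -15) ∨ (c = 2 ∧ co.X = -7) := by
  have hW' : (W' : ℤ) ^ 2 ≠ 0 := pow_ne_zero 2 (by
    rcases hW with ⟨-, e⟩ | ⟨e, -⟩ <;> rw [e] <;> exact oddFix_ne_zero D _)
  have hp := co.product D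
  have hp' : co.a * co.b * ((2 * (c : ℤ)) ^ 2 * (co.X + 1) ^ 2 + 16 * co.X * (2 * (c : ℤ) + 1)) =
      co.X * (co.X + 1) ^ 2 * (2 * (c : ℤ) + 2) ^ 2 := by
    refine mul_left_cancel₀ hW' ?_
    rcases hW with ⟨e₀, e₁⟩ | ⟨e₁, e₀⟩ <;> rw [← e₀, ← e₁, he] at hp <;> push_cast at hp <;>
      linear_combination hp
  rcases ratio_cases (by omega) (co.four_dvd D) (co.X_ne_one D) (co.odd_a D) co.sum_eq hp' with ⟨a, b⟩ | ⟨a, b⟩
  · exact Or.inl ⟨by omega, b⟩
  · exact Or.inr ⟨by omega, b⟩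

end Companion

end Cfsg.Lib.GW
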