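import Cfsg.Agent.Lib.GW.Min
import Cfsg.Agent.Lib.Coprime.Generation

/-!
# Case One: pairs of commuting involutions

All four groups are self-centralizing and 8 divides the order. Each involution `t` is central in a
Sylow 2-subgroup; every involution commuting with it inverts `U t = O(C(t))`, every subgroup of
which is normal in `C(t)`; two commuting involutions `t`, `u` have `u` conjugate to `u * t` in `C(t)`.
-/

set_option autoImplicit false
set_option linter.style.haveILetI false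
set_option linter.unusedSectionVars false

namespace Cfsg.Lib.GW

open Subgroup

universe u

variable {G : Type u} [Group G] [Finite G]

/-- The odd core of the centralizer of `t`, as a subgroup of `G`. -/
abbrev coreC (t : G) : Subgroup G :=
  (Cfsg.oddCore (centralizer ({t} : Set G))).map (centralizer ({t} : Set G)).subtype

theorem coreC_le (t : G) : coreC t ≤ centralizer ({t} : Set G) := map_subtype_le _

theorem commute_of_mem_coreC {t y : G} (hy : y ∈ coreC t) : Commute y t :=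
  mem_centralizer_singleton_iff.1 (coreC_le t hy)

theorem odd_card_coreC (t : G) : Odd (Nat.card (coreC t)) := by
  rw [card_map_of_injective (centralizer ({t} : Set G)).subtype_injective]
  exact Cfsg.Lib.ZStar.odd_card_oddCore

theorem eq_one_of_odd_sq {y : G} (hodd : Odd (orderOf y)) (h : y * y = 1) : y = 1 := by
  rcases (Nat.dvd_prime Nat.prime_two).1 (orderOf_dvd_of_pow_eq_one (x := y) (n := 2) (by rw [sq, h]))
    with h5 | h5
  · exact orderOf_eq_one_iff.1 h5
  · rw [h5] at hodd; exact absurd hodd (by decide)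

theorem eq_one_of_fixed_inverted_conj {a y : G} (hodd : Odd (orderOf y)) (hfix : a * y * a⁻¹ = y)
    (hinv : a * y * a⁻¹ = y⁻¹) : y = 1 :=
  eq_one_of_odd_sq hodd (mul_eq_one_iff_eq_inv.2 (hfix.symm.trans hinv))

theorem conj_of_commute {a y : G} (h : Commute a y) : a * y * a⁻¹ = y := by
  rw [h.eq, mul_inv_cancel_right]

/-- If an element inverts a subgroup pointwise and inverts an odd order element normalising it, the
latter centralises the subgroup. -/
theorem commute_of_inverts {B : Subgroup G} {w x b : G} (hw : ∀ c ∈ B, w * c * w⁻¹ = c⁻¹)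
    (hx : x ∈ normalizer (B : Set G)) (hwx : w * x * w⁻¹ = x⁻¹) (hodd : Odd (orderOf x)) (hb : b ∈ B) :
    Commute x b := by
  have h1 : ∀ c ∈ B, x⁻¹ * c * x = x * c * x⁻¹ := by
    intro c hc
    have hxc : x * c * x⁻¹ ∈ B := (mem_normalizer_iff.1 hx c).1 hc
    have h2 := hw _ hxc
    rw [show w * (x * c * x⁻¹) * w⁻¹ = (w * x * w⁻¹) * (w * c * w⁻¹) * (w * x * w⁻¹)⁻¹ by group,
      hwx, hw c hc, inv_inv] at h2
    have h3 := congrArg (·⁻¹) h2
    simpa [mul_assoc] using h3
  have h2 : Commute (x * x) b := by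
    have := h1 b hb
    show x * x * b = b * (x * x)
    calc x * x * b = x * (x * b * x⁻¹) * x := by group
      _ = x * (x⁻¹ * b * x) * x := by rw [this]
      _ = _ := by group
  obtain ⟨k, hk⟩ := hodd
  have h3 : x = (x * x) ^ (k + 1) := by
    rw [← sq, ← pow_mul, show 2 * (k + 1) = orderOf x + 1 by omega, pow_succ, pow_orderOf_eq_one, one_mul]
  rw [h3]
  exact h2.pow_left _

variable (hG : GWMin G) (h8 : 8 ∣ Nat.card G) (hV : KleinSelfCentralizing G)
include hG h8 hV

theorem eight_dvd_sylow (T : Sylow 2 G) : 8 ∣ Nat.card (T : Subgroup G) := by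
  haveI : Fact (Nat.Prime 2) := ⟨Nat.prime_two⟩
  exact T.pow_dvd_card_of_pow_dvd_card (n := 3) (by simpa using h8)

/-- Odd order elements of the centralizer lie in its odd core. -/
theorem mem_coreC {t y : G} (ht : orderOf t = 2) (hc : Commute y t) (hodd : Odd (orderOf y)) :
    y ∈ coreC t := by
  haveI : Fact (Nat.Prime 2) := ⟨Nat.prime_two⟩
  set C := centralizer ({t} : Set G) with hC
  have hcomp := hG.centralizer_complement ht
  let yC : C := ⟨y, mem_centralizer_singleton_iff.2 hc.eq⟩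
  have h1 : yC ∈ Cfsg.pResidual 2 C := by
    rw [← QuotientGroup.eq_one_iff]
    obtain ⟨k, hk⟩ := IsPGroup.iff_orderOf.1
      (Cfsg.Lib.Fusion.isPGroup_quotient_pResidual (G := C) (p := 2)) (yC : C ⧸ Cfsg.pResidual 2 C)
    have hd : orderOf (yC : C ⧸ Cfsg.pResidual 2 C) ∣ orderOf y := by
      rw [show orderOf y = orderOf yC by rw [← orderOf_coe]]
      exact orderOf_map_dvd (QuotientGroup.mk' _) yC
    rcases k with _ | k
    · exact orderOf_eq_one_iff.1 (by simpa using hk)
    · exfalso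
      have : Even (orderOf y) := even_iff_two_dvd.2 ((dvd_pow_self 2 k.succ_ne_zero).trans (hk ▸ hd))
      exact (Nat.not_even_iff_odd.2 hodd) this
  exact mem_map_of_mem C.subtype (Cfsg.Lib.ZStar.le_oddCore inferInstance
    (Nat.coprime_two_right.1 (Cfsg.Lib.Fusion.hasNormalPComplement_iff_coprime.1 hcomp)) h1)

/-- A 2-element commuting with an involution lies in a Sylow subgroup in which the latter is central. -/
theorem exists_sylow_pair {t s : G} (ht : orderOf t = 2) (hc : Commute s t) (hs : ∃ k, s ^ 2 ^ k = 1) :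
    ∃ T : Sylow 2 G, s ∈ (T : Subgroup G) ∧ t ∈ (T : Subgroup G) ∧ ∀ x ∈ (T : Subgroup G), x * t = t * x := by
  haveI : Fact (Nat.Prime 2) := ⟨Nat.prime_two⟩
  set C := centralizer ({t} : Set G) with hC
  obtain ⟨S, htS, htZ⟩ := hG.exists_sylow_central ht
  have hSC : (S : Subgroup G) ≤ C := fun x hx => mem_centralizer_singleton_iff.2 (htZ x hx)
  let sC : C := ⟨s, mem_centralizer_singleton_iff.2 hc.eq⟩
  have hp : IsPGroup 2 (zpowers sC) := by
    rintro ⟨x, j, rfl⟩
    obtain ⟨k, hk⟩ := hs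
    refine ⟨k, Subtype.ext (Subtype.ext ?_)⟩
    simp only [SubmonoidClass.coe_pow, SubgroupClass.coe_zpow, OneMemClass.coe_one]
    show (s ^ j) ^ 2 ^ k = 1
    rw [← zpow_natCast, zpow_comm, zpow_natCast, hk, one_zpow]
  obtain ⟨T₀, hT₀⟩ := hp.exists_le_sylow
  obtain ⟨c, hc'⟩ := MulAction.exists_smul_eq C (S.subtype hSC) T₀
  refine ⟨(c : G) • S, ?_, ?_, fun x hx => ?_⟩
  · have h1 : sC ∈ (T₀ : Subgroup C) := hT₀ (mem_zpowers sC)
    rw [← hc', Sylow.coe_subgroup_smul, Subgroup.mem_smul_pointwise_iff_exists] at h1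
    obtain ⟨z, hz, hzs⟩ := h1
    rw [Sylow.coe_subgroup_smul, Subgroup.mem_smul_pointwise_iff_exists]
    exact ⟨(z : G), hz, congrArg Subtype.val hzs⟩
  · rw [Sylow.coe_subgroup_smul, Subgroup.mem_smul_pointwise_iff_exists]
    exact ⟨t, htS, conj_of_commute (mem_centralizer_singleton_iff.1 c.2)⟩
  · rw [Sylow.coe_subgroup_smul, Subgroup.mem_smul_pointwise_iff_exists] at hx
    obtain ⟨z, hz, rfl⟩ := hx
    exact mem_centralizer_singleton_iff.1 (mul_mem (mul_mem c.2 (hSC hz)) (inv_mem c.2))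

/-- `u` is conjugate to `u * t` in the centralizer of `t`. -/
theorem exists_swap {t u : G} (ht : orderOf t = 2) (hu : orderOf u = 2) (hne : u ≠ t) (hc : Commute u t) :
    ∃ s : G, Commute s t ∧ s * u * s⁻¹ = u * t := by
  haveI : Fact (Nat.Prime 2) := ⟨Nat.prime_two⟩
  obtain ⟨V, hVK, huV, htV, -⟩ := Cfsg.Agent.S1255.exists_four
    (by rw [← sq, ← hu, pow_orderOf_eq_one]) (by rw [← sq, ← ht, pow_orderOf_eq_one])
    (Cfsg.Lib.Invol.ne_one hu) (Cfsg.Lib.Invol.ne_one ht) hne hc.eq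
  haveI := hVK
  obtain ⟨T, huT, htT, htZ⟩ := exists_sylow_pair hG h8 hV ht hc ⟨1, by simpa [hu] using pow_orderOf_eq_one u⟩
  have hVT : V ≤ (T : Subgroup G) := by
    intro w hw
    by_cases hw1 : w = 1
    · rw [hw1]; exact one_mem _
    rcases Cfsg.Lib.Invol.klein_mem_cases huV htV (Cfsg.Lib.Invol.ne_one hu) (Cfsg.Lib.Invol.ne_one ht)
      hne hw hw1 with rfl | rfl | rfl
    · exact huT
    · exact htT
    · exact mul_mem huT htT
  haveI : Group.IsNilpotent (T : Subgroup G) := T.2.isNilpotent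
  have hlt : V.subgroupOf (T : Subgroup G) < ⊤ := by
    refine lt_top_iff_ne_top.2 fun h => ?_
    rw [subgroupOf_eq_top] at h
    have h2 := Nat.le_of_dvd Nat.card_pos ((eight_dvd_sylow hG h8 hV T).trans (card_dvd_of_le h))
    rw [IsKleinFour.card_four] at h2
    omega
  obtain ⟨s, hs, hsV⟩ := SetLike.exists_of_lt (Group.normalizerCondition_of_isNilpotent _ hlt)
  refine ⟨(s : G), htZ s s.2, ?_⟩
  have hsu : (s : G) * u * (s : G)⁻¹ ∈ V := by
    have := (mem_normalizer_iff.1 hs ⟨u, huT⟩).1 huV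
    exact this
  have hne1 : (s : G) * u * (s : G)⁻¹ ≠ 1 := fun h =>
    Cfsg.Lib.Invol.ne_one hu (by simpa using conj_eq_one_iff.1 h)
  rcases Cfsg.Lib.Invol.klein_mem_cases huV htV (Cfsg.Lib.Invol.ne_one hu) (Cfsg.Lib.Invol.ne_one ht)
    hne hsu hne1 with h | h | h
  · exfalso
    refine hsV (mem_subgroupOf.2 (hV V hVK (mem_centralizer_iff.2 fun w hw => ?_)))
    have hsu' : Commute (s : G) u := mul_inv_eq_iff_eq_mul.1 h
    have hst : Commute (s : G) t := htZ s s.2
    by_cases hw1 : w = 1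
    · simp [hw1]
    rcases Cfsg.Lib.Invol.klein_mem_cases huV htV (Cfsg.Lib.Invol.ne_one hu) (Cfsg.Lib.Invol.ne_one ht)
      hne hw hw1 with rfl | rfl | rfl
    · exact hsu'.symm.eq
    · exact hst.symm.eq
    · exact (hsu'.mul_right hst).symm.eq
  · exfalso
    apply hne
    rw [mul_inv_eq_iff_eq_mul, ← (show Commute (s : G) t from htZ s s.2).eq] at h
    exact mul_left_cancel h
  · exact h

/-- Every element of the centralizer of `t` centralises or inverts the odd core. -/
theorem acts_pm {t c : G} (ht : orderOf t = 2) (hc : Commute c t) :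
    (∀ y ∈ coreC t, c * y * c⁻¹ = y) ∨ (∀ y ∈ coreC t, c * y * c⁻¹ = y⁻¹) := by
  haveI : Fact (Nat.Prime 2) := ⟨Nat.prime_two⟩
  -- some involution commutes with `t`
  obtain ⟨S, htS, htZ⟩ := hG.exists_sylow_central ht
  have habel : ∀ y ∈ coreC t, ∀ z ∈ coreC t, z * y * z⁻¹ = y := by
    obtain ⟨n, hn, ⟨e⟩⟩ := hG.sylow S
    haveI : Fact (1 < n) := ⟨by omega⟩
    obtain ⟨u, hu, huS, hut⟩ : ∃ u : G, orderOf u = 2 ∧ u ∈ (S : Subgroup G) ∧ u ≠ t := by
      by_contra hno
      push Not at hno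
      have h0 : ∀ j : ZMod n, ((e.symm (DihedralGroup.sr j)) : G) = t := fun j =>
        hno _ (by rw [orderOf_coe, MulEquiv.orderOf_eq, DihedralGroup.orderOf_sr]) (e.symm _).2
      exact zero_ne_one (DihedralGroup.sr.inj (e.symm.injective (Subtype.ext ((h0 0).trans (h0 1).symm))))
    intro y hy z hz
    have h1 := fun w (hw : w ∈ coreC t) => hG.inverts_core hV ht hu hut (htZ u huS) hw
    have e1 := h1 _ (mul_mem hz hy)
    rw [show u * (z * y) * u⁻¹ = (u * z * u⁻¹) * (u * y * u⁻¹) by group, h1 z hz, h1 y hy] at e1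
    rw [mul_inv_eq_iff_eq_mul]
    have := congrArg (·⁻¹) e1
    simpa using this.symm
  obtain ⟨k, m, hm2, hm⟩ := Nat.exists_eq_pow_mul_and_not_dvd (orderOf_pos c).ne' 2 (by norm_num)
  have hmodd : Odd m := Nat.not_even_iff_odd.1 fun h => hm2 (even_iff_two_dvd.1 h)
  obtain ⟨j, hj⟩ := hmodd
  -- `c ^ m` is the `2`-part up to a power
  have hodd : c ^ 2 ^ k ∈ coreC t := by
    refine mem_coreC hG h8 hV ht (hc.pow_left _) ?_
    refine Odd.of_dvd_nat ⟨j, hj⟩ (orderOf_dvd_of_pow_eq_one ?_)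
    rw [← pow_mul, ← hm, pow_orderOf_eq_one]
  obtain ⟨a, b, hab⟩ : IsCoprime (2 ^ k : ℤ) (m : ℤ) := by
    have : Nat.Coprime (2 ^ k) m := (Nat.coprime_two_left.2 ⟨j, hj⟩).pow_left k
    exact_mod_cast Nat.isCoprime_iff_coprime.2 this
  set s := c ^ ((m : ℤ) * b) with hsdef
  have hs2 : ∃ i, s ^ 2 ^ i = 1 := ⟨k, by
    rw [hsdef, ← zpow_natCast, ← zpow_mul,
      show (m : ℤ) * b * ((2 ^ k : ℕ) : ℤ) = (orderOf c : ℤ) * b by rw [hm]; push_cast; ring,
      zpow_mul, zpow_natCast, pow_orderOf_eq_one, one_zpow]⟩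
  have hsc : Commute s t := hc.zpow_left _
  have hrest : c = s * (c ^ 2 ^ k) ^ a := by
    rw [hsdef, ← zpow_natCast c, ← zpow_mul, ← zpow_add]
    conv_lhs => rw [← zpow_one c]
    congr 1
    rw [← hab]; push_cast; ring
  have key : (∀ y ∈ coreC t, s * y * s⁻¹ = y) ∨ (∀ y ∈ coreC t, s * y * s⁻¹ = y⁻¹) := by
    obtain ⟨T, hsT, htT, hTZ⟩ := exists_sylow_pair hG h8 hV ht hsc hs2
    by_cases hss : s * s = 1
    · by_cases h1 : s = 1
      · exact Or.inl fun y _ => by simp [h1]
      by_cases hst : s = t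
      · exact Or.inl fun y hy => conj_of_commute (hst ▸ (commute_of_mem_coreC hy).symm)
      exact Or.inr fun y hy =>
        hG.inverts_core hV ht (orderOf_eq_prime (by rw [sq, hss]) h1) hst hsc hy
    · obtain ⟨n, hn, ⟨e⟩⟩ := hG.sylow T
      obtain ⟨x, z, hx, hx1, hxt, hz, hz1, hzt, hxz⟩ := eq_mul_involutions e (z := ⟨t, htT⟩)
        (s := ⟨s, hsT⟩) (Subtype.ext (hTZ s hsT)) fun h => hss (congrArg Subtype.val h)
      refine Or.inl fun y hy => ?_
      have hox : orderOf (x : G) = 2 :=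
        orderOf_eq_prime (by rw [sq]; exact congrArg Subtype.val hx) fun h => hx1 (Subtype.ext h)
      have hoz : orderOf (z : G) = 2 :=
        orderOf_eq_prime (by rw [sq]; exact congrArg Subtype.val hz) fun h => hz1 (Subtype.ext h)
      rw [show s = (x : G) * (z : G) from congrArg Subtype.val hxz,
        show (x : G) * z * y * ((x : G) * z)⁻¹ = x * (z * y * (z : G)⁻¹) * (x : G)⁻¹ by group,
        hG.inverts_core hV ht hoz (fun h => hzt (Subtype.ext h)) (hTZ _ z.2) hy,
        hG.inverts_core hV ht hox (fun h => hxt (Subtype.ext h)) (hTZ _ x.2) (inv_mem hy), inv_inv]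
  have hcy : ∀ y ∈ coreC t, c * y * c⁻¹ = s * y * s⁻¹ := by
    intro y hy
    have h1 := habel y hy _ (zpow_mem hodd a)
    calc c * y * c⁻¹ = s * ((c ^ 2 ^ k) ^ a * y * ((c ^ 2 ^ k) ^ a)⁻¹) * s⁻¹ := by
          conv_lhs => rw [hrest]
          group
      _ = _ := by rw [h1]
  rcases key with h | h
  · exact Or.inl fun y hy => (hcy y hy).trans (h y hy)
  · exact Or.inr fun y hy => (hcy y hy).trans (h y hy)

theorem le_normalizer_of_le_coreC {t : G} (ht : orderOf t = 2) {Y : Subgroup G} (hY : Y ≤ coreC t) :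
    centralizer ({t} : Set G) ≤ normalizer (Y : Set G) := by
  intro c hc
  refine mem_normalizer_fintype fun y hy => ?_
  rcases acts_pm hG h8 hV ht (mem_centralizer_singleton_iff.1 hc) with h | h
  · rw [h y (hY hy)]; exact hy
  · rw [h y (hY hy)]; exact inv_mem hy

/-- Two commuting involutions centralising a nontrivial element of odd order are equal. -/
theorem eq_of_commute_odd {a b y : G} (ha : orderOf a = 2) (hb : orderOf b = 2) (hab : Commute a b)
    (hay : Commute a y) (hby : Commute b y) (hy : Odd (orderOf y)) (hy1 : y ≠ 1) : a = b := by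
  by_contra hne
  exact hy1 (eq_one_of_fixed_inverted_conj hy (conj_of_commute hby)
    (hG.inverts_core hV ha hb (Ne.symm hne) hab.symm (mem_coreC hG h8 hV ha hay.symm hy)))

/-- The three centralizers generate. -/
theorem le_of_three {t u : G} (ht : orderOf t = 2) (hu : orderOf u = 2) (hne : u ≠ t) (hc : Commute u t)
    {P K : Subgroup G} (hP : Odd (Nat.card P)) (htP : t ∈ normalizer (P : Set G))
    (huP : u ∈ normalizer (P : Set G))
    (h1 : ∀ x ∈ P, Commute x t → x ∈ K) (h2 : ∀ x ∈ P, Commute x u → x ∈ K)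
    (h3 : ∀ x ∈ P, Commute x (u * t) → x ∈ K) : P ≤ K := by
  obtain ⟨V, hVK, huV, htV, -⟩ := Cfsg.Agent.S1255.exists_four
    (by rw [← sq, ← hu, pow_orderOf_eq_one]) (by rw [← sq, ← ht, pow_orderOf_eq_one])
    (Cfsg.Lib.Invol.ne_one hu) (Cfsg.Lib.Invol.ne_one ht) hne hc.eq
  haveI := hVK
  haveI : IsMulCommutative V := ⟨⟨fun a b => Subtype.ext (Cfsg.Lib.Invol.klein_comm a.2 b.2)⟩⟩
  refine (Cfsg.Lib.Coprime.le_iSup_centralizer_of_not_isCyclic (A := V) (G := P)
    IsKleinFour.not_isCyclic ?_ ?_).trans (iSup_le fun a => ?_)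
  · intro w hw
    by_cases hw1 : w = 1
    · rw [hw1]; exact one_mem _
    rcases Cfsg.Lib.Invol.klein_mem_cases huV htV (Cfsg.Lib.Invol.ne_one hu) (Cfsg.Lib.Invol.ne_one ht)
      hne hw hw1 with rfl | rfl | rfl
    · exact huP
    · exact htP
    · exact mul_mem huP htP
  · rw [IsKleinFour.card_four, show (4 : ℕ) = 2 ^ 2 by norm_num]
    exact (Nat.coprime_two_left.2 hP).pow_left 2
  · obtain ⟨a, ha, ha1⟩ := a
    rintro x ⟨hx, hxa⟩
    have hxa' : Commute x a := mem_centralizer_singleton_iff.1 hxa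
    rcases Cfsg.Lib.Invol.klein_mem_cases huV htV (Cfsg.Lib.Invol.ne_one hu) (Cfsg.Lib.Invol.ne_one ht)
      hne ha ha1 with rfl | rfl | rfl
    · exact h2 x hx hxa'
    · exact h1 x hx hxa'
    · exact h3 x hx hxa'

end Cfsg.Lib.GW
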