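import Cfsg.Agent.Lib.GW.Basic

/-!
# Gorenstein–Walter: the case distinction

`GWMin G` is the situation of a minimal counterexample. The theorem on simple groups follows from four
statements about it: Step N (`StepN`: no proper overgroup of an involution centralizer has one class of
involutions), Case One (all four groups self-centralizing), Case Two (the others) and the case of
Sylow 2-subgroups of order 4 (`KleinCase`).
-/

set_option autoImplicit false

namespace Cfsg.Lib.GW

open Subgroup

universe u

/-- Simple, nonabelian, dihedral Sylow 2-subgroups, the theorem holds in smaller order. -/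
structure GWMin (G : Type u) [Group G] [Finite G] : Prop where
  isSimple : IsSimpleGroup G
  nonab : ¬ IsMulCommutative G
  sylow : SylowDihedral G
  below : GWBelow.{u} (Nat.card G)

/-- Every four group is its own centralizer. -/
def KleinSelfCentralizing (G : Type*) [Group G] : Prop :=
  ∀ V : Subgroup G, IsKleinFour V → centralizer (V : Set G) ≤ V

/-- All involutions are conjugate. -/
def OneClass (G : Type*) [Group G] : Prop :=
  ∀ a b : G, orderOf a = 2 → orderOf b = 2 → IsConj a b

/-- No proper overgroup of the centralizer of an involution has one class of involutions. -/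
def NoFusedOvergroup (G : Type*) [Group G] : Prop :=
  ∀ (t : G) (H : Subgroup G), orderOf t = 2 → centralizer ({t} : Set G) ≤ H → H ≠ ⊤ → ¬ OneClass H

/-- Step N. -/
def StepN : Prop :=
  ∀ (G : Type u) [Group G] [Finite G], GWMin G → 8 ∣ Nat.card G → NoFusedOvergroup G

/-- Case One: all four groups are self-centralizing. -/
def CaseOne : Prop :=
  ∀ (G : Type u) [Group G] [Finite G],
    GWMin G → 8 ∣ Nat.card G → NoFusedOvergroup G → KleinSelfCentralizing G → IsGW G

/-- Case Two: some four group is centralized by a nontrivial element of odd order. -/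
def CaseTwo : Prop :=
  ∀ (G : Type u) [Group G] [Finite G],
    GWMin G → 8 ∣ Nat.card G → NoFusedOvergroup G → ¬ KleinSelfCentralizing G → IsGW G

/-- The case of Sylow 2-subgroups of order 4. -/
def KleinCase : Prop :=
  ∀ (G : Type u) [Group G] [Finite G], GWMin G → ¬ 8 ∣ Nat.card G → IsGW G

/-- The theorem of Gorenstein and Walter for simple groups from the four parts. -/
theorem simpleGW_of_cases (hN : StepN.{u}) (h1 : CaseOne.{u}) (h2 : CaseTwo.{u}) (hK : KleinCase.{u}) :
    SimpleGW.{u} := by
  refine simpleGW_of_step fun G _ _ hs hna hD hb => ?_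
  have hG : GWMin G := ⟨hs, hna, hD, hb⟩
  by_cases h8 : 8 ∣ Nat.card G
  · by_cases hV : KleinSelfCentralizing G
    · exact h1 G hG h8 (hN G hG h8) hV
    · exact h2 G hG h8 (hN G hG h8) hV
  · exact hK G hG h8

end Cfsg.Lib.GW
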