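import Cfsg.Agent.Lib.GW.Gens
import Cfsg.Agent.Lib.GW.Cases
import Cfsg.Agent.Lib.Block.KleinData
import Cfsg.Agent.Lib.Block.KleinStructure
import Cfsg.Agent.Lib.Block.RegInt
import Cfsg.Agent.S4482

/-!
# Bounds from the order formulas for dihedral and four-group Sylow two-subgroups
-/

set_option autoImplicit false
set_option linter.unusedSectionVars false
set_option maxHeartbeats 400000

namespace Cfsg.Lib.GW

open Cfsg Cfsg.Lib.Block

universe u

variable {X : Type u} [Group X] [Finite X]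

variable {P : Sylow 2 X} {n : ℕ} {σ τ : X}

namespace Gens

theorem orderOf_mul (g : Gens (P : Subgroup X) n σ τ) : orderOf (σ * τ) = 2 := by
  have hτ : τ * τ = 1 := by rw [← pow_two, ← g.orderOf_τ, pow_orderOf_eq_one]
  have hτi : τ⁻¹ = τ := inv_eq_of_mul_eq_one_right hτ
  refine orderOf_eq_prime ?_ fun h => ?_
  · have := g.rel
    rw [hτi] at this
    rw [pow_two, mul_assoc, ← mul_assoc τ σ τ, this, mul_inv_cancel]
  · have h2 : orderOf σ = 2 := by rw [mul_eq_one_iff_eq_inv.1 h, hτi, g.orderOf_τ]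
    rw [g.orderOf_σ] at h2
    have := Nat.pow_le_pow_right two_pos (show 2 ≤ n - 1 by have := g.three_le; omega)
    omega

theorem τ_notMem (g : Gens (P : Subgroup X) n σ τ) : τ ∉ Subgroup.zpowers σ := by
  intro hm
  obtain ⟨i, hi⟩ := Subgroup.mem_zpowers_iff.1 hm
  have hc : Commute τ σ := hi ▸ (Commute.refl σ).zpow_left i
  have hrel := g.rel
  rw [hc.eq, mul_inv_cancel_right] at hrel
  have h2 : σ ^ 2 = 1 := by rw [pow_two]; exact mul_eq_one_iff_eq_inv.2 hrel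
  have h4 := Nat.le_of_dvd two_pos (orderOf_dvd_of_pow_eq_one h2)
  rw [g.orderOf_σ] at h4
  have := Nat.pow_le_pow_right two_pos (show 2 ≤ n - 1 by have := g.three_le; omega)
  omega

theorem toDihSylow (g : Gens (P : Subgroup X) n σ τ) : DihSylow P σ τ (2 ^ (n - 2)) := by
  have hn := g.three_le
  have h2h : 2 * 2 ^ (n - 2) = 2 ^ (n - 1) := by rw [← pow_succ']; congr 1; omega
  have hτ : τ * τ = 1 := by rw [← pow_two, ← g.orderOf_τ, pow_orderOf_eq_one]
  have hcov : ∀ x ∈ (P : Subgroup X), x ∈ Subgroup.zpowers σ ∨ x * τ ∈ Subgroup.zpowers σ := by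
    intro x hx
    obtain ⟨i, j, rfl⟩ := g.exists_eq hx
    rcases Nat.even_or_odd' j with ⟨k, rfl | rfl⟩
    · left
      rw [pow_mul, pow_two, hτ, one_pow, mul_one]
      exact ⟨i, rfl⟩
    · right
      rw [pow_succ, pow_mul, pow_two, hτ, one_pow, one_mul, mul_assoc, hτ, mul_one]
      exact ⟨i, rfl⟩
  refine ⟨Nat.even_pow.2 ⟨even_two, by omega⟩, ?_, g.σ_mem, g.τ_mem, by rw [h2h, g.orderOf_σ], hτ,
    g.rel, hcov, ?_⟩
  · exact le_trans (by norm_num) (Nat.pow_le_pow_right two_pos (by omega : 1 ≤ n - 2))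
  · have hZ : Subgroup.zpowers σ ≤ (P : Subgroup X) := Subgroup.zpowers_le.2 g.σ_mem
    have hidx : ((Subgroup.zpowers σ).subgroupOf (P : Subgroup X)).index = 2 := by
      refine Subgroup.index_eq_two_iff.2 ⟨⟨τ, g.τ_mem⟩, fun b => ?_⟩
      rcases hcov b b.2 with a | a
      · exact Or.inr ⟨a, fun hbt => g.τ_notMem (by
          have := mul_mem (inv_mem a) (show (b : X) * τ ∈ Subgroup.zpowers σ from hbt)
          rwa [inv_mul_cancel_left] at this)⟩
      · exact Or.inl ⟨a, fun hb => g.τ_notMem (by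
          have := mul_mem (inv_mem (show (b : X) ∈ Subgroup.zpowers σ from hb)) a
          rwa [inv_mul_cancel_left] at this)⟩
    rw [← ((Subgroup.zpowers σ).subgroupOf (P : Subgroup X)).card_mul_index, hidx,
      Nat.card_congr (Subgroup.subgroupOfEquivOfLe hZ).toEquiv, Nat.card_zpowers, g.orderOf_σ,
      ← h2h]
    ring

end Gens

/-- The order formula, with the congruence for the degree. -/
theorem exists_order_formula (g : Gens (P : Subgroup X) n σ τ) (h1 : OneClass X) :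
    ∃ (x : ℕ) (d : ℤ), 0 < x ∧ (d = 1 ∨ d = -1) ∧ (x : ℤ) ≠ d ∧
      ((2 ^ (n - 1) : ℕ) : ℤ) ∣ (x : ℤ) - d ∧
      (Nat.card X : ℚ) * ((x : ℚ) - d) ^ 2 = 2 * (x : ℚ) * ((x : ℚ) + d) *
        (Nat.card (Subgroup.centralizer ({σ ^ (2 ^ (n - 2))} : Set X)) : ℚ) ^ 3 *
        (1 / (Nat.card (Subgroup.centralizer ({σ ^ (2 ^ (n - 2)), τ} : Set X)) : ℚ) +
          1 / (Nat.card (Subgroup.centralizer ({σ ^ (2 ^ (n - 2)), σ * τ} : Set X)) : ℚ)) ^ 2 := by
  classical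
  letI : Fintype X := Fintype.ofFinite X
  haveI : Fact (Nat.Prime 2) := ⟨Nat.prime_two⟩
  obtain ⟨M, hM⟩ := exists_isPModular Nat.prime_two
  have hn := g.three_le
  have D := g.toDihSylow
  have h2h : 2 * 2 ^ (n - 2) = 2 ^ (n - 1) := by rw [← pow_succ']; congr 1; omega
  obtain ⟨χ₁, χ₂, χ₃, χ', δ, δ₂, δ₃, d1, -, -, -, n1, -, -, -, -, -, -, hset, -, hv, -⟩ :=
    D.principal_shape hM (Complex.isPrimitiveRoot_exp _ (by have := D.two_le; omega))
  have hB : χ₁ ∈ principalBlock M X := by rw [hset]; exact Or.inr (Or.inl rfl)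
  have hne : (χ₁ : X → ℂ) ≠ fun _ => 1 := fun h =>
    n1 (Subtype.ext (h.trans trivChar_coe.symm))
  have hval : ∀ l : ℕ, 0 < l → l < 2 ^ (n - 1) → (χ₁ : X → ℂ) (σ ^ l) = δ := fun l h0 hl =>
    (hv l h0 (h2h ▸ hl)).1
  obtain ⟨hx, hform⟩ := Cfsg.Agent.S4482.result M hM n hn P σ τ g.σ_mem g.τ_mem g.orderOf_σ
    g.orderOf_τ g.rel g.gen ⟨h1 _ _ g.orderOf_center g.orderOf_τ,
      h1 _ _ g.orderOf_center g.orderOf_mul⟩ χ₁ hB hne δ d1 hval
  refine ⟨_, δ, charDegree_pos χ₁, d1, hx, ?_, hform⟩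
  set C := Subgroup.zpowers σ
  letI : Fintype C := Fintype.ofFinite _
  obtain ⟨m, hm⟩ := (χ₁.2.isCharacter.comp C.subtype).exists_nat_classInner
    (Char.isCharacter_one (G := C))
  rw [classInner] at hm
  simp only [map_one, mul_one, Subgroup.coe_subtype] at hm
  have hcv : ∀ y : C, y ≠ 1 → (χ₁ : X → ℂ) (y : X) = δ := by
    intro y hy
    have hy' := y.2
    rw [← mem_powers_iff_mem_zpowers] at hy'
    obtain ⟨l, hl⟩ := hy'
    replace hl : σ ^ l = (y : X) := hl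
    rw [← hl, ← pow_mod_orderOf, g.orderOf_σ]
    refine hval _ (Nat.pos_of_ne_zero fun h0 => hy (Subtype.ext ?_)) (Nat.mod_lt _ (by positivity))
    rw [← hl]
    show σ ^ l = 1
    rw [← pow_mod_orderOf, g.orderOf_σ, h0, pow_zero]
  have hq : (Nat.card C : ℂ) = (2 ^ (n - 1) : ℕ) := by rw [Nat.card_zpowers, g.orderOf_σ]
  rw [← Finset.add_sum_erase _ _ (Finset.mem_univ (1 : C)),
    Finset.sum_congr rfl (fun y hy => hcv y (Finset.mem_erase.1 hy).1), Finset.sum_const,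
    Finset.card_erase_of_mem (Finset.mem_univ _), Finset.card_univ, ← Nat.card_eq_fintype_card,
    nsmul_eq_mul, Nat.cast_sub Nat.card_pos, OneMemClass.coe_one, apply_one_eq_charDegree, hq,
    inv_mul_eq_iff_eq_mul₀ (Nat.cast_ne_zero.2 (by positivity)), Nat.cast_one] at hm
  refine ⟨(m : ℤ) - δ, ?_⟩
  apply Int.cast_injective (α := ℂ)
  push_cast at hm ⊢
  linear_combination hm

theorem factor_bounds {x : ℕ} {d : ℤ} {q : ℕ} (hq : 4 ∣ q) (hd : d = 1 ∨ d = -1)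
    (hdvd : (q : ℤ) ∣ (x : ℤ) - d) (hne : (x : ℤ) ≠ d) :
    (3 : ℚ) * ((x : ℚ) - d) ^ 2 ≤ 8 * x * ((x : ℚ) + d) ∧
      8 * (x : ℚ) * ((x : ℚ) + d) ≤ 15 * ((x : ℚ) - d) ^ 2 := by
  have h4 : (4 : ℤ) ∣ (x : ℤ) - d := (Int.natCast_dvd_natCast.2 hq).trans hdvd
  rcases hd with rfl | rfl
  · have hx : (5 : ℚ) ≤ x := by exact_mod_cast (show 5 ≤ x by omega)
    constructor <;> push_cast <;> nlinarith
  · have hx : (3 : ℚ) ≤ x := by exact_mod_cast (show 3 ≤ x by omega)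
    constructor <;> push_cast <;> nlinarith

/-- Both bounds for the order. -/
theorem order_bounds (g : Gens (P : Subgroup X) n σ τ) (h1 : OneClass X) :
    let c : ℚ := Nat.card (Subgroup.centralizer ({σ ^ (2 ^ (n - 2))} : Set X))
    let a : ℚ := Nat.card (Subgroup.centralizer ({σ ^ (2 ^ (n - 2)), τ} : Set X))
    let b : ℚ := Nat.card (Subgroup.centralizer ({σ ^ (2 ^ (n - 2)), σ * τ} : Set X))
    3 / 4 * c ^ 3 * (1 / a + 1 / b) ^ 2 ≤ Nat.card X ∧
      (Nat.card X : ℚ) ≤ 15 / 4 * c ^ 3 * (1 / a + 1 / b) ^ 2 := by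
  intro c a b
  obtain ⟨x, d, -, hd, hne, hdvd, hf⟩ := exists_order_formula g h1
  obtain ⟨hl, hu⟩ := factor_bounds
    (pow_dvd_pow 2 (show 2 ≤ n - 1 by have := g.three_le; omega) : 4 ∣ 2 ^ (n - 1)) hd hdvd hne
  have hpos : 0 < ((x : ℚ) - d) ^ 2 := pow_two_pos_of_ne_zero (sub_ne_zero.2 (by exact_mod_cast hne))
  have hK : 0 ≤ c ^ 3 * (1 / a + 1 / b) ^ 2 := by positivity
  constructor
  · refine le_of_mul_le_mul_right ?_ hpos
    rw [hf]
    nlinarith [mul_le_mul_of_nonneg_left hl hK]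
  · refine le_of_mul_le_mul_right ?_ hpos
    rw [hf]
    nlinarith [mul_le_mul_of_nonneg_left hu hK]

theorem klein_sum_bounds {a b c : ℚ} {e : ℤ} (ha : 1 ≤ a) (hb : 1 ≤ b)
    (hc : 3 ≤ c) (he : e = 1 ∨ (e = -1 ∧ 3 ≤ b))
    (hrel : 1 + a + (e : ℚ) * b - c = 0) :
    8 / 15 ≤ 1 + 1 / a + (e : ℚ) / b - 1 / c ∧ 1 + 1 / a + (e : ℚ) / b - 1 / c ≤ 8 / 3 := by
  have ha0 : 0 < a := by linarith
  have hb0 : 0 < b := by linarith
  have hc0 : 0 < c := by linarith
  have hab : 0 ≤ 1 / a ∧ 1 / a ≤ 1 := ⟨by positivity, by rw [div_le_one ha0]; exact ha⟩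
  have hcc : 0 ≤ 1 / c ∧ 1 / c ≤ 1 / 3 := ⟨by positivity, one_div_le_one_div_of_le (by norm_num) hc⟩
  have hbc : 0 < b * c := mul_pos hb0 hc0
  rcases he with rfl | ⟨rfl, hb3⟩
  · have hcab : c = 1 + a + b := by push_cast at hrel; linarith
    push_cast
    refine ⟨by have : 0 ≤ 1 / b := by positivity
               linarith, ?_⟩
    have e : 1 + 1 / a + 1 / b - 1 / c = 8 / 3 -
        (5 * a * b * c - 3 * (a + b) * c + 3 * a * b) / (3 * (a * b * c)) := by
      field_simp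
      ring
    rw [e, sub_le_self_iff]
    refine div_nonneg ?_ (by positivity)
    subst hcab
    obtain ⟨p, hp, rfl⟩ : ∃ p, 0 ≤ p ∧ a = 1 + p := ⟨a - 1, by linarith, by ring⟩
    obtain ⟨q, hq, rfl⟩ : ∃ q, 0 ≤ q ∧ b = 1 + q := ⟨b - 1, by linarith, by ring⟩
    nlinarith [mul_nonneg hp hq, mul_nonneg (mul_nonneg hp hq) (add_nonneg hp hq)]
  · have haeq : a = b + c - 1 := by push_cast at hrel; linarith
    push_cast
    refine ⟨?_, by have : 1 / a ≤ 1 := hab.2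
                   have : 0 ≤ 1 / b := by positivity
                   rw [neg_div]; linarith⟩
    have e : 1 + 1 / a + -1 / b - 1 / c = 8 / 15 +
        (7 * a * b * c + 15 * b * c - 15 * a * (b + c)) / (15 * (a * b * c)) := by
      field_simp
      ring
    rw [e, le_add_iff_nonneg_right]
    refine div_nonneg ?_ (by positivity)
    subst haeq
    obtain ⟨p, hp, rfl⟩ : ∃ p, 0 ≤ p ∧ b = 3 + p := ⟨b - 3, by linarith, by ring⟩
    obtain ⟨q, hq, rfl⟩ : ∃ q, 0 ≤ q ∧ c = 3 + q := ⟨c - 3, by linarith, by ring⟩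
    nlinarith [mul_nonneg hp hq, mul_nonneg (mul_nonneg hp hq) (add_nonneg hp hq)]

/-- The two bounds for a four-group Sylow two-subgroup. -/
theorem klein_bounds (hP : KleinCond P) {z : X} (hzP : z ∈ (P : Subgroup X)) (hz : orderOf z = 2) :
    3 * (Nat.card (Subgroup.centralizer ({z} : Set X)) : ℚ) ^ 3 ≤
        Nat.card X * (Nat.card (Subgroup.centralizer ((P : Subgroup X) : Set X)) : ℚ) ^ 2 ∧
      Nat.card X * (Nat.card (Subgroup.centralizer ((P : Subgroup X) : Set X)) : ℚ) ^ 2 ≤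
        15 * (Nat.card (Subgroup.centralizer ({z} : Set X)) : ℚ) ^ 3 := by
  classical
  letI : Fintype X := Fintype.ofFinite X
  haveI : Fact (Nat.Prime 2) := ⟨Nat.prime_two⟩
  obtain ⟨M, hM⟩ := exists_isPModular Nat.prime_two
  obtain ⟨a, b, c, ha0, hb0, hc0, hab, hac, hbc, sa, sc, sb, hset⟩ := klein_exists_three hM hP hz
  obtain ⟨eb, heb, hebv⟩ : ∃ eb : ℤ, (eb = 1 ∨ eb = -1) ∧ (b : X → ℂ) z = eb := by
    rcases sb with h | h
    · exact ⟨1, Or.inl rfl, by rw [h]; norm_num⟩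
    · exact ⟨-1, Or.inr rfl, by rw [h]; norm_num⟩
  have hva : (a : X → ℂ) z = ((1 : ℤ) : ℂ) := by rw [sa]; norm_num
  have hvc : (c : X → ℂ) z = ((-1 : ℤ) : ℂ) := by rw [sc]; norm_num
  have hB : principalBlock M X = {χ : IrrCharacter X |
      (χ : X → ℂ) = (fun _ => 1) ∨ χ = a ∨ χ = b ∨ χ = c} := by
    rw [hset]
    ext χ
    simp only [Set.mem_insert_iff, Set.mem_singleton_iff, Set.mem_ofPred_eq]
    exact or_congr_left ⟨fun h => by rw [h]; rfl, fun h => Subtype.ext h⟩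
  have hd : (a : X → ℂ) ≠ (fun _ => 1) ∧ (b : X → ℂ) ≠ (fun _ => 1) ∧ (c : X → ℂ) ≠ (fun _ => 1) ∧
      a ≠ b ∧ a ≠ c ∧ b ≠ c :=
    ⟨fun h => ha0 (Subtype.ext h), fun h => hb0 (Subtype.ext h), fun h => hc0 (Subtype.ext h),
      hab, hac, hbc⟩
  have hrel := klein_degree_relation hM hP hz hB hd ⟨hva, hebv, hvc⟩
  have hord := klein_order_rat hM hP hzP hz hB hd ⟨hva, hebv, hvc⟩
  have ha4 := klein_degree_congr hM hP hz a hva
  have hb4 := klein_degree_congr hM hP hz b hebv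
  have hc4 := klein_degree_congr hM hP hz c hvc
  have hpa := charDegree_pos a
  have hpb := charDegree_pos b
  have hpc := charDegree_pos c
  obtain ⟨hl, hu⟩ := klein_sum_bounds (a := (charDegree (a : X → ℂ) : ℚ))
    (b := (charDegree (b : X → ℂ) : ℚ)) (c := (charDegree (c : X → ℂ) : ℚ)) (e := eb)
    (by exact_mod_cast hpa) (by exact_mod_cast hpb)
    (by exact_mod_cast (show 3 ≤ charDegree (c : X → ℂ) by omega))
    (heb.imp_right fun h => ⟨h, by
      exact_mod_cast (show 3 ≤ charDegree (b : X → ℂ) by rw [h] at hb4; omega)⟩)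
    (by push_cast at hrel; linear_combination hrel)
  push_cast at hord
  set S : ℚ := 1 + 1 / (charDegree (a : X → ℂ) : ℚ) + (eb : ℚ) / (charDegree (b : X → ℂ) : ℚ) -
    1 / (charDegree (c : X → ℂ) : ℚ) with hS
  set K : ℚ := Nat.card X * (Nat.card (Subgroup.centralizer ((P : Subgroup X) : Set X)) : ℚ) ^ 2
    with hK
  set C : ℚ := (Nat.card (Subgroup.centralizer ({z} : Set X)) : ℚ)
  have hKS : K * S = 8 * C ^ 3 := by rw [hK, hS]; linear_combination hord
  have hK0 : 0 ≤ K := by positivity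
  have hS0 : 0 < S := by linarith
  constructor
  · nlinarith [mul_le_mul_of_nonneg_left hu hK0]
  · nlinarith [mul_le_mul_of_nonneg_left hl hK0]

end Cfsg.Lib.GW
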