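import Cfsg.Agent.Lib.GW.Basic

/-!
# Groups with cyclic or dihedral Sylow 2-subgroups and known simple sections

Such a group has at most one component, and modulo its odd core it is a 2-group, a group of order 12 or
24 with a self-centralizing normal four group, or an extension of a simple group `E`, with trivial
centralizer and `PSL₂(q)` or `A₇`, by a solvable group of order not divisible by 4.
-/

set_option autoImplicit false
set_option linter.style.haveILetI false

namespace Cfsg.Lib.GW

open Subgroup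
open scoped commutatorElement

universe u

variable {G : Type u} [Group G] [Finite G]

theorem exists_involution_of_mem (z : G) {k : ℕ} (hk : orderOf z = 2 ^ k) (hz : z ≠ 1) :
    ∃ i : ℕ, orderOf (z ^ i) = 2 := by
  obtain ⟨j, rfl⟩ : ∃ j, k = j + 1 :=
    Nat.exists_eq_succ_of_ne_zero fun h0 => hz (orderOf_eq_one_iff.1 (by rw [hk, h0, pow_zero]))
  refine ⟨2 ^ j, ?_⟩
  rw [orderOf_pow_of_dvd (pow_ne_zero _ two_ne_zero) (hk ▸ pow_dvd_pow 2 j.le_succ), hk, pow_succ,
    Nat.mul_div_cancel_left _ (pow_pos two_pos j)]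

/-- A group with cyclic or dihedral Sylow 2-subgroups has at most one component. -/
theorem component_unique (hD : TwoCycDih G) {L₁ L₂ : Subgroup G} (h₁ : Cfsg.IsComponent L₁)
    (h₂ : Cfsg.IsComponent L₂) : L₁ = L₂ := by
  by_contra hne
  haveI : Fact (Nat.Prime 2) := ⟨Nat.prime_two⟩
  have hcomm := Cfsg.Lib.Core.component_commute h₁ h₂ hne
  obtain ⟨S₁⟩ : Nonempty (Sylow 2 ↥L₁) := inferInstance
  obtain ⟨S₂⟩ : Nonempty (Sylow 2 ↥L₂) := inferInstance
  set T₁ := (S₁ : Subgroup ↥L₁).map L₁.subtype with hT₁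
  set T₂ := (S₂ : Subgroup ↥L₂).map L₂.subtype with hT₂
  have hle₁ : T₁ ≤ L₁ := map_subtype_le _
  have hle₂ : T₂ ≤ L₂ := map_subtype_le _
  have hnorm : T₁ ≤ normalizer (T₂ : Set G) :=
    ((hle₁.trans (commutator_eq_bot_iff_le_centralizer.1 hcomm)).trans (centralizer_le hle₂)).trans
      (centralizer_le_normalizer _)
  have hP : IsPGroup 2 ↥(T₁ ⊔ T₂) :=
    IsPGroup.to_sup_of_normal_right' (S₁.2.map _) (S₂.2.map _) hnorm
  have hcyc : ∀ (L : Subgroup G) (S : Sylow 2 ↥L), Cfsg.IsComponent L →
      (S : Subgroup ↥L).map L.subtype ≤ T₁ ⊔ T₂ →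
      ¬ IsCyclic ↥(((S : Subgroup ↥L).map L.subtype).subgroupOf (T₁ ⊔ T₂)) := by
    intro L S hL hle hc
    refine not_isCyclic_sylow (Cfsg.Lib.Core.quasisimple_not_solvable hL.2) S ?_
    exact isCyclic_of_injective
      ((subgroupOfEquivOfLe hle).symm.toMonoidHom.comp
        ((S : Subgroup ↥L).equivMapOfInjective _ L.subtype_injective).toMonoidHom)
      fun a b h => ((S : Subgroup ↥L).equivMapOfInjective _ L.subtype_injective).injective
        ((subgroupOfEquivOfLe hle).symm.injective h)
  obtain ⟨z, hz1, hzA, hzB⟩ := (hD _ hP).exists_core_involution hP _ _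
    (hcyc L₁ S₁ h₁ le_sup_left) (hcyc L₂ S₂ h₂ le_sup_right)
  have hz₁ : (z : G) ∈ L₁ := hle₁ (mem_subgroupOf.1 hzA)
  have hz₂ : (z : G) ∈ L₂ := hle₂ (mem_subgroupOf.1 hzB)
  have hzc : (⟨(z : G), hz₁⟩ : ↥L₁) ∈ center ↥L₁ := mem_center_iff.2 fun x =>
    Subtype.ext (mem_centralizer_iff.1 (commutator_eq_bot_iff_le_centralizer.1 hcomm x.2) _ hz₂).symm
  obtain ⟨k, hk⟩ := IsPGroup.iff_orderOf.1 hP z
  obtain ⟨i, hi⟩ := exists_involution_of_mem z hk hz1
  refine Cfsg.Lib.Core.quasisimple_not_solvable h₁.2 (isSolvable_of_complement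
    (complement_of_central (hD.subgroup L₁) (z := (⟨(z : G), hz₁⟩ : ↥L₁) ^ i) ?_ (pow_mem hzc i)))
  rw [← orderOf_coe] at hi ⊢
  simpa using hi

/-- The three cases. -/
inductive Shape (G : Type u) [Group G] : Prop
  | twoGroup : IsPGroup 2 G → Shape G
  | four (V : Subgroup G) : V.Normal → IsKleinFour V → centralizer (V : Set G) = V →
      (Nat.card G = 12 ∨ Nat.card G = 24) → Shape G
  | component (E : Subgroup G) : E.Normal → IsSimpleGroup E → ¬ IsMulCommutative E → IsGW E →
      SylowDihedral E → centralizer (E : Set G) = ⊥ → (∀ M : Subgroup G, M.Normal → M ≠ ⊥ → E ≤ M) →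
      ¬ 4 ∣ E.index → Shape G

/-- The shape of a group with trivial odd core. -/
theorem shape (hD : TwoCycDih G) (hG : GWSections G) (hO : Cfsg.oddCore G = ⊥) : Shape G := by
  haveI : Fact (Nat.Prime 2) := ⟨Nat.prime_two⟩
  set Q := Cfsg.pCore 2 G with hQdef
  have hQ2 : IsPGroup 2 ↥Q := Cfsg.Lib.Core.pCore_isPGroup 2 G
  have hodd : ∀ N : Subgroup G, N.Normal → Odd (Nat.card N) → N = ⊥ := fun N hN h =>
    le_bot_iff.1 ((ZStar.le_oddCore hN h).trans hO.le)
  have hcompl : Cfsg.HasNormalPComplement 2 G → IsPGroup 2 G := fun hc => by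
    have hbot : Cfsg.pResidual 2 G = ⊥ := hodd _ inferInstance
      (Nat.coprime_two_right.1 (Cfsg.Lib.Fusion.hasNormalPComplement_iff_coprime.1 hc))
    exact (Cfsg.Lib.Fusion.isPGroup_quotient_pResidual (G := G) (p := 2)).of_equiv
      ((QuotientGroup.quotientMulEquivOfEq hbot).trans QuotientGroup.quotientBot)
  have hcentral : ∀ z : G, orderOf z = 2 → z ∈ center G → IsPGroup 2 G := fun z hz hzc =>
    hcompl (complement_of_central hD hz hzc)
  by_cases hQ : Q = ⊥
  · -- the component case
    rcases subsingleton_or_nontrivial G with hs | hn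
    · exact .twoGroup (fun x => ⟨0, Subsingleton.elim _ _⟩)
    have hF : Cfsg.fittingSubgroup G = ⊥ := by
      rw [Cfsg.Lib.Core.fittingSubgroup_eq_iSup_pCore, eq_bot_iff]
      refine iSup_le fun p => ?_
      haveI : Fact (p : ℕ).Prime := ⟨p.2⟩
      by_cases hp : (p : ℕ) = 2
      · rw [hp, ← hQdef, hQ]
      · refine le_of_eq (hodd _ inferInstance ?_)
        obtain ⟨k, hk⟩ := (Cfsg.Lib.Core.pCore_isPGroup (p : ℕ) G).exists_card_eq
        rw [hk]
        exact (p.2.odd_of_ne_two hp).pow
    obtain ⟨L, hL⟩ : ∃ L : Subgroup G, Cfsg.IsComponent L := by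
      by_contra hc
      push Not at hc
      refine Cfsg.Lib.Core.generalizedFitting_ne_bot (G := G) ?_
      rw [Cfsg.Lib.Core.generalizedFitting_eq_fitting_of_layer_eq_bot
        (Cfsg.Lib.Core.layer_eq_bot_iff.2 hc), hF]
    have hlayer : Cfsg.layer G = L :=
      le_antisymm (sSup_le fun K hK => (component_unique hD hK hL).le) (Cfsg.Lib.Core.le_layer hL)
    haveI hLn : L.Normal := Cfsg.Lib.Core.normal_iff_map_conj.2 fun g =>
      component_unique hD (Cfsg.Lib.Core.IsComponent.map_conj hL g) hL
    have hZ : center ↥L = ⊥ := by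
      refine (map_eq_bot_iff_of_injective _ L.subtype_injective).1 (eq_bot_iff.2 ?_)
      exact (Cfsg.Lib.Core.center_map_le_fittingSubgroup hL.1).trans hF.le
    haveI hLs : IsSimpleGroup ↥L :=
      haveI := hL.2.2
      ((QuotientGroup.quotientMulEquivOfEq hZ).trans QuotientGroup.quotientBot).symm.isSimpleGroup
    have hna : ¬ IsMulCommutative ↥L := fun h =>
      Cfsg.Lib.Core.quasisimple_not_solvable hL.2 (Cfsg.Lib.Core.isSolvable_of_isMulCommutative _)
    have hLD : SylowDihedral ↥L :=
      sylowDihedral_of_not_solvable (hD.subgroup L) (not_isSolvable_of_simple hna)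
    have hgw : IsGW ↥L := by
      haveI : IsSimpleGroup (↥L ⧸ (⊥ : Subgroup ↥L)) := QuotientGroup.quotientBot.isSimpleGroup
      refine IsGW.congr (QuotientGroup.quotientBot (G := ↥L)).symm (hG L ⊥ inferInstance fun h => hna ?_)
      exact ⟨⟨fun a b => (QuotientGroup.quotientBot (G := ↥L)).symm.injective
        (by rw [map_mul, map_mul]; exact h.is_comm.comm _ _)⟩⟩
    have hC : centralizer (L : Set G) = ⊥ := by
      have h1 : Cfsg.generalizedFittingSubgroup G = L := by
        rw [Cfsg.generalizedFittingSubgroup, hlayer, hF, sup_bot_eq]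
      have h2 := Cfsg.Lib.Core.centralizer_generalizedFitting_le (G := G)
      rw [h1] at h2
      rw [eq_bot_iff]
      intro x hx
      have hxc : (⟨x, h2 hx⟩ : ↥L) ∈ center ↥L := mem_center_iff.2 fun y =>
        Subtype.ext (mem_centralizer_iff.1 hx (y : G) y.2)
      rw [hZ, mem_bot] at hxc
      exact congrArg Subtype.val hxc
    refine .component L hLn hLs hna hgw hLD hC (fun M hM hM1 => ?_) ?_
    · haveI := hM
      have hn' : (M.subgroupOf L).Normal := inferInstance
      rcases hn'.eq_bot_or_eq_top with h | h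
      · refine absurd (eq_bot_iff.2 (le_trans ?_ hC.le)) hM1
        rw [subgroupOf_eq_bot] at h
        exact commutator_eq_bot_iff_le_centralizer.1 (eq_bot_iff.2
          ((commutator_le_inf M L).trans h.le_bot))
      · exact subgroupOf_eq_top.1 h
    · obtain ⟨S⟩ : Nonempty (Sylow 2 G) := inferInstance
      intro h4
      have hTn : (L.subgroupOf (S : Subgroup G)).Normal := inferInstance
      have hcyc : ¬ IsCyclic ↥(L.subgroupOf (S : Subgroup G)) := fun h => by
        obtain ⟨T⟩ : Nonempty (Sylow 2 ↥L) := inferInstance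
        obtain ⟨g, hg⟩ : ∃ g : G, (T : Subgroup ↥L).map L.subtype ≤
            (S : Subgroup G).map (MulAut.conj g).toMonoidHom := by
          obtain ⟨R, hR⟩ := (T.2.map L.subtype).exists_le_sylow
          obtain ⟨g, hg⟩ := MulAction.exists_smul_eq G S R
          refine ⟨g, hR.trans (le_of_eq ?_)⟩
          rw [← hg]
          exact Cfsg.Lib.Core.conj_smul_eq_map _ _
        refine not_isCyclic_sylow (not_isSolvable_of_simple hna) T ?_
        have hmem : ∀ x : ↥(T : Subgroup ↥L), g⁻¹ * ((x : ↥L) : G) * g ∈ (S : Subgroup G) := fun x => by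
          obtain ⟨s, hs, he⟩ := hg (mem_map_of_mem L.subtype x.2)
          have he' : g * s * g⁻¹ = ((x : ↥L) : G) := he
          rw [← he']; group; exact hs
        refine isCyclic_of_injective (MonoidHom.mk' (fun x : ↥(T : Subgroup ↥L) =>
          (⟨⟨g⁻¹ * ((x : ↥L) : G) * g, hmem x⟩, mem_subgroupOf.2 (by
            simpa using hLn.conj_mem _ (x : ↥L).2 g⁻¹)⟩ : ↥(L.subgroupOf (S : Subgroup G))))
          (fun a b => Subtype.ext (Subtype.ext (by simp [mul_assoc])))) fun a b hab => ?_
        have := congrArg (fun z : ↥(L.subgroupOf (S : Subgroup G)) => ((z : ↥(S : Subgroup G)) : G)) hab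
        exact Subtype.ext (Subtype.ext (by simpa using this))
      have h2 : L.relIndex (S : Subgroup G) ≤ 2 := (hD _ S.2).index_le_of_normal _ hcyc
      obtain ⟨a, ha⟩ := S.2.exists_card_eq
      have h3 := relIndex_mul_index (le_sup_left : L ≤ L ⊔ (S : Subgroup G))
      rw [relIndex_sup_left] at h3
      have h4' : ¬ 2 ∣ (L ⊔ (S : Subgroup G)).index := fun h =>
        S.not_dvd_index (h.trans (index_dvd_of_le le_sup_right))
      have h5 : Nat.Coprime 4 (L ⊔ (S : Subgroup G)).index :=
        (Nat.Coprime.pow_left 2 (Nat.prime_two.coprime_iff_not_dvd.2 h4') : Nat.Coprime (2 ^ 2) _)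
      have h6 : 4 ∣ L.relIndex (S : Subgroup G) := by
        rw [← h3] at h4
        exact h5.dvd_of_dvd_mul_right h4
      have h7 : L.relIndex (S : Subgroup G) ≠ 0 := index_ne_zero_of_finite
      have := Nat.le_of_dvd (Nat.pos_of_ne_zero h7) h6
      omega
  · -- a nontrivial normal 2-subgroup
    obtain ⟨y, hy, hy1⟩ := (bot_or_exists_ne_one Q).resolve_left hQ
    obtain ⟨k, hk⟩ := IsPGroup.iff_orderOf.1 hQ2 ⟨y, hy⟩
    rw [← orderOf_coe] at hk
    obtain ⟨i, hi⟩ := exists_involution_of_mem y hk hy1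
    have hcd := hD Q hQ2
    by_cases h4 : ∃ a : ↥Q, a ^ 2 ≠ 1
    · -- the involution which is a square is central
      obtain ⟨a, ha⟩ := h4
      obtain ⟨j, hj⟩ := IsPGroup.iff_orderOf.1 hQ2 (a * a)
      obtain ⟨l, hl⟩ := exists_involution_of_mem (a * a) hj (by rwa [← pow_two])
      rw [(Commute.refl a).mul_pow] at hl
      refine .twoGroup (hcentral ((a ^ l * a ^ l : ↥Q) : G) (by rw [orderOf_coe]; exact hl)
        (mem_center_iff.2 fun g => ?_))
      have hconj : orderOf ((MulAut.conjNormal g (a ^ l) * MulAut.conjNormal g (a ^ l) : ↥Q)) = 2 := by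
        rw [← map_mul, MulEquiv.orderOf_eq, hl]
      have he := hcd.square_involution_unique hconj hl
      rw [← map_mul] at he
      have := congrArg Subtype.val he
      rw [MulAut.conjNormal_apply] at this
      exact mul_inv_eq_iff_eq_mul.1 this
    push Not at h4
    by_cases h2 : Nat.card ↥Q ≤ 2
    · refine .twoGroup (hcentral (y ^ i) hi (mem_center_iff.2 fun g => ?_))
      have hy2 : y ^ i ∈ Q := pow_mem hy i
      by_contra hc
      have hne1 : y ^ i ≠ 1 := fun h => by rw [h, orderOf_one] at hi; exact absurd hi (by norm_num)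
      have hcy : g * y ^ i * g⁻¹ ∈ Q := Normal.conj_mem inferInstance _ hy2 g
      have h3 : ({1, y ^ i, g * y ^ i * g⁻¹} : Set G).ncard = 3 := by
        refine Set.ncard_eq_three.2 ⟨_, _, _, hne1.symm, ?_, ?_, rfl⟩
        · intro h
          apply hne1
          simpa using conj_eq_one_iff.1 h.symm
        · exact fun h => hc (mul_inv_eq_iff_eq_mul.1 h.symm)
      have := Set.ncard_le_ncard (show ({1, y ^ i, g * y ^ i * g⁻¹} : Set G) ⊆ (Q : Set G) by
        rintro x (rfl | rfl | rfl) <;> first | exact one_mem Q | assumption) (Set.toFinite _)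
      rw [h3, ← Nat.card_coe_set_eq] at this
      exact absurd (this.trans h2) (by norm_num)
    -- a four group
    have hexp : Monoid.exponent ↥Q ∣ 2 := Monoid.exponent_dvd_of_forall_pow_eq_one h4
    have hQcard : Nat.card ↥Q = 4 := by
      obtain ⟨R, hR, hidx, -⟩ := hcd
      have hR2 : Nat.card ↥R ≤ 2 := by
        haveI := hR
        exact Cfsg.Lib.FTCons.MetacyclicSylow.small_of_sq fun r => Subtype.ext (h4 r)
      have := card_mul_index R
      obtain ⟨b, hb⟩ := hQ2.exists_card_eq
      have hle : Nat.card ↥Q ≤ 4 := by rw [← this]; exact Nat.mul_le_mul hR2 hidx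
      rw [hb] at hle h2 ⊢
      have : b ≤ 2 := by
        by_contra hb'
        have : 2 ^ 3 ≤ 2 ^ b := Nat.pow_le_pow_right two_pos (by omega)
        omega
      interval_cases b <;> simp_all
    have hK : IsKleinFour ↥Q := by
      refine ⟨hQcard, ?_⟩
      rcases (Nat.dvd_prime Nat.prime_two).1 hexp with h | h
      · exfalso
        haveI := Monoid.exp_eq_one_iff.1 h
        have h1 : Nat.card ↥Q = 1 := Nat.card_of_subsingleton (1 : ↥Q)
        omega
      · exact h
    have hCQ : centralizer (Q : Set G) = Q := by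
      refine le_antisymm ?_ fun x hx => mem_centralizer_iff.2 fun w hw => ?_
      · have hxQ : (⟨y ^ i, pow_mem hy i⟩ : ↥Q) = ⟨y ^ i, pow_mem hy i⟩ := rfl
        set C := centralizer (Q : Set G)
        have hzc : (⟨y ^ i, mem_centralizer_iff.2 fun w hw =>
            congrArg Subtype.val ((mul_comm_of_exponent_two hK.exponent_two ⟨w, hw⟩ ⟨y ^ i, pow_mem hy i⟩))⟩ :
              ↥C) ∈ center ↥C :=
          mem_center_iff.2 fun c => Subtype.ext (mem_centralizer_iff.1 c.2 _ (pow_mem hy i)).symm
        have hc := complement_of_central (hD.subgroup C) (by rw [← orderOf_coe]; exact hi) hzc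
        refine Cfsg.Lib.Core.le_pCore' inferInstance ?_
        haveI : (Cfsg.pResidual 2 ↥C).Characteristic :=
          characteristic_iff_map_eq.2 fun e => Cfsg.Lib.Fusion.map_pResidual_equiv e
        have hbot : Cfsg.pResidual 2 ↥C = ⊥ := by
          refine (map_eq_bot_iff_of_injective _ C.subtype_injective).1 (hodd _
            (Cfsg.Lib.Core.normal_map_char_of_normal _) ?_)
          rw [card_map_of_injective C.subtype_injective]
          exact Nat.coprime_two_right.1 (Cfsg.Lib.Fusion.hasNormalPComplement_iff_coprime.1 hc)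
        exact (Cfsg.Lib.Fusion.isPGroup_quotient_pResidual (G := ↥C) (p := 2)).of_equiv
          ((QuotientGroup.quotientMulEquivOfEq hbot).trans QuotientGroup.quotientBot)
      · exact congrArg Subtype.val (mul_comm_of_exponent_two hK.exponent_two ⟨w, hw⟩ ⟨x, hx⟩)
    -- the action on the three involutions
    let f : G →* Equiv.Perm {v : ↥Q // v ≠ 1} :=
      MonoidHom.mk' (fun g => (MulAut.conjNormal g : MulAut ↥Q).toEquiv.subtypeEquiv fun v =>
          not_congr (map_eq_one_iff _ (MulEquiv.injective _)).symm)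
        fun a b => Equiv.ext fun v => Subtype.ext (by simp)
    have hker : f.ker = Q := by
      refine le_antisymm ?_ fun q hq => ?_
      · refine le_trans ?_ hCQ.le
        intro g hg
        refine mem_centralizer_iff.2 fun w hw => ?_
        rcases eq_or_ne w 1 with rfl | hw1
        · simp
        · have hfix := congrArg (fun σ : Equiv.Perm {v : ↥Q // v ≠ 1} =>
              ((σ ⟨⟨w, hw⟩, fun h => hw1 (congrArg Subtype.val h)⟩ : ↥Q) : G)) (MonoidHom.mem_ker.1 hg)
          have hfix' : g * w * g⁻¹ = w := by simpa [f] using hfix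
          exact (mul_inv_eq_iff_eq_mul.1 hfix').symm
      · refine MonoidHom.mem_ker.2 (Equiv.ext fun v => Subtype.ext (Subtype.ext ?_))
        have hm := mem_centralizer_iff.1 (hCQ.ge hq) _ v.1.2
        show q * ((v : ↥Q) : G) * q⁻¹ = _
        rw [← hm, mul_inv_cancel_right]
        rfl
    have hdvd : Q.index ∣ 6 := by
      have h1 := card_subgroup_dvd_card f.range
      rw [← index_ker, hker] at h1
      classical
      have hc3 : Nat.card {v : ↥Q // v ≠ 1} = 3 := by
        haveI := Fintype.ofFinite ↥Q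
        rw [Nat.card_eq_fintype_card, Fintype.card_subtype_compl, Fintype.card_subtype_eq,
          ← Nat.card_eq_fintype_card, hQcard]
      rw [Nat.card_perm, hc3] at h1
      simpa [Nat.factorial] using h1
    have hG4 : Nat.card G = 4 * Q.index := by rw [← card_mul_index Q, hQcard]
    have hcases : Q.index = 1 ∨ Q.index = 2 ∨ Q.index = 3 ∨ Q.index = 6 := by
      have := Nat.le_of_dvd (by norm_num) hdvd
      interval_cases h : Q.index <;> simp_all
    rcases hcases with h | h | h | h
    · exact .twoGroup (IsPGroup.of_card (n := 2) (by rw [hG4, h]; norm_num))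
    · exact .twoGroup (IsPGroup.of_card (n := 3) (by rw [hG4, h]; norm_num))
    · exact .four Q inferInstance hK hCQ (Or.inl (by rw [hG4, h]))
    · exact .four Q inferInstance hK hCQ (Or.inr (by rw [hG4, h]))

end Cfsg.Lib.GW
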