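import Cfsg.Agent.Lib.GW.Min
import Cfsg.Agent.Lib.GW.Shape
import Cfsg.Agent.S0205
import Cfsg.Agent.Lib.ZStar.Main
import Cfsg.Agent.Lib.PGroup.Basic

/-!
# Gorenstein–Walter, Case Two: how the parts compose

`Fused t M`: some `M`-conjugate of `t` other than `t` commutes with `t`.  If the centralizers of the
involutions are not maximal subgroups and no maximal overgroup with odd Fitting subgroup containing
its centralizer has an unfused four group, every centralizer lies in a proper fused overgroup.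
Case Two follows from these two facts and the treatment of fused overgroups.
-/

set_option autoImplicit false
set_option linter.unusedSectionVars false

namespace Cfsg.Lib.GW

open Subgroup

universe u

/-- Some conjugate of `t` in `M`, other than `t`, commutes with `t`. -/
def Fused {G : Type*} [Group G] (t : G) (M : Subgroup G) : Prop :=
  ∃ m ∈ M, Commute (m * t * m⁻¹) t ∧ m * t * m⁻¹ ≠ t

/-- Theorem A: no maximal overgroup with odd generalized Fitting subgroup has an unfused four group. -/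
def NoOddMax (G : Type u) [Group G] [Finite G] : Prop :=
  ∀ (t : G) (M : Subgroup G), orderOf t = 2 → IsCoatom M → centralizer ({t} : Set G) ≤ M →
    Cfsg.layer ↥M = ⊥ → Odd (Nat.card (Cfsg.fittingSubgroup ↥M)) →
    ∀ u : G, orderOf u = 2 → Commute u t → u ≠ t → (∀ m ∈ M, m * t * m⁻¹ ≠ u) → False

/-- The centralizer of an involution is not a maximal subgroup. -/
def NoMaxCentralizer (G : Type u) [Group G] : Prop :=
  ∀ t : G, orderOf t = 2 → ¬ IsCoatom (centralizer ({t} : Set G))

/-- The treatment of the fused overgroups. -/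
def FusedFinish (G : Type u) [Group G] : Prop :=
  ∀ (t : G) (M : Subgroup G), orderOf t = 2 → centralizer ({t} : Set G) ≤ M → IsCoatom M → Fused t M → IsGW G

/-- A dihedral group of order at least six has at most one central involution. -/
theorem dihedral_central_unique {n : ℕ} (hn : 3 ≤ n) {a b : DihedralGroup n}
    (ha : a ∈ center (DihedralGroup n)) (ha1 : a ≠ 1) (hb : b ∈ center (DihedralGroup n)) (hb1 : b ≠ 1) :
    a = b := by
  haveI : NeZero n := ⟨by omega⟩
  have key : ∀ c ∈ center (DihedralGroup n), c ≠ 1 → ∃ i : ZMod n, c = DihedralGroup.r i ∧ 2 * i.val = n := by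
    intro c hc hc1
    rw [mem_center_iff] at hc
    rcases c with i | i
    · have h := hc (DihedralGroup.sr 0)
      rw [DihedralGroup.sr_mul_r, DihedralGroup.r_mul_sr, DihedralGroup.sr.injEq, zero_sub, zero_add] at h
      rcases (ZMod.neg_eq_self_iff i).1 h.symm with h0 | h0
      · exact absurd (by rw [h0, DihedralGroup.one_def]) hc1
      · exact ⟨i, rfl, h0⟩
    · have h := hc (DihedralGroup.r 1)
      rw [DihedralGroup.r_mul_sr, DihedralGroup.sr_mul_r, DihedralGroup.sr.injEq] at h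
      have h2 : ((2 : ℕ) : ZMod n) = 0 := by push_cast; linear_combination -h
      rw [ZMod.natCast_eq_zero_iff] at h2
      exact absurd (Nat.le_of_dvd two_pos h2) (by omega)
  obtain ⟨i, rfl, hi⟩ := key a ha ha1
  obtain ⟨j, rfl, hj⟩ := key b hb hb1
  rw [ZMod.val_injective n (show i.val = j.val by omega)]

variable {G : Type u} [Group G] [Finite G]

/-- A central involution of a Sylow subgroup is unique. -/
theorem GWMin.central_unique (hG : GWMin G) (h8 : 8 ∣ Nat.card G) (S : Sylow 2 G) {a b : G}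
    (ha : a ∈ (S : Subgroup G)) (ha1 : a ≠ 1) (hac : ∀ x ∈ (S : Subgroup G), x * a = a * x)
    (hb : b ∈ (S : Subgroup G)) (hb1 : b ≠ 1) (hbc : ∀ x ∈ (S : Subgroup G), x * b = b * x) : a = b := by
  haveI : Fact (Nat.Prime 2) := ⟨Nat.prime_two⟩
  obtain ⟨n, hn, ⟨e⟩⟩ := hG.sylow S
  have h8S : 8 ∣ Nat.card (S : Subgroup G) := S.pow_dvd_card_of_pow_dvd_card (n := 3) (by simpa using h8)
  rw [Nat.card_congr e.toEquiv, DihedralGroup.nat_card] at h8S
  have hn3 : 3 ≤ n := by omega
  have hmem : ∀ (z : G) (hz : z ∈ (S : Subgroup G)), (∀ x ∈ (S : Subgroup G), x * z = z * x) →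
      e ⟨z, hz⟩ ∈ center (DihedralGroup n) := fun z hz hc => mem_center_iff.2 fun g => by
    obtain ⟨w, rfl⟩ := e.surjective g
    rw [← map_mul, ← map_mul]
    exact congrArg e (Subtype.ext (hc w w.2))
  have h1 : ∀ (z : G) (hz : z ∈ (S : Subgroup G)), z ≠ 1 → e ⟨z, hz⟩ ≠ 1 := fun z hz hz1 h =>
    hz1 (congrArg Subtype.val ((MulEquiv.map_eq_one_iff e).1 h))
  exact congrArg Subtype.val (e.injective
    (dihedral_central_unique hn3 (hmem a ha hac) (h1 a ha ha1) (hmem b hb hbc) (h1 b hb hb1)))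

/-- Every centralizer of an involution lies in a fused maximal subgroup. -/
theorem fused_overgroup (hG : GWMin G) (h8 : 8 ∣ Nat.card G) (hA : NoOddMax G) (hC : NoMaxCentralizer G)
    {t : G} (ht : orderOf t = 2) :
    ∃ M : Subgroup G, IsCoatom M ∧ centralizer ({t} : Set G) ≤ M ∧ Fused t M := by
  haveI : Fact (Nat.Prime 2) := ⟨Nat.prime_two⟩
  obtain ⟨S, htS, htZ⟩ := hG.exists_sylow_central ht
  have ht1 : t ≠ 1 := Cfsg.Lib.Invol.ne_one ht
  have hCtop : centralizer ({t} : Set G) ≠ ⊤ := by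
    intro h
    haveI := hG.isSimple
    have hz : t ∈ center G := mem_center_iff.2 fun g =>
      mem_centralizer_singleton_iff.1 (h ▸ mem_top g)
    rcases IsSimpleGroup.eq_bot_or_eq_top_of_normal (center G) inferInstance with h' | h'
    · exact ht1 (mem_bot.1 (h' ▸ hz))
    · exact hG.nonab ⟨⟨fun a b => mem_center_iff.1 (h' ▸ mem_top b) a⟩⟩
  obtain ⟨M, hM, hCM⟩ := (eq_top_or_exists_le_coatom (centralizer ({t} : Set G))).resolve_left hCtop
  refine ⟨M, hM, hCM, ?_⟩
  by_contra hF
  simp only [Fused, not_exists, not_and, not_not] at hF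
  have htM : t ∈ M := hCM (mem_centralizer_singleton_iff.2 rfl)
  have hSM : (S : Subgroup G) ≤ M := fun x hx => hCM (mem_centralizer_singleton_iff.2 (htZ x hx))
  -- `t` is isolated, so `M` is solvable
  let T : M := ⟨t, htM⟩
  have hTo : orderOf T = 2 := by rw [← orderOf_coe]; exact ht
  have hiso : Cfsg.IsIsolatedInvolution T := ⟨hTo, fun g hc => Subtype.ext (hF g g.2
    (show Commute ((g : G) * t * (g : G)⁻¹) t from (congrArg Subtype.val hc.eq).symm))⟩
  have hsolv : Group.IsSolvable M := by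
    set O := Cfsg.oddCore ↥M with hOdef
    have hOs : Group.IsSolvable ↥O := Cfsg.Agent.S0205.result Cfsg.Lib.ZStar.odd_card_oddCore
    have hz : (T : ↥M ⧸ O) ∈ center (↥M ⧸ O) := mem_center_iff.2 fun g => by
      obtain ⟨m, rfl⟩ := QuotientGroup.mk_surjective g
      rw [← QuotientGroup.mk_mul, ← QuotientGroup.mk_mul, QuotientGroup.eq]
      have h := Cfsg.Lib.ZStar.zStarHolds M T hiso m⁻¹
      rw [show (m * T)⁻¹ * (T * m) = (T * m⁻¹ * T⁻¹ * m⁻¹⁻¹) * 1 by
        rw [mul_one, inv_inv, mul_inv_rev, show T⁻¹ = T from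
          inv_eq_of_mul_eq_one_right (by rw [← sq, ← hTo, pow_orderOf_eq_one])]
        group]
      exact mul_mem h (one_mem _)
    have hne : (T : ↥M ⧸ O) ≠ 1 := fun h =>
      Cfsg.Lib.ZStar.notMem_oddCore hTo ((QuotientGroup.eq_one_iff _).1 h)
    have ho : orderOf (T : ↥M ⧸ O) = 2 := orderOf_eq_prime (by
      rw [← QuotientGroup.mk_pow, show T ^ 2 = 1 from hTo ▸ pow_orderOf_eq_one T]; rfl) hne
    haveI := hOs
    haveI : Group.IsSolvable (↥M ⧸ O) :=
      isSolvable_of_complement (complement_of_central ((hG.twoCycDih.subgroup M).quotient O) ho hz)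
    exact Group.isSolvable_of_ker_le_range O.subtype (QuotientGroup.mk' O) (by simp)
  have hlayer : Cfsg.layer ↥M = ⊥ := Cfsg.Lib.Core.layer_eq_bot_iff.2 fun _ hL =>
    haveI := hsolv
    Cfsg.Lib.Core.component_not_le_solvable hL (H := ⊤) inferInstance le_top
  -- the normal two-subgroup is trivial
  have hQ : Cfsg.pCore 2 M = ⊥ := by
    by_contra hQ
    have hQS : Cfsg.pCore 2 M ≤ ((S.subtype hSM : Sylow 2 M) : Subgroup M) :=
      Cfsg.Lib.Core.pCore_le_sylow _
    set R : Subgroup (S : Subgroup G) := ((Cfsg.pCore 2 M).map M.subtype).subgroupOf (S : Subgroup G)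
    have hRn : R.Normal := ⟨fun x hx s => by
      obtain ⟨q, hq, hqe⟩ := mem_subgroupOf.1 hx
      refine mem_subgroupOf.2 ⟨⟨s, hSM s.2⟩ * q * ⟨s, hSM s.2⟩⁻¹,
        Subgroup.Normal.conj_mem inferInstance _ hq _, ?_⟩
      simp only [map_mul, map_inv, hqe]
      rfl⟩
    have hR1 : R ≠ ⊥ := fun h => hQ ((eq_bot_iff_forall _).2 fun q hq => by
      have hm : (⟨(q : G), (hQS hq)⟩ : (S : Subgroup G)) ∈ R := mem_subgroupOf.2 (mem_map_of_mem _ hq)
      rw [h, mem_bot] at hm
      exact Subtype.ext (congrArg (fun w : (S : Subgroup G) => (w : G)) hm))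
    haveI := hRn
    obtain ⟨⟨z, hzS⟩, hz, hz1⟩ := (bot_or_exists_ne_one _).resolve_left
      (Cfsg.Lib.PGroup.inf_center_ne_bot S.isPGroup' (N := R) hR1)
    have hzt : z = t := hG.central_unique h8 S hzS (fun h => hz1 (Subtype.ext h))
      (fun x hx => congrArg Subtype.val (mem_center_iff.1 hz.2 ⟨x, hx⟩)) htS ht1 htZ
    subst hzt
    obtain ⟨q, hq, hqt⟩ := mem_subgroupOf.1 hz.1
    obtain rfl : q = T := Subtype.ext hqt
    have hMC : M ≤ centralizer ({(T : G)} : Set G) := fun g hg => by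
      have h1 : (⟨g, hg⟩ : M) * T * (⟨g, hg⟩ : M)⁻¹ ∈ ((S.subtype hSM : Sylow 2 M) : Subgroup M) :=
        hQS (Subgroup.Normal.conj_mem inferInstance _ hq _)
      have h2 : g * (T : G) * g⁻¹ = T := hF g hg (htZ _ h1)
      exact mem_centralizer_singleton_iff.2 (mul_inv_eq_iff_eq_mul.1 h2)
    exact hC _ ht (le_antisymm hCM hMC ▸ hM)
  have hodd : Odd (Nat.card (Cfsg.fittingSubgroup M)) := by
    haveI := Cfsg.Lib.Core.fittingSubgroup_isNilpotent M
    rw [← Nat.coprime_two_left, Nat.prime_two.coprime_iff_not_dvd]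
    intro h2
    obtain ⟨R⟩ : Nonempty (Sylow 2 (Cfsg.fittingSubgroup M)) := inferInstance
    have hRn : (R : Subgroup (Cfsg.fittingSubgroup M)).Normal :=
      Sylow.normal_of_normalizerCondition Group.normalizerCondition_of_isNilpotent R
    haveI := R.characteristic_of_normal hRn
    haveI := Cfsg.Lib.Core.fittingSubgroup_normal' M
    have hle := Cfsg.Lib.Core.le_pCore' (p := 2)
      (Cfsg.Lib.Core.normal_map_char_of_normal (R : Subgroup (Cfsg.fittingSubgroup M))) (R.2.map _)
    rw [hQ, le_bot_iff, map_eq_bot_iff_of_injective _ (Cfsg.fittingSubgroup M).subtype_injective] at hle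
    exact R.ne_bot_of_dvd_card h2 hle
  -- an involution of the centralizer other than `t`
  obtain ⟨n, hn, ⟨e⟩⟩ := hG.sylow S
  haveI : Fact (1 < n) := ⟨by omega⟩
  obtain ⟨u, hu, huS, hut⟩ : ∃ u : G, orderOf u = 2 ∧ u ∈ (S : Subgroup G) ∧ u ≠ t := by
    by_contra hno
    push Not at hno
    have h0 : ∀ j : ZMod n, ((e.symm (DihedralGroup.sr j)) : G) = t := fun j =>
      hno _ (by rw [orderOf_coe, MulEquiv.orderOf_eq, DihedralGroup.orderOf_sr]) (e.symm _).2
    exact zero_ne_one (DihedralGroup.sr.inj (e.symm.injective (Subtype.ext ((h0 0).trans (h0 1).symm))))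
  refine hA t M ht hM hCM hlayer hodd u hu (htZ u huS) hut fun m hm he => hut ?_
  rw [← he]
  exact hF m hm (by rw [he]; exact htZ u huS)

/-- Case Two from the parts. -/
theorem caseTwo_of_parts
    (hA : ∀ (G : Type u) [Group G] [Finite G], GWMin G → 8 ∣ Nat.card G → NoFusedOvergroup G → NoOddMax G)
    (hC : ∀ (G : Type u) [Group G] [Finite G], GWMin G → 8 ∣ Nat.card G → NoFusedOvergroup G →
      ¬ KleinSelfCentralizing G → NoMaxCentralizer G)
    (hF : ∀ (G : Type u) [Group G] [Finite G], GWMin G → 8 ∣ Nat.card G → NoFusedOvergroup G →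
      ¬ KleinSelfCentralizing G → FusedFinish G) : CaseTwo.{u} := by
  intro G _ _ hG h8 hN hV
  haveI : Fact (Nat.Prime 2) := ⟨Nat.prime_two⟩
  obtain ⟨t, ht⟩ := exists_prime_orderOf_dvd_card' (G := G) 2 ((show (2 : ℕ) ∣ 8 by norm_num).trans h8)
  obtain ⟨M, hM, hCM, hfus⟩ := fused_overgroup hG h8 (hA G hG h8 hN) (hC G hG h8 hN hV) ht
  exact hF G hG h8 hN hV t M ht hCM hM hfus

end Cfsg.Lib.GW
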