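import Cfsg.Agent.Lib.GW.MainReduction
import Cfsg.Agent.Lib.GW.CMax.HeisenbergReduce

/-!
# The theorem of Gorenstein and Walter for simple groups
-/

set_option autoImplicit false

namespace Cfsg.Lib.GW

universe u

/-- The simple groups with dihedral Sylow 2-subgroups. -/
theorem simpleGW : SimpleGW.{u} :=
  simpleGW_of_reduction CMax.reduction

end Cfsg.Lib.GW
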