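import Cfsg.Agent.Lib.GW.QGroup
import Cfsg.Agent.Lib.DihedralAut
import Cfsg.Agent.Lib.FusionSys.SimpleTwo
import Cfsg.Agent.Lib.Fusion.Basic
import Cfsg.Agent.S1213
import Cfsg.Agent.S2602

/-!
# Commutator subgroups of Q-groups, from the theorem of Gorenstein and Walter
-/

set_option autoImplicit false
set_option linter.style.haveILetI false

namespace Cfsg.Lib.GW

open Subgroup Cfsg.Lib.TwoGroup
open scoped commutatorElement MatrixGroups

universe u

theorem out_psl_two_comm {F : Type} [Field F] [Fintype F] (h4 : 4 ≤ Fintype.card F)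
    (a b : Cfsg.Out (Matrix.ProjectiveSpecialLinearGroup (Fin 2) F)) : a * b = b * a := by
  obtain ⟨p, hp⟩ := CharP.exists F
  obtain ⟨f, hpp, hF⟩ := FiniteField.card F p
  haveI : Fact p.Prime := ⟨hpp⟩
  obtain ⟨φ, -, -, hk⟩ := Cfsg.Agent.S2602.result (F := F) f.pos hF (hF ▸ h4)
  haveI : IsCyclic (Multiplicative (ZMod f)) := inferInstance
  refine commutative_of_cyclic_center_quotient φ (fun z hz => ?_) a b
  by_cases h2 : Nat.gcd 2 (p ^ (f : ℕ) - 1) = 1
  · rw [h2, Subgroup.card_eq_one] at hk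
    rw [hk, Subgroup.mem_bot] at hz
    rw [hz]; exact one_mem _
  have hk2 : Nat.card φ.ker = 2 := by
    rw [hk]
    exact ((Nat.dvd_prime Nat.prime_two).1 (Nat.gcd_dvd_left _ _)).resolve_left h2
  obtain ⟨u, v, huv, huniv⟩ := Nat.card_eq_two_iff.1 hk2
  refine mem_center_iff.2 fun g => ?_
  by_cases hz1 : z = 1
  · simp [hz1]
  have hall : ∀ w : φ.ker, w ≠ 1 → w = ⟨z, hz⟩ := by
    intro w hw
    have hw' : w ∈ ({u, v} : Set φ.ker) := huniv ▸ Set.mem_univ _
    have hz' : (⟨z, hz⟩ : φ.ker) ∈ ({u, v} : Set φ.ker) := huniv ▸ Set.mem_univ _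
    have h1' : (1 : φ.ker) ∈ ({u, v} : Set φ.ker) := huniv ▸ Set.mem_univ _
    have hzne : (⟨z, hz⟩ : φ.ker) ≠ 1 := fun h => hz1 (congrArg Subtype.val h)
    rcases hw' with rfl | rfl <;> rcases hz' with h2 | h2 <;> rcases h1' with h3 | h3 <;>
      first | exact h2.symm | exact absurd (h2.trans h3.symm) hzne | exact absurd h3.symm hw
  have h3 := hall ⟨g * z * g⁻¹, φ.normal_ker.conj_mem z hz g⟩ (fun h => hz1 (by
    have h4 : g * z * g⁻¹ = 1 := congrArg Subtype.val h
    exact conj_eq_one_iff.1 h4))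
  exact mul_inv_eq_iff_eq_mul.1 (congrArg Subtype.val h3)

theorem not_comm_quaternion {Q : Type*} [Group Q] {m : ℕ} (hm : 1 ≤ m)
    (e : Q ≃* QuaternionGroup (2 ^ m)) : ¬ ∀ a b : Q, a * b = b * a := by
  haveI : NeZero (2 ^ m) := ⟨by positivity⟩
  intro hc
  have h1 : (QuaternionGroup.xa 0 : QuaternionGroup (2 ^ m)) * QuaternionGroup.a 1 =
      QuaternionGroup.a 1 * QuaternionGroup.xa 0 :=
    e.symm.injective (by rw [map_mul, map_mul]; exact hc _ _)
  simp only [QuaternionGroup.xa_mul_a, QuaternionGroup.a_mul_xa, QuaternionGroup.xa.injEq] at h1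
  have h2 : ((2 : ℕ) : ZMod (2 * 2 ^ m)) = 0 := by linear_combination h1
  rw [ZMod.natCast_eq_zero_iff] at h2
  have h3 := Nat.le_of_dvd (by norm_num) h2
  have h4 := Nat.pow_le_pow_right (show 0 < 2 by norm_num) hm
  omega

/-- A normal nonabelian subgroup of a quasi-dihedral or wreathed group contains the commutator. -/
theorem commutator_le_of_nonabelian {S : Type*} [Group S] [Finite S]
    (hS : Cfsg.IsQuasiDihedral S ∨ Cfsg.IsWreathed S) (Q : Subgroup S) [Q.Normal]
    (hQ : ¬ ∀ a b : Q, a * b = b * a) : commutator S ≤ Q := by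
  rcases hS with hS | hS
  · obtain ⟨n, ⟨d⟩⟩ := exists_sd hS
    obtain ⟨k, hk⟩ : ∃ k : ℤ, d.x ^ k * d.y ∈ Q := by
      by_contra hno
      push Not at hno
      refine hQ fun a b => Subtype.ext ?_
      have hmem : ∀ q : Q, ∃ k : ℤ, (q : S) = d.x ^ k := fun q => by
        obtain ⟨k, hk | hk⟩ := d.normal_form (q : S)
        · exact ⟨k, hk⟩
        · exact absurd (hk ▸ q.2) (hno k)
      obtain ⟨k, hk⟩ := hmem a
      obtain ⟨l, hl⟩ := hmem b
      rw [Subgroup.coe_mul, Subgroup.coe_mul, hk, hl, ← zpow_add, ← zpow_add, add_comm]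
    have h1 := mul_mem (Normal.conj_mem inferInstance _ hk (d.x ^ (1 : ℤ))) (inv_mem hk)
    rw [d.conj_x, mul_inv_rev, mul_assoc, mul_inv_cancel_left, ← zpow_neg, ← zpow_add] at h1
    obtain ⟨v, w, hvw⟩ : IsCoprime (1 - SD.P n) ((2 : ℤ) ^ (n + 2)) := by
      obtain ⟨t, ht⟩ := d.one_sub_P_odd
      rw [ht]
      exact IsCoprime.pow_right ⟨1, -t, by ring⟩
    rw [d.commutator_eq, zpowers_le]
    have h2 := zpow_mem h1 v
    rw [← zpow_mul] at h2
    convert h2 using 1
    rw [d.zx]
    refine ⟨8 * w, ?_⟩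
    have h4 : (2 : ℤ) ^ (n + 2) = 4 * (4 * SD.P n) := by
      rw [← d.two_pow.1, pow_add]; ring
    rw [h4] at hvw
    linear_combination (-2) * hvw
  · obtain ⟨n, ⟨d⟩⟩ := exists_w hS
    obtain ⟨a, b, hab⟩ : ∃ a b : ℤ, d.e a b * d.z ∈ Q := by
      by_contra hno
      push Not at hno
      refine hQ fun a b => Subtype.ext ?_
      have hmem : ∀ q : Q, ∃ a b, (q : S) = d.e a b := fun q => by
        obtain ⟨a, b, hk | hk⟩ := d.normal_form (q : S)
        · exact ⟨a, b, hk⟩
        · exact absurd (hk ▸ q.2) (hno a b)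
      obtain ⟨u, v, hk⟩ := hmem a
      obtain ⟨u', v', hl⟩ := hmem b
      rw [Subgroup.coe_mul, Subgroup.coe_mul, hk, hl]
      exact d.e_comm u v u' v'
    have h1 := mul_mem (Normal.conj_mem inferInstance _ hab (d.e 1 0)) (inv_mem hab)
    rw [d.conj_e_ez, d.ez_inv, d.ez_ez] at h1
    rw [d.commutator_eq, zpowers_le]
    convert h1 using 2 <;> ring

/-- The commutator subgroup of a Q-group with trivial core is `SL(2,q)`. -/
theorem q_group_commutator (h : SimpleGW.{u}) {H : Type u} [Group H] [Finite H] (S : Sylow 2 H)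
    (hS : Cfsg.IsQuasiDihedral (S : Subgroup H) ∨ Cfsg.IsWreathed (S : Subgroup H))
    (hO : Cfsg.oddCore H = ⊥) {K : Subgroup H} [K.Normal] {a : ℕ} (hKi : K.index = 2 ^ a)
    (hK2 : ∀ M : Subgroup ↥K, M.index ≠ 2)
    (hP : ∀ P : Sylow 2 ↥K, ∃ m : ℕ, 1 ≤ m ∧ Nonempty ((P : Subgroup ↥K) ≃* QuaternionGroup (2 ^ m))) :
    ∃ (F : Type) (_ : Field F) (_ : Fintype F), Odd (Fintype.card F) ∧
      Nonempty (↥(commutator H) ≃* SL(2, F)) := by
  haveI : Fact (Nat.Prime 2) := ⟨Nat.prime_two⟩
  obtain ⟨F, _, _, hodd, L, hLn, hLK, hSL, ⟨i⟩, hc⟩ := q_group h S hS hO hKi hK2 hP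
  obtain ⟨P, hPS⟩ := Cfsg.Lib.Local.exists_sylow_inf S K
  obtain ⟨m, hm, ⟨e⟩⟩ := hP P
  -- `H / K` is abelian
  set Q : Subgroup (S : Subgroup H) := K.subgroupOf (S : Subgroup H) with hQ
  let eP : Q ≃* (P : Subgroup K) :=
    { toFun := fun q => ⟨⟨(q.1 : H), q.2⟩, by rw [hPS]; exact q.1.2⟩
      invFun := fun p => ⟨⟨(p.1 : H), mem_subgroupOf.1 (hPS.le p.2)⟩, p.1.2⟩
      left_inv := fun _ => rfl
      right_inv := fun _ => rfl
      map_mul' := fun _ _ => rfl }
  have hcS := commutator_le_of_nonabelian hS Q (not_comm_quaternion hm (eP.trans e))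
  have hsup := Cfsg.Lib.Fusion.sylow_sup_eq_top S K ⟨a, hKi⟩
  have hdec : ∀ x : H, ∃ s : (S : Subgroup H), ((s : H) : H ⧸ K) = (x : H ⧸ K) := fun x => by
    obtain ⟨s, hs, k, hk, hsk⟩ := mem_sup_of_normal_right.1 (hsup.ge (mem_top x))
    exact ⟨⟨s, hs⟩, QuotientGroup.eq.2 (by rw [← hsk]; simpa using hk)⟩
  have hHK : commutator H ≤ K := by
    rw [_root_.commutator_def, commutator_le]
    intro x _ y _
    obtain ⟨s, hs⟩ := hdec x
    obtain ⟨t, ht⟩ := hdec y
    rw [← QuotientGroup.eq_one_iff]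
    show QuotientGroup.mk' K ⁅x, y⁆ = 1
    rw [map_commutatorElement, show QuotientGroup.mk' K x = QuotientGroup.mk' K (s : H) from hs.symm,
      show QuotientGroup.mk' K y = QuotientGroup.mk' K (t : H) from ht.symm, ← map_commutatorElement]
    exact (QuotientGroup.eq_one_iff _).2 (hcS (commutator_mem_commutator (mem_top s) (mem_top t)))
  suffices heq : commutator H = L from ⟨F, inferInstance, inferInstance, hodd,
    ⟨(MulEquiv.subgroupCongr heq).trans i⟩⟩
  rcases hc with ⟨hF, rfl⟩ | ⟨hF, hLp, hCL, -, -⟩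
  · -- the case of `SL(2,3)`
    refine le_antisymm hHK ?_
    have hc24 : Nat.card L = 24 := by
      rw [Nat.card_congr i.toEquiv, Cfsg.Lib.Linear.Two.card_SL_two, hF]; norm_num
    set D := commutator H
    set R := D.subgroupOf L with hR
    haveI : R.Normal := (inferInstance : D.Normal).subgroupOf L
    have hLL : commutator L ≤ R := by
      rw [_root_.commutator_def, commutator_le]
      intro x _ y _
      exact commutator_mem_commutator (mem_top _) (mem_top _)
    have hRi : Odd R.index := by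
      rw [← Nat.not_even_iff_odd]
      intro hev
      haveI : IsMulCommutative (L ⧸ R) := ⟨⟨fun p q => by
        obtain ⟨x, rfl⟩ := QuotientGroup.mk_surjective p
        obtain ⟨y, rfl⟩ := QuotientGroup.mk_surjective q
        refine commutatorElement_eq_one_iff_mul_comm.1 ?_
        show ⁅QuotientGroup.mk' R x, QuotientGroup.mk' R y⁆ = 1
        rw [← map_commutatorElement]
        exact (QuotientGroup.eq_one_iff _).2 (hLL (commutator_mem_commutator (mem_top _) (mem_top _)))⟩⟩
      obtain ⟨M, hMi⟩ : ∃ M : Subgroup (L ⧸ R), M.index = 2 := by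
        haveI : Fact (Nat.Prime 3) := ⟨Nat.prime_three⟩
        obtain ⟨W⟩ : Nonempty (Sylow 3 (L ⧸ R)) := inferInstance
        haveI : (W : Subgroup (L ⧸ R)).Normal := ⟨fun n hn g => by
          rwa [(IsMulCommutative.is_comm.comm g n), mul_inv_cancel_right]⟩
        have hd : (W : Subgroup (L ⧸ R)).index ∣ 2 ^ 3 * 3 :=
          (index_dvd_card _).trans ((card_quotient_dvd_card R).trans (dvd_of_eq hc24))
        have h8 : (W : Subgroup (L ⧸ R)).index ∣ 2 ^ 3 := (Nat.Coprime.dvd_mul_right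
          ((Nat.prime_three.coprime_iff_not_dvd.2 W.not_dvd_index).symm)).1 hd
        obtain ⟨k, -, hk⟩ := (Nat.dvd_prime_pow Nat.prime_two).1 h8
        rcases k with _ | k
        · exfalso
          obtain ⟨v, hv⟩ := W.isPGroup'.exists_card_eq
          have h1 := (W : Subgroup (L ⧸ R)).card_mul_index
          rw [hk, hv, pow_zero, mul_one, ← index_eq_card] at h1
          rw [← h1] at hev
          exact Nat.not_even_iff_odd.2 ((Nat.odd_iff.2 (by norm_num : 3 % 2 = 1)).pow) hev
        · exact Cfsg.Agent.S1255.exists_index_two (W : Subgroup (L ⧸ R)) hk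
      exact hK2 (M.comap (QuotientGroup.mk' R))
        (by rw [M.index_comap_of_surjective (QuotientGroup.mk'_surjective R), hMi])
    by_contra hne
    have hR3 : R.index = 3 := by
      have h1 : R.index ∣ 24 := hc24 ▸ R.index_dvd_card
      have h2 : R.index ∣ 3 := (Nat.Coprime.dvd_mul_left
        ((Nat.coprime_two_right.2 hRi).pow_right 3)).1 (show R.index ∣ 2 ^ 3 * 3 from h1)
      refine ((Nat.dvd_prime Nat.prime_three).1 h2).resolve_left fun h3 => hne ?_
      exact subgroupOf_eq_top.1 (index_eq_one.1 h3)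
    have hDc : Nat.card D = 8 := by
      have h1 := R.card_mul_index
      rw [hR3, hc24] at h1
      rw [← Nat.card_congr (subgroupOfEquivOfLe hHK).toEquiv]
      change Nat.card R = 8
      omega
    have hDS : D ≤ (S : Subgroup H) := by
      obtain ⟨T, hT⟩ := (IsPGroup.of_card (n := 3) (by rw [hDc]; norm_num) : IsPGroup 2 D).exists_le_sylow
      obtain ⟨g, rfl⟩ := MulAction.exists_smul_eq H S T
      intro x hx
      have h1 : g * x * g⁻¹ ∈ D := (inferInstance : D.Normal).conj_mem x hx g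
      have h2 := hT h1
      rw [Sylow.coe_subgroup_smul, mem_pointwise_smul_iff_inv_smul_mem] at h2
      simpa [MulAut.smul_def, mul_assoc] using h2
    haveI hSn : (S : Subgroup H).Normal := ⟨fun s hs g => by
      have h1 : ⁅g, s⁆ ∈ D := commutator_mem_commutator (mem_top _) (mem_top _)
      have h2 := mul_mem (hDS h1) hs
      rwa [commutatorElement_def, inv_mul_cancel_right] at h2⟩
    haveI : Fact (Nat.Prime 3) := ⟨Nat.prime_three⟩
    obtain ⟨g, hg⟩ := exists_prime_orderOf_dvd_card' 3 (G := L) (by rw [hc24]; norm_num)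
    have hA : IsPGroup 2 (MulAut (S : Subgroup H)) := by
      rcases hS with hS | hS
      · exact DihedralAut.isPGroup_mulAut_quasiDihedral S.2 hS
      · obtain ⟨n, ⟨d⟩⟩ := exists_w hS
        exact Cfsg.Lib.FusionSys.isPGroup_mulAut_wreathed d
    have hfix : MulAut.conjNormal (H := (S : Subgroup H)) (g : H) = 1 := by
      set c := MulAut.conjNormal (H := (S : Subgroup H)) (g : H)
      obtain ⟨k, hk⟩ := IsPGroup.iff_orderOf.1 hA c
      have h1 : orderOf c ∣ 3 := by
        rw [← hg, ← Subgroup.orderOf_coe g]; exact orderOf_map_dvd _ (g : H)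
      rw [hk] at h1
      rw [← orderOf_eq_one_iff, hk]
      exact (((by norm_num : Nat.Coprime 2 3)).pow_left k).eq_one_of_dvd h1
    have hcen : g ∈ center L := by
      have htop : centralizer ({g} : Set L) = ⊤ := by
        have hR' : R ≤ centralizer ({g} : Set L) := fun r hr => by
          rw [mem_centralizer_singleton_iff]
          refine Subtype.ext ?_
          have h1 := congrArg Subtype.val (DFunLike.congr_fun hfix ⟨(r : H), hDS hr⟩)
          rw [MulAut.conjNormal_apply] at h1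
          exact (mul_inv_eq_iff_eq_mul.1 h1).symm
        have hg' : zpowers g ≤ centralizer ({g} : Set L) := zpowers_le.2 (mem_centralizer_singleton_iff.2 rfl)
        refine Subgroup.eq_top_of_card_eq _ (Nat.dvd_antisymm (card_subgroup_dvd_card _) ?_)
        have h8 : 8 ∣ Nat.card (centralizer ({g} : Set L)) := by
          refine dvd_trans (dvd_of_eq ?_) (card_dvd_of_le hR')
          rw [← hDc]; exact (Nat.card_congr (subgroupOfEquivOfLe hHK).toEquiv).symm
        have h3 : 3 ∣ Nat.card (centralizer ({g} : Set L)) :=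
          dvd_trans (dvd_of_eq (by rw [Nat.card_zpowers, hg])) (card_dvd_of_le hg')
        rw [hc24]
        exact (by norm_num : Nat.Coprime 8 3).mul_dvd_of_dvd_of_dvd h8 h3
      refine mem_center_iff.2 fun y => ?_
      exact mem_centralizer_singleton_iff.1 (htop ▸ mem_top y)
    have hZ : Nat.card (center L) = 2 := by
      rw [Nat.card_congr (centerCongr i).toEquiv, Cfsg.Lib.Linear.card_center_SL, Fintype.card_fin, hF]
      rfl
    have h32 : orderOf (⟨g, hcen⟩ : center L) ∣ 2 := hZ ▸ orderOf_dvd_natCard _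
    rw [Subgroup.orderOf_mk, hg] at h32
    norm_num at h32
  · -- the case `q > 3`
    refine le_antisymm ?_ (hLp.ge.trans (commutator_mono le_top le_top))
    have hL' : commutator L = ⊤ := by
      refine Subgroup.map_injective L.subtype_injective ?_
      rw [map_subtype_commutator, hLp, ← MonoidHom.range_eq_map, range_subtype]
    have hmap : (center L).map (i : L →* SL(2, F)) = center SL(2, F) := by
      ext x
      constructor
      · rintro ⟨z, hz, rfl⟩
        exact mem_center_iff.2 fun y => i.symm.injective (by simpa using mem_center_iff.1 hz (i.symm y))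
      · intro hx
        exact ⟨i.symm x, mem_center_iff.2 fun y => i.injective (by simpa using mem_center_iff.1 hx (i y)),
          i.apply_symm_apply x⟩
    let j : L ⧸ center L ≃* Matrix.ProjectiveSpecialLinearGroup (Fin 2) F :=
      QuotientGroup.congr _ _ i hmap
    set Φ : H →* MulAut (Matrix.ProjectiveSpecialLinearGroup (Fin 2) F) :=
      ((MulAut.congr j).toMonoidHom.comp (centerQuotientAut ↥L)).comp (MulAut.conjNormal (H := L)) with hΦ
    intro x hx
    have hinn : Φ x ∈ Cfsg.Inn (Matrix.ProjectiveSpecialLinearGroup (Fin 2) F) := by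
      set ψ := (QuotientGroup.mk' (Cfsg.Inn (Matrix.ProjectiveSpecialLinearGroup (Fin 2) F))).comp Φ
      have hk : commutator H ≤ ψ.ker := by
        rw [_root_.commutator_def, commutator_le]
        intro p _ q _
        rw [MonoidHom.mem_ker, map_commutatorElement, commutatorElement_eq_one_iff_mul_comm]
        exact out_psl_two_comm (by omega) _ _
      exact (QuotientGroup.eq_one_iff _).1 (hk hx)
    obtain ⟨u, hu⟩ := hinn
    obtain ⟨l, hl⟩ := QuotientGroup.mk_surjective (j.symm u)
    have hl' : Φ (l : H) = MulAut.conj u := by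
      refine MulEquiv.ext fun w => j.symm.injective ?_
      obtain ⟨r, hr⟩ := QuotientGroup.mk_surjective (j.symm w)
      rw [MulAut.conj_apply, map_mul, map_mul, map_inv, ← hl, ← hr]
      show j.symm (j (centerQuotientAut ↥L (MulAut.conjNormal (H := L) (l : H)) (j.symm w))) = _
      rw [j.symm_apply_apply, ← hr]
      show ((MulAut.conjNormal (H := L) (l : H) r : L) : L ⧸ center L) = ((l * r * l⁻¹ : L) : L ⧸ center L)
      congr 1
    have hker : Φ ((l : H)⁻¹ * x) = 1 := by
      rw [map_mul, map_inv, hl', hu, inv_mul_cancel]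
    have h1 : MulAut.conjNormal (H := L) ((l : H)⁻¹ * x) = 1 := by
      refine centerQuotientAut_injective hL' ?_
      rw [map_one]
      exact (MulAut.congr j).injective (hker.trans (map_one (MulAut.congr j)).symm)
    have h2 : (l : H)⁻¹ * x ∈ L := by
      refine hCL ⟨K.mul_mem (K.inv_mem (hLK l.2)) (hHK hx), mem_centralizer_iff.2 fun y hy => ?_⟩
      have h3 := congrArg Subtype.val (DFunLike.congr_fun h1 ⟨y, hy⟩)
      rw [MulAut.conjNormal_apply] at h3
      exact (mul_inv_eq_iff_eq_mul.1 h3).symm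
    have h4 := mul_mem l.2 h2
    rwa [mul_inv_cancel_left] at h4

/-- S1240 from the theorem of Gorenstein and Walter. -/
theorem centralizer_mod_core_commutator (h : SimpleGW.{u}) {G : Type u} [Group G] [Finite G]
    (S : Sylow 2 G) (hS : Cfsg.IsQuasiDihedral (S : Subgroup G) ∨ Cfsg.IsWreathed (S : Subgroup G))
    (hG : ∀ H : Subgroup G, H.index ≠ 2) (t : G) (ht : orderOf t = 2) :
    ∃ (F : Type) (_ : Field F) (_ : Fintype F), Odd (Fintype.card F) ∧
      Nonempty (↥(commutator (↥(Subgroup.centralizer ({t} : Set G)) ⧸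
        Cfsg.oddCore ↥(Subgroup.centralizer ({t} : Set G)))) ≃* Matrix.SpecialLinearGroup (Fin 2) F) := by
  haveI : Fact (Nat.Prime 2) := ⟨Nat.prime_two⟩
  have hq := Cfsg.Agent.S1213.result S hS hG t ht
  set C := Subgroup.centralizer ({t} : Set G)
  obtain ⟨R, hRc, ⟨K, hKn, ⟨a, hKi⟩, hK2, hKP⟩, -⟩ := hq
  set O := Cfsg.oddCore C
  haveI : O.Normal := (inferInstance : (Cfsg.pPrimeCore 2 C).Normal)
  set π := QuotientGroup.mk' O
  have hπ : Function.Surjective π := QuotientGroup.mk'_surjective O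
  have hodd : Odd (Nat.card O) := Nat.coprime_two_right.1 (Cfsg.Lib.Core.pPrimeCore_coprime 2 C)
  -- two-subgroups embed in the quotient
  have hinj : ∀ T : Subgroup C, IsPGroup 2 T → Nonempty (T ≃* T.map π) := by
    intro T hT
    refine ⟨MulEquiv.ofBijective (π.subgroupMap T) ⟨?_, π.subgroupMap_surjective T⟩⟩
    rw [← MonoidHom.ker_eq_bot_iff, eq_bot_iff]
    intro x hx
    obtain ⟨i, hi⟩ := IsPGroup.iff_orderOf.1 hT x
    have h1 : (x : C) ∈ O := (QuotientGroup.eq_one_iff _).1 (congrArg Subtype.val (MonoidHom.mem_ker.1 hx))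
    have h2 : orderOf (x : C) ∣ Nat.card O := by
      rw [← Subgroup.orderOf_mk (x : C) h1]; exact orderOf_dvd_natCard _
    rw [Subgroup.orderOf_coe, hi] at h2
    rw [Subgroup.mem_bot, ← orderOf_eq_one_iff, hi]
    exact ((Nat.coprime_two_left.2 hodd).pow_left i).eq_one_of_dvd h2
  obtain ⟨eR⟩ := hinj R R.isPGroup'
  let S' : Sylow 2 (C ⧸ O) := R.mapSurjective hπ
  -- `R` is isomorphic to `S`
  obtain ⟨eRS⟩ : Nonempty ((R : Subgroup C) ≃* (S : Subgroup G)) := by
    obtain ⟨T, hT⟩ := (R.isPGroup'.map C.subtype).exists_le_sylow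
    have hTe : (R : Subgroup C).map C.subtype = T := eq_of_le_of_card_ge hT (by
      rw [card_map_of_injective C.subtype_injective, hRc, Nat.card_congr (T.equiv S).toEquiv])
    exact ⟨(((R : Subgroup C).equivMapOfInjective C.subtype C.subtype_injective).trans
      (MulEquiv.subgroupCongr hTe)).trans (T.equiv S)⟩
  let eS : (S' : Subgroup (C ⧸ O)) ≃* (S : Subgroup G) :=
    ((MulEquiv.subgroupCongr (Sylow.coe_mapSurjective hπ R)).trans eR.symm).trans eRS
  have hS' : Cfsg.IsQuasiDihedral (S' : Subgroup (C ⧸ O)) ∨ Cfsg.IsWreathed (S' : Subgroup (C ⧸ O)) := by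
    rcases hS with ⟨n, h3, hc, x, y, hx, hy, hxy⟩ | ⟨n, h2, hc, x, y, z, hx, hc', hd, hz, hzx⟩
    · exact Or.inl ⟨n, h3, (Nat.card_congr eS.toEquiv).trans hc, eS.symm x, eS.symm y,
        (eS.symm.orderOf_eq x).trans hx, (eS.symm.orderOf_eq y).trans hy,
        by rw [← map_inv, ← map_mul, ← map_mul, hxy, map_pow]⟩
    · refine Or.inr ⟨n, h2, (Nat.card_congr eS.toEquiv).trans hc, eS.symm x, eS.symm y, eS.symm z,
        (eS.symm.orderOf_eq x).trans hx, by rw [← map_mul, hc', map_mul], ?_,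
        (eS.symm.orderOf_eq z).trans hz, by rw [← map_inv, ← map_mul, ← map_mul, hzx]⟩
      have e1 := fun w => MonoidHom.map_zpowers eS.symm.toMonoidHom w
      have hxx := e1 x
      have hyy := e1 y
      simp only [MulEquiv.coe_toMonoidHom] at hxx hyy
      rw [← hxx, ← hyy, ← map_inf _ _ _ eS.symm.injective, hd, Subgroup.map_bot]
  haveI : (K.map π).Normal := Normal.map hKn π hπ
  obtain ⟨b, hb⟩ : ∃ b, (K.map π).index = 2 ^ b := by
    obtain ⟨b, -, hb⟩ := (Nat.dvd_prime_pow Nat.prime_two).1 ((K.index_map_dvd hπ).trans (dvd_of_eq hKi))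
    exact ⟨b, hb⟩
  refine q_group_commutator h S' hS' Cfsg.Lib.Core.pPrimeCore_quotient_eq_bot hb (fun M hM => ?_) fun P => ?_
  · refine hK2 (M.comap (π.subgroupMap K)) ?_
    rw [M.index_comap_of_surjective (π.subgroupMap_surjective K), hM]
  · obtain ⟨Q, rfl⟩ := Sylow.mapSurjective_surjective (π.subgroupMap_surjective K) 2 P
    obtain ⟨m, hm, ⟨e⟩⟩ := hKP Q
    obtain ⟨eQ⟩ := hinj ((Q : Subgroup K).map K.subtype) (Q.isPGroup'.map _)
    refine ⟨m, hm, ⟨?_⟩⟩
    refine (MulEquiv.subgroupCongr (Sylow.coe_mapSurjective (π.subgroupMap_surjective K) Q)).trans ?_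
    refine (((Q : Subgroup K).map (π.subgroupMap K)).equivMapOfInjective _ (K.map π).subtype_injective).trans ?_
    refine (MulEquiv.subgroupCongr ?_).trans
      (eQ.symm.trans (((Q : Subgroup K).equivMapOfInjective K.subtype K.subtype_injective).symm.trans e))
    rw [Subgroup.map_map, Subgroup.map_map]
    rfl

end Cfsg.Lib.GW
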