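import Cfsg.Agent.Lib.GW.Perfect
import Cfsg.Agent.Lib.FusionSys.SylowTwoPSL
import Cfsg.Agent.Lib.ZStar.Main
import Cfsg.Agent.Lib.Linear.SLPerfect
import Cfsg.Agent.Lib.Linear.SLBasic
import Cfsg.Agent.S2117
import Cfsg.Agent.S2118
import Cfsg.Agent.S0016
import Cfsg.Agent.Lib.Chev.StStem
import Cfsg.Agent.Lib.PGroup.SameOrderIso
import Cfsg.Agent.Lib.Invol.Quaternion
import Cfsg.Prelude.Def_SporadicB

/-!
# Perfect groups of 2-rank one, from the theorem of Gorenstein and Walter
-/

set_option autoImplicit false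
set_option linter.style.haveILetI false

namespace Cfsg.Lib.GW

open Subgroup

universe u

theorem commutator_map_top {A B : Type*} [Group A] [Group B] (f : A →* B) (hf : Function.Surjective f) :
    (commutator A).map f = commutator B := by
  rw [_root_.commutator_def, _root_.commutator_def, map_commutator, map_top_of_surjective _ hf]

theorem four_of_commuting {X : Type*} [Group X] [Finite X] {a b : X} (ha : a * a = 1) (hb : b * b = 1)
    (hab : Commute a b) (ha1 : a ≠ 1) (hb1 : b ≠ 1) (hne : a ≠ b) :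
    ∃ A : Subgroup X, IsMulCommutative A ∧ (∀ x ∈ A, x ^ 2 = 1) ∧ 2 < Nat.card A := by
  classical
  let A : Subgroup X :=
    { carrier := {1, a, b, a * b}
      one_mem' := Or.inl rfl
      mul_mem' := by
        have e : b * a = a * b := hab.eq.symm
        have e1 : a * (a * b) = b := by rw [← mul_assoc, ha, one_mul]
        have e2 : a * b * a = b := by rw [mul_assoc, e, e1]
        have e3 : a * b * b = a := by rw [mul_assoc, hb, mul_one]
        have e4 : b * (a * b) = a := by rw [← mul_assoc, e, e3]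
        have e5 : a * b * (a * b) = 1 := by rw [← mul_assoc, e2, hb]
        rintro x y (rfl | rfl | rfl | rfl) (rfl | rfl | rfl | rfl) <;>
          simp [ha, hb, e, e1, e2, e3, e4, e5]
      inv_mem' := by
        rintro x (rfl | rfl | rfl | rfl)
        · simp
        · simp [inv_eq_of_mul_eq_one_right ha]
        · simp [inv_eq_of_mul_eq_one_right hb]
        · simp [mul_inv_rev, inv_eq_of_mul_eq_one_right ha, inv_eq_of_mul_eq_one_right hb, hab.eq] }
  have hsq : ∀ x ∈ A, x ^ 2 = 1 := by
    rintro x (rfl | rfl | rfl | rfl)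
    · simp
    · rw [pow_two, ha]
    · rw [pow_two, hb]
    · rw [hab.mul_pow, pow_two, pow_two, ha, hb, one_mul]
  refine ⟨A, ⟨⟨fun x y => Subtype.ext ?_⟩⟩, hsq, ?_⟩
  · have hinv : ∀ z : A, ((z : X))⁻¹ = z := fun z =>
      inv_eq_of_mul_eq_one_right (by rw [← pow_two]; exact hsq _ z.2)
    show (x : X) * y = y * x
    have h := hinv (x * y)
    rw [Subgroup.coe_mul, mul_inv_rev, hinv x, hinv y] at h
    exact h.symm
  · haveI := Fintype.ofFinite A
    rw [Nat.card_eq_fintype_card]
    refine Fintype.two_lt_card_iff.2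
      ⟨⟨1, Or.inl rfl⟩, ⟨a, Or.inr (Or.inl rfl)⟩, ⟨b, Or.inr (Or.inr (Or.inl rfl))⟩, ?_, ?_, ?_⟩
    · exact fun h => ha1 (congrArg Subtype.val h).symm
    · exact fun h => hb1 (congrArg Subtype.val h).symm
    · exact fun h => hne (congrArg Subtype.val h)

theorem center_two_le {Q : Type*} [Group Q] [Finite Q] (S : Sylow 2 Q) (hZ : Nat.card (center Q) = 2) :
    center Q ≤ (S : Subgroup Q) := by
  haveI : Fact (Nat.Prime 2) := ⟨Nat.prime_two⟩
  obtain ⟨T, hT⟩ := (IsPGroup.of_card (n := 1) (by rw [hZ]; norm_num) :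
    IsPGroup 2 (center Q)).exists_le_sylow
  obtain ⟨g, hg⟩ := MulAction.exists_smul_eq Q T S
  intro x hx
  rw [← hg, Sylow.smul_def, Sylow.pointwise_smul_def]
  refine ⟨x, hT hx, ?_⟩
  show g * x * g⁻¹ = x
  rw [mem_center_iff.1 hx g, mul_inv_cancel_right]

theorem unique_two_of_rank_one {X : Type*} [Group X] [Finite X] (h1 : Cfsg.PRankLE 2 1 X)
    (S : Sylow 2 X) (H K : Subgroup (S : Subgroup X)) (hH : Nat.card H = 2) (hK : Nat.card K = 2) :
    H = K := by
  haveI : Fact (Nat.Prime 2) := ⟨Nat.prime_two⟩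
  have key : ∀ H : Subgroup (S : Subgroup X), Nat.card H = 2 →
      ∃ a : (S : Subgroup X), orderOf a = 2 ∧ H = zpowers a := fun H hH => by
    obtain ⟨a, ha⟩ := exists_prime_orderOf_dvd_card' 2 (G := H) (by rw [hH])
    refine ⟨a, by rw [Subgroup.orderOf_coe, ha], (eq_of_le_of_card_ge (zpowers_le.2 a.2) ?_).symm⟩
    rw [Nat.card_zpowers, Subgroup.orderOf_coe, ha, hH]
  obtain ⟨a, ha, rfl⟩ := key H hH
  obtain ⟨b, hb, rfl⟩ := key K hK
  haveI : Nontrivial (S : Subgroup X) := ⟨⟨a, 1, fun h => by rw [h, orderOf_one] at ha; omega⟩⟩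
  haveI := S.isPGroup'.center_nontrivial
  obtain ⟨z, hz⟩ := exists_prime_orderOf_dvd_card' 2 (G := center (S : Subgroup X)) (by
    obtain ⟨k, hk, hc⟩ := (S.isPGroup'.to_subgroup (center (S : Subgroup X))).nontrivial_iff_card.1 inferInstance
    rw [hc]; exact dvd_pow_self 2 hk.ne')
  have hz' : orderOf ((z : (S : Subgroup X)) : X) = 2 := by
    rw [Subgroup.orderOf_coe, Subgroup.orderOf_coe, hz]
  have hone : ∀ c : (S : Subgroup X), orderOf c = 2 → c = z := by
    intro c hc
    by_contra hne
    have hc' : orderOf (c : X) = 2 := by rw [Subgroup.orderOf_coe, hc]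
    have hne' : (c : X) ≠ ((z : (S : Subgroup X)) : X) := fun h => hne (Subtype.ext h)
    have hcomm : Commute (c : X) ((z : (S : Subgroup X)) : X) :=
      congrArg Subtype.val (mem_center_iff.1 z.2 c)
    have hc2 : (c : X) * c = 1 := by
      have h := pow_orderOf_eq_one (c : X)
      rwa [hc', pow_two] at h
    have hz2 : ((z : (S : Subgroup X)) : X) * ((z : (S : Subgroup X)) : X) = 1 := by
      have h := pow_orderOf_eq_one ((z : (S : Subgroup X)) : X)
      rwa [hz', pow_two] at h
    have hc1 : (c : X) ≠ 1 := fun h => by rw [h, orderOf_one] at hc'; omega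
    have hz1 : ((z : (S : Subgroup X)) : X) ≠ 1 := fun h => by rw [h, orderOf_one] at hz'; omega
    obtain ⟨A, hA1, hA2, hA3⟩ := four_of_commuting hc2 hz2 hcomm hc1 hz1 hne'
    exact absurd (h1 A hA1 hA2) (by omega)
  rw [hone a ha, hone b hb]

theorem oddCore_quotient_center {Q : Type u} [Group Q] [Finite Q] (hO : Cfsg.oddCore Q = ⊥)
    (hQ : commutator Q = ⊤) (hZ : Nat.card (center Q) = 2) : Cfsg.oddCore (Q ⧸ center Q) = ⊥ := by
  haveI : Fact (Nat.Prime 2) := ⟨Nat.prime_two⟩
  set π := QuotientGroup.mk' (center Q)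
  set M := (Cfsg.oddCore (Q ⧸ center Q)).comap π
  haveI : M.Normal := Normal.comap inferInstance π
  have hcard : Nat.card M = 2 * Nat.card (Cfsg.oddCore (Q ⧸ center Q)) := by
    let f : M →* Cfsg.oddCore (Q ⧸ center Q) := π.subgroupComap _
    have hf : Function.Surjective f := π.subgroupComap_surjective_of_surjective _ (QuotientGroup.mk'_surjective _)
    have hk : Nat.card f.ker = 2 := by
      rw [← hZ]
      exact Nat.card_congr
        { toFun := fun x => ⟨(x : M), (QuotientGroup.eq_one_iff _).1 (congrArg Subtype.val x.2)⟩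
          invFun := fun x => ⟨⟨x, by
            show π (x : Q) ∈ Cfsg.oddCore (Q ⧸ center Q)
            rw [show π (x : Q) = 1 from (QuotientGroup.eq_one_iff _).2 x.2]; exact one_mem _⟩,
            Subtype.ext ((QuotientGroup.eq_one_iff _).2 x.2)⟩
          left_inv := fun _ => rfl
          right_inv := fun _ => rfl }
    rw [card_eq_card_quotient_mul_card_subgroup f.ker, hk,
      Nat.card_congr (QuotientGroup.quotientKerEquivOfSurjective f hf).toEquiv, mul_comm]
  have hodd := ZStar.odd_card_oddCore (G := Q ⧸ center Q)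
  have hcompl : Cfsg.HasNormalPComplement 2 M := by
    obtain ⟨T⟩ : Nonempty (Sylow 2 M) := inferInstance
    haveI : IsCyclic (T : Subgroup M) := isCyclic_of_prime_card (p := 2) (by
      rw [T.card_eq_multiplicity, hcard, Nat.factorization_mul two_ne_zero Nat.card_pos.ne',
        Finsupp.add_apply, Nat.prime_two.factorization_self,
        Nat.factorization_eq_zero_of_not_dvd (fun h => Nat.not_even_iff_odd.2 hodd (even_iff_two_dvd.2 h))]
      norm_num)
    exact Cfsg.Lib.FTCons.MetacyclicSylow.complement_of_cyclic T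
  have hR : Odd (Nat.card (Cfsg.pResidual 2 M)) :=
    Nat.coprime_two_right.1 (Cfsg.Lib.Fusion.hasNormalPComplement_iff_coprime.1 hcompl)
  set R := (Cfsg.pResidual 2 M).map M.subtype
  haveI : R.Normal := by
    haveI : (Cfsg.pResidual 2 M).Characteristic := by
      rw [characteristic_iff_map_le]
      intro φ
      show (Subgroup.closure _).map _ ≤ Subgroup.closure _
      rw [MonoidHom.map_closure]
      refine closure_mono ?_
      rintro _ ⟨g, hg, rfl⟩
      show Nat.Coprime (orderOf (φ g)) 2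
      rw [φ.orderOf_eq]
      exact hg
    exact ConjAct.normal_of_characteristic_of_normal
  have hRO : R = ⊥ := le_bot_iff.1 (hO ▸ Cfsg.Lib.Core.le_pPrimeCore (p := 2)
    (Nat.coprime_two_right.2 (by rwa [card_map_of_injective M.subtype_injective])))
  have hres : Cfsg.pResidual 2 M = ⊥ := (map_eq_bot_iff_of_injective _ M.subtype_injective).1 hRO
  have hM2 : IsPGroup 2 M :=
    (Cfsg.Lib.Fusion.isPGroup_quotient_pResidual (p := 2) (G := M)).of_equiv
      ((QuotientGroup.quotientMulEquivOfEq hres).trans QuotientGroup.quotientBot)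
  obtain ⟨k, hk⟩ := hM2.exists_card_eq
  rw [hcard] at hk
  refine Subgroup.card_eq_one.1 ?_
  have hdvd : Nat.card (Cfsg.oddCore (Q ⧸ center Q)) ∣ 2 ^ k := ⟨2, by rw [← hk, mul_comm]⟩
  exact ((Nat.coprime_two_right.2 hodd).pow_right k).eq_one_of_dvd hdvd

/-- A perfect central extension of `PSL₂(q)` by a group of order two is `SL₂(q)`. -/
theorem cover_psl_two {F : Type} [Field F] [Fintype F] (hodd : Odd (Fintype.card F))
    (h3 : 3 < Fintype.card F) {Q : Type u} [Group Q] [Finite Q] (hQ : commutator Q = ⊤)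
    (π : Q →* Matrix.ProjectiveSpecialLinearGroup (Fin 2) F) (hπ : Function.Surjective π)
    (hk : π.ker ≤ center Q) (hk2 : Nat.card π.ker = 2) :
    Nonempty (Q ≃* Matrix.SpecialLinearGroup (Fin 2) F) := by
  classical
  let S := Matrix.SpecialLinearGroup (Fin 2) F
  have hS : commutator S = ⊤ := Cfsg.Lib.Linear.commutator_SL_eq_top' (Or.inr (by omega))
  let θ : S →* Matrix.ProjectiveSpecialLinearGroup (Fin 2) F := QuotientGroup.mk' (center S)
  have hθ : Function.Surjective θ := QuotientGroup.mk'_surjective _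
  let P : Subgroup (Q × S) := (π.comp (MonoidHom.fst Q S)).eqLocus (θ.comp (MonoidHom.snd Q S))
  let p₁ : P →* Q := (MonoidHom.fst Q S).comp P.subtype
  let p₂ : P →* S := (MonoidHom.snd Q S).comp P.subtype
  have hp₁ : Function.Surjective p₁ := fun q => by
    obtain ⟨s, hs⟩ := hθ (π q)
    exact ⟨⟨(q, s), hs.symm⟩, rfl⟩
  have hp₂ : Function.Surjective p₂ := fun s => by
    obtain ⟨q, hq⟩ := hπ (θ s)
    exact ⟨⟨(q, s), hq⟩, rfl⟩
  have hmem : ∀ x : P, p₂ x = 1 → (x : Q × S).1 ∈ π.ker := fun x hx => by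
    have h := x.2
    show π (x : Q × S).1 = 1
    rw [show π (x : Q × S).1 = θ (x : Q × S).2 from h, show (x : Q × S).2 = 1 from hx, map_one]
  have hcen : ∀ x : P, p₂ x = 1 → x ∈ center P := fun x hx => by
    rw [mem_center_iff]
    intro y
    refine Subtype.ext (Prod.ext ?_ ?_)
    · exact mem_center_iff.1 (hk (hmem x hx)) _
    · show (y : Q × S).2 * (x : Q × S).2 = (x : Q × S).2 * (y : Q × S).2
      rw [show (x : Q × S).2 = 1 from hx, mul_one, one_mul]
  let K : Subgroup P := commutator P
  let f : K →* S := p₂.comp K.subtype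
  have hf : Function.Surjective f := by
    rw [← MonoidHom.range_eq_top]
    show (p₂.comp K.subtype).range = ⊤
    rw [MonoidHom.range_comp, range_subtype, commutator_map_top p₂ hp₂, hS]
  have hsplit : ∀ x : P, ∃ k ∈ K, ∃ z ∈ center P, x = k * z := fun x => by
    obtain ⟨k, hk'⟩ := hf (p₂ x)
    refine ⟨k, k.2, (k : P)⁻¹ * x, hcen _ ?_, by rw [mul_inv_cancel_left]⟩
    rw [map_mul, map_inv, show p₂ (k : P) = p₂ x from hk', inv_mul_cancel]
  have hKperf : commutator K = ⊤ := by
    refine Subgroup.map_injective K.subtype_injective ?_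
    rw [map_subtype_commutator, ← MonoidHom.range_eq_map, range_subtype]
    refine le_antisymm (commutator_le_self K) ?_
    show ⁅(⊤ : Subgroup P), ⊤⁆ ≤ ⁅K, K⁆
    rw [commutator_le]
    intro a _ b _
    obtain ⟨k, hk', z, hz, rfl⟩ := hsplit a
    obtain ⟨l, hl, w, hw, rfl⟩ := hsplit b
    rw [Cfsg.Lib.Chev.comm_mul_central hz hw]
    exact commutator_mem_commutator hk' hl
  have hker : ∀ x : K, f x = 1 → x ∈ center K := fun x hx => by
    rw [mem_center_iff]
    exact fun y => Subtype.ext (mem_center_iff.1 (hcen (x : P) hx) _)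
  -- the kernel of `f` embeds in that of `π`
  have hk12 : Nat.card f.ker ∣ 2 := by
    let g : f.ker →* π.ker :=
      { toFun := fun x => ⟨((x : K) : P).1.1, hmem _ x.2⟩
        map_one' := rfl
        map_mul' := fun _ _ => rfl }
    have hg : Function.Injective g := fun a b hab => by
      refine Subtype.ext (Subtype.ext (Subtype.ext (Prod.ext (congrArg Subtype.val hab :) ?_)))
      exact (show p₂ ((a : K) : P) = 1 from a.2).trans (show p₂ ((b : K) : P) = 1 from b.2).symm
    exact dvd_trans (card_dvd_of_injective g hg) (dvd_of_eq hk2)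
  -- carry the extension to the universe of the field
  obtain ⟨n, ⟨e⟩⟩ : ∃ n : ℕ, Nonempty (K ≃ Fin n) := ⟨Nat.card K, ⟨Finite.equivFin K⟩⟩
  let ρ : K →* Equiv.Perm (Fin n) :=
    (Equiv.permCongrHom e).toMonoidHom.comp (MulAction.toPermHom K K)
  have hρ : Function.Injective ρ :=
    (Equiv.permCongrHom e).injective.comp MulAction.toPerm_injective
  let eK : K ≃* ρ.range := MonoidHom.ofInjective hρ
  let σ : ρ.range →* S := f.comp eK.symm.toMonoidHom
  have hσ : Cfsg.IsStemExtension σ := by
    refine ⟨hf.comp eK.symm.surjective, fun x hx => ?_, ?_⟩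
    · rw [mem_center_iff]
      intro y
      refine eK.symm.injective ?_
      rw [map_mul, map_mul]
      exact mem_center_iff.1 (hker _ hx) _
    · refine le_top.trans (le_of_eq ?_)
      have h := commutator_map_top eK.toMonoidHom eK.surjective
      rw [hKperf] at h
      exact (map_top_of_surjective _ eK.surjective).symm.trans h
  have hcard : Nat.card σ.ker = Nat.card f.ker :=
    Nat.card_congr
      { toFun := fun x => ⟨eK.symm x, x.2⟩
        invFun := fun x => ⟨eK x, by
          show f (eK.symm (eK x)) = 1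
          rw [eK.symm_apply_apply]; exact x.2⟩
        left_inv := fun x => Subtype.ext (eK.apply_symm_apply x)
        right_inv := fun x => Subtype.ext (eK.symm_apply_apply x) }
  have hodd3 : Nat.card σ.ker ∣ 3 := by
    by_cases h9 : Fintype.card F = 9
    · obtain ⟨φ, hφ⟩ := (Cfsg.Agent.S2118.result h9).2 _ σ hσ
      simpa using card_dvd_of_surjective φ hφ
    · have h4 : Fintype.card F ≠ 4 := fun h => by rw [h] at hodd; exact absurd hodd (by decide)
      obtain ⟨φ, hφ⟩ := (Cfsg.Agent.S2117.result h4 h9).2 _ σ hσ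
      exact (card_dvd_of_surjective φ hφ).trans (by simp)
  have hf1 : Nat.card f.ker = 1 := by
    rw [hcard] at hodd3
    exact Nat.dvd_one.1 (show Nat.card f.ker ∣ 1 from
      (Nat.dvd_gcd hk12 hodd3).trans (by norm_num))
  have hfinj : Function.Injective f :=
    (MonoidHom.ker_eq_bot_iff f).1 (Subgroup.card_eq_one.1 hf1)
  let eS : S ≃* K := (MulEquiv.ofBijective f ⟨hfinj, hf⟩).symm
  let h : S →* Q := (p₁.comp K.subtype).comp eS.toMonoidHom
  have hh : Function.Surjective h := by
    have hsur : Function.Surjective (p₁.comp K.subtype) := by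
      rw [← MonoidHom.range_eq_top, MonoidHom.range_comp, range_subtype, commutator_map_top p₁ hp₁, hQ]
    exact hsur.comp eS.surjective
  have hsame : Nat.card Q = Nat.card S := by
    have hθk : Nat.card θ.ker = 2 := by
      rw [QuotientGroup.ker_mk']
      show Nat.card (center (Matrix.SpecialLinearGroup (Fin 2) F)) = 2
      rw [Cfsg.Lib.Linear.card_center_SL, Fintype.card_fin]
      obtain ⟨m, hm⟩ := hodd
      rw [show Fintype.card F - 1 = 2 * m by omega, Nat.gcd_mul_right_right]
    rw [card_eq_card_quotient_mul_card_subgroup π.ker, hk2,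
      Nat.card_congr (QuotientGroup.quotientKerEquivOfSurjective π hπ).toEquiv,
      card_eq_card_quotient_mul_card_subgroup θ.ker, hθk,
      Nat.card_congr (QuotientGroup.quotientKerEquivOfSurjective θ hθ).toEquiv]
  exact ⟨(MulEquiv.ofBijective h
    ((Nat.bijective_iff_surjective_and_card _).2 ⟨hh, hsame.symm⟩)).symm⟩

/-- A perfect group with quaternion Sylow 2-subgroups and trivial core. -/
theorem quaternion_perfect (h : SimpleGW.{u}) {Q : Type u} [Group Q] [Finite Q]
    (hQ : commutator Q = ⊤) (hO : Cfsg.oddCore Q = ⊥) (S : Sylow 2 Q) {n : ℕ} (hn : 1 ≤ n)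
    (e : (S : Subgroup Q) ≃* QuaternionGroup (2 ^ n)) :
    (∃ (F : Type) (_ : Field F) (_ : Fintype F), Odd (Fintype.card F) ∧ 3 < Fintype.card F ∧
        Nonempty (Q ≃* Matrix.SpecialLinearGroup (Fin 2) F)) ∨
      Cfsg.IsNonsplitDoubleCover Q ↥(alternatingGroup (Fin 7)) := by
  haveI : Fact (Nat.Prime 2) := ⟨Nat.prime_two⟩
  haveI : NeZero (2 ^ n) := ⟨by positivity⟩
  obtain ⟨m, rfl⟩ : ∃ m, n = m + 1 := ⟨n - 1, by omega⟩
  have hZ : Nat.card (center Q) = 2 := Cfsg.Lib.ZStar.card_center_of_quaternion hO S e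
  have hZ2 : ∀ x ∈ center Q, x * x = 1 := fun x hx => by
    have h1 : (⟨x, hx⟩ : center Q) ^ 2 = 1 := hZ ▸ pow_card_eq_one'
    rw [← pow_two]; exact congrArg Subtype.val h1
  let π := QuotientGroup.mk' (center Q)
  have hπ : Function.Surjective π := QuotientGroup.mk'_surjective _
  -- the centre is the only subgroup of order two in the Sylow subgroup
  obtain ⟨⟨z, hz⟩, hz1⟩ := exists_prime_orderOf_dvd_card' 2 (G := center Q) (dvd_of_eq hZ.symm)
  rw [Subgroup.orderOf_mk] at hz1
  have hzS : ∀ x : (S : Subgroup Q), (x : Q) ∈ center Q ↔ x * x = 1 := by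
    have hle : center Q ≤ (S : Subgroup Q) :=
      Cfsg.Lib.GW.center_two_le S hZ
    refine fun x => ⟨fun hx => Subtype.ext (hZ2 _ hx), fun hx => ?_⟩
    by_cases h1 : x = 1
    · rw [h1]; exact one_mem _
    have hox : orderOf (e x) = 2 := orderOf_eq_prime (by rw [pow_two, ← map_mul, hx, map_one])
      (fun h' => h1 (e.map_eq_one_iff.1 h'))
    have hoz : orderOf (e ⟨z, hle hz⟩) = 2 := by
      rw [e.orderOf_eq, Subgroup.orderOf_mk, hz1]
    have := e.injective ((Cfsg.Lib.Invol.quaternion_eq_of_orderOf_two hox).trans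
      (Cfsg.Lib.Invol.quaternion_eq_of_orderOf_two hoz).symm)
    rw [this]
    exact hz
  -- the quotient has dihedral Sylow subgroups
  have hD : SylowDihedral (Q ⧸ center Q) := by
    let S' : Sylow 2 (Q ⧸ center Q) := S.mapSurjective (f := π) hπ
    let f : (S : Subgroup Q) →* (S' : Subgroup (Q ⧸ center Q)) := π.subgroupMap S
    have hf : Function.Surjective f := π.subgroupMap_surjective S
    let g := (Cfsg.Lib.FusionSys.Lin.quaternionToDihedral (2 ^ (m + 1))).comp e.toMonoidHom
    have hg : Function.Surjective g :=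
      (Cfsg.Lib.FusionSys.Lin.quaternionToDihedral_surjective _).comp e.surjective
    have hker : f.ker = g.ker := by
      ext x
      rw [MonoidHom.mem_ker, MonoidHom.mem_ker]
      show f x = 1 ↔ Cfsg.Lib.FusionSys.Lin.quaternionToDihedral _ (e x) = 1
      rw [Cfsg.Lib.FusionSys.Lin.quaternionToDihedral_eq_one, ← map_mul, map_eq_one_iff e e.injective,
        Subtype.ext_iff]
      show π (x : Q) = 1 ↔ _
      rw [QuotientGroup.mk'_apply, QuotientGroup.eq_one_iff]
      exact hzS x
    refine sylowDihedral_of_equiv S' (n := 2 ^ (m + 1)) (Nat.le_self_pow (by omega) 2) ⟨?_⟩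
    exact (QuotientGroup.quotientKerEquivOfSurjective f hf).symm.trans
      ((QuotientGroup.quotientMulEquivOfEq hker).trans (QuotientGroup.quotientKerEquivOfSurjective g hg))
  -- and trivial core
  have hO' : Cfsg.oddCore (Q ⧸ center Q) = ⊥ := Cfsg.Lib.GW.oddCore_quotient_center hO hQ hZ
  have hgw : IsGW (Q ⧸ center Q) := by
    have := perfect_isGW h (commutator_quotient hQ (center Q)) hD
    exact this.congr
      ((QuotientGroup.quotientMulEquivOfEq hO').trans QuotientGroup.quotientBot).symm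
  rcases hgw with ⟨F, i, j, hodd, h3, ⟨eF⟩⟩ | ⟨eA⟩
  · refine Or.inl ⟨F, i, j, hodd, h3, ?_⟩
    have hk : (eF.toMonoidHom.comp π).ker = center Q := by
      ext x
      show eF (π x) = 1 ↔ _
      rw [eF.map_eq_one_iff]
      exact QuotientGroup.eq_one_iff x
    exact cover_psl_two hodd h3 hQ (eF.toMonoidHom.comp π) (eF.surjective.comp hπ) hk.le
      (by rw [hk, hZ])
  · refine Or.inr ⟨hZ, eA, fun L hL => ?_⟩
    have hcard := hL.card_mul
    have hLi := hL.index_eq_card
    rw [hZ] at hLi
    haveI : L.Normal := normal_of_index_eq_two hLi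
    haveI : IsMulCommutative (Q ⧸ L) := by
      haveI : IsCyclic (Q ⧸ L) := isCyclic_of_prime_card (p := 2) (by rw [← index_eq_card]; exact hLi)
      exact IsCyclic.commutative
    have := (Subgroup.Normal.quotient_commutative_iff_commutator_le (N := L)).1 inferInstance
    rw [hQ, top_le_iff] at this
    rw [this, index_top] at hLi
    omega

/-- S3099 from the theorem of Gorenstein and Walter. -/
theorem rankOne_perfect (h : SimpleGW.{u}) {X : Type u} [Group X] [Finite X] (hP : Group.IsPerfect X)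
    (h1 : Cfsg.PRankLE 2 1 X) (h2 : Even (Nat.card X)) :
    (∃ (F : Type) (_ : Field F) (_ : Fintype F), Odd (Fintype.card F) ∧ 3 < Fintype.card F ∧
        Nonempty (X ⧸ Cfsg.oddCore X ≃* Matrix.SpecialLinearGroup (Fin 2) F)) ∨
      Cfsg.IsNonsplitDoubleCover (X ⧸ Cfsg.oddCore X) ↥(alternatingGroup (Fin 7)) := by
  haveI : Fact (Nat.Prime 2) := ⟨Nat.prime_two⟩
  have hperf : commutator X = ⊤ := Group.IsPerfect.commutator_eq_top
  obtain ⟨S⟩ : Nonempty (Sylow 2 X) := inferInstance
  have huniq : ∀ H K : Subgroup (S : Subgroup X), Nat.card H = 2 → Nat.card K = 2 → H = K :=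
    Cfsg.Lib.GW.unique_two_of_rank_one h1 S
  have hns : ¬ Group.IsSolvable X := fun hs => by
    haveI := hs
    haveI := subsingleton_of_perfect_solvable hperf
    rw [Nat.card_of_subsingleton (1 : X)] at h2
    exact absurd h2 (by decide)
  rcases Cfsg.Agent.S0016.result 2 S.isPGroup' huniq with hc | ⟨-, n, ⟨e⟩⟩
  · exact absurd hc (not_isCyclic_sylow hns S)
  rcases n with _ | n
  · haveI := hperf
    refine absurd ?_ (not_isCyclic_sylow hns S)
    haveI := Cfsg.Lib.PGroup.SameOrder.quaternion_card_four_cyclic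
    exact isCyclic_of_surjective e.symm e.symm.surjective
  let q := QuotientGroup.mk' (Cfsg.oddCore X)
  let S' : Sylow 2 (X ⧸ Cfsg.oddCore X) := S.mapSurjective (f := q) (QuotientGroup.mk'_surjective _)
  have hinj : Function.Injective (q.subgroupMap (S : Subgroup X)) := by
    rw [← MonoidHom.ker_eq_bot_iff, eq_bot_iff]
    intro x hx
    have hxO : (x : X) ∈ Cfsg.oddCore X := (QuotientGroup.eq_one_iff _).1 (congrArg Subtype.val hx)
    obtain ⟨i, hi⟩ := IsPGroup.iff_orderOf.1 S.isPGroup' x
    rw [← Subgroup.orderOf_coe] at hi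
    have h6 : orderOf (x : X) ∣ Nat.card (Cfsg.oddCore X) := by
      rw [← Nat.card_zpowers]; exact card_dvd_of_le (zpowers_le.2 hxO)
    rw [hi] at h6
    have h7 := ((Nat.coprime_two_left.2 (ZStar.odd_card_oddCore (G := X))).pow_left i).eq_one_of_dvd h6
    exact Subgroup.mem_bot.2 (Subtype.ext (orderOf_eq_one_iff.1 (hi.trans h7)))
  exact quaternion_perfect h (commutator_quotient hperf _)
    (Cfsg.Lib.Core.pPrimeCore_quotient_eq_bot (p := 2)) S' (Nat.le_add_left 1 n)
    ((MulEquiv.ofBijective _ ⟨hinj, q.subgroupMap_surjective _⟩).symm.trans e)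

end Cfsg.Lib.GW
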