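import Cfsg.Agent.Lib.GW.CycDih
import Cfsg.Agent.Lib.Fusion.Basic
import Cfsg.Agent.Lib.FTCons.MetacyclicSylow
import Cfsg.Agent.Lib.Core.Layer
import Cfsg.Agent.Lib.ZStar.Basic
import Cfsg.Agent.S0205
import Cfsg.Agent.S0514
import Cfsg.Prelude.Def_Classification2

/-!
# Gorenstein–Walter: the predicates and first consequences

`IsGW X`: `X` is `PSL₂(q)`, `q > 3` odd, or `A₇`. `SimpleGW`: the theorem of Gorenstein and Walter for
simple groups. `GWBelow n`: that theorem below order `n`. `GWSections G`: all nonabelian simple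
sections of `G` are of this kind.
-/

set_option autoImplicit false
set_option linter.style.haveILetI false

namespace Cfsg.Lib.GW

open Subgroup

universe u

/-- The Sylow 2-subgroups are dihedral (four groups included). -/
def SylowDihedral (G : Type*) [Group G] : Prop :=
  ∀ S : Sylow 2 G, ∃ n : ℕ, 2 ≤ n ∧ Nonempty ((S : Subgroup G) ≃* DihedralGroup n)

/-- `PSL₂(q)` with `q > 3` odd, or `A₇`. -/
def IsGW (G : Type*) [Group G] : Prop :=
  (∃ (F : Type) (_ : Field F) (_ : Fintype F), Odd (Fintype.card F) ∧ 3 < Fintype.card F ∧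
      Nonempty (G ≃* Matrix.ProjectiveSpecialLinearGroup (Fin 2) F)) ∨
    Nonempty (G ≃* alternatingGroup (Fin 7))

/-- The theorem of Gorenstein and Walter for simple groups. -/
def SimpleGW : Prop :=
  ∀ (X : Type u) [Group X] [Finite X] [IsSimpleGroup X], ¬ IsMulCommutative X → SylowDihedral X → IsGW X

/-- The theorem for simple groups of order less than `n`. -/
def GWBelow (n : ℕ) : Prop :=
  ∀ (X : Type u) [Group X] [Finite X] [IsSimpleGroup X],
    ¬ IsMulCommutative X → SylowDihedral X → Nat.card X < n → IsGW X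

/-- All nonabelian simple sections are `PSL₂(q)` or `A₇`. -/
abbrev GWSections (G : Type u) [Group G] : Prop :=
  Cfsg.IsKGroupWith (fun X _ => IsGW X) G

theorem IsGW.congr {G H : Type*} [Group G] [Group H] (e : H ≃* G) (h : IsGW G) : IsGW H := by
  rcases h with ⟨F, i, j, h1, h2, hf⟩ | hf
  · exact Or.inl ⟨F, i, j, h1, h2, hf.map (e.trans ·)⟩
  · exact Or.inr (hf.map (e.trans ·))

theorem IsGW.isKnownSimple {G : Type*} [Group G] (h : IsGW G) : Cfsg.IsKnownSimple' G := by
  rcases h with ⟨F, i, j, h1, h2, hf⟩ | hf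
  · exact Or.inr (Or.inr (Or.inl ⟨F, i, j, 2, le_rfl, fun _ => h2, hf⟩))
  · exact Or.inr (Or.inl ⟨7, by norm_num, hf⟩)

theorem SylowDihedral.twoCycDih {G : Type*} [Group G] [Finite G] (h : SylowDihedral G) : TwoCycDih G := by
  haveI : Fact (Nat.Prime 2) := ⟨Nat.prime_two⟩
  obtain ⟨S⟩ : Nonempty (Sylow 2 G) := inferInstance
  obtain ⟨n, hn, e⟩ := h S
  exact TwoCycDih.of_dihedral_sylow S hn e

theorem sylowDihedral_of_equiv {G : Type*} [Group G] [Finite G] (S : Sylow 2 G) {n : ℕ} (hn : 2 ≤ n)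
    (e : Nonempty ((S : Subgroup G) ≃* DihedralGroup n)) : SylowDihedral G := by
  haveI : Fact (Nat.Prime 2) := ⟨Nat.prime_two⟩
  exact fun T => ⟨n, hn, ⟨(T.equiv S).trans e.some⟩⟩

section

variable {G : Type u} [Group G] [Finite G]

theorem SimpleGW.below (h : SimpleGW.{u}) (n : ℕ) : GWBelow.{u} n :=
  fun X _ _ _ h1 h2 _ => h X h1 h2

theorem isSolvable_of_not_four_dvd (h : ¬ 4 ∣ Nat.card G) : Group.IsSolvable G := by
  haveI : Fact (Nat.Prime 2) := ⟨Nat.prime_two⟩
  obtain ⟨S⟩ : Nonempty (Sylow 2 G) := inferInstance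
  haveI : IsCyclic (S : Subgroup G) := by
    obtain ⟨k, hk⟩ := S.2.exists_card_eq
    rcases k with _ | _ | k
    · haveI : Subsingleton (S : Subgroup G) := (Nat.card_eq_one_iff_unique.1 (by simpa using hk)).1
      exact isCyclic_of_subsingleton
    · exact isCyclic_of_prime_card (p := 2) (by simpa using hk)
    · refine absurd (dvd_trans ⟨2 ^ k, ?_⟩ (card_subgroup_dvd_card (S : Subgroup G))) h
      rw [hk]; ring
  have hc := Cfsg.Lib.FTCons.MetacyclicSylow.complement_of_cyclic S
  have hodd : Odd (Nat.card (Cfsg.pResidual 2 G)) :=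
    Nat.coprime_two_right.1 (Cfsg.Lib.Fusion.hasNormalPComplement_iff_coprime.1 hc)
  haveI := Cfsg.Agent.S0205.result hodd
  haveI : Group.IsNilpotent (G ⧸ Cfsg.pResidual 2 G) :=
    (Cfsg.Lib.Fusion.isPGroup_quotient_pResidual (p := 2)).isNilpotent
  exact Group.isSolvable_of_ker_le_range (Cfsg.pResidual 2 G).subtype
    (QuotientGroup.mk' (Cfsg.pResidual 2 G)) (by simp)

theorem isSolvable_of_complement (hc : Cfsg.HasNormalPComplement 2 G) : Group.IsSolvable G := by
  haveI : Fact (Nat.Prime 2) := ⟨Nat.prime_two⟩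
  have hodd : Odd (Nat.card (Cfsg.pResidual 2 G)) :=
    Nat.coprime_two_right.1 (Cfsg.Lib.Fusion.hasNormalPComplement_iff_coprime.1 hc)
  haveI := Cfsg.Agent.S0205.result hodd
  haveI : Group.IsNilpotent (G ⧸ Cfsg.pResidual 2 G) :=
    (Cfsg.Lib.Fusion.isPGroup_quotient_pResidual (p := 2)).isNilpotent
  exact Group.isSolvable_of_ker_le_range (Cfsg.pResidual 2 G).subtype
    (QuotientGroup.mk' (Cfsg.pResidual 2 G)) (by simp)

theorem not_isSolvable_of_simple [IsSimpleGroup G] (hna : ¬ IsMulCommutative G) :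
    ¬ Group.IsSolvable G := fun h =>
  hna ⟨⟨IsSimpleGroup.comm_iff_isSolvable.2 h⟩⟩

/-- A group which is not solvable has noncyclic Sylow 2-subgroups. -/
theorem not_isCyclic_sylow (hns : ¬ Group.IsSolvable G) (S : Sylow 2 G) : ¬ IsCyclic (S : Subgroup G) :=
  fun h => by
    haveI : Fact (Nat.Prime 2) := ⟨Nat.prime_two⟩
    haveI := h
    exact hns (isSolvable_of_complement (Cfsg.Lib.FTCons.MetacyclicSylow.complement_of_cyclic S))

theorem sylowDihedral_of_not_solvable (hD : TwoCycDih G) (hns : ¬ Group.IsSolvable G) :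
    SylowDihedral G :=
  fun S => (hD _ S.2).cyclic_or_dihedral.resolve_left (not_isCyclic_sylow hns S)

/-- Sections of smaller order are `PSL₂(q)` or `A₇`. -/
theorem isGW_of_below {n : ℕ} (hb : GWBelow.{u} n) (hD : TwoCycDih G) (H : Subgroup G) (N : Subgroup H)
    [N.Normal] [IsSimpleGroup (H ⧸ N)] (hna : ¬ IsMulCommutative (H ⧸ N))
    (hlt : Nat.card (H ⧸ N) < n) : IsGW (H ⧸ N) :=
  hb _ hna (sylowDihedral_of_not_solvable (hD.section' H N) (not_isSolvable_of_simple hna)) hlt

theorem gwSections_of_simpleGW (h : SimpleGW.{u}) (hD : TwoCycDih G) : GWSections G := by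
  intro H N _ hs hna
  exact h _ hna (sylowDihedral_of_not_solvable (hD.section' H N) (not_isSolvable_of_simple hna))

theorem gwSections_of_below {n : ℕ} (hb : GWBelow.{u} n) (hD : TwoCycDih G) (hlt : Nat.card G < n) :
    GWSections G := by
  intro H N _ hs hna
  refine isGW_of_below hb hD H N hna (lt_of_le_of_lt ?_ hlt)
  exact (Nat.card_le_card_of_surjective _ (QuotientGroup.mk_surjective (s := N))).trans
    (Nat.card_le_card_of_injective _ H.subtype_injective)

theorem gwProper_of_below (hb : GWBelow.{u} (Nat.card G)) (hD : TwoCycDih G) (H : Subgroup G)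
    (hH : H ≠ ⊤) : GWSections H :=
  gwSections_of_below hb (hD.subgroup H) (Cfsg.Lib.Core.lt_card_of_ne_top hH)

theorem isKProper_of_below (hb : GWBelow.{u} (Nat.card G)) (hD : TwoCycDih G) : Cfsg.IsKProper G :=
  fun H hH K N _ hs hna => IsGW.isKnownSimple (gwProper_of_below hb hD H hH K N hs hna)

/-- Strong induction for the theorem on simple groups. -/
theorem simpleGW_of_step
    (step : ∀ (G : Type u) [Group G] [Finite G] [IsSimpleGroup G],
      ¬ IsMulCommutative G → SylowDihedral G → GWBelow.{u} (Nat.card G) → IsGW G) : SimpleGW.{u} := by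
  have key : ∀ n : ℕ, GWBelow.{u} n := by
    intro n
    induction n with
    | zero => exact fun X _ _ _ _ _ h => absurd h (Nat.not_lt_zero _)
    | succ n ih =>
      intro X _ _ _ h1 h2 hlt
      refine step X h1 h2 fun Y _ _ _ g1 g2 hY => ih Y g1 g2 ?_
      omega
  exact fun X _ _ _ h1 h2 => key (Nat.card X + 1) X h1 h2 (Nat.lt_succ_self _)

/-- A central involution and cyclic or dihedral Sylow 2-subgroups give a normal 2-complement. -/
theorem complement_of_central (hD : TwoCycDih G) {z : G} (hz : orderOf z = 2) (hzc : z ∈ center G) :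
    Cfsg.HasNormalPComplement 2 G := by
  haveI : Fact (Nat.Prime 2) := ⟨Nat.prime_two⟩
  obtain ⟨S⟩ : Nonempty (Sylow 2 G) := inferInstance
  rcases (hD _ S.2).cyclic_or_dihedral with h | ⟨n, hn, he⟩
  · exact Cfsg.Lib.FTCons.MetacyclicSylow.complement_of_cyclic S
  obtain ⟨N, hN, hodd, k, hk⟩ := Cfsg.Agent.S0514.result S n hn he z hz
  haveI := hN
  have hC : Cfsg.HasNormalPComplement 2 ↥(centralizer ({z} : Set G)) :=
    Cfsg.Lib.Fusion.hasNormalPComplement_of_normal N (Nat.coprime_two_right.2 hodd)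
      (IsPGroup.of_card (n := k) (by rw [← index_eq_card]; exact hk))
  have htop : centralizer ({z} : Set G) = ⊤ :=
    eq_top_iff.2 fun g _ => mem_centralizer_singleton_iff.2 (mem_center_iff.1 hzc g)
  exact (Cfsg.Lib.Fusion.hasNormalPComplement_congr
    ((MulEquiv.subgroupCongr htop).trans topEquiv)).1 hC

end

end Cfsg.Lib.GW
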