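import Cfsg.Agent.Lib.GW.Quaternion
import Cfsg.Agent.S0106

/-!
# Groups with quaternion Sylow 2-subgroups and no subgroup of index two
-/

set_option autoImplicit false
set_option linter.style.haveILetI false

namespace Cfsg.Lib.GW

open Subgroup
open scoped commutatorElement

universe u

variable {X : Type u} [Group X] [Finite X]

theorem commutator_le_of_le_sup_center {L M N : Subgroup X} (hN : N ≤ center X) (hle : L ≤ M ⊔ N) :
    ⁅L, L⁆ ≤ M := by
  haveI : N.Normal := ⟨fun n hn g => by
    rwa [mem_center_iff.1 (hN hn) g, mul_inv_cancel_right]⟩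
  rw [commutator_le]
  intro a ha b hb
  obtain ⟨m, hm, z, hz, rfl⟩ := mem_sup_of_normal_right.1 (hle ha)
  obtain ⟨m', hm', z', hz', rfl⟩ := mem_sup_of_normal_right.1 (hle hb)
  rw [Cfsg.Lib.Chev.comm_mul_central (hN hz) (hN hz'), commutatorElement_def]
  exact mul_mem (mul_mem (mul_mem hm hm') (inv_mem hm)) (inv_mem hm')

theorem index_two_of_two_group (h : IsPGroup 2 X) (hne : Nontrivial X) : ∃ M : Subgroup X, M.index = 2 := by
  obtain ⟨k, hk⟩ := h.exists_card_eq
  rcases k with _ | k
  · rw [pow_zero, Nat.card_eq_one_iff_unique] at hk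
    exact absurd hne (not_nontrivial_iff_subsingleton.2 hk.1)
  · exact Cfsg.Agent.S1255.exists_index_two (⊥ : Subgroup X) (by rw [index_bot, hk])

/-- A group with quaternion Sylow 2-subgroups, trivial core and no subgroup of index two is `SL(2,3)` or
an extension by a solvable group of `SL(2,q)` or of the double cover of `A₇`. -/
theorem quaternion_kernel (h : SimpleGW.{u}) (hO : Cfsg.oddCore X = ⊥) (hX : ∀ M : Subgroup X, M.index ≠ 2)
    (P : Sylow 2 X) {n : ℕ} (hn : 1 ≤ n) (e : (P : Subgroup X) ≃* QuaternionGroup (2 ^ n)) :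
    (Nat.card X = 24 ∧ Nonempty (X ≃* Matrix.SpecialLinearGroup (Fin 2) (ZMod 3))) ∨
    ∃ L : Subgroup X, L.Normal ∧ ⁅L, L⁆ = L ∧ center X ≤ L ∧ (P : Subgroup X) ≤ L ∧
      (∀ c ∈ centralizer (L : Set X), c ∈ center X) ∧
      (∀ M : Subgroup X, ⁅M, M⁆ = M → M ≤ L) ∧
      (∀ M : Subgroup X, M.Normal → ¬ M ≤ center X → L ≤ M) ∧
      ((∃ (F : Type) (_ : Field F) (_ : Fintype F), Odd (Fintype.card F) ∧ 3 < Fintype.card F ∧
          Nonempty (↥L ≃* Matrix.SpecialLinearGroup (Fin 2) F)) ∨
        Cfsg.IsNonsplitDoubleCover ↥L ↥(alternatingGroup (Fin 7))) := by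
  haveI : Fact (Nat.Prime 2) := ⟨Nat.prime_two⟩
  haveI : NeZero (2 ^ n) := ⟨by positivity⟩
  obtain ⟨m, rfl⟩ : ∃ m, n = m + 1 := ⟨n - 1, by omega⟩
  obtain ⟨N, hN, -, hOq, hN2, T, ⟨eT⟩⟩ := quaternion_omega P hn e
  haveI := hN
  have hZc : Nat.card (center X) = 2 := Cfsg.Lib.ZStar.card_center_of_quaternion hO P e
  have hNc : Nat.card N = 2 := by
    have h1 := ((Cfsg.oddCore X).subgroupOf N).card_mul_index
    rw [hN2, hO, Subgroup.bot_subgroupOf, Subgroup.card_bot, one_mul] at h1
    exact h1.symm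
  have hNZ : N = center X := by
    refine eq_of_le_of_card_ge (fun z hz => mem_center_iff.2 fun g => ?_) (by rw [hZc, hNc])
    have hg : g * z * g⁻¹ ∈ N := hN.conj_mem z hz g
    obtain ⟨a, b, hab, huniv⟩ := Nat.card_eq_two_iff.1 hNc
    by_cases hz1 : z = 1
    · simp [hz1]
    have hall : ∀ w : N, w ≠ 1 → w = ⟨z, hz⟩ := by
      intro w hw
      have hw' : w ∈ ({a, b} : Set N) := huniv ▸ Set.mem_univ _
      have hz' : (⟨z, hz⟩ : N) ∈ ({a, b} : Set N) := huniv ▸ Set.mem_univ _
      have h1' : (1 : N) ∈ ({a, b} : Set N) := huniv ▸ Set.mem_univ _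
      have hzne : (⟨z, hz⟩ : N) ≠ 1 := fun h => hz1 (congrArg Subtype.val h)
      rcases hw' with rfl | rfl <;> rcases hz' with h2 | h2 <;> rcases h1' with h3 | h3 <;>
        first | exact h2.symm | exact absurd (h2.trans h3.symm) hzne | exact absurd h3.symm hw
    have h2 := hall ⟨_, hg⟩ (fun h => hz1 (by
      have h3 : g * z * g⁻¹ = 1 := congrArg Subtype.val h
      exact conj_eq_one_iff.1 h3))
    exact mul_inv_eq_iff_eq_mul.1 (congrArg Subtype.val h2)
  set π := QuotientGroup.mk' N with hπ
  have h2n : 2 ≤ 2 ^ (m + 1) := Nat.le_self_pow (by omega) 2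
  have hD : TwoCycDih (X ⧸ N) := TwoCycDih.of_dihedral_sylow T h2n ⟨eT⟩
  have hcardX : Nat.card X = Nat.card (X ⧸ N) * 2 := by
    rw [card_eq_card_quotient_mul_card_subgroup N, hNc]
  have hindex : ∀ M : Subgroup (X ⧸ N), M.index ≠ 2 := fun M hM =>
    hX (M.comap π) (by rw [M.index_comap_of_surjective (QuotientGroup.mk'_surjective N), hM])
  rcases shape hD (gwSections_of_simpleGW h hD) hOq with
    h2 | ⟨V, hVn, hVK, -, hc⟩ | ⟨E, hE, hEs, hEna, -, hED, hCE, hmin, h4⟩
  · exfalso
    haveI : Nontrivial (T : Subgroup (X ⧸ N)) := by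
      haveI : NeZero (2 ^ (m + 1)) := ⟨by positivity⟩
      exact eT.toEquiv.nontrivial
    obtain ⟨M, hM⟩ := index_two_of_two_group h2 (T : Subgroup (X ⧸ N)).subtype_injective.nontrivial
    exact hindex M hM
  · haveI := hVn
    rcases hc with hc | hc
    · refine Or.inl ⟨by rw [hcardX, hc], ?_⟩
      have hnc : ¬ Cfsg.HasNormalPComplement 2 X := by
        rintro ⟨R, M, hM, hMR⟩
        haveI := hM
        obtain ⟨k, hk⟩ := R.isPGroup'.exists_card_eq
        have hMi : M.index = 2 ^ k := by rw [hMR.symm.index_eq_card, hk]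
        rcases k with _ | k
        · have h8 : Nat.card (R : Subgroup X) = 4 * 2 ^ (m + 1) := by
            rw [Nat.card_congr ((R.equiv P).trans e).toEquiv, Nat.card_eq_fintype_card, QuaternionGroup.card]
          rw [hk, pow_zero] at h8
          omega
        · obtain ⟨M', hM'⟩ := Cfsg.Agent.S1255.exists_index_two M hMi
          exact hX M' hM'
      obtain ⟨H, K, hK, ⟨i⟩⟩ := (Cfsg.Agent.S0106.result P (m + 1) hn ⟨e⟩).resolve_left hnc
      haveI := hK
      have hs : Nat.card (Matrix.SpecialLinearGroup (Fin 2) (ZMod 3)) = 24 := by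
        rw [Cfsg.Lib.Linear.Two.card_SL_two, ZMod.card]; norm_num
      have h24 : Nat.card (H ⧸ K.subgroupOf H) = 24 := (Nat.card_congr i.toEquiv).trans hs
      have hX24 : Nat.card X = 24 := by rw [hcardX, hc]
      have hH : H = ⊤ := by
        refine Subgroup.eq_top_of_card_eq H (le_antisymm (Subgroup.card_le_card_group H) ?_)
        rw [hX24, ← h24]
        exact Nat.card_le_card_of_surjective _ QuotientGroup.mk_surjective
      have hbot : K.subgroupOf H = ⊥ := by
        have h1 := card_eq_card_quotient_mul_card_subgroup (K.subgroupOf H)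
        have hHc : Nat.card H = 24 := by rw [hH, card_top, hX24]
        rw [h24, hHc] at h1
        exact Subgroup.card_eq_one.1 (by omega)
      exact ⟨((topEquiv.symm.trans (MulEquiv.subgroupCongr hH.symm)).trans
        (QuotientGroup.quotientBot.symm.trans (QuotientGroup.quotientMulEquivOfEq hbot.symm))).trans i⟩
    · exfalso
      haveI : Fact (Nat.Prime 3) := ⟨Nat.prime_three⟩
      have h6 : Nat.card ((X ⧸ N) ⧸ V) = 6 := by
        have h1 := card_eq_card_quotient_mul_card_subgroup V
        rw [hc, hVK.card_four] at h1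
        omega
      obtain ⟨g, hg⟩ := exists_prime_orderOf_dvd_card' 3 (G := (X ⧸ N) ⧸ V) (by rw [h6]; norm_num)
      have hi : (zpowers g).index = 2 := by
        have h1 := (zpowers g).card_mul_index
        rw [Nat.card_zpowers, hg, h6] at h1
        omega
      exact hindex ((zpowers g).comap (QuotientGroup.mk' V))
        (by rw [(zpowers g).index_comap_of_surjective (QuotientGroup.mk'_surjective V), hi])
  haveI := hE
  haveI := hEs
  refine Or.inr ?_
  have hEodd : Odd E.index := by
    rw [Nat.odd_iff]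
    by_contra hne
    have h2 : 2 ∣ Nat.card ((X ⧸ N) ⧸ E) := by rw [← index_eq_card]; omega
    rw [index_eq_card] at h4
    obtain ⟨R⟩ : Nonempty (Sylow 2 ((X ⧸ N) ⧸ E)) := inferInstance
    haveI : IsCyclic (R : Subgroup ((X ⧸ N) ⧸ E)) := by
      obtain ⟨k, hk⟩ := R.isPGroup'.exists_card_eq
      rcases k with _ | _ | k
      · haveI : Subsingleton (R : Subgroup ((X ⧸ N) ⧸ E)) :=
          (Nat.card_eq_one_iff_unique.1 (by simpa using hk)).1
        exact isCyclic_of_subsingleton
      · exact isCyclic_of_prime_card (p := 2) (by simpa using hk)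
      · refine absurd (dvd_trans ⟨2 ^ k, ?_⟩ (card_subgroup_dvd_card (R : Subgroup _))) h4
        rw [hk]; ring
    obtain ⟨R', M, hM, hMR⟩ := Cfsg.Lib.FTCons.MetacyclicSylow.complement_of_cyclic R
    haveI := hM
    obtain ⟨k, hk⟩ := R'.isPGroup'.exists_card_eq
    have hMi : M.index = 2 ^ k := by rw [hMR.symm.index_eq_card, hk]
    rcases k with _ | k
    · have h5 := R'.not_dvd_index
      have h6 := (R' : Subgroup ((X ⧸ N) ⧸ E)).card_mul_index
      rw [hk, pow_zero, one_mul] at h6
      exact h5 (h6 ▸ h2)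
    obtain ⟨M', hM'⟩ := Cfsg.Agent.S1255.exists_index_two M hMi
    exact hindex (M'.comap (QuotientGroup.mk' E))
      (by rw [M'.index_comap_of_surjective (QuotientGroup.mk'_surjective E), hM'])
  set L := E.comap π with hL
  haveI hLn : L.Normal := Normal.comap hE π
  have hNL : N ≤ L := fun x hx => by
    rw [hL, mem_comap, show π x = 1 from (QuotientGroup.eq_one_iff x).2 hx]
    exact one_mem _
  have hLmap : L.map π = E := map_comap_eq_self_of_surjective (QuotientGroup.mk'_surjective N) E
  have hEp : ⁅E, E⁆ = E := by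
    refine le_antisymm (commutator_le_self E) ?_
    have h1 : commutator E = ⊤ := by
      refine (IsSimpleGroup.eq_bot_or_eq_top_of_normal (commutator E) inferInstance).resolve_left fun hb => hEna ?_
      exact ⟨⟨fun a b => commutatorElement_eq_one_iff_mul_comm.1
        (mem_bot.1 (hb ▸ commutator_mem_commutator (mem_top a) (mem_top b)))⟩⟩
    have h2 := map_subtype_commutator E
    rw [h1, ← MonoidHom.range_eq_map, range_subtype] at h2
    exact le_of_eq h2
  -- all involutions are central
  have hinv : ∀ d : X, orderOf d = 2 → d ∈ center X := by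
    intro d hd
    have hp : IsPGroup 2 (zpowers d) := IsPGroup.of_card (n := 1) (by rw [Nat.card_zpowers, hd, pow_one])
    obtain ⟨R, hR⟩ := hp.exists_le_sylow
    obtain ⟨z, hz⟩ := exists_prime_orderOf_dvd_card' 2 (G := center X) (dvd_of_eq hZc.symm)
    have hzR : (z : X) ∈ (R : Subgroup X) := center_two_le R hZc z.2
    have hdR : d ∈ (R : Subgroup X) := hR (mem_zpowers d)
    have e' := (R.equiv P).trans e
    have hzo : orderOf (⟨z, hzR⟩ : (R : Subgroup X)) = 2 := by rw [Subgroup.orderOf_mk, orderOf_coe, hz]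
    have hdo : orderOf (⟨d, hdR⟩ : (R : Subgroup X)) = 2 := by rw [Subgroup.orderOf_mk, hd]
    have := e'.injective ((Cfsg.Lib.Invol.quaternion_eq_of_orderOf_two (by rw [e'.orderOf_eq, hdo])).trans
      (Cfsg.Lib.Invol.quaternion_eq_of_orderOf_two (by rw [e'.orderOf_eq, hzo])).symm)
    rw [show d = z from congrArg Subtype.val this]
    exact z.2
  have hperf : ⁅L, L⁆ = L := by
    refine le_antisymm (commutator_le_self L) ?_
    have hD' : (⁅L, L⁆).map π = E := by rw [map_commutator, hLmap, hEp]
    have hev : 2 ∣ Nat.card ↥⁅L, L⁆ := by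
      have h1 := (⁅L, L⁆).card_map_dvd π
      rw [hD'] at h1
      refine dvd_trans ?_ h1
      by_contra hcon
      exact not_isSolvable_of_simple hEna (isSolvable_of_not_four_dvd fun h => hcon ((show 2 ∣ 4 by norm_num).trans h))
    obtain ⟨d, hd⟩ := exists_prime_orderOf_dvd_card' 2 hev
    have hdc : (d : X) ∈ center X := hinv d (by rw [orderOf_coe, hd])
    have hNle : N ≤ ⁅L, L⁆ := by
      rw [hNZ]
      intro z hz
      by_cases hz1 : z = 1
      · rw [hz1]; exact one_mem _
      have hcyc : ∀ a b : center X, a ≠ 1 → b ≠ 1 → a = b := by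
        intro a b ha hb
        obtain ⟨u, v, huv, huniv⟩ := Nat.card_eq_two_iff.1 hZc
        have ha' : a ∈ ({u, v} : Set (center X)) := huniv ▸ Set.mem_univ _
        have hb' : b ∈ ({u, v} : Set (center X)) := huniv ▸ Set.mem_univ _
        have h1' : (1 : center X) ∈ ({u, v} : Set (center X)) := huniv ▸ Set.mem_univ _
        rcases ha' with rfl | rfl <;> rcases hb' with h2 | h2 <;> rcases h1' with h3 | h3 <;>
          first | exact h2.symm | exact absurd h3.symm ha | exact absurd (h2.trans h3.symm) hb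
      have hd1 : (⟨d, hdc⟩ : center X) ≠ 1 := fun h => by
        have h1 : (d : X) = 1 := congrArg Subtype.val h
        have h2 : orderOf (d : X) = 2 := by rw [orderOf_coe, hd]
        rw [h1, orderOf_one] at h2
        omega
      rw [show z = (d : X) from congrArg Subtype.val
        (hcyc ⟨z, hz⟩ ⟨d, hdc⟩ (fun h => hz1 (congrArg Subtype.val h)) hd1)]
      exact d.2
    intro x hx
    have hxE : π x ∈ (⁅L, L⁆).map π := hD'.ge hx
    obtain ⟨c, hc, hcx⟩ := hxE
    have h1 : c⁻¹ * x ∈ N := QuotientGroup.eq.1 hcx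
    have h2 := mul_mem hc (hNle h1)
    rwa [mul_inv_cancel_left] at h2
  have hperf' : commutator L = ⊤ := by
    refine Subgroup.map_injective L.subtype_injective ?_
    rw [map_subtype_commutator, hperf, ← MonoidHom.range_eq_map, range_subtype]
  have hPL : (P : Subgroup X) ≤ L := by
    intro x hx
    have h1 : orderOf (QuotientGroup.mk' E (π x)) ∣ E.index := by
      rw [index_eq_card]; exact orderOf_dvd_natCard _
    obtain ⟨i, hi⟩ := IsPGroup.iff_orderOf.1 P.isPGroup' ⟨x, hx⟩
    rw [Subgroup.orderOf_mk] at hi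
    have h2 := orderOf_map_dvd ((QuotientGroup.mk' E).comp π) x
    rw [hi] at h2
    have h3 := ((Nat.coprime_two_right.2 (hEodd.of_dvd_nat h1)).pow_right i).eq_one_of_dvd h2
    exact (QuotientGroup.eq_one_iff (π x)).1 (orderOf_eq_one_iff.1 h3)
  refine ⟨L, hLn, hperf, hNZ ▸ hNL, hPL, ?_, ?_, ?_, ?_⟩
  · intro c hc
    rw [← hNZ]
    refine (QuotientGroup.eq_one_iff c).1 (mem_bot.1 (hCE ▸ mem_centralizer_iff.2 fun y hy => ?_))
    obtain ⟨x, hx, rfl⟩ := hLmap.ge hy
    rw [show ((c : X) : X ⧸ N) = π c from rfl, ← map_mul, ← map_mul, mem_centralizer_iff.1 hc x hx]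
  · intro M hM
    haveI : Group.IsSolvable ((X ⧸ N) ⧸ E) := isSolvable_of_not_four_dvd (by
      rw [← index_eq_card]; exact h4)
    intro x hx
    set f := (QuotientGroup.mk' E).comp π
    have h1 : ⁅M.map f, M.map f⁆ = M.map f := by rw [← map_commutator, hM]
    have h2 : M.map f = ⊥ := by
      have hperfM : commutator ↥(M.map f) = ⊤ := by
        refine Subgroup.map_injective (M.map f).subtype_injective ?_
        rw [map_subtype_commutator, h1, ← MonoidHom.range_eq_map, range_subtype]
      haveI := subsingleton_of_perfect_solvable hperfM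
      exact eq_bot_of_subsingleton _
    exact (QuotientGroup.eq_one_iff (π x)).1 (mem_bot.1 (h2 ▸ mem_map_of_mem f hx))
  · intro M hM hMc
    haveI := hM
    have h1 : M.map π ≠ ⊥ := fun hb => hMc fun x hx => by
      rw [← hNZ]
      exact (QuotientGroup.eq_one_iff x).1 (mem_bot.1 (hb ▸ mem_map_of_mem π hx))
    have h2 : E ≤ M.map π := hmin _ (Normal.map hM π (QuotientGroup.mk'_surjective N)) h1
    refine hperf.ge.trans (commutator_le_of_le_sup_center hNZ.le ?_)
    intro x hx
    obtain ⟨y, hy, hyx⟩ := h2 (show π x ∈ E from hx)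
    rw [show x = y * (y⁻¹ * x) by group]
    exact mul_mem (mem_sup_left hy) (mem_sup_right (QuotientGroup.eq.1 hyx))
  · have hOL : Cfsg.oddCore L = ⊥ := by
      refine (map_eq_bot_iff_of_injective _ L.subtype_injective).1 (le_bot_iff.1 ?_)
      refine (Cfsg.Lib.Core.le_pPrimeCore (p := 2) ?_).trans hO.le
      rw [card_map_of_injective L.subtype_injective]
      exact Nat.coprime_two_right.2 ZStar.odd_card_oddCore
    exact quaternion_perfect h hperf' hOL (P.subtype hPL) hn
      ((MulEquiv.subgroupCongr (P.coe_subtype (h := hPL))).trans ((subgroupOfEquivOfLe hPL).trans e))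

end Cfsg.Lib.GW
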