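import Cfsg.Agent.Lib.Invol.Basic
import Cfsg.Agent.Lib.Invol.Cyclic
import Mathlib

/-!
# Cyclic or dihedral 2-groups

`CycDih P`: `P` has a cyclic subgroup of index at most two outside which all elements square to one.
For a 2-group this says that `P` is cyclic or dihedral (four groups included). The property passes to
subgroups and to quotients. `TwoCycDih G` says that all 2-subgroups of `G` have it.
-/

set_option autoImplicit false
set_option linter.style.haveILetI false

namespace Cfsg.Lib.GW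

open Subgroup

/-- A cyclic subgroup of index at most two with only involutions outside. -/
def CycDih (P : Type*) [Group P] : Prop :=
  ∃ R : Subgroup P, IsCyclic R ∧ R.index ≤ 2 ∧ ∀ x : P, x ∉ R → x * x = 1

/-- All 2-subgroups are cyclic or dihedral. -/
def TwoCycDih (G : Type*) [Group G] : Prop :=
  ∀ P : Subgroup G, IsPGroup 2 P → CycDih P

namespace CycDih

variable {P Q : Type*} [Group P] [Group Q]

theorem normal_of_index_le [Finite P] {R : Subgroup P} (h : R.index ≤ 2) : R.Normal := by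
  have h0 : R.index ≠ 0 := index_ne_zero_of_finite
  rcases (by omega : R.index = 1 ∨ R.index = 2) with h1 | h1
  · rw [index_eq_one.1 h1]; infer_instance
  · exact normal_of_index_eq_two h1

theorem of_isCyclic [IsCyclic P] : CycDih P :=
  ⟨⊤, isCyclic_of_injective (⊤ : Subgroup P).subtype (subtype_injective _), by simp,
    fun x hx => absurd (mem_top x) hx⟩

theorem of_injective [Finite P] (f : Q →* P) (hf : Function.Injective f) (h : CycDih P) : CycDih Q := by
  obtain ⟨R, hR, hidx, hout⟩ := h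
  refine ⟨R.comap f, ?_, ?_, fun x hx => hf (by rw [map_mul, map_one]; exact hout (f x) hx)⟩
  · exact isCyclic_of_injective (f.subgroupComap R)
      fun a b hab => Subtype.ext (hf (congrArg Subtype.val hab))
  · haveI := normal_of_index_le hidx
    rw [index_comap]
    exact (Nat.le_of_dvd (Nat.pos_of_ne_zero index_ne_zero_of_finite)
      (relIndex_dvd_index_of_normal R f.range)).trans hidx

theorem of_equiv [Finite P] (e : Q ≃* P) (h : CycDih P) : CycDih Q :=
  of_injective e.toMonoidHom e.injective h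

theorem of_surjective [Finite P] (f : P →* Q) (hf : Function.Surjective f) (h : CycDih P) : CycDih Q := by
  obtain ⟨R, hR, hidx, hout⟩ := h
  refine ⟨R.map f, ?_, ?_, fun y hy => ?_⟩
  · exact isCyclic_of_surjective (f.subgroupMap R) (f.subgroupMap_surjective R)
  · exact (Nat.le_of_dvd (Nat.pos_of_ne_zero index_ne_zero_of_finite) (index_map_dvd R hf)).trans hidx
  · obtain ⟨x, rfl⟩ := hf y
    rw [← map_mul, hout x fun hx => hy (mem_map_of_mem f hx), map_one]

theorem of_dihedral {n : ℕ} [NeZero n] (e : P ≃* DihedralGroup n) : CycDih P := by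
  refine of_equiv e ⟨zpowers (DihedralGroup.r 1), inferInstance, ?_, ?_⟩
  · have hc := card_mul_index (zpowers (DihedralGroup.r (1 : ZMod n)))
    rw [Nat.card_zpowers, DihedralGroup.orderOf_r_one, DihedralGroup.nat_card, mul_comm 2 n] at hc
    exact le_of_eq (Nat.eq_of_mul_eq_mul_left (Nat.pos_of_ne_zero (NeZero.ne n)) hc)
  · rintro (i | i) hx
    · exact absurd ⟨(i.val : ℤ), by simp [DihedralGroup.r_one_pow]⟩ hx
    · exact DihedralGroup.sr_mul_self i

section

variable {R : Subgroup P} (hout : ∀ x : P, x ∉ R → x * x = 1)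

include hout in
theorem inverts {x r : P} (hx : x ∉ R) (hr : r ∈ R) : x * r * x⁻¹ = r⁻¹ := by
  have hx2 : x * x = 1 := hout x hx
  have hxr : x * r * (x * r) = 1 := hout _ fun h => hx (by simpa using R.mul_mem h (R.inv_mem hr))
  rw [inv_eq_of_mul_eq_one_right hx2]
  exact eq_inv_of_mul_eq_one_left (by rw [← mul_assoc] at hxr; exact hxr)

include hout in
theorem mem_of_sq_ne {x : P} (hx : x * x ≠ 1) : x ∈ R := by
  by_contra h
  exact hx (hout x h)

end

/-- Elements with nontrivial square commute. -/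
theorem commute_of_sq_ne (h : CycDih P) {a b : P} (ha : a * a ≠ 1) (hb : b * b ≠ 1) : Commute a b := by
  obtain ⟨R, hR, -, hout⟩ := h
  have := (IsCyclic.isMulCommutative (α := R)).is_comm.comm ⟨a, mem_of_sq_ne hout ha⟩
    ⟨b, mem_of_sq_ne hout hb⟩
  exact congrArg Subtype.val this

/-- Two squares which are involutions coincide. -/
theorem square_involution_unique [Finite P] (h : CycDih P) {a b : P} (ha : orderOf (a * a) = 2)
    (hb : orderOf (b * b) = 2) : a * a = b * b := by
  obtain ⟨R, hR, -, hout⟩ := h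
  have hne : ∀ {c : P}, orderOf (c * c) = 2 → c ∈ R := fun {c} hc =>
    mem_of_sq_ne hout fun h1 => by rw [h1, orderOf_one] at hc; exact absurd hc (by norm_num)
  exact Cfsg.Lib.Invol.eq_of_pow_two_group_cyclic hR (R.mul_mem (hne ha) (hne ha))
    (R.mul_mem (hne hb) (hne hb)) ha hb

/-- `P` is cyclic or dihedral. -/
theorem cyclic_or_dihedral [Finite P] (h : CycDih P) :
    IsCyclic P ∨ ∃ n : ℕ, 2 ≤ n ∧ Nonempty (P ≃* DihedralGroup n) := by
  obtain ⟨R, hR, hidx, hout⟩ := h
  rcases eq_or_ne R ⊤ with rfl | hne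
  · exact Or.inl (isCyclic_of_surjective (⊤ : Subgroup P).subtype fun x => ⟨⟨x, mem_top x⟩, rfl⟩)
  obtain ⟨x, hx⟩ : ∃ x, x ∉ R := by
    by_contra hc
    push Not at hc
    exact hne (eq_top_iff.2 fun y _ => hc y)
  have hidx2 : R.index = 2 := by
    have h0 : R.index ≠ 0 := index_ne_zero_of_finite
    have h1 : R.index ≠ 1 := fun h => hne (index_eq_one.1 h)
    omega
  obtain ⟨r, hr⟩ := IsCyclic.exists_generator (α := R)
  have hzr : zpowers (r : P) = R := by
    refine le_antisymm (zpowers_le.2 r.2) fun y hy => ?_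
    obtain ⟨k, hk⟩ := hr ⟨y, hy⟩
    exact ⟨k, congrArg Subtype.val hk⟩
  have hcard : Nat.card P = 2 * orderOf (r : P) := by
    have hc : Nat.card R = orderOf (r : P) := by rw [← Nat.card_zpowers (r : P), hzr]
    rw [← card_mul_index R, hidx2, hc, mul_comm]
  rcases Nat.lt_or_ge (orderOf (r : P)) 2 with h1 | h2
  · have := orderOf_pos (r : P)
    haveI : Fact (Nat.Prime 2) := ⟨Nat.prime_two⟩
    exact Or.inl (isCyclic_of_prime_card (p := 2) (by rw [hcard]; omega))
  refine Or.inr ⟨orderOf (r : P), h2, ⟨?_⟩⟩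
  haveI : NeZero (orderOf (r : P)) := ⟨by omega⟩
  have hxr := inverts hout hx r.2
  have hinj := Cfsg.Lib.Invol.dihedralHom_injective (hout x hx) hxr (fun h => hx (hzr ▸ h))
  refine (MulEquiv.ofBijective _ ((Nat.bijective_iff_injective_and_card _).2 ⟨hinj, ?_⟩)).symm
  rw [DihedralGroup.nat_card, hcard]

/-- A noncyclic normal subgroup has index at most two. -/
theorem index_le_of_normal [Finite P] (h : CycDih P) (T : Subgroup P) [T.Normal]
    (hT : ¬ IsCyclic T) : T.index ≤ 2 := by
  obtain ⟨R, hR, hidx, hout⟩ := h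
  obtain ⟨x, hxT, hxR⟩ : ∃ x ∈ T, x ∉ R := by
    by_contra hc
    push Not at hc
    exact hT (isCyclic_of_injective (inclusion hc) (inclusion_injective hc))
  let f := (QuotientGroup.mk' T).comp R.subtype
  have hidx2 : R.index = 2 := by
    have h0 : R.index ≠ 0 := index_ne_zero_of_finite
    have h1 : R.index ≠ 1 := fun h => hxR (by rw [index_eq_one.1 h]; exact mem_top x)
    omega
  have hf : Function.Surjective f := fun y => by
    obtain ⟨g, rfl⟩ := QuotientGroup.mk'_surjective T y
    by_cases hg : g ∈ R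
    · exact ⟨⟨g, hg⟩, rfl⟩
    · refine ⟨⟨g * x, (mul_mem_iff_of_index_two hidx2).2 (iff_of_false hg hxR)⟩, ?_⟩
      show QuotientGroup.mk' T (g * x) = _
      rw [map_mul, QuotientGroup.mk'_apply T x, (QuotientGroup.eq_one_iff x).2 hxT, mul_one]
  haveI : IsCyclic (P ⧸ T) := isCyclic_of_surjective f hf
  rw [index_eq_card]
  obtain ⟨g, hg⟩ := IsCyclic.exists_generator (α := P ⧸ T)
  have hsq : g ^ 2 = 1 := by
    obtain ⟨⟨r, hr⟩, rfl⟩ := hf g
    show (QuotientGroup.mk' T r) ^ 2 = 1
    rw [← map_pow, QuotientGroup.mk'_apply, QuotientGroup.eq_one_iff]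
    have h1 : r * (x * r⁻¹ * x⁻¹) ∈ T := by
      rw [show r * (x * r⁻¹ * x⁻¹) = (r * x * r⁻¹) * x⁻¹ by group]
      exact T.mul_mem (Normal.conj_mem inferInstance x hxT r) (T.inv_mem hxT)
    rwa [inverts hout hxR (R.inv_mem hr), inv_inv, ← pow_two] at h1
  rw [← orderOf_eq_card_of_forall_mem_zpowers hg]
  exact Nat.le_of_dvd two_pos (orderOf_dvd_of_pow_eq_one hsq)

theorem exists_core_involution [Finite P] (h : CycDih P) (hP : IsPGroup 2 P) :
    ∀ A B : Subgroup P, ¬ IsCyclic A → ¬ IsCyclic B → ∃ z : P, z ≠ 1 ∧ z ∈ A ∧ z ∈ B := by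
  obtain ⟨R, hR, hidx, hout⟩ := h
  haveI : Fact (Nat.Prime 2) := ⟨Nat.prime_two⟩
  have key : ∀ A : Subgroup P, ¬ IsCyclic A → ∃ z, orderOf z = 2 ∧ z ∈ A ∧ z ∈ R := by
    intro A hA
    have hne : A ⊓ R ≠ ⊥ := by
      intro hbot
      haveI := normal_of_index_le hidx
      have hinj : Function.Injective ((QuotientGroup.mk' R).comp A.subtype) :=
        (injective_iff_map_eq_one _).2 fun a ha => Subtype.ext <| by
          have : (a : P) ∈ A ⊓ R := ⟨a.2, (QuotientGroup.eq_one_iff _).1 ha⟩
          rwa [hbot, mem_bot] at this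
      have hc := Nat.card_le_card_of_injective _ hinj
      rw [← index_eq_card] at hc
      refine hA ?_
      rcases (by have := Nat.card_pos (α := A); omega : Nat.card A = 1 ∨ Nat.card A = 2) with h1 | h1
      · haveI : Subsingleton A := (Nat.card_eq_one_iff_unique.1 h1).1
        exact isCyclic_of_subsingleton
      · exact isCyclic_of_prime_card (p := 2) h1
    obtain ⟨y, hy, hy1⟩ := (bot_or_exists_ne_one _).resolve_left hne
    obtain ⟨k, hk⟩ := IsPGroup.iff_orderOf.1 hP y
    have hk0 : k ≠ 0 := fun h0 => hy1 (orderOf_eq_one_iff.1 (by rw [hk, h0, pow_zero]))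
    obtain ⟨k, rfl⟩ := Nat.exists_eq_succ_of_ne_zero hk0
    refine ⟨y ^ 2 ^ k, ?_, A.pow_mem hy.1 _, R.pow_mem hy.2 _⟩
    rw [orderOf_pow_of_dvd (pow_ne_zero _ two_ne_zero) (hk ▸ pow_dvd_pow 2 k.le_succ), hk,
      pow_succ, Nat.mul_div_cancel_left _ (pow_pos two_pos k)]
  intro A B hA hB
  obtain ⟨z, hz, hzA, hzR⟩ := key A hA
  obtain ⟨w, hw, hwB, hwR⟩ := key B hB
  refine ⟨z, fun h => by rw [h, orderOf_one] at hz; exact absurd hz (by norm_num), hzA, ?_⟩
  rwa [Cfsg.Lib.Invol.eq_of_pow_two_group_cyclic hR hzR hwR hz hw]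

end CycDih

namespace TwoCycDih

variable {G H : Type*} [Group G] [Group H]

theorem of_sylow [Finite G] (S : Sylow 2 G) (h : CycDih (S : Subgroup G)) : TwoCycDih G := by
  haveI : Fact (Nat.Prime 2) := ⟨Nat.prime_two⟩
  intro P hP
  obtain ⟨T, hT⟩ := hP.exists_le_sylow
  exact CycDih.of_injective (inclusion hT) (inclusion_injective hT) (CycDih.of_equiv (T.equiv S) h)

theorem of_dihedral_sylow [Finite G] (S : Sylow 2 G) {n : ℕ} (hn : 2 ≤ n)
    (e : Nonempty ((S : Subgroup G) ≃* DihedralGroup n)) : TwoCycDih G := by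
  haveI : NeZero n := ⟨by omega⟩
  exact of_sylow S (CycDih.of_dihedral e.some)

theorem of_injective [Finite G] (h : TwoCycDih G) (f : H →* G) (hf : Function.Injective f) :
    TwoCycDih H := by
  intro P hP
  exact CycDih.of_injective (P.equivMapOfInjective f hf).toMonoidHom (MulEquiv.injective _)
    (h _ (hP.map f))

theorem subgroup [Finite G] (h : TwoCycDih G) (K : Subgroup G) : TwoCycDih K :=
  h.of_injective K.subtype K.subtype_injective

theorem of_surjective [Finite G] (h : TwoCycDih G) (f : G →* H) (hf : Function.Surjective f) :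
    TwoCycDih H := by
  haveI : Fact (Nat.Prime 2) := ⟨Nat.prime_two⟩
  haveI : Finite H := Finite.of_surjective f hf
  obtain ⟨S⟩ : Nonempty (Sylow 2 G) := inferInstance
  refine of_sylow (S.mapSurjective hf) ?_
  exact CycDih.of_surjective (f.subgroupMap (S : Subgroup G)) (f.subgroupMap_surjective _) (h _ S.2)

theorem quotient [Finite G] (h : TwoCycDih G) (N : Subgroup G) [N.Normal] : TwoCycDih (G ⧸ N) :=
  h.of_surjective _ (QuotientGroup.mk'_surjective N)

theorem section' [Finite G] (h : TwoCycDih G) (K : Subgroup G) (N : Subgroup K) [N.Normal] :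
    TwoCycDih (K ⧸ N) :=
  (h.subgroup K).quotient N

end TwoCycDih

end Cfsg.Lib.GW
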