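import Cfsg.Agent.Lib.GW.Cases
import Cfsg.Agent.Lib.Dickson.CentralizerCard
import Cfsg.Agent.Lib.Dickson.KleinClasses
import Cfsg.Agent.Lib.Invol.Cyclic
import Cfsg.Agent.Lib.Invol.KleinFour
import Cfsg.Agent.S1255

/-!
# Gorenstein–Walter: almost simple overgroups with self-centralizing four groups

If `X` has a normal subgroup `E`, isomorphic to `PSL₂(q)` or `A₇`, of index not divisible by 4 and all
four groups of `X` are self-centralizing, then `[X : E] ≤ 2` and a nontrivial subgroup of odd order in
the centralizer of a 2-central involution `t` has its normalizer inside that centralizer.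
-/

set_option autoImplicit false
set_option linter.style.haveILetI false

namespace Cfsg.Lib.GW

open Subgroup

universe u

section PSL

variable {F : Type*} [Field F] [Fintype F]

local notation "PSL2" => Matrix.ProjectiveSpecialLinearGroup (Fin 2) F

/-- An element of odd order and at least three has at most one involution in its centralizer. -/
theorem psl_involution_unique (hodd : Fintype.card F % 2 = 1) {y a b : PSL2} (hy : y * y ≠ 1)
    (ha : orderOf a = 2) (hb : orderOf b = 2) (hay : Commute a y) (hby : Commute b y) : a = b := by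
  obtain ⟨p, hp⟩ := CharP.exists F
  haveI : Fact p.Prime := ⟨CharP.char_is_prime F p⟩
  haveI : Finite PSL2 := inferInstance
  set C := centralizer ({y} : Set PSL2) with hC
  have haC : a ∈ C := mem_centralizer_singleton_iff.2 hay.eq
  have hbC : b ∈ C := mem_centralizer_singleton_iff.2 hby.eq
  have hy1 : y ≠ 1 := fun h => hy (by rw [h, one_mul])
  have hnp : ¬ p ∣ orderOf y := by
    intro hdvd
    obtain ⟨m, hm⟩ := hdvd
    have hm0 : m ≠ 0 := by
      intro h
      rw [h, Nat.mul_zero] at hm
      exact (orderOf_pos y).ne' hm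
    have hord : orderOf (y ^ m) = p := by
      rw [orderOf_pow_of_dvd hm0 (hm ▸ dvd_mul_left m p), hm, Nat.mul_div_cancel _ (Nat.pos_of_ne_zero hm0)]
    have hcard := Cfsg.Lib.Dickson.card_centralizer_unipotent p hord
    have h2 : orderOf a ∣ Nat.card (centralizer ({y ^ m} : Set PSL2)) :=
      Subgroup.orderOf_dvd_natCard _ (mem_centralizer_singleton_iff.2 (hay.pow_right m).eq)
    rw [hcard, ha] at h2
    omega
  rcases Cfsg.Lib.Dickson.psl_subgroup_cases p C with ⟨k, -, ⟨hcyc, -⟩ | ⟨⟨e⟩⟩⟩ | ⟨hpC, -⟩ | ⟨hnn, -⟩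
  · exact Cfsg.Lib.Invol.eq_of_pow_two_group_cyclic hcyc haC hbC ha hb
  · exfalso
    have hyC : y ∈ C := mem_centralizer_singleton_iff.2 rfl
    have h := Cfsg.Lib.Dickson.central_sq_dihedral (z := e ⟨y, hyC⟩) (by
      obtain ⟨c, hc⟩ := e.surjective (DihedralGroup.sr 0)
      rw [← hc, ← map_mul, ← map_mul]
      exact congrArg e (Subtype.ext (mem_centralizer_singleton_iff.mp c.2).symm))
    rw [← map_mul, MulEquiv.map_eq_one_iff] at h
    exact hy (congrArg Subtype.val h)
  · exact absurd hpC (Cfsg.Lib.Dickson.not_dvd_card_centralizer p hy1 hnp)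
  · exfalso
    have hyC : y ∈ C := mem_centralizer_singleton_iff.2 rfl
    have hn : ((zpowers y).subgroupOf C).Normal := ⟨fun c hc d => by
      have hdc : (d : PSL2) * c = c * d := by
        obtain ⟨k, hk⟩ := mem_zpowers_iff.mp (mem_subgroupOf.mp hc)
        rw [← hk]
        exact (Commute.zpow_right (mem_centralizer_singleton_iff.mp d.2) k).eq
      rw [show d * c * d⁻¹ = c from Subtype.ext (by simp [hdc])]
      exact hc⟩
    haveI : IsCyclic ((zpowers y).subgroupOf C) :=
      isCyclic_of_injective (subgroupOfEquivOfLe (zpowers_le.mpr hyC)).toMonoidHom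
        (subgroupOfEquivOfLe (zpowers_le.mpr hyC)).injective
    have h := hnn _ hn inferInstance
    have hmem : (⟨y, hyC⟩ : C) ∈ (zpowers y).subgroupOf C := mem_zpowers y
    rw [h, mem_bot] at hmem
    exact hy1 (congrArg Subtype.val hmem)

end PSL

section

variable {X : Type u} [Group X] [Finite X]

theorem card_normalizer_klein_le (hV : KleinSelfCentralizing X) (V : Subgroup X) (hVK : IsKleinFour V) :
    Nat.card (normalizer (V : Set X)) ≤ 24 := by
  classical
  haveI := hVK
  haveI : Finite V := IsKleinFour.instFinite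
  haveI := Fintype.ofFinite V
  let N := normalizer (V : Set X)
  let φ : N →* MulAut V := V.normalizerMonoidHom
  let ψ : MulAut V →* Equiv.Perm {v : V // v ≠ 1} :=
    { toFun := fun f => f.toEquiv.subtypeEquiv fun v => by simp
      map_one' := by ext v; rfl
      map_mul' := fun f g => by ext v; rfl }
  have hψ : Function.Injective ψ := by
    intro f g h
    ext v
    by_cases hv : v = 1
    · simp [hv]
    · exact congrArg (fun e : Equiv.Perm {v : V // v ≠ 1} => ((e ⟨v, hv⟩).1 : X)) h
  have hker : Nat.card (ψ.comp φ).ker ≤ 4 := by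
    have e : (ψ.comp φ).ker = φ.ker := Subgroup.ext fun n => hψ.eq_iff' (map_one ψ)
    rw [e, Subgroup.normalizerMonoidHom_ker]
    refine le_trans (Nat.card_le_card_of_injective (β := V) (fun x => ⟨(x : N), hV V hVK x.2⟩) ?_)
      (le_of_eq IsKleinFour.card_four)
    intro a b h
    exact Subtype.ext (Subtype.ext (congrArg (fun w : V => (w : X)) h))
  have hP : Nat.card (Equiv.Perm {v : V // v ≠ 1}) = 6 := by
    rw [Nat.card_perm, Nat.card_eq_fintype_card, Fintype.card_subtype_compl, Fintype.card_subtype_eq,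
      IsKleinFour.card_four']
    rfl
  have hmi := (ψ.comp φ).ker.card_mul_index
  rw [Subgroup.index_ker] at hmi
  calc Nat.card N = Nat.card (ψ.comp φ).ker * Nat.card (ψ.comp φ).range := hmi.symm
    _ ≤ 4 * 6 := Nat.mul_le_mul hker
        (hP ▸ Nat.le_of_dvd Nat.card_pos (card_subgroup_dvd_card _))

/-- `A₇` has a four group centralized by an element of order three. -/
theorem false_of_alternating_seven (hV : KleinSelfCentralizing X) (E : Subgroup X)
    (e : E ≃* alternatingGroup (Fin 7)) : False := by
  set a : alternatingGroup (Fin 7) := ⟨Equiv.swap 0 1 * Equiv.swap 2 3, Equiv.Perm.mem_alternatingGroup.2 (by decide)⟩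
  set b : alternatingGroup (Fin 7) := ⟨Equiv.swap 0 2 * Equiv.swap 1 3, Equiv.Perm.mem_alternatingGroup.2 (by decide)⟩
  set c : alternatingGroup (Fin 7) := ⟨Equiv.swap 4 5 * Equiv.swap 5 6, Equiv.Perm.mem_alternatingGroup.2 (by decide)⟩
  let g : alternatingGroup (Fin 7) →* X := E.subtype.comp e.symm.toMonoidHom
  have hg : Function.Injective g := E.subtype_injective.comp e.symm.injective
  have h1 : ∀ {x}, x ≠ 1 → g x ≠ 1 := fun hx h => hx (hg (h.trans (map_one g).symm))
  obtain ⟨U, hU, -, -, hle⟩ := Cfsg.Agent.S1255.exists_four (u := g a) (z := g b)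
    (by rw [← map_mul, show a * a = 1 by decide, map_one])
    (by rw [← map_mul, show b * b = 1 by decide, map_one])
    (h1 (by decide)) (h1 (by decide)) (fun h => absurd (hg h) (by decide))
    (by rw [← map_mul, ← map_mul, show a * b = b * a by decide])
  have hle' : U ≤ centralizer ({g c} : Set X) := hle _
    (mem_centralizer_singleton_iff.2 (by rw [← map_mul, ← map_mul, show a * c = c * a by decide]))
    (mem_centralizer_singleton_iff.2 (by rw [← map_mul, ← map_mul, show b * c = c * b by decide]))
  have hc : g c ∈ U := hV U hU (mem_centralizer_iff.2 fun w hw => mem_centralizer_singleton_iff.1 (hle' hw))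
  haveI := hU
  have hcc := Cfsg.Lib.Invol.klein_mul_self hc
  rw [← map_mul] at hcc
  exact absurd (hg (hcc.trans (map_one g).symm)) (by decide)

/-- A four group inside `E ≅ PSL₂(q)`. -/
theorem exists_klein {F : Type*} [Field F] [Fintype F] (hodd : Fintype.card F % 2 = 1) (E : Subgroup X)
    (e : E ≃* Matrix.ProjectiveSpecialLinearGroup (Fin 2) F) :
    ∃ V : Subgroup X, V ≤ E ∧ IsKleinFour V := by
  have h := Cfsg.Lib.Dickson.KleinClasses.card_klein (F := F) hodd
  have hpos : 0 < Nat.card {V : Subgroup (Matrix.ProjectiveSpecialLinearGroup (Fin 2) F) // IsKleinFour V} := by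
    rcases Nat.eq_zero_or_pos (Nat.card {V : Subgroup (Matrix.ProjectiveSpecialLinearGroup (Fin 2) F) //
      IsKleinFour V}) with h0 | h0
    · rw [h0, Nat.mul_zero] at h
      exact absurd h.symm Nat.card_pos.ne'
    · exact h0
  obtain ⟨⟨W, hW⟩⟩ := (Nat.card_pos_iff.1 hpos).1
  refine ⟨W.map (E.subtype.comp e.symm.toMonoidHom), ?_, ?_⟩
  · rintro _ ⟨x, -, rfl⟩
    exact (e.symm x).2
  · haveI := hW
    have i := (W.equivMapOfInjective (E.subtype.comp e.symm.toMonoidHom)
      (E.subtype_injective.comp e.symm.injective)).symm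
    exact ⟨(Nat.card_congr i.toEquiv).trans IsKleinFour.card_four,
      (Monoid.exponent_eq_of_mulEquiv i).trans IsKleinFour.exponent_two⟩

theorem isKleinFour_conj {V : Subgroup X} (hV : IsKleinFour V) (g : X) :
    IsKleinFour (V.map (MulAut.conj g).toMonoidHom : Subgroup X) := by
  haveI := hV
  have i := (V.equivMapOfInjective (MulAut.conj g).toMonoidHom (MulAut.conj g).injective).symm
  exact ⟨(Nat.card_congr i.toEquiv).trans IsKleinFour.card_four,
    (Monoid.exponent_eq_of_mulEquiv i).trans IsKleinFour.exponent_two⟩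

/-- With self-centralizing four groups a normal `PSL₂(q)` has index at most two. -/
theorem index_le_two {F : Type*} [Field F] [Fintype F] (hodd : Fintype.card F % 2 = 1)
    (hV : KleinSelfCentralizing X) (E : Subgroup X) [E.Normal]
    (e : E ≃* Matrix.ProjectiveSpecialLinearGroup (Fin 2) F) : E.index ≤ 2 := by
  obtain ⟨V, hVE, hVK⟩ := exists_klein hodd E e
  have hN := card_normalizer_klein_le hV V hVK
  have hcount : 12 * (normalizer (V : Set X)).index ≤ Nat.card E := by
    rw [Nat.card_congr e.toEquiv, ← Cfsg.Lib.Dickson.KleinClasses.card_klein hodd]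
    refine Nat.mul_le_mul_left 12 ?_
    let cj : X → Subgroup X := fun g => V.map (MulAut.conj g).toMonoidHom
    have hcj : ∀ g, cj g ≤ E := by
      rintro g _ ⟨x, hx, rfl⟩
      exact ‹E.Normal›.conj_mem x (hVE hx) g
    have htr : ∀ g, IsKleinFour (((cj g).subgroupOf E).map e.toMonoidHom :
        Subgroup (Matrix.ProjectiveSpecialLinearGroup (Fin 2) F)) := by
      intro g
      haveI := isKleinFour_conj hVK g
      have i := (((cj g).subgroupOf E).equivMapOfInjective e.toMonoidHom e.injective).symm.trans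
        (subgroupOfEquivOfLe (hcj g))
      exact ⟨(Nat.card_congr i.toEquiv).trans IsKleinFour.card_four,
        (Monoid.exponent_eq_of_mulEquiv i).trans IsKleinFour.exponent_two⟩
    refine Nat.card_le_card_of_injective
      (fun q : X ⧸ normalizer (V : Set X) => (⟨_, htr q.out⟩ :
        {W : Subgroup (Matrix.ProjectiveSpecialLinearGroup (Fin 2) F) // IsKleinFour W})) ?_
    intro q r h
    have h1 := map_injective e.injective (congrArg Subtype.val h)
    have h2 : cj q.out = cj r.out := by
      have := congrArg (Subgroup.map E.subtype) h1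
      rwa [subgroupOf_map_subtype, subgroupOf_map_subtype, inf_eq_left.2 (hcj _), inf_eq_left.2 (hcj _)] at this
    rw [← q.out_eq, ← r.out_eq]
    refine QuotientGroup.eq.2 ?_
    have key : cj ((q.out)⁻¹ * r.out) = V := by
      have : cj ((q.out)⁻¹ * r.out) = (cj r.out).map (MulAut.conj (q.out)⁻¹).toMonoidHom := by
        show V.map _ = (V.map _).map _
        rw [Subgroup.map_map]
        congr 1
        ext x
        simp [mul_assoc]
      rw [this, ← h2]
      show (V.map _).map _ = V
      rw [Subgroup.map_map]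
      have : (MulAut.conj (q.out)⁻¹).toMonoidHom.comp (MulAut.conj q.out).toMonoidHom = MonoidHom.id X := by
        ext x
        simp [mul_assoc]
      rw [this, Subgroup.map_id]
    refine mem_normalizer_iff.2 fun x => ⟨fun hx => ?_, fun hx => ?_⟩
    · exact key.le ⟨x, hx, rfl⟩
    · obtain ⟨z, hz, hzx⟩ := key.ge hx
      exact (MulAut.conj ((q.out)⁻¹ * r.out)).injective hzx ▸ hz
  have h1 := E.card_mul_index
  have h2 := (normalizer (V : Set X)).card_mul_index
  by_contra hlt
  push Not at hlt
  have h3 : 3 * Nat.card E ≤ Nat.card X := by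
    rw [← h1, mul_comm 3]
    exact Nat.mul_le_mul_left _ hlt
  have h4 : Nat.card X ≤ 2 * Nat.card E := by
    rw [← h2]
    calc Nat.card (normalizer (V : Set X)) * (normalizer (V : Set X)).index
        ≤ 24 * (normalizer (V : Set X)).index := Nat.mul_le_mul_right _ hN
      _ ≤ 2 * Nat.card E := by omega
  have : 0 < Nat.card E := Nat.card_pos
  omega

/-- With self-centralizing four groups, odd subgroups centralizing a 2-central involution `t` of an
almost simple group have their normalizers in the centralizer of `t`. -/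
theorem almostSimple_normalizer_le (hV : KleinSelfCentralizing X) (E : Subgroup X) [E.Normal]
    (hE : IsGW E) {t : X} (ht : orderOf t = 2) (S : Sylow 2 X)
    (htZ : ∀ s ∈ (S : Subgroup X), s * t = t * s) (Y : Subgroup X)
    (hYc : Y ≤ centralizer ({t} : Set X)) (hYodd : Odd (Nat.card Y)) (hY : Y ≠ ⊥) :
    normalizer (Y : Set X) ≤ centralizer ({t} : Set X) := by
  haveI : Fact (Nat.Prime 2) := ⟨Nat.prime_two⟩
  rcases hE with ⟨F, i, j, hodd, -, ⟨e⟩⟩ | ⟨⟨e⟩⟩
  swap
  · exact (false_of_alternating_seven hV E e).elim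
  have hodd' : Fintype.card F % 2 = 1 := Nat.odd_iff.1 hodd
  have hidx := index_le_two hodd' hV E e
  have hYE : Y ≤ E := by
    intro y hy
    have h1 : orderOf (QuotientGroup.mk' E y) ∣ orderOf (⟨y, hy⟩ : Y) :=
      (orderOf_map_dvd _ y).trans (by rw [orderOf_mk])
    have h2 : orderOf (QuotientGroup.mk' E y) ≤ 2 := by
      refine le_trans (Nat.le_of_dvd Nat.card_pos (orderOf_dvd_natCard _)) ?_
      rwa [← index_eq_card]
    have h3 : Odd (orderOf (QuotientGroup.mk' E y)) :=
      hYodd.of_dvd_nat (h1.trans (orderOf_dvd_natCard _))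
    have h4 : orderOf (QuotientGroup.mk' E y) = 1 := by
      have := orderOf_pos (QuotientGroup.mk' E y)
      rcases h3 with ⟨k, hk⟩
      omega
    exact (QuotientGroup.eq_one_iff y).1 (orderOf_eq_one_iff.1 h4)
  have htE : t ∈ E := by
    by_contra htE
    obtain ⟨V, hVE, hVK⟩ := exists_klein hodd' E e
    haveI := hVK
    have hVp : IsPGroup 2 V := IsPGroup.of_card (n := 2) (by rw [IsKleinFour.card_four]; norm_num)
    obtain ⟨T, hT⟩ := hVp.exists_le_sylow
    obtain ⟨g, hg⟩ := MulAction.exists_smul_eq X T S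
    have hK := isKleinFour_conj hVK g
    have hmem : t ∈ V.map (MulAut.conj g).toMonoidHom := by
      refine hV _ hK (mem_centralizer_iff.2 ?_)
      rintro _ ⟨v, hv, rfl⟩
      refine htZ _ ?_
      rw [← hg, Sylow.coe_subgroup_smul, Subgroup.mem_smul_pointwise_iff_exists]
      exact ⟨v, hT hv, rfl⟩
    obtain ⟨v, hv, hvt⟩ := hmem
    exact htE (hvt ▸ ‹E.Normal›.conj_mem v (hVE hv) g)
  intro g hg
  obtain ⟨y, hy, hy1⟩ := (bot_or_exists_ne_one Y).resolve_left hY
  have hyy : (e ⟨y, hYE hy⟩) * (e ⟨y, hYE hy⟩) ≠ 1 := by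
    rw [← map_mul]
    intro h
    have h2 : y * y = 1 := congrArg Subtype.val (e.injective (h.trans (map_one e).symm))
    have h3 : orderOf y ∣ 2 := orderOf_dvd_of_pow_eq_one (by rw [sq, h2])
    have h4 : Odd (orderOf y) := hYodd.of_dvd_nat (Subgroup.orderOf_dvd_natCard _ hy)
    rcases (Nat.dvd_prime Nat.prime_two).1 h3 with h5 | h5
    · exact hy1 (orderOf_eq_one_iff.1 h5)
    · rw [h5] at h4; exact absurd h4 (by decide)
  have hw : g * t * g⁻¹ ∈ E := ‹E.Normal›.conj_mem t htE g
  have hcomm : Commute (g * t * g⁻¹) y := by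
    have hy' : g⁻¹ * y * g ∈ Y := by
      have := (mem_normalizer_iff.1 (inv_mem hg) y).1 hy
      rwa [inv_inv] at this
    have h := mem_centralizer_singleton_iff.1 (hYc hy')
    show g * t * g⁻¹ * y = y * (g * t * g⁻¹)
    calc g * t * g⁻¹ * y = g * (t * (g⁻¹ * y * g)) * g⁻¹ := by group
      _ = g * ((g⁻¹ * y * g) * t) * g⁻¹ := by rw [h]
      _ = y * (g * t * g⁻¹) := by group
  have hty : Commute t y := (mem_centralizer_singleton_iff.1 (hYc hy)).symm
  have heq := psl_involution_unique hodd' hyy
    (a := e ⟨t, htE⟩) (b := e ⟨_, hw⟩)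
    (by rw [MulEquiv.orderOf_eq, orderOf_mk, ht])
    (by rw [MulEquiv.orderOf_eq, orderOf_mk]; exact ((MulAut.conj g).orderOf_eq t).trans ht)
    ((show Commute (⟨t, htE⟩ : E) ⟨y, hYE hy⟩ from Subtype.ext hty.eq).map e.toMonoidHom)
    ((show Commute (⟨_, hw⟩ : E) ⟨y, hYE hy⟩ from Subtype.ext hcomm.eq).map e.toMonoidHom)
  have h5 : t = g * t * g⁻¹ := congrArg Subtype.val (e.injective heq)
  refine mem_centralizer_singleton_iff.2 ?_
  calc g * t = g * t * g⁻¹ * g := by group
    _ = t * g := by rw [← h5]

end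

end Cfsg.Lib.GW
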