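import Mathlib.GroupTheory.Nilpotent
import Mathlib.GroupTheory.PGroup

/-!
# An involution acting on a group of odd order

Splitting into fixed and inverted elements, and the basic centralizing criterion: an automorphism of odd
order of a `p`-group, prime to `p`, inverted by an involution whose fixed points it centralizes, is trivial.
-/

set_option autoImplicit false

namespace Cfsg.Lib.GW.InvAct

open Subgroup

variable {G : Type*} [Group G]

theorem exists_sqrt {y : G} (h : Odd (orderOf y)) : ∃ r ∈ zpowers y, r * r = y := by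
  obtain ⟨k, hk⟩ := h
  refine ⟨y ^ (k + 1), pow_mem (mem_zpowers y) _, ?_⟩
  rw [← pow_add, show k + 1 + (k + 1) = orderOf y + 1 by omega, pow_succ, pow_orderOf_eq_one, one_mul]

theorem commute_of_sq {x b : G} (hx : Odd (orderOf x)) (h : Commute (x * x) b) : Commute x b := by
  obtain ⟨k, hk⟩ := hx
  have h3 : x = (x * x) ^ (k + 1) := by
    rw [← sq, ← pow_mul, show 2 * (k + 1) = orderOf x + 1 by omega, pow_succ, pow_orderOf_eq_one, one_mul]
  rw [h3]
  exact h.pow_left _

theorem conj_inv {v y : G} (hv : v * v = 1) : v * y⁻¹ * v = (v * y * v)⁻¹ := by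
  rw [mul_inv_rev, mul_inv_rev, ← eq_inv_of_mul_eq_one_left hv, ← mul_assoc]

theorem conj_mul {v : G} (hv : v * v = 1) (a b : G) : v * (a * b) * v = v * a * v * (v * b * v) :=
  calc v * (a * b) * v = v * a * (v * v) * (b * v) := by rw [hv, mul_one]; simp [mul_assoc]
    _ = _ := by simp [mul_assoc]

theorem conj_of_commute {v x : G} (hv : v * v = 1) (h : Commute x v) : v * x * v = x := by
  rw [← h.eq, mul_assoc, hv, mul_one]

theorem commute_of_conj {v x : G} (hv : v * v = 1) (h : v * x * v = x) : Commute x v :=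
  calc x * v = v * x * v * v := by rw [h]
    _ = v * x := by rw [mul_assoc, hv, mul_one]

theorem eq_one_of_commute_inverted {v x : G} (hx : Odd (orderOf x)) (hv : v * v = 1) (hc : Commute x v)
    (hi : v * x * v = x⁻¹) : x = 1 := by
  rw [conj_of_commute hv hc] at hi
  exact orderOf_eq_one_iff.1 (Nat.eq_one_of_dvd_coprimes (Nat.coprime_two_right.2 hx) (dvd_refl _)
    (orderOf_dvd_of_pow_eq_one (by rw [sq]; exact mul_eq_one_iff_eq_inv.2 hi)))

/-- An inverted element of odd order normalizing a pointwise fixed subgroup centralizes it. -/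
theorem commute_of_fixed {B : Subgroup G} {v x b : G} (hv : v * v = 1) (hB : ∀ c ∈ B, Commute c v)
    (hx : x ∈ normalizer (B : Set G)) (hi : v * x * v = x⁻¹) (hodd : Odd (orderOf x)) (hb : b ∈ B) :
    Commute x b := by
  refine commute_of_sq hodd ?_
  have h1 := conj_of_commute hv (hB _ ((mem_normalizer_iff.1 hx b).1 hb))
  rw [conj_mul hv, conj_mul hv, hi, conj_inv hv, hi, conj_of_commute hv (hB b hb), inv_inv] at h1
  show x * x * b = b * (x * x)
  calc x * x * b = x * (x * b * x⁻¹) * x := by group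
    _ = x * (x⁻¹ * b * x) * x := by rw [h1]
    _ = _ := by group

variable [Finite G]

omit [Finite G] in
theorem odd_orderOf_of_mem {P : Subgroup G} (hP : Odd (Nat.card P)) {x : G} (hx : x ∈ P) :
    Odd (orderOf x) := hP.of_dvd_nat (Subgroup.orderOf_dvd_natCard _ hx)

omit [Finite G] in
/-- Every element is a fixed one times an inverted one. -/
theorem exists_split {P : Subgroup G} (hP : Odd (Nat.card P)) {v : G} (hv : v * v = 1)
    (hvP : v ∈ normalizer (P : Set G)) {x : G} (hx : x ∈ P) :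
    ∃ c ∈ P, ∃ i ∈ P, Commute c v ∧ v * i * v = i⁻¹ ∧ x = c * i := by
  have hvx : v * x * v ∈ P := by
    have := (mem_normalizer_iff.1 hvP x).1 hx
    rwa [← eq_inv_of_mul_eq_one_left hv] at this
  set y := x⁻¹ * (v * x * v) with hy
  have hyP : y ∈ P := mul_mem (inv_mem hx) hvx
  have hyinv : v * y * v = y⁻¹ := by
    rw [hy, conj_mul hv, conj_inv hv,
      show v * (v * x * v) * v = (v * v) * x * (v * v) by simp [mul_assoc], hv]
    simp
  obtain ⟨r, hr, hrr⟩ := exists_sqrt (odd_orderOf_of_mem hP hyP)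
  have hrP : r ∈ P := (zpowers_le.2 hyP) hr
  have hrinv : v * r * v = r⁻¹ := by
    obtain ⟨k, rfl⟩ := mem_zpowers_iff.1 hr
    have hv' : v⁻¹ = v := (eq_inv_of_mul_eq_one_left hv).symm
    calc v * y ^ k * v = (v * y * v⁻¹) ^ k := by rw [conj_zpow, hv']
      _ = _ := by rw [hv', hyinv, inv_zpow]
  refine ⟨x * r, mul_mem hx hrP, r⁻¹, inv_mem hrP, commute_of_conj hv ?_, ?_, by group⟩
  · rw [conj_mul hv, hrinv, show v * x * v = x * y by rw [hy, mul_inv_cancel_left]]
    conv_lhs => rw [← hrr]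
    group
  · rw [conj_inv hv, hrinv]

/-- If `v` inverts `φ` and `φ` centralizes the fixed points of `v` on the `p`-group `X`, then `φ`
centralizes `X`; `φ` has odd order prime to `p`. -/
theorem commute_of_fixed_points {p : ℕ} [Fact p.Prime] {X : Subgroup G} (hX : IsPGroup p X)
    (hXodd : Odd (Nat.card X)) {φ v : G} (hφ : φ ∈ normalizer (X : Set G)) (hφo : Odd (orderOf φ))
    (hco : (orderOf φ).Coprime p) (hv : v * v = 1) (hvX : v ∈ normalizer (X : Set G))
    (hinv : v * φ * v = φ⁻¹) (hfix : ∀ x ∈ X, Commute x v → Commute φ x) {x : G} (hx : x ∈ X) :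
    Commute φ x := by
  set Y := X ⊓ centralizer ({φ} : Set G) with hY
  suffices h : X ≤ Y from (mem_centralizer_singleton_iff.1 (h hx).2).symm
  by_contra hne
  have : Group.IsNilpotent X := hX.isNilpotent
  have hlt : Y.subgroupOf X < ⊤ := lt_top_iff_ne_top.2 fun h => hne (subgroupOf_eq_top.1 h)
  obtain ⟨n₀, hn₀, hn₀Y⟩ := SetLike.exists_of_lt (Group.normalizerCondition_of_isNilpotent _ hlt)
  have hn₀N : (n₀ : G) ∈ normalizer (Y : Set G) := by
    refine mem_normalizer_fintype fun y hy => ?_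
    exact (mem_normalizer_iff.1 hn₀ ⟨y, hy.1⟩).1 hy
  obtain ⟨c, hc, n, hnX, hcv, hninv, hcn⟩ := exists_split hXodd hv hvX n₀.2
  have hcY : c ∈ Y := ⟨hc, mem_centralizer_singleton_iff.2 (hfix c hc hcv).symm.eq⟩
  have hnN : n ∈ normalizer (Y : Set G) := by
    rw [show n = c⁻¹ * n₀ by rw [hcn, inv_mul_cancel_left]]
    exact mul_mem (inv_mem (le_normalizer hcY)) hn₀N
  have hnY : n ∉ Y := fun h => hn₀Y (mem_subgroupOf.2 (by rw [hcn]; exact mul_mem hcY h))
  have hφY : ∀ y ∈ Y, φ * y * φ⁻¹ = y := fun y hy => by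
    rw [← mem_centralizer_singleton_iff.1 hy.2, mul_inv_cancel_right]
  have hφN : φ ∈ normalizer (Y : Set G) := mem_normalizer_fintype fun y hy => by
    rw [hφY y hy]; exact hy
  have hmX : φ * n * φ⁻¹ ∈ X := (mem_normalizer_iff.1 hφ n).1 hnX
  obtain ⟨d, hd, i, -, hdv, hiinv, hdi⟩ := exists_split hXodd hv hvX hmX
  have hdY : d ∈ Y := ⟨hd, mem_centralizer_singleton_iff.2 (hfix d hd hdv).symm.eq⟩
  have hiN : i ∈ normalizer (Y : Set G) := by
    rw [show i = d⁻¹ * (φ * n * φ⁻¹) by rw [hdi, inv_mul_cancel_left]]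
    exact mul_mem (inv_mem (le_normalizer hdY)) (mul_mem (mul_mem hφN hnN) (inv_mem hφN))
  -- `φ * n * φ⁻¹` and `φ⁻¹ * n * φ` agree modulo `Y`
  have h1 : φ⁻¹ * n⁻¹ * φ = d * i⁻¹ := by
    have := congrArg (fun z => v * z * v) hdi
    simp only [conj_mul hv, conj_inv hv, hinv, hninv, hiinv, inv_inv, conj_of_commute hv hdv] at this
    exact this
  have h2 : n⁻¹ * (φ * φ * n * (φ * φ)⁻¹) ∈ Y := by
    have h : d * i⁻¹ * (d * i) ∈ Y := by
      have := (mem_normalizer_iff.1 (inv_mem hiN) d).1 hdY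
      rw [inv_inv] at this
      rw [show d * i⁻¹ * (d * i) = d * (i⁻¹ * d * i) by group]
      exact mul_mem hdY this
    have h' := (mem_normalizer_iff.1 hφN _).1 h
    rw [← h1, ← hdi] at h'
    rwa [show n⁻¹ * (φ * φ * n * (φ * φ)⁻¹) = φ * (φ⁻¹ * n⁻¹ * φ * (φ * n * φ⁻¹)) * φ⁻¹ by group]
  set ψ := φ * φ with hψ
  set y := n⁻¹ * (ψ * n * ψ⁻¹) with hy
  have hψy : ψ * y * ψ⁻¹ = y := by
    rw [show ψ * y * ψ⁻¹ = φ * (φ * y * φ⁻¹) * φ⁻¹ by rw [hψ]; group, hφY y h2, hφY y h2]
  have hpow : ∀ k : ℕ, ψ ^ k * n * (ψ ^ k)⁻¹ = n * y ^ k := by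
    intro k
    induction k with
    | zero => simp
    | succ k ih =>
      calc ψ ^ (k + 1) * n * (ψ ^ (k + 1))⁻¹ = ψ * (ψ ^ k * n * (ψ ^ k)⁻¹) * ψ⁻¹ := by
            rw [pow_succ']; group
        _ = (ψ * n * ψ⁻¹) * (ψ * y * ψ⁻¹) ^ k := by rw [ih, conj_pow]; group
        _ = n * y ^ (k + 1) := by
          rw [hψy, show ψ * n * ψ⁻¹ = n * y by rw [hy, mul_inv_cancel_left], pow_succ', mul_assoc]
  have hy1 : y = 1 := by
    obtain ⟨a, ha⟩ := IsPGroup.iff_orderOf.1 hX ⟨y, h2.1⟩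
    rw [orderOf_mk] at ha
    refine orderOf_eq_one_iff.1 (Nat.eq_one_of_dvd_coprimes (hco.pow_right a)
      ?_ (ha ▸ dvd_rfl))
    refine orderOf_dvd_of_pow_eq_one ?_
    have hψ1 : ψ ^ orderOf φ = 1 := by
      rw [hψ, (Commute.refl φ).mul_pow, pow_orderOf_eq_one, one_mul]
    have := hpow (orderOf φ)
    rw [hψ1, inv_one, mul_one, one_mul] at this
    exact (mul_eq_left.1 this.symm)
  have hcomm : Commute ψ n := by
    have := hpow 1
    rw [pow_one, hy1, one_pow, mul_one] at this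
    exact mul_inv_eq_iff_eq_mul.1 this
  exact hnY ⟨hnX, mem_centralizer_singleton_iff.2 (commute_of_sq hφo hcomm).symm.eq⟩

end Cfsg.Lib.GW.InvAct
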