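import Cfsg.Agent.Lib.GW.DGroupDihedral
import Cfsg.Agent.Lib.Dickson.Involutions
import Cfsg.Agent.Lib.Dickson.CentralizerCard

/-!
# Gorenstein–Walter: the centralizer equation fails next to a component

A group with a normal subgroup `PSL₂(q)` or `A₇` containing two commuting involutions `j`, `t` does not satisfy
`4 |X| |C(j, t)|² = 3 |C(j)|³`.
-/

set_option autoImplicit false
set_option linter.style.haveILetI false
set_option linter.unusedSectionVars false

namespace Cfsg.Lib.GW.Fused

open Subgroup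

universe u

section PSL

variable {F : Type*} [Field F] [Fintype F]

local notation "PSL2" => Matrix.ProjectiveSpecialLinearGroup (Fin 2) F

open Classical in
/-- The centralizer of an involution lying in a four group is dihedral of order `2k ≤ q + 1`, with at
most `k` other involutions. -/
theorem psl_centralizer_bound (hodd : Fintype.card F % 2 = 1) {x t : PSL2} (hx : orderOf x = 2)
    (ht : orderOf t = 2) (hne : t ≠ x) (hc : Commute t x) :
    ∃ k : ℕ, Nat.card (centralizer ({x} : Set PSL2)) = 2 * k ∧ 2 * k ≤ Fintype.card F + 1 ∧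
      Nat.card {y : PSL2 // Commute y x ∧ y * y = 1 ∧ y ≠ 1 ∧ y ≠ x} ≤ k := by
  obtain ⟨p, hp⟩ := CharP.exists F
  haveI : Fact p.Prime := ⟨CharP.char_is_prime F p⟩
  have hx1 : x ≠ 1 := Cfsg.Lib.Invol.ne_one hx
  have hpx : ¬ p ∣ orderOf x := fun h => by
    rw [hx, Nat.prime_dvd_prime_iff_eq Fact.out Nat.prime_two] at h
    subst h
    exact absurd (FiniteField.even_card_of_char_two (F := F) (ringChar.eq F 2)) (by omega)
  have hxC : x ∈ centralizer ({x} : Set PSL2) := mem_centralizer_singleton_iff.2 rfl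
  have htC : t ∈ centralizer ({x} : Set PSL2) := mem_centralizer_singleton_iff.2 hc.eq
  rcases Cfsg.Lib.Dickson.psl_subgroup_cases p (centralizer ({x} : Set PSL2)) with
    ⟨k, hk, ⟨hcy, -⟩ | ⟨⟨e⟩⟩⟩ | ⟨hpC, -⟩ | ⟨hnn, -⟩
  · exfalso
    haveI := hcy
    let T : centralizer ({x} : Set PSL2) := ⟨t, htC⟩
    let X : centralizer ({x} : Set PSL2) := ⟨x, hxC⟩
    have hsub : ({1, T, X} : Finset (centralizer ({x} : Set PSL2))) ⊆
        Finset.univ.filter fun a => a ^ 2 = 1 := by
      intro a ha
      simp only [Finset.mem_insert, Finset.mem_singleton] at ha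
      refine Finset.mem_filter.2 ⟨Finset.mem_univ _, ?_⟩
      rcases ha with rfl | rfl | rfl
      · exact one_pow 2
      · exact Subtype.ext (ht ▸ pow_orderOf_eq_one t :)
      · exact Subtype.ext (hx ▸ pow_orderOf_eq_one x :)
    have h3 : ({1, T, X} : Finset (centralizer ({x} : Set PSL2))).card = 3 := Finset.card_eq_three.2
      ⟨1, T, X, fun h => Cfsg.Lib.Invol.ne_one ht (congrArg Subtype.val h).symm,
        fun h => hx1 (congrArg Subtype.val h).symm, fun h => hne (congrArg Subtype.val h), rfl⟩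
    have := (Finset.card_le_card hsub).trans (IsCyclic.card_pow_eq_one_le (n := 2) two_pos)
    omega
  · have hk0 : k ≠ 0 := by
      rintro rfl
      exact Nat.card_pos.ne' ((Nat.card_congr e.toEquiv).trans DihedralGroup.nat_card)
    haveI : NeZero k := ⟨hk0⟩
    refine ⟨k, (Nat.card_congr e.toEquiv).trans DihedralGroup.nat_card, ?_, ?_⟩
    · have hg : Nat.gcd 2 (Fintype.card F - 1) = 2 := Nat.gcd_eq_left (by omega)
      rw [hg] at hk
      have h1 : 1 < Fintype.card F := Fintype.one_lt_card
      rcases hk with h | h <;> have := Nat.le_of_dvd (by omega) h <;> omega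
    have hcard : Nat.card (centralizer ({x} : Set PSL2)) = 2 * k :=
      (Nat.card_congr e.toEquiv).trans DihedralGroup.nat_card
    by_cases hk2 : k ≤ 2
    · haveI : Finite PSL2 := inferInstance
      have hsub : {y : PSL2 | Commute y x ∧ y * y = 1 ∧ y ≠ 1 ∧ y ≠ x} ⊆
          (centralizer ({x} : Set PSL2) : Set PSL2) \ {1, x} := fun y hy =>
        ⟨mem_centralizer_singleton_iff.2 hy.1.eq, by
          rintro (rfl | rfl)
          · exact hy.2.2.1 rfl
          · exact hy.2.2.2 rfl⟩
      have h2 := Set.ncard_le_ncard hsub (Set.toFinite _)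
      rw [Set.ncard_sdiff (by
        rintro y (rfl | rfl)
        · exact one_mem _
        · exact hxC) (Set.toFinite _), Set.ncard_pair (Ne.symm hx1)] at h2
      simp only [← Nat.card_coe_set_eq] at h2
      have hk3 : Nat.card ((centralizer ({x} : Set PSL2) : Set PSL2) : Type _) = 2 * k := hcard
      rw [hk3] at h2
      exact h2.trans (by omega)
    have key : ∀ y : PSL2, ∀ hy : Commute y x, y * y = 1 → y ≠ 1 → y ≠ x →
        ∃ i : ZMod k, e ⟨y, mem_centralizer_singleton_iff.2 hy.eq⟩ = DihedralGroup.sr i := by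
      intro y hy hy2 hy1 hyx
      set X := e ⟨x, hxC⟩ with hX
      have hX2 : X * X = 1 := by
        rw [hX, ← map_mul, show (⟨x, hxC⟩ : centralizer ({x} : Set PSL2)) * ⟨x, hxC⟩ = 1 from
          Subtype.ext (Cfsg.Lib.Invol.inv_mul_self hx), map_one]
      have hX1 : X ≠ 1 := fun h => hx1 (congrArg Subtype.val ((MulEquiv.map_eq_one_iff e).1 h))
      have hXc : ∀ d, Commute d X := fun d => by
        obtain ⟨c, rfl⟩ := e.surjective d
        exact (show Commute c ⟨x, hxC⟩ from Subtype.ext (mem_centralizer_singleton_iff.1 c.2)).map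
          e.toMonoidHom
      set Y := e ⟨y, mem_centralizer_singleton_iff.2 hy.eq⟩ with hY
      have hY2 : Y * Y = 1 := by
        rw [hY, ← map_mul, show (⟨y, mem_centralizer_singleton_iff.2 hy.eq⟩ :
          centralizer ({x} : Set PSL2)) * ⟨y, mem_centralizer_singleton_iff.2 hy.eq⟩ = 1 from
          Subtype.ext hy2, map_one]
      have hY1 : Y ≠ 1 := fun h => hy1 (congrArg Subtype.val ((MulEquiv.map_eq_one_iff e).1 h))
      have hYX : Y ≠ X := fun h => hyx (congrArg Subtype.val (e.injective h))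
      rcases Y with a | a
      · exfalso
        have hu : ∀ a : ZMod k, DihedralGroup.r a * DihedralGroup.r a = 1 → DihedralGroup.r a ≠ 1 →
            2 * a.val = k := by
          intro a ha ha1
          rw [DihedralGroup.r_mul_r, DihedralGroup.one_def, DihedralGroup.r.injEq] at ha
          rcases (ZMod.neg_eq_self_iff a).1 (eq_neg_of_add_eq_zero_left ha).symm with h | h
          · exact absurd (by rw [h, DihedralGroup.one_def]) ha1
          · exact h
        have hA := hu a hY2 hY1
        rcases hXe : X with b | b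
        · rw [hXe] at hX2 hX1 hYX
          have hB := hu b hX2 hX1
          exact hYX (by rw [ZMod.val_injective k (show a.val = b.val by omega)])
        · -- a central reflection forces `k ≤ 2`
          have h1 := (hXc (DihedralGroup.r 1)).eq
          rw [hXe, DihedralGroup.r_mul_sr, DihedralGroup.sr_mul_r, DihedralGroup.sr.injEq] at h1
          have h2 : ((2 : ℕ) : ZMod k) = 0 := by push_cast; linear_combination -h1
          rw [ZMod.natCast_eq_zero_iff] at h2
          exact hk2 (Nat.le_of_dvd two_pos h2)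
      · exact ⟨a, rfl⟩
    calc Nat.card {y : PSL2 // Commute y x ∧ y * y = 1 ∧ y ≠ 1 ∧ y ≠ x}
        ≤ Nat.card (ZMod k) := by
          refine Nat.card_le_card_of_injective
            (fun y => (key y.1 y.2.1 y.2.2.1 y.2.2.2.1 y.2.2.2.2).choose) fun y y' h => ?_
          have e1 := (key y.1 y.2.1 y.2.2.1 y.2.2.2.1 y.2.2.2.2).choose_spec
          have e2 := (key y'.1 y'.2.1 y'.2.2.1 y'.2.2.2.1 y'.2.2.2.2).choose_spec
          simp only at h
          rw [h, ← e2] at e1
          exact Subtype.ext (Subtype.mk_eq_mk.1 (e.injective e1))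
      _ = k := Nat.card_zmod k
  · exact absurd hpC (Cfsg.Lib.Dickson.not_dvd_card_centralizer p hx1 hpx)
  · exfalso
    set C := centralizer ({x} : Set PSL2) with hC
    have hn : ((zpowers x).subgroupOf C).Normal := ⟨fun a ha b => by
      have hba : (b : PSL2) * a = a * b := by
        obtain ⟨i, hi⟩ := mem_zpowers_iff.1 (mem_subgroupOf.1 ha)
        rw [← hi]
        exact (Commute.zpow_right (mem_centralizer_singleton_iff.1 b.2) i).eq
      rw [show b * a * b⁻¹ = a from Subtype.ext (by simp [hba])]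
      exact ha⟩
    haveI : IsCyclic ((zpowers x).subgroupOf C) :=
      isCyclic_of_injective (subgroupOfEquivOfLe (zpowers_le.2 hxC)).toMonoidHom
        (subgroupOfEquivOfLe (zpowers_le.2 hxC)).injective
    have hm : (⟨x, hxC⟩ : C) ∈ (zpowers x).subgroupOf C := mem_zpowers x
    rw [hnn _ hn inferInstance, mem_bot] at hm
    exact hx1 (congrArg Subtype.val hm)

end PSL

/-- An involution of `A₇` commutes with no element of order seven. -/
theorem alt_seven_not_dvd (x : alternatingGroup (Fin 7)) (hx : orderOf x = 2) :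
    ¬ 7 ∣ Nat.card (centralizer ({x} : Set (alternatingGroup (Fin 7)))) := by
  intro h7
  haveI : Fact (Nat.Prime 7) := ⟨by norm_num⟩
  obtain ⟨z, hz⟩ := exists_prime_orderOf_dvd_card' 7 h7
  rw [← orderOf_coe] at hz
  have hc : Commute (z : alternatingGroup (Fin 7)) x := mem_centralizer_singleton_iff.1 z.2
  have h14 := hc.orderOf_mul_eq_mul_orderOf_of_coprime (by rw [hz, hx]; norm_num)
  rw [hz, hx, ← orderOf_coe, ← Equiv.Perm.lcm_cycleType] at h14
  set m := (((z : alternatingGroup (Fin 7)) * x : alternatingGroup (Fin 7)) : Equiv.Perm (Fin 7)).cycleType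
    with hm
  obtain ⟨n, hn, hn7⟩ := (Nat.prime_iff.1 (by norm_num : Nat.Prime 7)).exists_mem_multiset_dvd
    (s := m) ((show 7 ∣ m.lcm by rw [h14]; norm_num).trans
      (Multiset.lcm_dvd.2 fun b hb => Multiset.dvd_prod hb))
  obtain ⟨r, hr⟩ := Multiset.exists_cons_of_mem hn
  have hsum : m.sum ≤ 7 := by
    rw [hm, Equiv.Perm.sum_cycleType]
    exact (Finset.card_le_univ _).trans_eq (Fintype.card_fin 7)
  have h2 : 2 ≤ n := Equiv.Perm.two_le_of_mem_cycleType hn
  have hn' := Nat.le_of_dvd (by omega) hn7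
  rw [hr, Multiset.sum_cons] at hsum
  have hr0 : r = 0 := Multiset.eq_zero_of_forall_notMem fun b hb => by
    have hb2 : 2 ≤ b := Equiv.Perm.two_le_of_mem_cycleType (σ := ((((z : alternatingGroup (Fin 7)) * x :
      alternatingGroup (Fin 7))) : Equiv.Perm (Fin 7))) (by rw [← hm, hr]; exact Multiset.mem_cons_of_mem hb)
    have := Multiset.le_sum_of_mem hb
    omega
  rw [hr, hr0, Multiset.cons_zero, Multiset.lcm_singleton, normalize_eq] at h14
  omega

variable {X : Type u} [Group X] [Finite X]

/-- The centralizer equation fails when the two involutions lie in a normal `PSL₂(q)` or `A₇`. -/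
theorem component_equation_false (E : Subgroup X) [E.Normal] (hgw : IsGW E) {j t : X} (hjE : j ∈ E)
    (htE : t ∈ E) (hj : orderOf j = 2) (ht : orderOf t = 2) (hne : t ≠ j) (hc : Commute t j)
    (heq : 4 * Nat.card X * Nat.card (centralizer ({j, t} : Set X)) ^ 2 =
      3 * Nat.card (centralizer ({j} : Set X)) ^ 3) : False := by
  set j' : E := ⟨j, hjE⟩ with hj'
  set t' : E := ⟨t, htE⟩ with ht'
  have hjo : orderOf j' = 2 := by rw [← hj, ← orderOf_coe]
  have hto : orderOf t' = 2 := by rw [← ht, ← orderOf_coe]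
  have hne' : t' ≠ j' := fun h => hne (congrArg Subtype.val h)
  have hc' : Commute t' j' := Subtype.ext hc.eq
  have hone : ∀ b : E, orderOf b = 2 → IsConj j' b := by
    intro b hb
    rcases hgw with ⟨F, i, i', hodd, -, ⟨e⟩⟩ | ⟨⟨e⟩⟩
    · obtain ⟨c, hcc⟩ := Cfsg.Lib.Dickson.exists_conj_involution (F := F) (Nat.odd_iff.1 hodd)
        (x := e j') (y := e b) (by rw [← map_pow, (hjo ▸ pow_orderOf_eq_one j' : j' ^ 2 = 1), map_one])
        (fun h => Cfsg.Lib.Invol.ne_one hjo ((MulEquiv.map_eq_one_iff e).1 h))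
        (by rw [← map_pow, (hb ▸ pow_orderOf_eq_one b : b ^ 2 = 1), map_one])
        (fun h => Cfsg.Lib.Invol.ne_one hb ((MulEquiv.map_eq_one_iff e).1 h))
      refine isConj_iff.2 ⟨(e.symm c)⁻¹, e.injective ?_⟩
      rw [map_mul, map_mul, map_inv e (e.symm c)⁻¹, map_inv, e.apply_symm_apply, inv_inv, hcc]
    · obtain ⟨c, hcc⟩ := isConj_iff.1 (DGroup.alt_seven_conj (x := e j') (y := e b)
        (by rw [MulEquiv.orderOf_eq, hjo]) (by rw [MulEquiv.orderOf_eq, hb]))
      refine isConj_iff.2 ⟨e.symm c, e.injective ?_⟩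
      rw [map_mul, map_mul, map_inv, e.apply_symm_apply, hcc]
  set C := centralizer ({j} : Set X) with hC
  set A := centralizer ({j, t} : Set X) with hA
  -- the two orders
  have hsup : C ⊔ E = ⊤ := by
    refine eq_top_iff.2 fun g _ => ?_
    have hmem : g * j * g⁻¹ ∈ E := ‹E.Normal›.conj_mem _ hjE g
    obtain ⟨c, hcc⟩ := isConj_iff.1 (hone ⟨g * j * g⁻¹, hmem⟩ (by
      rw [← orderOf_coe]; exact (Cfsg.Lib.Invol.orderOf_conj_eq g j).trans hj))
    replace hcc : (c : X) * j * (c : X)⁻¹ = g * j * g⁻¹ := congrArg Subtype.val hcc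
    have hcC : (c : X)⁻¹ * g ∈ C := by
      rw [mem_centralizer_singleton_iff]
      calc (c : X)⁻¹ * g * j = (c : X)⁻¹ * (g * j * g⁻¹) * g := by group
        _ = (c : X)⁻¹ * ((c : X) * j * (c : X)⁻¹) * g := by rw [hcc]
        _ = j * ((c : X)⁻¹ * g) := by group
    have := mul_mem (mem_sup_right c.2 : (c : X) ∈ C ⊔ E) (mem_sup_left hcC)
    rwa [mul_inv_cancel_left] at this
  set d := Nat.card (centralizer ({j'} : Set E)) with hd
  have hdC : Nat.card ((E ⊓ C : Subgroup X)) = d := Nat.card_congr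
    { toFun := fun y => ⟨⟨y, y.2.1⟩, mem_centralizer_singleton_iff.2
        (Subtype.ext (mem_centralizer_singleton_iff.1 y.2.2))⟩
      invFun := fun y => ⟨(y : E), (y : E).2,
        mem_centralizer_singleton_iff.2 (congrArg Subtype.val (mem_centralizer_singleton_iff.1 y.2))⟩
      left_inv := fun _ => rfl
      right_inv := fun _ => rfl }
  have hX : Nat.card X * d = Nat.card E * Nat.card C := by
    have h1 : E.relIndex C = E.index := by rw [← relIndex_sup_right, hsup, relIndex_top_right]
    have h2 := Cfsg.Lib.Core.card_mul_relIndex (inf_le_right : E ⊓ C ≤ C)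
    rw [inf_relIndex_right, h1, hdC] at h2
    rw [← h2, ← E.card_mul_index]
    ring
  -- the orbit of `t`
  have hAC : A ≤ C := centralizer_le (by simp)
  set r := A.relIndex C with hr
  have hr1 : Nat.card A * r = Nat.card C := Cfsg.Lib.Core.card_mul_relIndex hAC
  have hE : 4 * Nat.card E = 3 * (r * r * d) := by
    refine Nat.eq_of_mul_eq_mul_right (show 0 < Nat.card A ^ 2 * Nat.card C from
      Nat.mul_pos (pow_pos Nat.card_pos 2) Nat.card_pos) ?_
    calc 4 * Nat.card E * (Nat.card A ^ 2 * Nat.card C)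
        = 4 * (Nat.card E * Nat.card C) * Nat.card A ^ 2 := by ring
      _ = (4 * Nat.card X * Nat.card A ^ 2) * d := by rw [← hX]; ring
      _ = 3 * Nat.card C ^ 3 * d := by rw [heq]
      _ = 3 * (r * r * d) * (Nat.card A ^ 2 * Nat.card C) := by rw [← hr1]; ring
  have hrk : r ≤ Nat.card {y : E // Commute y j' ∧ y * y = 1 ∧ y ≠ 1 ∧ y ≠ j'} := by
    have hmem : ∀ c : C, (⟨(c : X) * t * (c : X)⁻¹, ‹E.Normal›.conj_mem _ htE c⟩ : E) ∈
        {y : E | Commute y j' ∧ y * y = 1 ∧ y ≠ 1 ∧ y ≠ j'} := by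
      intro c
      have hcj : Commute (c : X) j := mem_centralizer_singleton_iff.1 c.2
      refine ⟨Subtype.ext ((hcj.mul_left hc).mul_left hcj.inv_left).eq, Subtype.ext ?_, fun h => ?_, fun h => ?_⟩
      · show (c : X) * t * (c : X)⁻¹ * ((c : X) * t * (c : X)⁻¹) = 1
        rw [show (c : X) * t * (c : X)⁻¹ * ((c : X) * t * (c : X)⁻¹) = (c : X) * (t * t) * (c : X)⁻¹ by
          group, Cfsg.Lib.Invol.inv_mul_self ht, mul_one, mul_inv_cancel]
      · exact Cfsg.Lib.Invol.ne_one ht (conj_eq_one_iff.1 (congrArg Subtype.val h))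
      · refine hne ?_
        have h' : (c : X) * t * (c : X)⁻¹ = j := congrArg Subtype.val h
        calc t = (c : X)⁻¹ * ((c : X) * t * (c : X)⁻¹) * c := by group
          _ = (c : X)⁻¹ * (c * j) := by rw [h', hcj.eq, mul_assoc]
          _ = j := inv_mul_cancel_left _ _
    rw [hr, relIndex, index_eq_card]
    let f : C ⧸ A.subgroupOf C → {y : E // Commute y j' ∧ y * y = 1 ∧ y ≠ 1 ∧ y ≠ j'} :=
      fun q => ⟨_, hmem q.out⟩
    refine Nat.card_le_card_of_injective f fun q q' h => ?_
    rw [← q.out_eq', ← q'.out_eq', QuotientGroup.eq, mem_subgroupOf]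
    have he : (q.out : X) * t * (q.out : X)⁻¹ = (q'.out : X) * t * (q'.out : X)⁻¹ :=
      congrArg Subtype.val (congrArg Subtype.val h)
    set a := (q.out : X)
    set b := (q'.out : X)
    show a⁻¹ * b ∈ A
    refine mem_centralizer_iff.2 ?_
    rintro y (rfl | rfl)
    · exact (((show Commute a y from mem_centralizer_singleton_iff.1 q.out.2).inv_left).mul_left
        (mem_centralizer_singleton_iff.1 q'.out.2)).eq.symm
    · calc y * (a⁻¹ * b) = a⁻¹ * (a * y * a⁻¹) * b := by group
        _ = a⁻¹ * (b * y * b⁻¹) * b := by rw [he]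
        _ = _ := by group
  rcases hgw with ⟨F, i, i', hodd, h3, ⟨e⟩⟩ | ⟨⟨e⟩⟩
  · obtain ⟨k, hk1, hk2, hk3⟩ := psl_centralizer_bound (F := F) (Nat.odd_iff.1 hodd)
      (x := e j') (t := e t') (by rw [MulEquiv.orderOf_eq, hjo]) (by rw [MulEquiv.orderOf_eq, hto])
      (fun h => hne' (e.injective h)) (hc'.map e.toMonoidHom)
    have hdk : d = 2 * k := by
      rw [hd, ← hk1]
      refine Nat.card_congr (e.toEquiv.subtypeEquiv fun y => ?_)
      simp only [mem_centralizer_singleton_iff, MulEquiv.toEquiv_eq_coe, EquivLike.coe_coe, ← map_mul,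
        e.injective.eq_iff]
    have hr2 : r ≤ k := hrk.trans ((Nat.card_congr (e.toEquiv.subtypeEquiv fun y => by
      simp only [Commute, SemiconjBy, MulEquiv.toEquiv_eq_coe, EquivLike.coe_coe, ← map_mul, ne_eq,
        MulEquiv.map_eq_one_iff, e.injective.eq_iff])).le.trans hk3)
    rw [Nat.card_congr e.toEquiv, hdk] at hE
    have hcard := DGroup.card_psl_two (F := F) hodd
    obtain ⟨m, hm⟩ := hodd
    have hq5 : 5 ≤ Fintype.card F := by omega
    have h8 : 8 * (Fintype.card F ^ 3 - Fintype.card F) ≤ 3 * (2 * k) ^ 3 := by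
      have := Nat.mul_le_mul_right (2 * k) (Nat.mul_le_mul hr2 hr2)
      have e1 : 3 * (2 * k) ^ 3 = 4 * (3 * (k * k * (2 * k))) := by ring
      rw [e1]
      omega
    have h9 := h8.trans (Nat.mul_le_mul_left 3 (Nat.pow_le_pow_left hk2 3))
    generalize Fintype.card F = q at *
    have hq3 : q ≤ q ^ 3 := Nat.le_self_pow (by norm_num) q
    zify [hq3] at h9 hq5
    nlinarith
  · have h2520 : Nat.card E = 2520 := by
      rw [Nat.card_congr e.toEquiv, Nat.card_eq_fintype_card]
      have h := two_mul_card_alternatingGroup (α := Fin 7)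
      rw [Fintype.card_perm, Fintype.card_fin] at h
      have h7 : Nat.factorial 7 = 5040 := rfl
      omega
    have hd7 : ¬ 7 ∣ d := by
      rw [hd, Nat.card_congr (e.toEquiv.subtypeEquiv (q := fun y => y ∈ centralizer ({e j'} : Set _))
        fun y => by simp only [mem_centralizer_singleton_iff, MulEquiv.toEquiv_eq_coe, EquivLike.coe_coe,
          ← map_mul, e.injective.eq_iff])]
      exact alt_seven_not_dvd _ (by rw [MulEquiv.orderOf_eq, hjo])
    rw [h2520] at hE
    have h7 : Nat.Prime 7 := by norm_num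
    have hrd : 3360 = r * r * d := by omega
    have hr7 : 7 ∣ r := by
      have : 7 ∣ r * r * d := hrd ▸ (by norm_num)
      rcases h7.dvd_mul.1 this with h | h
      · exact (h7.dvd_mul.1 h).elim id id
      · exact absurd h hd7
    have h49 : 49 ∣ 3360 := hrd.symm ▸ (mul_dvd_mul hr7 hr7).mul_right d
    norm_num at h49

end Cfsg.Lib.GW.Fused
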