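import Cfsg.Agent.Lib.GW.Min
import Cfsg.Agent.Lib.GW.AlmostSimple
import Cfsg.Agent.Lib.Dickson.Involutions
import Cfsg.Agent.Lib.Core.Layer
import Cfsg.Agent.Lib.Core.Fitting
import Cfsg.Agent.S0253
import Cfsg.Agent.S0255
import Cfsg.Prelude.Def_Local

/-!
# Consumers of the theorem of Gorenstein and Walter: constrained overgroups of an involution centralizer
-/

set_option autoImplicit false
set_option linter.style.haveILetI false

namespace Cfsg.Lib.GW

open Subgroup

universe u

section PSL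

variable {F : Type*} [Field F] [Fintype F]

local notation "PSL2" => Matrix.ProjectiveSpecialLinearGroup (Fin 2) F

theorem card_centralizer_cases (hodd : Fintype.card F % 2 = 1) (h7 : 7 ≤ Fintype.card F) {x : PSL2}
    (hx : orderOf x = 2) :
    (Fintype.card F % 4 = 1 ∧ Nat.card (centralizer ({x} : Set PSL2)) = Fintype.card F - 1) ∨
      (Fintype.card F % 4 = 3 ∧ Nat.card (centralizer ({x} : Set PSL2)) = Fintype.card F + 1) := by
  have h := Cfsg.Lib.Dickson.card_centralizer_involution hodd h7 (x := x)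
    (orderOf_dvd_iff_pow_eq_one.1 (dvd_of_eq hx)) (Cfsg.Lib.Invol.ne_one hx)
  rcases (show Fintype.card F % 4 = 1 ∨ Fintype.card F % 4 = 3 by omega) with h4 | h4
  · exact Or.inl ⟨h4, h.1 h4⟩
  · exact Or.inr ⟨h4, h.2 h4⟩

/-- A four group normalizes no nontrivial abelian subgroup of elements of the characteristic order. -/
theorem false_of_klein_normalizes (p : ℕ) [hp : Fact p.Prime] [CharP F p]
    (hodd : Fintype.card F % 2 = 1) (h7 : 7 ≤ Fintype.card F) (V : Subgroup PSL2) (hV : IsKleinFour V)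
    (A : Subgroup PSL2) (hA : IsPGroup p A) (hab : ∀ a ∈ A, ∀ b ∈ A, a * b = b * a) (hne : A ≠ ⊥)
    (hVA : V ≤ normalizer (A : Set PSL2)) : False := by
  haveI : Finite PSL2 := inferInstance
  haveI := hV
  obtain ⟨n, hpp, hn⟩ := FiniteField.card F p
  have hp2 : p ≠ 2 := by
    rintro rfl
    rw [hn, Nat.pow_mod, Nat.mod_self, Nat.zero_pow n.pos] at hodd
    simp at hodd
  -- an element of `A` fixed by an involution is trivial
  have hfix : ∀ v : PSL2, orderOf v = 2 → ∀ w ∈ A, Commute v w → w = 1 := by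
    intro v hv w hw hc
    obtain ⟨k, hk⟩ := IsPGroup.iff_orderOf.1 hA ⟨w, hw⟩
    rw [Subgroup.orderOf_mk] at hk
    have h1 : orderOf w ∣ Nat.card (centralizer ({v} : Set PSL2)) :=
      Subgroup.orderOf_dvd_natCard _ (mem_centralizer_singleton_iff.2 hc.eq.symm)
    rcases Nat.eq_zero_or_pos k with rfl | hk0
    · exact orderOf_eq_one_iff.1 (by simpa using hk)
    exfalso
    have h2 : p ∣ Nat.card (centralizer ({v} : Set PSL2)) := (dvd_pow_self p hk0.ne').trans (hk ▸ h1)
    have h3 : p ∣ Fintype.card F := hn ▸ dvd_pow_self p n.pos.ne'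
    have h4 := hp.out.two_le
    rcases card_centralizer_cases hodd h7 hv with ⟨-, hc4⟩ | ⟨-, hc4⟩ <;> rw [hc4] at h2
    · have h5 := Nat.dvd_sub h3 h2
      rw [Nat.sub_sub_self (by omega), Nat.dvd_one] at h5
      omega
    · have h5 := Nat.dvd_sub h2 h3
      rw [Nat.add_sub_cancel_left, Nat.dvd_one] at h5
      omega
  obtain ⟨x, hx, hx1⟩ := (bot_or_exists_ne_one A).resolve_left hne
  have hinv : ∀ v ∈ V, v ≠ 1 → v * x * v⁻¹ = x⁻¹ := by
    intro v hv hv1
    have hv2 : v * v = 1 := Cfsg.Lib.Invol.klein_mul_self hv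
    have hvo : orderOf v = 2 := orderOf_eq_prime (by rw [pow_two, hv2]) hv1
    have hy : v * x * v⁻¹ ∈ A := (mem_normalizer_iff.1 (hVA hv) x).1 hx
    have hvv : v⁻¹ = v := inv_eq_of_mul_eq_one_right hv2
    have hw : v * x * v⁻¹ * x = 1 := by
      refine hfix v hvo _ (mul_mem hy hx) ?_
      show v * (v * x * v⁻¹ * x) = v * x * v⁻¹ * x * v
      rw [hvv] at hy ⊢
      calc v * (v * x * v * x) = (v * v) * (x * v * x) := by group
        _ = x * v * x * (v * v) := by rw [hv2, one_mul, mul_one]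
        _ = (x * (v * x * v)) * v := by group
        _ = ((v * x * v) * x) * v := by rw [hab x hx (v * x * v) hy]
    exact eq_inv_of_mul_eq_one_left hw
  haveI : Finite V := IsKleinFour.instFinite
  obtain ⟨u, v, hu, hv, hu1, hv1, huv⟩ : ∃ u v : PSL2, u ∈ V ∧ v ∈ V ∧ u ≠ 1 ∧ v ≠ 1 ∧ u * v ≠ 1 := by
    classical
    haveI := Fintype.ofFinite V
    obtain ⟨a, b, c, hab', hac, hbc⟩ := Fintype.two_lt_card_iff.1
      (show 2 < Fintype.card V by rw [IsKleinFour.card_four']; norm_num)
    have hne2 : ∀ s r : V, s ≠ r → (s : PSL2) * r ≠ 1 := fun s r hsr h => hsr (by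
      refine Subtype.ext ?_
      rw [eq_inv_of_mul_eq_one_left h, inv_eq_of_mul_eq_one_right (Cfsg.Lib.Invol.klein_mul_self r.2)])
    by_cases ha : a = 1
    · exact ⟨b, c, b.2, c.2, fun h => hab' (ha.trans (Subtype.ext h.symm)),
        fun h => hac (ha.trans (Subtype.ext h.symm)), hne2 b c hbc⟩
    by_cases hb : b = 1
    · exact ⟨a, c, a.2, c.2, fun h => ha (Subtype.ext h),
        fun h => hbc (hb.trans (Subtype.ext h.symm)), hne2 a c hac⟩
    · exact ⟨a, b, a.2, b.2, fun h => ha (Subtype.ext h), fun h => hb (Subtype.ext h), hne2 a b hab'⟩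
  have h1 : (u * v) * x * (u * v)⁻¹ = x := by
    rw [show (u * v) * x * (u * v)⁻¹ = u * (v * x * v⁻¹) * u⁻¹ by group, hinv v hv hv1,
      show u * x⁻¹ * u⁻¹ = (u * x * u⁻¹)⁻¹ by group, hinv u hu hu1, inv_inv]
  rw [hinv (u * v) (mul_mem hu hv) huv] at h1
  have h2 : x ^ 2 = 1 := by rw [pow_two]; exact mul_eq_one_iff_eq_inv.2 h1.symm
  have h3 : orderOf x = 2 := orderOf_eq_prime h2 hx1
  obtain ⟨k, hk⟩ := IsPGroup.iff_orderOf.1 hA ⟨x, hx⟩
  rw [Subgroup.orderOf_mk, h3] at hk
  rcases k with _ | k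
  · simp at hk
  · exact hp2 ((Nat.prime_dvd_prime_iff_eq hp.out Nat.prime_two).1 (hk ▸ dvd_pow_self p k.succ_ne_zero))

/-- For `q ≥ 11` the centralizer of an involution has no constrained proper overgroup. -/
theorem psl_no_constrained_overgroup (hodd : Fintype.card F % 2 = 1) (h11 : 11 ≤ Fintype.card F) {t : PSL2}
    (ht : orderOf t = 2) (K : Subgroup PSL2) (hlt : centralizer ({t} : Set PSL2) < K)
    (hK : Cfsg.generalizedFittingSubgroup ↥K = Cfsg.fittingSubgroup ↥K) : False := by
  obtain ⟨p, hp⟩ := CharP.exists F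
  haveI : Fact p.Prime := ⟨CharP.char_is_prime F p⟩
  haveI : Finite PSL2 := inferInstance
  set c := Nat.card (centralizer ({t} : Set PSL2)) with hc
  have hc' := card_centralizer_cases hodd (by omega) ht
  rw [← hc] at hc'
  have hdvd : c ∣ Nat.card K := card_dvd_of_le hlt.le
  have hlt' : c < Nat.card K := by
    refine lt_of_le_of_ne (Nat.le_of_dvd Nat.card_pos hdvd) fun h => hlt.ne ?_
    exact eq_of_le_of_card_ge hlt.le (le_of_eq h.symm)
  have hd : Nat.gcd 2 (Fintype.card F - 1) = 2 := Nat.gcd_eq_left (by omega)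
  -- a four group in the centralizer
  obtain ⟨V, hVK, hV⟩ : ∃ V : Subgroup PSL2, V ≤ K ∧ IsKleinFour V := by
    obtain ⟨W, -, hW⟩ := exists_klein hodd (⊤ : Subgroup PSL2) topEquiv
    haveI := hW
    haveI : Finite W := IsKleinFour.instFinite
    obtain ⟨w, hw, hw1⟩ : ∃ w ∈ W, w ≠ 1 := (bot_or_exists_ne_one W).resolve_left fun h => by
      have := hW.card_four
      rw [h, card_bot] at this
      omega
    obtain ⟨g, hg⟩ := Cfsg.Lib.Dickson.exists_conj_involution hodd (x := w) (y := t)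
      (by rw [pow_two]; exact Cfsg.Lib.Invol.klein_mul_self hw) hw1
      (orderOf_dvd_iff_pow_eq_one.1 (dvd_of_eq ht)) (Cfsg.Lib.Invol.ne_one ht)
    refine ⟨W.map (MulAut.conj g⁻¹).toMonoidHom, ?_, isKleinFour_conj hW g⁻¹⟩
    refine le_trans ?_ hlt.le
    rintro _ ⟨a, ha, rfl⟩
    refine mem_centralizer_singleton_iff.2 ?_
    show g⁻¹ * a * g⁻¹⁻¹ * t = t * (g⁻¹ * a * g⁻¹⁻¹)
    rw [← hg, inv_inv]
    calc g⁻¹ * a * g * (g⁻¹ * w * g) = g⁻¹ * (a * w) * g := by group
      _ = g⁻¹ * (w * a) * g := by rw [Cfsg.Lib.Invol.klein_comm ha hw]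
      _ = g⁻¹ * w * g * (g⁻¹ * a * g) := by group
  rcases Cfsg.Lib.Dickson.psl_subgroup_cases p K with ⟨k, hk, hkK⟩ | ⟨hpK, P, hP⟩ | ⟨hnn, -⟩
  · rw [hd] at hk
    have hk0 : k ≠ 0 := by
      rintro rfl
      rcases hkK with ⟨-, h⟩ | ⟨⟨e⟩⟩
      · exact Nat.card_pos.ne' h
      · exact Nat.card_pos.ne' ((Nat.card_congr e.toEquiv).trans DihedralGroup.nat_card)
    have hcard : Nat.card K ≤ 2 * k := by
      rcases hkK with ⟨-, h⟩ | ⟨⟨e⟩⟩
      · omega
      · exact le_of_eq ((Nat.card_congr e.toEquiv).trans DihedralGroup.nat_card)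
    obtain ⟨m, hm⟩ := hdvd
    have hm2 : 2 ≤ m := by
      rcases m with _ | _ | m
      · omega
      · omega
      · omega
    have h2c : 2 * c ≤ Nat.card K := by rw [hm, mul_comm 2]; exact Nat.mul_le_mul_left c hm2
    rcases hk with hk | hk <;> have := Nat.le_of_dvd (by omega) hk <;>
      rcases hc' with ⟨h4, hcc⟩ | ⟨h4, hcc⟩ <;> omega
  · -- the Borel subgroup
    have hab : ∀ a ∈ (P : Subgroup PSL2), ∀ b ∈ (P : Subgroup PSL2), a * b = b * a := by
      intro a ha b hb
      by_cases ha1 : a = 1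
      · simp [ha1]
      exact (mem_centralizer_singleton_iff.1
        ((Cfsg.Lib.Dickson.centralizer_eq_sylow p P ha ha1).ge hb)).symm
    refine false_of_klein_normalizes p hodd (by omega) V hV P P.isPGroup' hab ?_ (hVK.trans hP)
    intro h
    have := Cfsg.Lib.Dickson.card_sylow_psl p P
    rw [h, card_bot] at this
    omega
  · -- no cyclic normal subgroup
    have hF : Cfsg.fittingSubgroup ↥K ≠ ⊥ := by
      intro h
      have h1 := Cfsg.Lib.Core.centralizer_generalizedFitting_le (G := ↥K)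
      rw [hK, h] at h1
      have h2 : (1 : K) = ⟨t, hlt.le (mem_centralizer_singleton_iff.2 rfl)⟩ := by
        refine (mem_bot.1 (h1 ?_)).symm
        exact mem_centralizer_iff.2 fun y hy => by rw [mem_bot.1 hy]; simp
      exact Cfsg.Lib.Invol.ne_one ht (congrArg Subtype.val h2).symm
    set Fi := Cfsg.fittingSubgroup ↥K with hFi
    haveI : Nontrivial Fi := (Subgroup.nontrivial_iff_ne_bot Fi).2 hF
    haveI : Group.IsNilpotent Fi := Cfsg.Lib.Core.fittingSubgroup_isNilpotent ↥K
    haveI : Nontrivial (center Fi) := by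
      rw [Subgroup.nontrivial_iff_ne_bot]
      intro h
      have h1 := Subgroup.upperCentralSeries.eq_top (G := Fi) (a := 1) (b := 0) one_ne_zero
        (by rw [Subgroup.upperCentralSeries_one, Subgroup.upperCentralSeries_zero, h])
      rw [Subgroup.upperCentralSeries_one, h] at h1
      exact bot_ne_top h1
    haveI hFn : Fi.Normal := inferInstance
    set Z := (center Fi).map Fi.subtype with hZ
    haveI hZn : Z.Normal := ConjAct.normal_of_characteristic_of_normal
    obtain ⟨r, hr, hrZ⟩ := Nat.exists_prime_and_dvd (show Nat.card (center Fi) ≠ 1 from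
      (Finite.one_lt_card).ne')
    haveI := Fact.mk hr
    obtain ⟨z, hz⟩ := exists_prime_orderOf_dvd_card' r hrZ
    have hZab : ∀ a ∈ Z, ∀ b ∈ Z, a * b = b * a := by
      rintro _ ⟨a, ha, rfl⟩ _ ⟨b, -, rfl⟩
      exact congrArg Subtype.val (mem_center_iff.1 ha b).symm
    let A : Subgroup PSL2 :=
      { carrier := {x | (∃ h : x ∈ K, (⟨x, h⟩ : K) ∈ Z) ∧ x ^ r = 1}
        one_mem' := ⟨⟨one_mem K, one_mem Z⟩, one_pow r⟩
        mul_mem' := by
          rintro a b ⟨⟨ha, haZ⟩, ha'⟩ ⟨⟨hb, hbZ⟩, hb'⟩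
          refine ⟨⟨mul_mem ha hb, mul_mem haZ hbZ⟩, ?_⟩
          have hc : Commute a b := congrArg Subtype.val (hZab _ haZ _ hbZ)
          rw [hc.mul_pow, ha', hb', one_mul]
        inv_mem' := by
          rintro a ⟨⟨ha, haZ⟩, ha'⟩
          exact ⟨⟨inv_mem ha, inv_mem haZ⟩, by rw [inv_pow, ha', inv_one]⟩ }
    have hAK : A ≤ K := fun x hx => hx.1.1
    have hAab : ∀ a ∈ A, ∀ b ∈ A, a * b = b * a := by
      rintro a ⟨⟨ha, haZ⟩, -⟩ b ⟨⟨hb, hbZ⟩, -⟩
      exact congrArg Subtype.val (hZab _ haZ _ hbZ)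
    have hAn : K ≤ normalizer (A : Set PSL2) := by
      intro g hg
      have key : ∀ g ∈ K, ∀ x ∈ A, g * x * g⁻¹ ∈ A := by
        rintro g hg x ⟨⟨hx, hxZ⟩, hx'⟩
        exact ⟨⟨mul_mem (mul_mem hg hx) (inv_mem hg), hZn.conj_mem _ hxZ ⟨g, hg⟩⟩,
          by rw [conj_pow, hx', mul_one, mul_inv_cancel]⟩
      refine mem_normalizer_iff.2 fun x => ⟨key g hg x, fun hx => ?_⟩
      have := key g⁻¹ (inv_mem hg) _ hx
      rwa [inv_inv, show g⁻¹ * (g * x * g⁻¹) * g = x by group] at this
    have hAne : A ≠ ⊥ := by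
      intro h
      have hzK : ((z : Fi) : K) ∈ Z := mem_map_of_mem _ z.2
      have hzA : (((z : Fi) : K) : PSL2) ∈ A := by
        refine ⟨⟨((z : Fi) : K).2, hzK⟩, ?_⟩
        rw [← hz, ← orderOf_coe z, ← orderOf_coe (z : Fi), ← orderOf_coe ((z : Fi) : K)]
        exact pow_orderOf_eq_one _
      rw [h, mem_bot] at hzA
      have h0 := congrArg orderOf hzA
      rw [orderOf_one, orderOf_coe, orderOf_coe, orderOf_coe, hz] at h0
      exact hr.one_lt.ne' h0
    have hAp : IsPGroup r A := fun a => ⟨1, Subtype.ext (by rw [pow_one]; exact a.2.2)⟩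
    by_cases hrp : r = p
    · subst hrp
      exact false_of_klein_normalizes r hodd (by omega) V hV A hAp hAab hAne (hVK.trans hAn)
    have hAcyc : ¬ IsCyclic A := by
      intro hcy
      haveI : (A.subgroupOf K).Normal := by
        refine ⟨fun x hx g => ?_⟩
        rw [mem_subgroupOf] at hx ⊢
        exact (mem_normalizer_iff.1 (hAn g.2) _).1 hx
      haveI : IsCyclic (A.subgroupOf K) :=
        isCyclic_of_injective (subgroupOfEquivOfLe hAK).toMonoidHom (subgroupOfEquivOfLe hAK).injective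
      have h := hnn (A.subgroupOf K) inferInstance inferInstance
      exact hAne ((subgroupOf_eq_bot.1 h).eq_bot_of_le hAK)
    rcases Cfsg.Lib.Dickson.psl_subgroup_cases p A with ⟨k, -, ⟨hcy, -⟩ | ⟨⟨e⟩⟩⟩ | ⟨hpA, -⟩ | ⟨hnA, -⟩
    · exact hAcyc hcy
    · have hk2 : k ∣ 2 := by
        obtain ⟨a, ha⟩ := e.surjective (DihedralGroup.sr 0)
        obtain ⟨b, hb⟩ := e.surjective (DihedralGroup.r 1)
        have hc2 : e a * e b = e b * e a := by
          rw [← map_mul, ← map_mul]
          exact congrArg e (Subtype.ext (hAab _ a.2 _ b.2))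
        rw [ha, hb, DihedralGroup.sr_mul_r, DihedralGroup.r_mul_sr, DihedralGroup.sr.injEq] at hc2
        rw [← ZMod.natCast_eq_zero_iff]
        push_cast
        linear_combination hc2
      rcases (Nat.dvd_prime Nat.prime_two).1 hk2 with rfl | rfl
      · exact hAcyc (isCyclic_of_prime_card (p := 2) ((Nat.card_congr e.toEquiv).trans DihedralGroup.nat_card))
      have hA4 : IsKleinFour A :=
        ⟨(Nat.card_congr e.toEquiv).trans IsKleinFour.card_four,
          (Monoid.exponent_eq_of_mulEquiv e).trans IsKleinFour.exponent_two⟩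
      haveI := hA4
      have h24 : Nat.card K ∣ 24 := (card_dvd_of_le hAn).trans
        (Cfsg.Lib.Dickson.KleinClasses.card_normalizer_klein hodd A).1
      have hK24 := Nat.le_of_dvd (by norm_num) h24
      obtain ⟨m, hm⟩ := hdvd
      have hc12 : c = 12 ∧ Nat.card K = 24 := by
        have h10 : 10 ≤ c := by omega
        rw [hm] at hlt' hK24 h24
        have hm2 : m = 2 := by
          rcases m with _ | _ | _ | m
          · omega
          · omega
          · rfl
          · nlinarith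
        subst hm2
        have h3 : c ∣ 12 := by
          rw [mul_comm] at h24
          exact Nat.dvd_of_mul_dvd_mul_left two_pos h24
        have := Nat.le_of_dvd (by norm_num) h3
        rcases (show c = 10 ∨ c = 11 ∨ c = 12 by omega) with h | h | h
        · rw [h] at h3; norm_num at h3
        · rw [h] at h3; norm_num at h3
        · exact ⟨h, by rw [hm, h]⟩
      -- `C(t)` is normal in `K`
      haveI := Fact.mk Nat.prime_three
      obtain ⟨y, hy⟩ := exists_prime_orderOf_dvd_card' 3 (G := centralizer ({t} : Set PSL2))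
        (by rw [← hc, hc12.1]; norm_num)
      set C := (centralizer ({t} : Set PSL2)).subgroupOf K with hC
      have hCi : C.index = 2 := by
        have h1 := C.card_mul_index
        rw [hC] at h1 ⊢
        rw [Nat.card_congr (subgroupOfEquivOfLe hlt.le).toEquiv, ← hc, hc12.1, hc12.2] at h1
        omega
      haveI := normal_of_index_eq_two hCi
      have hyK : (y : PSL2) ∈ K := hlt.le y.2
      have hty : Commute t y := (mem_centralizer_singleton_iff.1 y.2).symm
      refine hlt.2 fun g hg => ?_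
      have hconj : Commute (g * t * g⁻¹) y := by
        have h1 : (⟨g, hg⟩ : K)⁻¹ * ⟨y, hyK⟩ * ⟨g, hg⟩ ∈ C := by
          have := (inferInstance : C.Normal).conj_mem ⟨y, hyK⟩ y.2 (⟨g, hg⟩ : K)⁻¹
          rwa [inv_inv] at this
        have h2 : g⁻¹ * y * g * t = t * (g⁻¹ * y * g) := mem_centralizer_singleton_iff.1 h1
        show g * t * g⁻¹ * y = y * (g * t * g⁻¹)
        calc g * t * g⁻¹ * y = g * (t * (g⁻¹ * y * g)) * g⁻¹ := by group
          _ = g * ((g⁻¹ * y * g) * t) * g⁻¹ := by rw [h2]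
          _ = y * (g * t * g⁻¹) := by group
      have hyy : (y : PSL2) * y ≠ 1 := fun h => by
        have h1 : orderOf (y : PSL2) ∣ 2 := orderOf_dvd_of_pow_eq_one (by rw [pow_two, h])
        rw [orderOf_coe, hy] at h1
        norm_num at h1
      have h := psl_involution_unique hodd hyy ht (((MulAut.conj g).orderOf_eq t).trans ht) hty hconj
      refine mem_centralizer_singleton_iff.2 ?_
      calc g * t = (g * t * g⁻¹) * g := by group
        _ = t * g := congrArg (· * g) h.symm
    · obtain ⟨j, hj⟩ := hAp.exists_card_eq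
      rw [hj] at hpA
      exact hrp ((Nat.prime_dvd_prime_iff_eq (Fact.out : p.Prime) hr).1
        ((Fact.out : p.Prime).dvd_of_dvd_pow hpA)).symm
    · obtain ⟨a, ha, ha1⟩ := (bot_or_exists_ne_one A).resolve_left hAne
      haveI : (zpowers (⟨a, ha⟩ : A)).Normal := ⟨fun x hx g => by
        rw [show g * x * g⁻¹ = x from Subtype.ext (by
          show (g : PSL2) * x * (g : PSL2)⁻¹ = x
          rw [hAab _ g.2 _ x.2, mul_inv_cancel_right])]
        exact hx⟩
      have := hnA (zpowers (⟨a, ha⟩ : A)) inferInstance inferInstance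
      exact ha1 (congrArg Subtype.val (zpowers_eq_bot.1 this))

end PSL

/-- S3287 from the theorem of Gorenstein and Walter. -/
theorem constrained_overgroup (h : SimpleGW.{u}) {G : Type u} [Group G] [Finite G] [IsSimpleGroup G]
    (S : Sylow 2 G) (m : ℕ) (eS : ↥(S : Subgroup G) ≃* DihedralGroup m)
    (t : G) (ht : orderOf t = 2) (K : Subgroup G) (hlt : centralizer ({t} : Set G) < K)
    (hK : Cfsg.generalizedFittingSubgroup ↥K = Cfsg.fittingSubgroup ↥K) :
    Nonempty (G ≃* ↥(alternatingGroup (Fin 5))) ∨ Nonempty (G ≃* ↥(alternatingGroup (Fin 7))) ∨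
      (∃ (F : Type) (_ : Field F) (_ : Fintype F), Fintype.card F = 2 ∧
        Nonempty (G ≃* Matrix.ProjectiveSpecialLinearGroup (Fin 3) F)) ∨
      (∃ (F : Type) (_ : Field F) (_ : Fintype F), Fintype.card F = 9 ∧
        Nonempty (G ≃* Matrix.ProjectiveSpecialLinearGroup (Fin 2) F)) := by
  haveI : Fact (Nat.Prime 2) := ⟨Nat.prime_two⟩
  have hna : ¬ IsMulCommutative G := fun hc => not_top_lt (a := K) (lt_of_le_of_lt (fun g _ =>
    mem_centralizer_singleton_iff.2 (hc.is_comm.comm g t)) hlt)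
  have hm : 2 ≤ m := by
    by_contra hlt'
    refine not_isCyclic_sylow (not_isSolvable_of_simple hna) S ?_
    rcases m with _ | _ | m
    · exfalso
      exact Nat.card_pos.ne' ((Nat.card_congr eS.toEquiv).trans DihedralGroup.nat_card)
    · exact isCyclic_of_prime_card (p := 2) ((Nat.card_congr eS.toEquiv).trans DihedralGroup.nat_card)
    · omega
  rcases h G hna (sylowDihedral_of_equiv S hm ⟨eS⟩) with ⟨F, i, j, hodd, h3, ⟨e⟩⟩ | hA
  swap
  · exact Or.inr (Or.inl hA)
  have hodd' : Fintype.card F % 2 = 1 := Nat.odd_iff.1 hodd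
  by_cases h5 : Fintype.card F = 5
  · exact Or.inl ⟨e.trans (Cfsg.Agent.S0253.result h5).some⟩
  by_cases h7 : Fintype.card F = 7
  · exact Or.inr (Or.inr (Or.inl ⟨ZMod 2, inferInstance, inferInstance, by rw [ZMod.card],
      ⟨e.trans (Cfsg.Agent.S0255.result h7 (K := ZMod 2) (by rw [ZMod.card])).some⟩⟩))
  by_cases h9 : Fintype.card F = 9
  · exact Or.inr (Or.inr (Or.inr ⟨F, i, j, h9, ⟨e⟩⟩))
  exfalso
  have hCmap : (centralizer ({t} : Set G)).map e.toMonoidHom =
      centralizer ({e t} : Set (Matrix.ProjectiveSpecialLinearGroup (Fin 2) F)) := by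
    refine le_antisymm ?_ fun x hx => ?_
    · rintro _ ⟨g, hg, rfl⟩
      refine mem_centralizer_singleton_iff.2 ?_
      show e g * e t = e t * e g
      rw [← map_mul, ← map_mul, mem_centralizer_singleton_iff.1 hg]
    · refine ⟨e.symm x, mem_centralizer_singleton_iff.2 (e.injective ?_), e.apply_symm_apply x⟩
      rw [map_mul, map_mul, e.apply_symm_apply]
      exact mem_centralizer_singleton_iff.1 hx
  let eK : K ≃* K.map e.toMonoidHom := K.equivMapOfInjective e.toMonoidHom e.injective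
  have hne : ∀ q : ℕ, Odd q → 3 < q → q ≠ 5 → q ≠ 7 → q ≠ 9 → 11 ≤ q := fun q hq _ _ _ _ => by
    rcases hq with ⟨k, rfl⟩
    omega
  refine psl_no_constrained_overgroup hodd' (hne _ hodd h3 h5 h7 h9) (t := e t)
    (by rw [MulEquiv.orderOf_eq, ht]) (K.map e.toMonoidHom) ?_ ?_
  · rw [← hCmap]
    exact map_lt_map_iff_of_injective e.injective |>.2 hlt
  · have h1 := congrArg (Subgroup.map eK.toMonoidHom) hK
    rw [Cfsg.generalizedFittingSubgroup, Subgroup.map_sup, Cfsg.Lib.Core.map_layer_equiv eK,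
      Cfsg.Lib.Core.map_fittingSubgroup_equiv eK] at h1
    exact h1

end Cfsg.Lib.GW
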