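import Cfsg.Agent.Lib.GW.LinearQuotient
import Cfsg.Agent.S0205

/-!
# The fusion of the sections and the case of an inverted normal subgroup

`D : DihSylow P σ τ h`, `J = σ ^ h`, `C = C(J)`, `U` the odd part of `C`, one class of involutions.
If every member of `U` commuting with a reflection of `P` commutes with all of `P`, then every linear
character of `C` trivial on `P` respects the fusion of the sections `J y`, so Theorem T makes it
trivial: `commutator C ⊔ P = C`. In particular `U` has no normal subgroup `X ≠ U` of `C` inverted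
by `τ` and `σ τ` and containing its centralizer in `U`.
-/

set_option autoImplicit false
set_option linter.unusedSectionVars false
set_option maxHeartbeats 800000
set_option linter.style.haveILetI false

namespace Cfsg.Lib.GW

open Cfsg Cfsg.Lib.Block
open Cfsg.Lib.Block.DihSylow (oddPart mem_oddPart)
open scoped commutatorElement

universe u

variable {G : Type u} [Group G] [Fintype G] [Fact (Nat.Prime 2)] {P : Sylow 2 G} {σ τ : G} {h : ℕ}

/-- Every member of the odd part commuting with a reflection commutes with the Sylow subgroup. -/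
def FixCentral (P : Sylow 2 G) (σ τ : G) (h : ℕ) : Prop :=
  ∀ y ∈ oddPart σ h, ∀ i : ℕ, Commute y (σ ^ i * τ) → ∀ p ∈ (P : Subgroup G), Commute y p

variable (D : DihSylow P σ τ h)

include D

/-- An involution commuting with the central one is conjugate into the Sylow subgroup by an
element of its centralizer. -/
theorem exists_conj_mem {a : G} (ha : a * a = 1) (hc : Commute a (σ ^ h)) :
    ∃ c, Commute c (σ ^ h) ∧ c * a * c⁻¹ ∈ (P : Subgroup G) := by
  set C := Subgroup.centralizer ({σ ^ h} : Set G) with hC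
  let aC : C := ⟨a, Subgroup.mem_centralizer_singleton_iff.2 hc.eq⟩
  have hp : IsPGroup 2 (Subgroup.zpowers aC) := by
    rintro ⟨x, j, rfl⟩
    refine ⟨1, Subtype.ext (Subtype.ext ?_)⟩
    simp only [SubmonoidClass.coe_pow, SubgroupClass.coe_zpow, OneMemClass.coe_one]
    show (a ^ j) ^ (2 ^ 1) = 1
    rw [← zpow_natCast, zpow_comm, zpow_natCast, pow_one, pow_two, ha, one_zpow]
  obtain ⟨T, hT⟩ := hp.exists_le_sylow
  obtain ⟨c, hc'⟩ := MulAction.exists_smul_eq C T (P.subtype D.le_centralizer_central)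
  refine ⟨(c : G), Subgroup.mem_centralizer_singleton_iff.1 c.2, ?_⟩
  have hm : c * aC * c⁻¹ ∈ (P.subtype D.le_centralizer_central : Subgroup C) := by
    rw [← hc', Sylow.coe_subgroup_smul, Subgroup.mem_smul_pointwise_iff_exists]
    exact ⟨aC, hT (Subgroup.mem_zpowers aC), rfl⟩
  exact hm

/-- The only involution of the Sylow subgroup commuting with the rotation is the central one. -/
theorem eq_central_of_commute {z : G} (hz : z ∈ (P : Subgroup G)) (h2 : z * z = 1) (h1 : z ≠ 1)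
    (hzσ : Commute z σ) : z = σ ^ h := by
  by_cases hm : z ∈ Subgroup.zpowers σ
  · exact (D.eq_central_of_sq hm h2).resolve_left h1
  · exfalso
    have e := D.conj_outside hz hm (Subgroup.mem_zpowers σ)
    rw [hzσ.eq, mul_inv_cancel_right] at e
    have h3 := Nat.le_of_dvd two_pos
      (orderOf_dvd_of_pow_eq_one (x := σ) (n := 2) (by rw [pow_two]; exact mul_eq_one_iff_eq_inv.2 e))
    have := D.orderσ
    have := D.two_le
    omega

/-- A reflection and the central involution are conjugate in the centralizer of the members of the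
odd part commuting with `P`. -/
theorem exists_conj_fixing (hconjJ : ∀ a : G, a * a = 1 → a ≠ 1 → IsConj (σ ^ h) a)
    (hW : FixCentral P σ τ h) {x : G} (hxP : x ∈ (P : Subgroup G))
    (hx : x ∉ Subgroup.zpowers σ) :
    ∃ c, c * σ ^ h * c⁻¹ = x ∧
      ∀ y ∈ oddPart σ h, (∀ p ∈ (P : Subgroup G), Commute y p) → Commute c y := by
  classical
  obtain ⟨hJ2, hJ1, hJc⟩ := D.central_involution
  obtain ⟨h1, hmul, hinv, -, -, -, -⟩ := D.oddPart_spec
  have hx1 : x ≠ 1 := fun e => hx (e ▸ one_mem _)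
  have hx2 : x * x = 1 := D.sq_outside hxP hx
  have hxJ : x ≠ σ ^ h := fun e => hx (e ▸ D.mem_pow h)
  obtain ⟨i, -, hi⟩ := D.reflection_iff.1 ⟨hxP, hx⟩
  obtain ⟨z, hz⟩ := isConj_iff.1 (hconjJ x hx2 hx1)
  have hJx : Commute x (σ ^ h) := hJc x hxP
  have ha2 : z⁻¹ * σ ^ h * z * (z⁻¹ * σ ^ h * z) = 1 := by
    rw [show z⁻¹ * σ ^ h * z * (z⁻¹ * σ ^ h * z) = z⁻¹ * (σ ^ h * σ ^ h) * z by group, hJ2]
    group
  have hac : Commute (z⁻¹ * σ ^ h * z) (σ ^ h) := by
    have e := hJx.symm.map (MulAut.conj z⁻¹).toMonoidHom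
    simp only [MulEquiv.coe_toMonoidHom, MulAut.conj_apply, inv_inv] at e
    have e' : z⁻¹ * x * z = σ ^ h := by rw [← hz]; group
    rwa [e'] at e
  obtain ⟨c₀, hc₀, hc₀P⟩ := exists_conj_mem D ha2 hac
  obtain ⟨z₁, hz₁⟩ : ∃ z₁, z₁ = z * c₀⁻¹ := ⟨_, rfl⟩
  obtain ⟨x', hx'⟩ : ∃ x', x' = z₁⁻¹ * σ ^ h * z₁ := ⟨_, rfl⟩
  have hzJ : z₁ * σ ^ h * z₁⁻¹ = x := by
    rw [← hz, hz₁]
    calc z * c₀⁻¹ * σ ^ h * (z * c₀⁻¹)⁻¹ = z * c₀⁻¹ * (σ ^ h * c₀) * z⁻¹ := by group
      _ = z * σ ^ h * z⁻¹ := by rw [← hc₀.eq]; group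
  have hzx' : z₁ * x' * z₁⁻¹ = σ ^ h := by rw [hx']; group
  have hx'P : x' ∈ (P : Subgroup G) := by
    rw [hx', hz₁]
    convert hc₀P using 1
    group
  let W : Subgroup G :=
    { carrier := {y | y ∈ oddPart σ h ∧ ∀ p ∈ (P : Subgroup G), Commute y p}
      one_mem' := ⟨h1, fun p _ => Commute.one_left p⟩
      mul_mem' := fun {a b} ha hb =>
        ⟨hmul a ha.1 b hb.1, fun p hp => (ha.2 p hp).mul_left (hb.2 p hp)⟩
      inv_mem' := fun {a} ha => ⟨hinv a ha.1, fun p hp => (ha.2 p hp).inv_left⟩ }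
  have hWm : ∀ y, y ∈ W ↔ y ∈ oddPart σ h ∧ ∀ p ∈ (P : Subgroup G), Commute y p :=
    fun y => Iff.rfl
  have hzN : z₁ ∈ Subgroup.normalizer (W : Set G) := by
    refine Subgroup.mem_normalizer_fintype fun y hy => ?_
    obtain ⟨hyU, hyP⟩ := (hWm y).1 hy
    have hyJ : Commute (z₁ * y * z₁⁻¹) (σ ^ h) := by
      have e := (hyP x' hx'P).map (MulAut.conj z₁).toMonoidHom
      simp only [MulEquiv.coe_toMonoidHom, MulAut.conj_apply] at e
      rwa [hzx'] at e
    have hyx : Commute (z₁ * y * z₁⁻¹) x := by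
      have e := (mem_oddPart.1 hyU).1.map (MulAut.conj z₁).toMonoidHom
      simp only [MulEquiv.coe_toMonoidHom, MulAut.conj_apply] at e
      rwa [hzJ] at e
    have hU : z₁ * y * z₁⁻¹ ∈ oddPart σ h := by
      refine mem_oddPart.2 ⟨hyJ, ?_⟩
      rw [show z₁ * y * z₁⁻¹ = MulAut.conj z₁ y from (MulAut.conj_apply z₁ y).symm,
        MulEquiv.orderOf_eq]
      exact (mem_oddPart.1 hyU).2
    exact (hWm _).2 ⟨hU, hW _ hU i (hi ▸ hyx)⟩
  set CW := Subgroup.centralizer (W : Set G) with hCW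
  have hPle : (P : Subgroup G) ≤ CW := fun p hp =>
    Subgroup.mem_centralizer_iff.2 fun y hy => (((hWm y).1 hy).2 p hp).eq
  have hPz : (↑(z₁ • P) : Subgroup G) ≤ CW := by
    intro q hq
    rw [Sylow.coe_subgroup_smul, Subgroup.mem_smul_pointwise_iff_exists] at hq
    obtain ⟨p, hp, rfl⟩ := hq
    refine Subgroup.mem_centralizer_iff.2 fun y hy => ?_
    have hy' : z₁⁻¹ * y * z₁ ∈ W := (Subgroup.mem_normalizer_iff''.1 hzN y).1 hy
    have e := (((hWm _).1 hy').2 p hp).map (MulAut.conj z₁).toMonoidHom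
    simp only [MulEquiv.coe_toMonoidHom, MulAut.conj_apply] at e
    rw [show z₁ * (z₁⁻¹ * y * z₁) * z₁⁻¹ = y by group] at e
    simp only [MulAut.smul_def, MulAut.conj_apply]
    exact e.eq
  obtain ⟨c, hc⟩ := MulAction.exists_smul_eq CW ((z₁ • P).subtype hPz) (P.subtype hPle)
  have hnJP : (c : G) * z₁ * σ ^ h * ((c : G) * z₁)⁻¹ ∈ (P : Subgroup G) ∧
      ∀ q ∈ (P : Subgroup G), Commute ((c : G) * z₁ * σ ^ h * ((c : G) * z₁)⁻¹) q := by
    have key : ∀ q : CW, (q : G) ∈ (P : Subgroup G) ↔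
        ∃ p ∈ (P : Subgroup G), (c : G) * z₁ * p * ((c : G) * z₁)⁻¹ = q := by
      intro q
      have e : (q ∈ (P.subtype hPle : Subgroup CW)) ↔
          (q ∈ (↑(c • (z₁ • P).subtype hPz) : Subgroup CW)) := by rw [hc]
      constructor
      · intro hq
        have hq' := e.1 hq
        change q ∈ (↑(c • (z₁ • P).subtype hPz) : Subgroup CW) at hq'
        rw [Sylow.coe_subgroup_smul, Subgroup.mem_smul_pointwise_iff_exists] at hq'
        obtain ⟨r, hr, hrq⟩ := hq'
        have hr' : (r : G) ∈ (↑(z₁ • P) : Subgroup G) := hr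
        rw [Sylow.coe_subgroup_smul, Subgroup.mem_smul_pointwise_iff_exists] at hr'
        obtain ⟨p, hp, hpr⟩ := hr'
        refine ⟨p, hp, ?_⟩
        rw [← congrArg Subtype.val hrq]
        show _ = (c : G) * (r : G) * (c : G)⁻¹
        rw [← hpr]
        show _ = (c : G) * (z₁ * p * z₁⁻¹) * (c : G)⁻¹
        group
      · rintro ⟨p, hp, hpq⟩
        refine e.2 ?_
        rw [Sylow.coe_subgroup_smul, Subgroup.mem_smul_pointwise_iff_exists]
        have hr : z₁ * p * z₁⁻¹ ∈ (↑(z₁ • P) : Subgroup G) := by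
          rw [Sylow.coe_subgroup_smul, Subgroup.mem_smul_pointwise_iff_exists]
          exact ⟨p, hp, rfl⟩
        refine ⟨⟨_, hPz hr⟩, hr, Subtype.ext ?_⟩
        show (c : G) * (z₁ * p * z₁⁻¹) * (c : G)⁻¹ = _
        rw [← hpq]
        group
    have hJm : (c : G) * z₁ * σ ^ h * ((c : G) * z₁)⁻¹ ∈ CW := by
      have : z₁ * σ ^ h * z₁⁻¹ ∈ CW := hzJ ▸ hPle hxP
      have := mul_mem (mul_mem c.2 this) (inv_mem c.2)
      convert this using 1
      group
    refine ⟨(key ⟨_, hJm⟩).2 ⟨_, pow_mem D.memσ h, rfl⟩, fun q hq => ?_⟩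
    obtain ⟨p, hp, hpq⟩ := (key ⟨q, hPle hq⟩).1 hq
    simp only at hpq
    rw [← hpq]
    have := (hJc p hp).symm.map (MulAut.conj ((c : G) * z₁)).toMonoidHom
    simp only [MulEquiv.coe_toMonoidHom, MulAut.conj_apply] at this
    exact this
  have hnJ : (c : G) * z₁ * σ ^ h * ((c : G) * z₁)⁻¹ = σ ^ h := by
    refine eq_central_of_commute D hnJP.1 ?_ ?_ (hnJP.2 σ D.memσ)
    · rw [show ∀ n a : G, n * a * n⁻¹ * (n * a * n⁻¹) = n * (a * a) * n⁻¹ from
        fun n a => by group, hJ2]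
      group
    · intro e
      exact hJ1 (conj_eq_one_iff.1 e)
  refine ⟨(c : G)⁻¹, ?_, fun y hyU hyP => ?_⟩
  · conv_lhs => rw [← hnJ]
    rw [← hzJ]
    group
  · exact (Subgroup.mem_centralizer_iff.1 (inv_mem c.2) y ((hWm y).2 ⟨hyU, hyP⟩)).symm

/-- **(H)** A linear character of the centralizer trivial on `P` respects the fusion of the
sections. -/
theorem sections_of_fixCentral (hconjJ : ∀ a : G, a * a = 1 → a ≠ 1 → IsConj (σ ^ h) a)
    (hW : FixCentral P σ τ h) (Λ : Subgroup.centralizer ({σ ^ h} : Set G) →* ℂˣ)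
    (hP : ∀ z : Subgroup.centralizer ({σ ^ h} : Set G), (z : G) ∈ (P : Subgroup G) → Λ z = 1)
    (g y : Subgroup.centralizer ({σ ^ h} : Set G)) (hy : (y : G) ∈ oddPart σ h)
    (hg : IsConj (σ ^ h * (y : G)) (g : G)) : Λ g = Λ y := by
  classical
  obtain ⟨hJ2, hJ1, hJc⟩ := D.central_involution
  obtain ⟨hyJ, m, hm⟩ := mem_oddPart.1 hy
  obtain ⟨z, hz⟩ := isConj_iff.1 hg
  have hmem : ∀ {w : G}, Commute w (σ ^ h) → w ∈ Subgroup.centralizer ({σ ^ h} : Set G) :=
    fun hw => Subgroup.mem_centralizer_singleton_iff.2 hw.eq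
  have hgJ : Commute (g : G) (σ ^ h) := Subgroup.mem_centralizer_singleton_iff.1 g.2
  have hconj : ∀ {c d : G} (hc : Commute c (σ ^ h)) (hd : Commute d (σ ^ h))
      (e : Commute (c * d * c⁻¹) (σ ^ h)), Λ ⟨_, hmem e⟩ = Λ ⟨d, hmem hd⟩ := by
    intro c d hc hd e
    rw [show (⟨_, hmem e⟩ : Subgroup.centralizer ({σ ^ h} : Set G)) =
      ⟨c, hmem hc⟩ * ⟨d, hmem hd⟩ * ⟨c, hmem hc⟩⁻¹ from rfl, map_mul, map_mul, map_inv]
    exact mul_inv_cancel_comm _ _
  -- the two parts of `g`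
  have hpow : (σ ^ h * (y : G)) ^ orderOf (y : G) = σ ^ h := by
    rw [hyJ.symm.mul_pow, pow_orderOf_eq_one, mul_one, hm, pow_succ, pow_mul, pow_two, hJ2,
      one_pow, one_mul]
  have htC : Commute (z * σ ^ h * z⁻¹) (σ ^ h) := by
    have e : z * σ ^ h * z⁻¹ = (g : G) ^ orderOf (y : G) := by
      rw [← hz, conj_pow, hpow]
    rw [e]
    exact hgJ.pow_left _
  have hwC : Commute (z * (y : G) * z⁻¹) (σ ^ h) := by
    have e : z * (y : G) * z⁻¹ = (z * σ ^ h * z⁻¹)⁻¹ * (g : G) := by rw [← hz]; group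
    rw [e]
    exact htC.inv_left.mul_left hgJ
  have ht2 : z * σ ^ h * z⁻¹ * (z * σ ^ h * z⁻¹) = 1 := by
    rw [show ∀ n a : G, n * a * n⁻¹ * (n * a * n⁻¹) = n * (a * a) * n⁻¹ from
      fun n a => by group, hJ2]
    group
  obtain ⟨c, hc, hcP⟩ := exists_conj_mem D ht2 htC
  have htL : Λ ⟨_, hmem htC⟩ = 1 := by
    have e : Commute (c * (z * σ ^ h * z⁻¹) * c⁻¹) (σ ^ h) := hJc _ hcP
    rw [← hconj hc htC e]
    exact hP _ hcP
  have hgL : Λ g = Λ ⟨_, hmem hwC⟩ := by
    have e : g = (⟨_, hmem htC⟩ : Subgroup.centralizer ({σ ^ h} : Set G)) * ⟨_, hmem hwC⟩ := by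
      refine Subtype.ext ?_
      show (g : G) = z * σ ^ h * z⁻¹ * (z * (y : G) * z⁻¹)
      rw [← hz]
      group
    conv_lhs => rw [e]
    rw [map_mul, htL, one_mul]
  -- the odd part moved by `c`
  obtain ⟨w, hw⟩ : ∃ w, w = c * (z * (y : G) * z⁻¹) * c⁻¹ := ⟨_, rfl⟩
  have hw' : w = c * z * (y : G) * (c * z)⁻¹ := by rw [hw]; group
  have hwJ : Commute w (σ ^ h) := by
    rw [hw]; exact (hc.mul_left hwC).mul_left hc.inv_left
  have hwU : w ∈ oddPart σ h := by
    refine mem_oddPart.2 ⟨hwJ, ?_⟩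
    rw [hw', show c * z * (y : G) * (c * z)⁻¹ = MulAut.conj (c * z) (y : G) from
      (MulAut.conj_apply _ _).symm, MulEquiv.orderOf_eq]
    exact ⟨m, hm⟩
  obtain ⟨x, hx⟩ : ∃ x, x = c * (z * σ ^ h * z⁻¹) * c⁻¹ := ⟨_, rfl⟩
  have hx' : x = c * z * σ ^ h * (c * z)⁻¹ := by rw [hx]; group
  rw [← hx] at hcP
  have hxw : Commute x w := by
    have e := hyJ.symm.map (MulAut.conj (c * z)).toMonoidHom
    simp only [MulEquiv.coe_toMonoidHom, MulAut.conj_apply] at e
    rw [hx', hw']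
    exact e
  have hwL : Λ g = Λ ⟨w, hmem hwJ⟩ := by
    rw [hgL]
    have e : Commute (c * (z * (y : G) * z⁻¹) * c⁻¹) (σ ^ h) := hw ▸ hwJ
    rw [← hconj hc hwC e]
    exact congrArg Λ (Subtype.ext hw.symm)
  rw [hwL]
  -- an element of `C` taking `y` to `w`
  suffices key : ∃ a, Commute a (σ ^ h) ∧ a * (y : G) * a⁻¹ = w by
    obtain ⟨a, ha, hay⟩ := key
    have e : Commute (a * (y : G) * a⁻¹) (σ ^ h) := hay ▸ hwJ
    rw [← hconj ha hyJ e]
    exact congrArg Λ (Subtype.ext hay.symm)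
  by_cases hxσ : x ∈ Subgroup.zpowers σ
  · have hxJ : x = σ ^ h := by
      refine (D.eq_central_of_sq hxσ ?_).resolve_left ?_
      · rw [hx', show ∀ n a : G, n * a * n⁻¹ * (n * a * n⁻¹) = n * (a * a) * n⁻¹ from
          fun n a => by group, hJ2]
        group
      · rw [hx']
        exact fun e => hJ1 (conj_eq_one_iff.1 e)
    refine ⟨c * z, ?_, hw'.symm⟩
    exact mul_inv_eq_iff_eq_mul.1 (hx'.symm.trans hxJ)
  · obtain ⟨i, -, hi⟩ := D.reflection_iff.1 ⟨hcP, hxσ⟩
    obtain ⟨d, hd, hdW⟩ := exists_conj_fixing D hconjJ hW hcP hxσ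
    have hdw : Commute d w := hdW w hwU (hW w hwU i (hi ▸ hxw.symm))
    refine ⟨d⁻¹ * (c * z), ?_, ?_⟩
    · have e : d⁻¹ * (c * z) * σ ^ h * (d⁻¹ * (c * z))⁻¹ = σ ^ h := by
        calc d⁻¹ * (c * z) * σ ^ h * (d⁻¹ * (c * z))⁻¹
            = d⁻¹ * (c * z * σ ^ h * (c * z)⁻¹) * d := by group
          _ = d⁻¹ * (d * σ ^ h * d⁻¹) * d := by rw [← hx', hd]
          _ = σ ^ h := by group
      exact mul_inv_eq_iff_eq_mul.1 e
    · calc d⁻¹ * (c * z) * (y : G) * (d⁻¹ * (c * z))⁻¹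
          = d⁻¹ * (c * z * (y : G) * (c * z)⁻¹ * d) := by group
        _ = d⁻¹ * (d * w) := by rw [← hw', hdw.eq]
        _ = w := by group

/-- In that situation the centralizer of the involution is generated by its commutators and `P`. -/
theorem commutator_sup_eq_top [IsSimpleGroup G] (hna : ¬∀ a b : G, a * b = b * a)
    (hconjJ : ∀ a : G, a * a = 1 → a ≠ 1 → IsConj (σ ^ h) a) (hW : FixCentral P σ τ h) :
    commutator (Subgroup.centralizer ({σ ^ h} : Set G)) ⊔
      (P : Subgroup G).subgroupOf (Subgroup.centralizer ({σ ^ h} : Set G)) = ⊤ := by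
  classical
  set C := Subgroup.centralizer ({σ ^ h} : Set G) with hC
  set K := commutator C ⊔ (P : Subgroup G).subgroupOf C with hK
  haveI : K.Normal := Subgroup.Normal.of_commutator_le C (hK ▸ le_sup_left)
  letI : CommGroup (C ⧸ K) :=
    { (inferInstance : Group (C ⧸ K)) with
      mul_comm := by
        intro a b
        obtain ⟨a, rfl⟩ := QuotientGroup.mk_surjective a
        obtain ⟨b, rfl⟩ := QuotientGroup.mk_surjective b
        rw [← QuotientGroup.mk_mul, ← QuotientGroup.mk_mul, QuotientGroup.eq]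
        refine le_sup_left (a := commutator C) ?_
        rw [show (a * b)⁻¹ * (b * a) = ⁅b⁻¹, a⁻¹⁆ by rw [commutatorElement_def]; group]
        exact Subgroup.commutator_mem_commutator (Subgroup.mem_top _) (Subgroup.mem_top _) }
  refine (Subgroup.eq_top_iff' K).2 fun g => ?_
  rw [← QuotientGroup.eq_one_iff]
  by_contra hne
  obtain ⟨φ, hφ⟩ := CommGroup.exists_apply_ne_one_of_hasEnoughRootsOfUnity (C ⧸ K) ℂ hne
  refine hφ ?_
  have hP : ∀ z : C, (z : G) ∈ (P : Subgroup G) → φ.comp (QuotientGroup.mk' K) z = 1 := by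
    intro z hz
    have : (z : C ⧸ K) = 1 :=
      (QuotientGroup.eq_one_iff z).2 (le_sup_right (a := commutator C) hz)
    simp [MonoidHom.comp_apply, this]
  have e := linearQuotient_trivial D hna hconjJ (φ.comp (QuotientGroup.mk' K)) hP
    (fun a b hb hab => sections_of_fixCentral D hconjJ hW _ hP a b hb hab)
  have e2 := DFunLike.congr_fun e g
  simpa using e2

/-- If an odd normal subgroup is inverted by two adjacent reflections and contains its centralizer
in the odd part, the rotation centralises the odd part. -/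
theorem commute_rot_of_inverted (X : Subgroup G) (hXU : ∀ a ∈ X, a ∈ oddPart σ h)
    (hXC : ∀ c, Commute c (σ ^ h) → ∀ a ∈ X, c * a * c⁻¹ ∈ X)
    (hτ : ∀ a ∈ X, τ * a * τ⁻¹ = a⁻¹) (hστ : ∀ a ∈ X, σ * τ * a * (σ * τ)⁻¹ = a⁻¹)
    (hcent : ∀ y ∈ oddPart σ h, (∀ a ∈ X, Commute y a) → y ∈ X) :
    ∀ y ∈ oddPart σ h, Commute y σ ∧ y * τ * y⁻¹ * τ⁻¹ ∈ X := by
  classical
  obtain ⟨-, hmul, hinv, hconj, -, -, -⟩ := D.oddPart_spec
  have hσJ : Commute σ (σ ^ h) := (Commute.refl σ).pow_right h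
  have hτJ : Commute τ (σ ^ h) := D.central_involution.2.2 τ D.memτ
  have hσX : ∀ a ∈ X, σ * a * σ⁻¹ = a := by
    intro a ha
    have h1 : τ * a⁻¹ * τ⁻¹ = a := by rw [hτ _ (inv_mem ha), inv_inv]
    calc σ * a * σ⁻¹ = σ * τ * a⁻¹ * (σ * τ)⁻¹ := by
          conv_lhs => rw [← h1]
          group
      _ = a := by rw [hστ _ (inv_mem ha), inv_inv]
  intro y hy
  have hyJ : Commute y (σ ^ h) := (mem_oddPart.1 hy).1
  constructor
  · obtain ⟨d, hd⟩ : ∃ d, d = σ * y * σ⁻¹ * y⁻¹ := ⟨_, rfl⟩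
    have hdX : d ∈ X := by
      refine hcent d (hd ▸ hmul _ (hconj σ hσJ y hy) _ (hinv y hy)) fun a ha => ?_
      have hb : y⁻¹ * a * y ∈ X := by
        have := hXC y⁻¹ hyJ.inv_left a ha
        rwa [inv_inv] at this
      have h1 : Commute (σ⁻¹ : G) a :=
        (show Commute σ a from mul_inv_eq_iff_eq_mul.1 (hσX a ha)).inv_left
      show d * a = a * d
      calc d * a = σ * y * σ⁻¹ * (y⁻¹ * a * y) * y⁻¹ := by rw [hd]; group
        _ = σ * y * ((y⁻¹ * a * y) * σ⁻¹) * y⁻¹ := by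
            rw [mul_assoc (σ * y) σ⁻¹, ((show Commute σ _ from
              mul_inv_eq_iff_eq_mul.1 (hσX _ hb)).inv_left).eq]
        _ = σ * (a * y) * σ⁻¹ * y⁻¹ := by group
        _ = σ * a * σ⁻¹ * (σ * y * σ⁻¹ * y⁻¹) := by group
        _ = a * d := by rw [hσX a ha, hd]
    have hdσ : Commute σ d := mul_inv_eq_iff_eq_mul.1 (hσX d hdX)
    have hit : ∀ k : ℕ, σ ^ k * y * (σ ^ k)⁻¹ = d ^ k * y := by
      intro k
      induction k with
      | zero => simp
      | succ k ih =>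
        calc σ ^ (k + 1) * y * (σ ^ (k + 1))⁻¹ = σ * (σ ^ k * y * (σ ^ k)⁻¹) * σ⁻¹ := by
              rw [pow_succ']; group
          _ = σ * d ^ k * σ⁻¹ * (σ * y * σ⁻¹) := by rw [ih]; group
          _ = d ^ k * (σ * y * σ⁻¹) := by rw [(hdσ.pow_right k).eq, mul_inv_cancel_right]
          _ = d ^ (k + 1) * y := by
              rw [pow_succ, show σ * y * σ⁻¹ = d * y by rw [hd]; group, mul_assoc]
    have hd1 : d = 1 := by
      have e := hit (2 * h)
      rw [← D.orderσ, pow_orderOf_eq_one, one_mul, inv_one, mul_one] at e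
      have h2 : d ^ orderOf σ = 1 := mul_eq_right.1 e.symm
      obtain ⟨k, hk⟩ := D.exists_order D.memσ
      refine orderOf_eq_one_iff.1 (Nat.eq_one_of_dvd_coprimes ?_ (dvd_refl _)
        (hk ▸ orderOf_dvd_of_pow_eq_one h2))
      exact (Nat.coprime_two_right.2 (mem_oddPart.1 (hXU d hdX)).2).pow_right k
    rw [hd] at hd1
    exact (mul_inv_eq_iff_eq_mul.1 (mul_inv_eq_one.1 hd1)).symm
  · obtain ⟨e, he⟩ : ∃ e, e = y * τ * y⁻¹ * τ⁻¹ := ⟨_, rfl⟩
    rw [← he]
    have heU : e ∈ oddPart σ h := by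
      have := hmul _ hy _ (hconj τ hτJ _ (hinv y hy))
      rw [he]
      convert this using 1
      group
    refine hcent e heU fun a ha => ?_
    have hb : y⁻¹ * a * y ∈ X := by
      have := hXC y⁻¹ hyJ.inv_left a ha
      rwa [inv_inv] at this
    have h1 := hτ _ hb
    have h2 := hτ _ ha
    show e * a = a * e
    rw [D.τ_inv] at h1 h2
    calc e * a = y * τ * y⁻¹ * (τ⁻¹ * a) := by rw [he]; group
      _ = y * τ * y⁻¹ * (a⁻¹ * τ⁻¹) := by
          congr 1
          rw [D.τ_inv, ← h2, mul_assoc (τ * a), D.sqτ, mul_one]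
      _ = y * (τ * (y⁻¹ * a * y)⁻¹ * τ) * τ * y⁻¹ * τ⁻¹ := by
          rw [show y * (τ * (y⁻¹ * a * y)⁻¹ * τ) * τ * y⁻¹ * τ⁻¹ =
            y * τ * (y⁻¹ * a * y)⁻¹ * (τ * τ) * y⁻¹ * τ⁻¹ by group, D.sqτ]
          group
      _ = y * (y⁻¹ * a * y) * τ * y⁻¹ * τ⁻¹ := by
          have h3 := congrArg (·⁻¹) h1
          simp only [inv_inv, mul_inv_rev, D.τ_inv] at h3 ⊢
          rw [← h3]
          group
      _ = a * e := by rw [he]; group

/-- **Case A.** No proper normal subgroup of the odd part inverted by `τ` and `σ τ` contains its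
centralizer in the odd part. -/
theorem caseA [IsSimpleGroup G] (hna : ¬∀ a b : G, a * b = b * a)
    (hconjJ : ∀ a : G, a * a = 1 → a ≠ 1 → IsConj (σ ^ h) a)
    (X : Subgroup G) (hXU : ∀ a ∈ X, a ∈ oddPart σ h)
    (hXC : ∀ c, Commute c (σ ^ h) → ∀ a ∈ X, c * a * c⁻¹ ∈ X)
    (hτ : ∀ a ∈ X, τ * a * τ⁻¹ = a⁻¹) (hστ : ∀ a ∈ X, σ * τ * a * (σ * τ)⁻¹ = a⁻¹)
    (hcent : ∀ y ∈ oddPart σ h, (∀ a ∈ X, Commute y a) → y ∈ X)
    {y₀ : G} (hy₀ : y₀ ∈ oddPart σ h) (hy₀X : y₀ ∉ X) : False := by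
  classical
  obtain ⟨h1, hmul, hinv, hconj, hdec, huniq, -⟩ := D.oddPart_spec
  obtain ⟨hJ2, hJ1, hJc⟩ := D.central_involution
  have hrot := commute_rot_of_inverted D X hXU hXC hτ hστ hcent
  have hW : FixCentral P σ τ h := by
    intro y hy i hi p hp
    have hyσ := (hrot y hy).1
    have hyτ : Commute y τ := by
      have := (hyσ.pow_right i).inv_right.mul_right hi
      rwa [inv_mul_cancel_left] at this
    rcases D.cover p hp with hm | hm
    · obtain ⟨k, rfl⟩ := Subgroup.mem_zpowers_iff.1 hm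
      exact hyσ.zpow_right k
    · obtain ⟨k, hk⟩ := Subgroup.mem_zpowers_iff.1 hm
      rw [show p = σ ^ k * τ by rw [hk, mul_assoc, D.sqτ, mul_one]]
      exact (hyσ.zpow_right k).mul_right hyτ
  set C := Subgroup.centralizer ({σ ^ h} : Set G) with hC
  have hmemC : ∀ {z : G}, z ∈ C ↔ Commute z (σ ^ h) := Subgroup.mem_centralizer_singleton_iff
  -- `X P` is normal in the centralizer
  have hPN : (P : Subgroup G) ≤ Subgroup.normalizer (X : Set G) := fun p hp =>
    Subgroup.mem_normalizer_fintype fun a ha => hXC p (hJc p hp) a ha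
  set K := X ⊔ (P : Subgroup G) with hK
  have hKmem : ∀ q, q ∈ K ↔ ∃ a ∈ X, ∃ p ∈ (P : Subgroup G), a * p = q := by
    intro q
    rw [← SetLike.mem_coe, hK, Subgroup.coe_mul_of_right_le_normalizer_left _ _ hPN, Set.mem_mul]
    rfl
  have hKn : (K.subgroupOf C).Normal := by
    refine ⟨fun q hq g => ?_⟩
    rw [Subgroup.mem_subgroupOf] at hq ⊢
    obtain ⟨p, hp, hu⟩ := hdec (g : G) (hmemC.1 g.2)
    obtain ⟨u, hudef⟩ : ∃ u, u = (g : G) * p⁻¹ := ⟨_, rfl⟩
    rw [← hudef] at hu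
    have hconjK : ∀ q ∈ K, u * q * u⁻¹ ∈ K := by
      have huJ := (mem_oddPart.1 hu).1
      have hPK : ∀ r ∈ (P : Subgroup G), u * r * u⁻¹ ∈ K := by
        intro r hr
        have hτK : u * τ * u⁻¹ ∈ K := by
          have := (hrot u hu).2
          exact (hKmem _).2 ⟨_, this, τ, D.memτ, by group⟩
        have hσK : u * σ * u⁻¹ ∈ K := by
          rw [(hrot u hu).1.eq, mul_inv_cancel_right]
          exact le_sup_right (a := X) D.memσ
        rcases D.cover r hr with hm | hm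
        · obtain ⟨k, rfl⟩ := Subgroup.mem_zpowers_iff.1 hm
          rw [← conj_zpow]
          exact zpow_mem hσK k
        · obtain ⟨k, hk⟩ := Subgroup.mem_zpowers_iff.1 hm
          rw [show r = σ ^ k * τ by rw [hk, mul_assoc, D.sqτ, mul_one],
            show u * (σ ^ k * τ) * u⁻¹ = (u * σ ^ k * u⁻¹) * (u * τ * u⁻¹) by group, ← conj_zpow]
          exact mul_mem (zpow_mem hσK k) hτK
      intro q hq
      obtain ⟨a, ha, r, hr, rfl⟩ := (hKmem q).1 hq
      rw [show u * (a * r) * u⁻¹ = (u * a * u⁻¹) * (u * r * u⁻¹) by group]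
      exact mul_mem (le_sup_left (b := (P : Subgroup G)) (hXC u huJ a ha)) (hPK r hr)
    have hpK : p * (q : G) * p⁻¹ ∈ K :=
      mul_mem (mul_mem (le_sup_right (a := X) hp) hq) (inv_mem (le_sup_right (a := X) hp))
    have e : ((g * q * g⁻¹ : C) : G) = u * (p * (q : G) * p⁻¹) * u⁻¹ := by
      show (g : G) * (q : G) * (g : G)⁻¹ = _
      rw [hudef]
      group
    rw [e]
    exact hconjK _ hpK
  -- the quotient is solvable, so trivial
  have htop := commutator_sup_eq_top D hna hconjJ hW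
  have hple : (P : Subgroup G).subgroupOf C ≤ K.subgroupOf C := fun q hq =>
    le_sup_right (a := X) hq
  haveI := hKn
  have hodd : Odd (Nat.card (C ⧸ K.subgroupOf C)) := by
    rw [← Nat.not_even_iff_odd, even_iff_two_dvd]
    intro hd
    exact (P.subtype D.le_centralizer_central).not_dvd_index
      (hd.trans (Subgroup.index_eq_card (K.subgroupOf C) ▸ Subgroup.index_dvd_of_le hple))
  haveI : Group.IsSolvable (C ⧸ K.subgroupOf C) := Cfsg.Agent.S0205.result hodd
  have hKtop : K.subgroupOf C = ⊤ := by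
    by_contra hne
    haveI : Nontrivial (C ⧸ K.subgroupOf C) :=
      QuotientGroup.nontrivial_iff.2 hne
    refine (Group.IsSolvable.commutator_lt_top_of_nontrivial (C ⧸ K.subgroupOf C)).ne ?_
    have e := congrArg (Subgroup.map (QuotientGroup.mk' (K.subgroupOf C))) htop
    rw [Subgroup.map_sup, commutator_def, Subgroup.map_commutator,
      Subgroup.map_top_of_surjective _ (QuotientGroup.mk'_surjective _),
      (Subgroup.map_eq_bot_iff _).2 (hple.trans (QuotientGroup.ker_mk' _).ge), sup_bot_eq] at e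
    rw [commutator_def]
    exact e
  refine hy₀X ?_
  have hm : y₀ ∈ K := by
    have : (⟨y₀, hmemC.2 (mem_oddPart.1 hy₀).1⟩ : C) ∈ K.subgroupOf C := hKtop ▸ Subgroup.mem_top _
    exact this
  obtain ⟨a, ha, p, hp, hap⟩ := (hKmem y₀).1 hm
  have hpU : p * 1⁻¹ ∈ oddPart σ h := by
    rw [inv_one, mul_one, show p = a⁻¹ * y₀ by rw [← hap]; group]
    exact hmul _ (hinv a (hXU a ha)) _ hy₀
  rw [← hap, huniq p hp 1 (one_mem _) hpU, mul_one]
  exact ha

end Cfsg.Lib.GW
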