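import Cfsg.Agent.Lib.GW.OrderFormula
import Cfsg.Agent.Lib.OrderLeHundred
import Cfsg.Agent.Lib.Fusion.Basic
import Cfsg.Agent.S3864

/-!
# Overgroups of the centralizer of an involution with one class of involutions
-/

set_option autoImplicit false
set_option linter.unusedSectionVars false
set_option maxHeartbeats 400000

namespace Cfsg.Lib.GW

open Cfsg Cfsg.Lib.Block
open scoped Pointwise

universe u

variable {G : Type u} [Group G] [Finite G]

theorem card_centralizer_singleton {H : Subgroup G} (z : H)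
    (h : Subgroup.centralizer ({(z : G)} : Set G) ≤ H) :
    Nat.card (Subgroup.centralizer ({z} : Set H)) =
      Nat.card (Subgroup.centralizer ({(z : G)} : Set G)) := by
  refine Nat.card_congr (Equiv.ofBijective
    (fun w => (⟨(w.1 : G), ?_⟩ : Subgroup.centralizer ({(z : G)} : Set G))) ⟨?_, ?_⟩)
  · exact Subgroup.mem_centralizer_singleton_iff.2
      (congrArg Subtype.val (Subgroup.mem_centralizer_singleton_iff.1 w.2))
  · intro v w e
    exact Subtype.ext (Subtype.ext (Subtype.ext_iff.1 e :))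
  · intro t
    exact ⟨⟨⟨t, h t.2⟩, Subgroup.mem_centralizer_singleton_iff.2
      (Subtype.ext (Subgroup.mem_centralizer_singleton_iff.1 t.2 :))⟩, rfl⟩

theorem card_centralizer_image {H : Subgroup G} (s : Set H)
    (h : Subgroup.centralizer (Subtype.val '' s) ≤ H) :
    Nat.card (Subgroup.centralizer s) = Nat.card (Subgroup.centralizer (Subtype.val '' s)) := by
  have hcl : (Subgroup.centralizer s).map H.subtype = Subgroup.centralizer (Subtype.val '' s) := by
    ext x
    constructor
    · rintro ⟨w, hw, rfl⟩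
      rw [Subgroup.mem_centralizer_iff]
      rintro _ ⟨y, hy, rfl⟩
      exact congrArg Subtype.val (Subgroup.mem_centralizer_iff.1 hw y hy)
    · intro hx
      refine ⟨⟨x, h hx⟩, Subgroup.mem_centralizer_iff.2 fun y hy => Subtype.ext ?_, rfl⟩
      exact Subgroup.mem_centralizer_iff.1 hx y ⟨y, hy, rfl⟩
  rw [← hcl, Subgroup.card_map_of_injective H.subtype_injective]

theorem card_centralizer_le_of_subgroup {H : Subgroup G} (s : Set H) :
    Nat.card (Subgroup.centralizer s) ≤ Nat.card (Subgroup.centralizer (Subtype.val '' s)) := by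
  rw [← Subgroup.card_map_of_injective H.subtype_injective]
  refine Subgroup.card_le_of_le ?_
  rintro _ ⟨w, hw, rfl⟩
  rw [Subgroup.mem_centralizer_iff]
  rintro _ ⟨y, hy, rfl⟩
  exact congrArg Subtype.val (Subgroup.mem_centralizer_iff.1 hw y hy)

theorem index_le_of_card {H : Subgroup G} {r : ℚ} (h : (Nat.card G : ℚ) ≤ r * Nat.card H) :
    (H.index : ℚ) ≤ r := by
  refine le_of_mul_le_mul_right ?_ (Nat.cast_pos.2 (Nat.card_pos (α := H)))
  rwa [← Nat.cast_mul, H.index_mul_card]

variable {P : Sylow 2 G} {n : ℕ} {σ τ : G}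

theorem centralizer_pair_le (g : Gens (P : Subgroup G) n σ τ) (y : G) :
    Subgroup.centralizer ({σ ^ (2 ^ (n - 2)), y} : Set G) ≤
      Subgroup.centralizer ({σ ^ (2 ^ (n - 2))} : Set G) :=
  Subgroup.centralizer_le (Set.singleton_subset_iff.2 (Set.mem_insert _ _))

/-- An overgroup of the centralizer with one class of involutions has index at most five. -/
theorem index_le_five (g : Gens (P : Subgroup G) n σ τ) (hG : OneClass G) (H : Subgroup G)
    (hC : Subgroup.centralizer ({σ ^ (2 ^ (n - 2))} : Set G) ≤ H) (hH : OneClass H) :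
    H.index ≤ 5 := by
  haveI : Fact (Nat.Prime 2) := ⟨Nat.prime_two⟩
  have hPH : (P : Subgroup G) ≤ H := g.le_centralizer.trans hC
  have gH : Gens ((P.subtype hPH : Sylow 2 H) : Subgroup H) n ⟨σ, hPH g.σ_mem⟩ ⟨τ, hPH g.τ_mem⟩ := by
    rw [Sylow.coe_subtype]
    exact g.subgroupOf _ _
  obtain ⟨hl, -⟩ := order_bounds gH hH
  obtain ⟨-, hu⟩ := order_bounds g hG
  have e1 : Nat.card (Subgroup.centralizer
      ({(⟨σ, hPH g.σ_mem⟩ : H) ^ (2 ^ (n - 2))} : Set H)) =
      Nat.card (Subgroup.centralizer ({σ ^ (2 ^ (n - 2))} : Set G)) :=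
    card_centralizer_singleton _ hC
  have e2 : ∀ y : H, Nat.card (Subgroup.centralizer
      ({(⟨σ, hPH g.σ_mem⟩ : H) ^ (2 ^ (n - 2)), y} : Set H)) =
      Nat.card (Subgroup.centralizer ({σ ^ (2 ^ (n - 2)), (y : G)} : Set G)) := fun y => by
    have := card_centralizer_image (H := H)
      ({(⟨σ, hPH g.σ_mem⟩ : H) ^ (2 ^ (n - 2)), y} : Set H)
      (by rw [Set.image_pair]; exact (centralizer_pair_le g y).trans hC)
    rwa [Set.image_pair] at this
  rw [e1, e2, e2] at hl
  have key : (Nat.card G : ℚ) ≤ (5 : ℕ) * Nat.card H := by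
    push_cast at hl hu ⊢
    linarith
  exact_mod_cast index_le_of_card key

/-- A simple group with a proper subgroup of index at most five has order sixty. -/
theorem card_eq_sixty_of_index_le_five [IsSimpleGroup G] (hnc : ¬ IsCyclic G) {H : Subgroup G}
    (hH : H ≠ ⊤) (h5 : H.index ≤ 5) : Nat.card G = 60 := by
  classical
  obtain ⟨hd, hinj⟩ := OrderLeHundred.card_dvd_factorial_index hH
  refine OrderLeHundred.card_eq_sixty hnc ?_
  rcases lt_or_eq_of_le h5 with h | h
  · exact (Nat.le_of_dvd (Nat.factorial_pos _) hd).trans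
      ((Nat.factorial_le (by omega : H.index ≤ 4)).trans (by decide))
  · letI : Fintype (G ⧸ H) := Fintype.ofFinite _
    set f := MulAction.toPermHom G (G ⧸ H)
    set s := Equiv.Perm.sign.comp f
    have hs : ∀ x, f x ∈ alternatingGroup (G ⧸ H) := by
      intro x
      have h2 : s.ker.index ≤ 2 := by
        rw [Subgroup.index_ker]
        exact (Subgroup.card_le_card_group _).trans (by
          rw [Nat.card_eq_fintype_card, Fintype.card_units_int])
      have h0 := s.ker.index_ne_zero_of_finite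
      have hne := OrderLeHundred.no_index_two hnc s.ker
      have htop : s.ker = ⊤ := Subgroup.index_eq_one.1 (by omega)
      exact Equiv.Perm.mem_alternatingGroup.2 (MonoidHom.mem_ker.1
        (show x ∈ s.ker by rw [htop]; exact Subgroup.mem_top x))
    have hc := Nat.card_le_card_of_injective (f.codRestrict _ hs)
      (fun x y e => hinj (congrArg Subtype.val e))
    haveI : Nontrivial (G ⧸ H) := Fintype.one_lt_card_iff_nontrivial.1 (by
      rw [← Nat.card_eq_fintype_card, ← Subgroup.index_eq_card, h]; norm_num)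
    have he := two_mul_card_alternatingGroup (α := G ⧸ H)
    rw [← Nat.card_eq_fintype_card, ← Nat.card_eq_fintype_card, Nat.card_perm,
      ← Subgroup.index_eq_card, h] at he
    rw [show Nat.factorial 5 = 120 from rfl] at he
    omega

/-- In a simple group no proper overgroup of the centralizer has one class of involutions. -/
theorem eq_top_of_simple [IsSimpleGroup G] (g : Gens (P : Subgroup G) n σ τ) (hG : OneClass G)
    (H : Subgroup G) (hC : Subgroup.centralizer ({σ ^ (2 ^ (n - 2))} : Set G) ≤ H)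
    (hH : OneClass H) : H = ⊤ := by
  haveI : Fact (Nat.Prime 2) := ⟨Nat.prime_two⟩
  by_contra hne
  have hnc : ¬ IsCyclic G := by
    intro hcy
    have hc : Commute σ τ := hcy.commutative.is_comm.comm σ τ
    have hrel := g.rel
    rw [hc.symm.eq, mul_inv_cancel_right] at hrel
    have h2 : σ ^ 2 = 1 := by rw [pow_two]; exact mul_eq_one_iff_eq_inv.2 hrel
    have h4 := Nat.le_of_dvd two_pos (orderOf_dvd_of_pow_eq_one h2)
    rw [g.orderOf_σ] at h4
    have := Nat.pow_le_pow_right two_pos (show 2 ≤ n - 1 by have := g.three_le; omega)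
    omega
  have h60 := card_eq_sixty_of_index_le_five hnc hne (index_le_five g hG H hC hH)
  have h8 : 2 ^ 3 ∣ Nat.card G := by
    refine dvd_trans ?_ (Subgroup.card_subgroup_dvd_card (P : Subgroup G))
    rw [g.toDihSylow.card, show (4 : ℕ) = 2 ^ 2 by norm_num, ← pow_add]
    exact pow_dvd_pow 2 (by have := g.three_le; omega)
  rw [h60] at h8
  omega

theorem Gens.map (g : Gens (P : Subgroup G) n σ τ) (φ : MulAut G) :
    Gens ((P : Subgroup G).map φ.toMonoidHom) n (φ σ) (φ τ) := by
  refine ⟨g.three_le, Subgroup.mem_map_of_mem _ g.σ_mem, Subgroup.mem_map_of_mem _ g.τ_mem,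
    by rw [MulEquiv.orderOf_eq, g.orderOf_σ], by rw [MulEquiv.orderOf_eq, g.orderOf_τ],
    by rw [← map_inv, ← map_mul, ← map_mul, g.rel, map_inv], ?_⟩
  rw [← g.gen, MonoidHom.map_closure, Set.image_pair]
  rfl

/-- Generators adapted to a given involution. -/
theorem exists_gens_at (P : Sylow 2 G) (hn : 3 ≤ n)
    (hP : Nonempty ((P : Subgroup G) ≃* DihedralGroup (2 ^ (n - 1)))) (hG : OneClass G) {t : G}
    (ht : orderOf t = 2) :
    ∃ (Q : Sylow 2 G) (σ τ : G), Gens (Q : Subgroup G) n σ τ ∧ σ ^ (2 ^ (n - 2)) = t := by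
  obtain ⟨σ, τ, g⟩ := exists_gens hn hP
  obtain ⟨a, ha⟩ := isConj_iff.1 (hG _ _ g.orderOf_center ht)
  refine ⟨a • P, MulAut.conj a σ, MulAut.conj a τ, ?_,
    (map_pow (MulAut.conj a) σ _).symm.trans ha⟩
  have := g.map (MulAut.conj a)
  rwa [Sylow.coe_subgroup_smul, Subgroup.pointwise_smul_def]

/-- The same for a given involution. -/
theorem eq_top_of_simple' [IsSimpleGroup G] (P : Sylow 2 G) (hn : 3 ≤ n)
    (hP : Nonempty ((P : Subgroup G) ≃* DihedralGroup (2 ^ (n - 1)))) (hG : OneClass G) {t : G}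
    (ht : orderOf t = 2) (H : Subgroup G) (hC : Subgroup.centralizer ({t} : Set G) ≤ H)
    (hH : OneClass H) : H = ⊤ := by
  obtain ⟨Q, σ, τ, g, rfl⟩ := exists_gens_at P hn hP hG ht
  exact eq_top_of_simple g hG H hC hH

theorem oneClass_of_no_index_two (P : Sylow 2 G) (hn : 3 ≤ n)
    (hP : Nonempty ((P : Subgroup G) ≃* DihedralGroup (2 ^ (n - 1))))
    (h : ∀ N : Subgroup G, N.Normal → N.index ≠ 2) : OneClass G := by
  haveI : Fact (Nat.Prime 2) := ⟨Nat.prime_two⟩
  rcases Cfsg.Agent.S3864.result P n hn hP with ⟨h1, -⟩ | ⟨-, ⟨N, hN, hN2⟩, -⟩ | ⟨-, hc⟩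
  · intro u v hu hv
    haveI := (Nat.card_eq_one_iff_unique.1 h1).1
    exact ConjClasses.mk_eq_mk_iff_isConj.1 (congrArg Subtype.val (Subsingleton.elim
      (⟨_, u, rfl, hu⟩ : {C : ConjClasses G // ∃ g : G, ConjClasses.mk g = C ∧ orderOf g = 2})
      ⟨_, v, rfl, hv⟩))
  · exact absurd hN2 (h N hN)
  · exfalso
    obtain ⟨σ, τ, g⟩ := exists_gens hn hP
    have hi := (Cfsg.Lib.Fusion.hasNormalPComplement_iff_inf P).1 hc
    obtain ⟨k, hk⟩ := Cfsg.Lib.Fusion.index_pResidual_eq_pow (G := G) (p := 2)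
    have hk0 : k ≠ 0 := by
      rintro rfl
      rw [pow_zero, Subgroup.index_eq_one] at hk
      rw [hk, top_inf_eq] at hi
      have h2 := g.τ_mem
      rw [hi, Subgroup.mem_bot] at h2
      have h3 := g.orderOf_τ
      rw [h2, orderOf_one] at h3
      omega
    haveI := Cfsg.Lib.Fusion.pResidual_normal 2 G
    have hcard : Nat.card (G ⧸ pResidual 2 G) = 2 ^ k := hk
    obtain ⟨K, hK⟩ := Sylow.exists_subgroup_card_pow_prime 2 (n := k - 1)
      (hcard ▸ pow_dvd_pow 2 (Nat.sub_le k 1))
    have hKi : K.index = 2 := by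
      have := K.card_mul_index
      rw [hK, hcard, show (2 : ℕ) ^ k = 2 ^ (k - 1) * 2 by rw [← pow_succ]; congr 1; omega] at this
      exact mul_left_cancel₀ (pow_ne_zero _ two_ne_zero) this
    have hidx : (K.comap (QuotientGroup.mk' (pResidual 2 G))).index = 2 := by
      rw [Subgroup.index_comap_of_surjective _ (QuotientGroup.mk'_surjective _), hKi]
    exact h _ (Subgroup.normal_of_index_eq_two hidx) hidx

theorem centralizer_le_of_klein (hP : KleinCond P) {z : G} (hz : z ∈ (P : Subgroup G)) :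
    (P : Subgroup G) ≤ Subgroup.centralizer ({z} : Set G) := by
  intro x hx
  refine Subgroup.mem_centralizer_singleton_iff.2 ?_
  have h1 := hP.sq x hx
  have h2 := hP.sq z hz
  have h3 := hP.sq _ (mul_mem hx hz)
  calc x * z = x * z * (z * x * (x * z)) := by
        rw [mul_assoc z x, ← mul_assoc x x z, h1, one_mul, h2, mul_one]
    _ = z * x := by
        rw [← mul_assoc, mul_assoc x z (z * x), ← mul_assoc z z x, h2, one_mul, h1, one_mul,
          ← one_mul (x * z), ← one_mul (z * x), one_mul, one_mul]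
        exact (inv_eq_of_mul_eq_one_right h3).symm.trans
          (by rw [mul_inv_rev, inv_eq_of_mul_eq_one_right h1, inv_eq_of_mul_eq_one_right h2])

/-- The bound for a four-group Sylow subgroup. -/
theorem klein_index_le_five (hP : KleinCond P) {z : G} (hzP : z ∈ (P : Subgroup G))
    (hz : orderOf z = 2) (H : Subgroup G) (hC : Subgroup.centralizer ({z} : Set G) ≤ H)
    (hH : OneClass H) : H.index ≤ 5 := by
  haveI : Fact (Nat.Prime 2) := ⟨Nat.prime_two⟩
  have hPH : (P : Subgroup G) ≤ H := (centralizer_le_of_klein hP hzP).trans hC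
  have hP' : KleinCond (P.subtype hPH : Sylow 2 H) := by
    refine ⟨?_, fun x hx => Subtype.ext (hP.sq _ ?_), hH⟩
    · show Nat.card ((P.subtype hPH : Sylow 2 H) : Subgroup H) = 4
      rw [Sylow.coe_subtype, Nat.card_congr (Subgroup.subgroupOfEquivOfLe hPH).toEquiv]
      exact hP.card
    · rw [Sylow.coe_subtype] at hx
      exact hx
  obtain ⟨hl, -⟩ := klein_bounds hP' (z := ⟨z, hPH hzP⟩) (by rw [Sylow.coe_subtype]; exact hzP)
    (by rw [Subgroup.orderOf_mk, hz])
  obtain ⟨-, hu⟩ := klein_bounds hP hzP hz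
  rw [card_centralizer_singleton (⟨z, hPH hzP⟩ : H) hC, Sylow.coe_subtype] at hl
  have him : Subtype.val '' (((P : Subgroup G).subgroupOf H : Subgroup H) : Set H) =
      ((P : Subgroup G) : Set G) := by
    ext x
    exact ⟨by rintro ⟨y, hy, rfl⟩; exact hy, fun hx => ⟨⟨x, hPH hx⟩, hx, rfl⟩⟩
  rw [card_centralizer_image (H := H) _ (by
    rw [him]; exact (Subgroup.centralizer_le (Set.singleton_subset_iff.2 hzP)).trans hC), him] at hl
  have hpos : (0 : ℚ) < (Nat.card (Subgroup.centralizer ((P : Subgroup G) : Set G)) : ℚ) ^ 2 :=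
    pow_pos (Nat.cast_pos.2 Nat.card_pos) 2
  have key : (Nat.card G : ℚ) ≤ (5 : ℕ) * Nat.card H := by
    refine le_of_mul_le_mul_right ?_ hpos
    push_cast
    linarith
  exact_mod_cast index_le_of_card key

/-- The simple case with a four-group Sylow subgroup. -/
theorem klein_eq_top_or_sixty [IsSimpleGroup G] (hP : KleinCond P) {z : G}
    (hzP : z ∈ (P : Subgroup G)) (hz : orderOf z = 2) (H : Subgroup G)
    (hC : Subgroup.centralizer ({z} : Set G) ≤ H) (hH : OneClass H) :
    H = ⊤ ∨ Nat.card G = 60 := by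
  refine or_iff_not_imp_left.2 fun hne => card_eq_sixty_of_index_le_five ?_ hne
    (klein_index_le_five hP hzP hz H hC hH)
  intro hcy
  letI : CommGroup G := { (inferInstance : Group G) with mul_comm := hcy.commutative.is_comm.comm }
  haveI : Fact (Nat.Prime (Nat.card G)) := ⟨IsSimpleGroup.prime_card⟩
  have h4 := hP.card ▸ Subgroup.card_subgroup_dvd_card (P : Subgroup G)
  exact (Nat.Prime.eq_one_or_self_of_dvd (Fact.out) 4 h4).elim (by norm_num) fun h => by
    have := (Fact.out : (Nat.card G).Prime)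
    rw [← h] at this
    norm_num at this

end Cfsg.Lib.GW
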