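import Cfsg.Agent.Lib.GW.CycDih
import Cfsg.Prelude.Def_PLocal

/-!
# Groups with cyclic or dihedral Sylow 2-subgroups involve neither `SL₂(p)` nor `Qd(p)`
-/

set_option autoImplicit false
set_option linter.style.haveILetI false

namespace Cfsg.Lib.GW

open Subgroup

variable {G : Type*} [Group G] [Finite G]

/-- There are no two noncommuting elements of order four one of which normalizes the other. -/
theorem commute_of_quaternion_like (hD : TwoCycDih G) {a b : G} (ha : orderOf a = 4)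
    (hb : orderOf b = 4) (hab : b * a * b⁻¹ = a⁻¹) : Commute a b := by
  haveI : Fact (Nat.Prime 2) := ⟨Nat.prime_two⟩
  have hnorm : zpowers b ≤ normalizer (zpowers a : Set G) := by
    rw [zpowers_le]
    refine mem_normalizer_fintype fun x hx => ?_
    obtain ⟨k, rfl⟩ := mem_zpowers_iff.1 hx
    rw [SetLike.mem_coe, ← conj_zpow, hab]
    exact zpow_mem (inv_mem (mem_zpowers a)) k
  have hp : ∀ x : G, orderOf x = 4 → IsPGroup 2 ↥(zpowers x) := fun x hx =>
    IsPGroup.of_card (n := 2) (by rw [Nat.card_zpowers, hx]; norm_num)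
  have hP : IsPGroup 2 ↥(zpowers b ⊔ zpowers a) :=
    IsPGroup.to_sup_of_normal_right' (hp b hb) (hp a ha) hnorm
  have hsq : ∀ x : G, orderOf x = 4 → x * x ≠ 1 := fun x hx h => by
    have := orderOf_le_of_pow_eq_one two_pos (by rwa [pow_two] : x ^ 2 = 1)
    omega
  have hA : a ∈ zpowers b ⊔ zpowers a := mem_sup_right (mem_zpowers a)
  have hB : b ∈ zpowers b ⊔ zpowers a := mem_sup_left (mem_zpowers b)
  have h := CycDih.commute_of_sq_ne (hD _ hP) (a := ⟨a, hA⟩) (b := ⟨b, hB⟩)
    (fun h => hsq a ha (congrArg Subtype.val h)) (fun h => hsq b hb (congrArg Subtype.val h))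
  exact congrArg Subtype.val h.eq

/-- `SL₂(p)` has no embedding, `p` odd. -/
theorem no_sl_two (hD : TwoCycDih G) {p : ℕ} [Fact p.Prime] (hp : p ≠ 2)
    (f : Matrix.SpecialLinearGroup (Fin 2) (ZMod p) →* G) : ¬ Function.Injective f := by
  intro hf
  have h2 : (2 : ZMod p) ≠ 0 := by
    intro h
    have : ((2 : ℕ) : ZMod p) = 0 := by exact_mod_cast h
    rw [ZMod.natCast_eq_zero_iff] at this
    exact hp ((Nat.prime_dvd_prime_iff_eq (Fact.out : p.Prime) Nat.prime_two).1 this)
  obtain ⟨a, b, hab⟩ := ZMod.sq_add_sq p (-1)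
  let i : Matrix.SpecialLinearGroup (Fin 2) (ZMod p) :=
    ⟨!![0, 1; -1, 0], by simp [Matrix.det_fin_two]⟩
  let j : Matrix.SpecialLinearGroup (Fin 2) (ZMod p) :=
    ⟨!![a, b; b, -a], by rw [Matrix.det_fin_two_of]; linear_combination -hab⟩
  let m : Matrix.SpecialLinearGroup (Fin 2) (ZMod p) :=
    ⟨!![-1, 0; 0, -1], by simp [Matrix.det_fin_two]⟩
  have hm : m ≠ 1 := fun h => h2 (by
    have := congrArg (fun M : Matrix.SpecialLinearGroup (Fin 2) (ZMod p) => M.1 0 0) h
    simp [m] at this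
    linear_combination -this)
  have hm2 : m * m = 1 := Subtype.ext
    (show (!![-1, 0; 0, -1] : Matrix (Fin 2) (Fin 2) (ZMod p)) * !![-1, 0; 0, -1] = 1 by
      simp [Matrix.one_fin_two])
  have hi : i * i = m := Subtype.ext
    (show (!![0, 1; -1, 0] : Matrix (Fin 2) (Fin 2) (ZMod p)) * !![0, 1; -1, 0] = !![-1, 0; 0, -1] by
      simp)
  have hj : j * j = m := Subtype.ext
    (show (!![a, b; b, -a] : Matrix (Fin 2) (Fin 2) (ZMod p)) * !![a, b; b, -a] = !![-1, 0; 0, -1] by
      ext r c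
      fin_cases r <;> fin_cases c <;> simp <;> first | linear_combination hab | linear_combination -hab | ring)
  have hord : ∀ x : Matrix.SpecialLinearGroup (Fin 2) (ZMod p), x * x = m → orderOf (f x) = 4 := by
    intro x hx
    rw [orderOf_injective f hf]
    refine orderOf_eq_prime_pow (p := 2) (n := 1) ?_ ?_
    · rw [pow_one, pow_two, hx]; exact hm
    · rw [show (2 : ℕ) ^ (1 + 1) = 2 * 2 from rfl, pow_mul, pow_two x, hx, pow_two, hm2]
  have hji : j * i = i⁻¹ * j := Subtype.ext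
    (show (!![a, b; b, -a] : Matrix (Fin 2) (Fin 2) (ZMod p)) * !![0, 1; -1, 0] =
        Matrix.adjugate !![0, 1; -1, 0] * !![a, b; b, -a] by simp [Matrix.adjugate_fin_two])
  have hc := commute_of_quaternion_like hD (hord i hi) (hord j hj)
    (by rw [← map_mul, ← map_inv, ← map_mul, hji, mul_inv_cancel_right, map_inv])
  have hij : i * j = j * i := hf (by rw [map_mul, map_mul]; exact hc.eq)
  rw [hji] at hij
  have := mul_right_cancel hij
  refine hm ?_
  rw [← hi]
  nth_rewrite 1 [this]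
  exact inv_mul_cancel i

/-- No section is isomorphic to `SL₂(p)`. -/
theorem sl_two_free (hD : TwoCycDih G) {p : ℕ} [Fact p.Prime] (hp : p ≠ 2) :
    ¬ ∃ (H K : Subgroup G) (hK : (K.subgroupOf H).Normal),
      Nonempty ((H ⧸ K.subgroupOf H) ≃* Matrix.SpecialLinearGroup (Fin 2) (ZMod p)) := by
  rintro ⟨H, K, hK, ⟨e⟩⟩
  exact no_sl_two (hD.section' H (K.subgroupOf H)) hp e.symm.toMonoidHom e.symm.injective

theorem exists_sl_two_le_qd (p : ℕ) :
    ∃ f : Matrix.SpecialLinearGroup (Fin 2) (ZMod p) →* ↥(Cfsg.qd p), Function.Injective f := by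
  let emb : Matrix.SpecialLinearGroup (Fin 2) (ZMod p) → Matrix.SpecialLinearGroup (Fin 3) (ZMod p) :=
    fun A => ⟨!![A.1 0 0, A.1 0 1, 0; A.1 1 0, A.1 1 1, 0; 0, 0, 1], by
      have := A.2
      rw [Matrix.det_fin_two] at this
      simp [Matrix.det_fin_three]
      linear_combination this⟩
  have hmem : ∀ A, emb A ∈ Cfsg.qd p := fun A => subset_closure ⟨rfl, rfl, rfl⟩
  refine ⟨MonoidHom.mk' (fun A => ⟨emb A, hmem A⟩) fun A B => Subtype.ext (Subtype.ext ?_), fun A B h => ?_⟩
  · show (emb (A * B)).1 = (emb A).1 * (emb B).1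
    ext r c
    fin_cases r <;> fin_cases c <;>
      simp [emb, Matrix.SpecialLinearGroup.coe_mul, Matrix.mul_apply, Fin.sum_univ_three, Fin.sum_univ_two]
  · have h' := congrArg (fun z : ↥(Cfsg.qd p) => (z : Matrix.SpecialLinearGroup (Fin 3) (ZMod p)).1) h
    apply Subtype.ext
    ext r c
    fin_cases r <;> fin_cases c
    · exact congrFun (congrFun h' 0) 0
    · exact congrFun (congrFun h' 0) 1
    · exact congrFun (congrFun h' 1) 0
    · exact congrFun (congrFun h' 1) 1

/-- No section is isomorphic to `Qd(p)`. -/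
theorem qd_free (hD : TwoCycDih G) {p : ℕ} [Fact p.Prime] (hp : p ≠ 2) :
    ¬ ∃ (H K : Subgroup G) (hK : (K.subgroupOf H).Normal),
      Nonempty ((H ⧸ K.subgroupOf H) ≃* ↥(Cfsg.qd p)) := by
  rintro ⟨H, K, hK, ⟨e⟩⟩
  obtain ⟨f, hf⟩ := exists_sl_two_le_qd p
  exact no_sl_two (hD.section' H (K.subgroupOf H)) hp (e.symm.toMonoidHom.comp f)
    (e.symm.injective.comp hf)

end Cfsg.Lib.GW
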