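import Cfsg.Agent.Lib.GW.CaseOneMax
import Cfsg.Agent.Lib.GW.Free
import Cfsg.Agent.S1856
import Cfsg.Agent.S1857
import Cfsg.Agent.S3081
import Cfsg.Agent.S0664

/-!
# Gorenstein–Walter, Case One

With all four groups self-centralizing, the normalizers of the nontrivial subgroups of `O(C(t))` lie in
`C(t)`. Otherwise a maximal overgroup `M` has odd Fitting subgroup; if it is a `p`-group, Glauberman's
theorem makes `M` control `p`-fusion, and if not, Bender's uniqueness theorem applies.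
-/

set_option autoImplicit false
set_option linter.style.haveILetI false
set_option linter.unusedSectionVars false

namespace Cfsg.Lib.GW

open Subgroup

universe u

variable {G : Type u} [Group G] [Finite G]

theorem commute_pCore {M : Type*} [Group M] [Finite M] {p q : ℕ} [Fact p.Prime] [Fact q.Prime]
    (hpq : p ≠ q) {x y : M} (hx : x ∈ Cfsg.pCore p M) (hy : y ∈ Cfsg.pCore q M) : Commute x y := by
  have hle : Cfsg.pCore q M ≤ Cfsg.pPrimeCore p M := by
    refine Cfsg.Lib.Core.le_pPrimeCore' inferInstance ?_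
    obtain ⟨k, hk⟩ := (Cfsg.Lib.Core.pCore_isPGroup q M).exists_card_eq
    rw [hk]
    exact ((Nat.coprime_primes Fact.out Fact.out).2 (Ne.symm hpq)).pow_left k
  have h := commutator_mem_commutator hx (hle hy)
  rw [Cfsg.Lib.Core.commutator_pCore_pPrimeCore, mem_bot] at h
  exact commutatorElement_eq_one_iff_commute.1 h

theorem dvd_card_fitting {M : Type*} [Group M] [Finite M] {q : ℕ} [Fact q.Prime]
    (h : Cfsg.pCore q M ≠ ⊥) : q ∣ Nat.card (Cfsg.fittingSubgroup M) := by
  have hle : Cfsg.pCore q M ≤ Cfsg.fittingSubgroup M :=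
    Cfsg.Lib.Core.le_fittingSubgroup' inferInstance (Cfsg.Lib.Core.pCore_isPGroup q M).isNilpotent
  refine dvd_trans ?_ (card_dvd_of_le hle)
  obtain ⟨k, hk⟩ := (Cfsg.Lib.Core.pCore_isPGroup q M).exists_card_eq
  rcases k with _ | k
  · exact absurd (eq_bot_of_card_eq _ (by rw [hk, pow_zero])) h
  · exact hk ▸ dvd_pow_self q k.succ_ne_zero

variable (hG : GWMin G) (h8 : 8 ∣ Nat.card G) (hN : NoFusedOvergroup G) (hV : KleinSelfCentralizing G)
include hG h8 hN hV

/-- Two commuting involutions cannot both be central in a Sylow 2-subgroup. -/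
theorem not_both_central {a b : G} (ha : orderOf a = 2) (hb : orderOf b = 2) (hne : a ≠ b)
    (T : Sylow 2 G) (haT : a ∈ (T : Subgroup G)) (hbT : b ∈ (T : Subgroup G))
    (haZ : ∀ x ∈ (T : Subgroup G), x * a = a * x) (hbZ : ∀ x ∈ (T : Subgroup G), x * b = b * x) : False := by
  obtain ⟨V, hVK, haV, hbV, -⟩ := Cfsg.Agent.S1255.exists_four
    (by rw [← sq, ← ha, pow_orderOf_eq_one]) (by rw [← sq, ← hb, pow_orderOf_eq_one])
    (Cfsg.Lib.Invol.ne_one ha) (Cfsg.Lib.Invol.ne_one hb) hne (haZ b hbT).symm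
  haveI := hVK
  have hle : (T : Subgroup G) ≤ V := fun x hx => hV V hVK (mem_centralizer_iff.2 fun w hw => by
    by_cases hw1 : w = 1
    · simp [hw1]
    rcases Cfsg.Lib.Invol.klein_mem_cases haV hbV (Cfsg.Lib.Invol.ne_one ha) (Cfsg.Lib.Invol.ne_one hb)
      hne hw hw1 with rfl | rfl | rfl
    · exact (haZ x hx).symm
    · exact (hbZ x hx).symm
    · exact ((show Commute x a from haZ x hx).mul_right (show Commute x b from hbZ x hx)).symm.eq)
  have h2 := Nat.le_of_dvd Nat.card_pos ((eight_dvd_sylow hG h8 hV T).trans (card_dvd_of_le hle))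
  rw [IsKleinFour.card_four] at h2
  omega

/-- A proper overgroup of `C(t)` has an involution commuting with `t` and not conjugate to it. -/
theorem exists_unfused {t : G} (ht : orderOf t = 2) (M : Subgroup G)
    (hCM : centralizer ({t} : Set G) ≤ M) (hMtop : M ≠ ⊤) :
    ∃ u : G, orderOf u = 2 ∧ Commute u t ∧ ∀ m ∈ M, m * t * m⁻¹ ≠ u := by
  haveI : Fact (Nat.Prime 2) := ⟨Nat.prime_two⟩
  by_contra hno
  push Not at hno
  refine hN t M ht hCM hMtop fun a b ha hb => ?_
  obtain ⟨S, htS, htZ⟩ := hG.exists_sylow_central ht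
  have hSM : (S : Subgroup G) ≤ M := fun x hx => hCM (mem_centralizer_singleton_iff.2 (htZ x hx))
  set T : M := ⟨t, hCM (mem_centralizer_singleton_iff.2 rfl)⟩
  have key : ∀ c : M, orderOf c = 2 → IsConj T c := by
    intro c hc
    have hp : IsPGroup 2 (zpowers c) := by
      refine IsPGroup.of_card (n := 1) ?_
      rw [Nat.card_zpowers, hc, pow_one]
    obtain ⟨R, hR⟩ := hp.exists_le_sylow
    obtain ⟨m, hm⟩ := MulAction.exists_smul_eq M R (S.subtype hSM)
    have hmem : m * c * m⁻¹ ∈ (S.subtype hSM : Subgroup M) := by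
      rw [← hm]
      exact ⟨c, hR (mem_zpowers c), rfl⟩
    obtain ⟨g, hg, hge⟩ := hno ((m * c * m⁻¹ : M) : G)
      (by rw [orderOf_coe]; exact ((MulAut.conj m).orderOf_eq c).trans hc) (htZ _ hmem)
    exact (isConj_iff.2 ⟨⟨g, hg⟩, Subtype.ext hge⟩ : IsConj T (m * c * m⁻¹)).trans
      (isConj_iff.2 ⟨m⁻¹, by group⟩)
  exact (key a ha).symm.trans (key b hb)

/-- The uniqueness case: `F(M)` is not a group of prime power order. -/
theorem false_of_two_primes {t : G} (ht : orderOf t = 2) (M : Subgroup G) (hM : IsCoatom M)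
    (hCM : centralizer ({t} : Set G) ≤ M)
    (hstr : Cfsg.layer M = ⊥ ∧ Odd (Nat.card (Cfsg.fittingSubgroup M)) ∧ Cfsg.fittingSubgroup M ≠ ⊥)
    {u : G} (hu : orderOf u = 2) (hut : Commute u t) (hnf : ∀ m ∈ M, m * t * m⁻¹ ≠ u)
    {q r : ℕ} [Fact q.Prime] [Fact r.Prime] (hqr : r ≠ q) {x : M} (hx : x ∈ Cfsg.pCore q M)
    (hx1 : x ≠ 1) (hxu : Commute (x : G) u) (hr : Cfsg.pCore r M ≠ ⊥) : False := by
  haveI := hG.isSimple
  haveI : Fact (Nat.Prime 2) := ⟨Nat.prime_two⟩
  have hKP := isKProper_of_below hG.below hG.twoCycDih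
  have htM : t ∈ M := hCM (mem_centralizer_singleton_iff.2 rfl)
  have huM : u ∈ M := hCM (mem_centralizer_singleton_iff.2 hut.eq)
  have hne : u ≠ t := fun h => hnf 1 (one_mem _) (by simp [h])
  have hoddcore : ∀ (p : ℕ) [Fact p.Prime], Cfsg.pCore p M ≠ ⊥ → Odd (Nat.card (Cfsg.pCore p M)) :=
    fun p _ _ => hstr.2.1.of_dvd_nat (card_dvd_of_le (Cfsg.Lib.Core.le_fittingSubgroup' inferInstance
      (Cfsg.Lib.Core.pCore_isPGroup p M).isNilpotent))
  have hqne : Cfsg.pCore q M ≠ ⊥ := fun h => hx1 (mem_bot.1 (h ▸ hx))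
  set A : Subgroup G := (Cfsg.pCore q M).map M.subtype ⊓ centralizer ({u} : Set G) with hA
  have hA1 : A ≠ ⊥ := fun h => hx1 (Subtype.ext (mem_bot.1
    (h ▸ ⟨mem_map_of_mem _ hx, mem_centralizer_singleton_iff.2 hxu.eq⟩ : (x : G) ∈ (⊥ : Subgroup G))))
  have hAU : A ≤ coreC u := fun a ha => mem_coreC hG h8 hV hu (mem_centralizer_singleton_iff.1 ha.2)
    ((hoddcore q hqne).of_dvd_nat (by
      rw [← card_map_of_injective M.subtype_injective]
      exact Subgroup.orderOf_dvd_natCard _ ha.1))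
  have hNAne : normalizer (A : Set G) ≠ ⊤ := by
    intro h
    rw [normalizer_eq_top_iff] at h
    rcases IsSimpleGroup.eq_bot_or_eq_top_of_normal A h with h' | h'
    · exact hA1 h'
    · exact hM.1 (eq_top_iff.2 (h' ▸ (inf_le_left.trans (map_subtype_le _))))
  obtain ⟨N, hN', hNAN⟩ := (eq_top_or_exists_le_coatom (normalizer (A : Set G))).resolve_left hNAne
  have hCuN : centralizer ({u} : Set G) ≤ N := (le_normalizer_of_le_coreC hG h8 hV hu hAU).trans hNAN
  set P := Cfsg.pCore r M with hP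
  have hPodd := hoddcore r hr
  have hPA : P.map M.subtype ≤ normalizer (A : Set G) := by
    refine le_trans ?_ (centralizer_le_normalizer _)
    rintro _ ⟨y, hy, rfl⟩
    refine mem_centralizer_iff.2 ?_
    rintro a ⟨⟨b, hb, rfl⟩, -⟩
    exact (congrArg Subtype.val (commute_pCore (Ne.symm hqr) hb hy).eq)
  -- `P` is not centralised by `u`
  obtain ⟨g, hgP, hgu⟩ : ∃ g ∈ P, ¬ Commute (g : G) u := by
    by_contra hall
    push Not at hall
    obtain ⟨s, hst, hsu⟩ := exists_swap hG h8 hV ht hu hne hut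
    have hsM : s ∈ M := hCM (mem_centralizer_singleton_iff.2 hst.eq)
    refine hr (eq_bot_iff.2 fun y hy => mem_bot.2 (Subtype.ext ?_))
    have hyodd : Odd (orderOf (y : G)) := by
      rw [orderOf_coe]; exact hPodd.of_dvd_nat (Subgroup.orderOf_dvd_natCard _ hy)
    have hyu : Commute (y : G) u := hall y hy
    have hyut : Commute (y : G) (u * t) := by
      have h1 := hall _ (Subgroup.Normal.conj_mem' inferInstance y hy ⟨s, hsM⟩)
      rw [← hsu]
      have h2 := h1.map (MulAut.conj s).toMonoidHom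
      simpa [mul_assoc] using h2
    have hyt : Commute (y : G) t := by
      have h2 := hyu.inv_right.mul_right hyut
      simpa [← mul_assoc] using h2
    exact eq_one_of_fixed_inverted_conj hyodd (conj_of_commute hyu.symm)
      (hG.inverts_core hV ht hu hne hut (mem_coreC hG h8 hV ht hyt hyodd))
  have hstrN := max_structure hG h8 hV hu N hN'.1 hCuN hAU hA1 (hNAN (hPA (mem_map_of_mem _ hgP)))
    (hPA (mem_map_of_mem _ hgP)) (fun h => hgu (mem_centralizer_singleton_iff.1 h))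
  have hPN : P.map M.subtype ≤ N := hPA.trans hNAN
  have htN : t ∈ N := hCuN (mem_centralizer_singleton_iff.2 hut.eq.symm)
  have hMN : Cfsg.leadsTo M N := by
    refine ⟨A, hA1, inf_le_left.trans (map_mono ?_), inf_le_right.trans hNAN⟩
    exact Cfsg.Lib.Core.le_fittingSubgroup' inferInstance (Cfsg.Lib.Core.pCore_isPGroup q M).isNilpotent
  have hne' : M ≠ N := by
    intro h
    subst h
    obtain ⟨T, huT, -, huZ⟩ := exists_sylow_pair hG h8 hV hu (Commute.refl u)
      ⟨1, by simpa [hu] using pow_orderOf_eq_one u⟩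
    obtain ⟨S, htS, htZ⟩ := hG.exists_sylow_central ht
    have hSM : (S : Subgroup G) ≤ M := fun z hz => hCM (mem_centralizer_singleton_iff.2 (htZ z hz))
    have hTM : (T : Subgroup G) ≤ M := fun z hz => hCuN (mem_centralizer_singleton_iff.2 (huZ z hz))
    obtain ⟨m, hm⟩ := MulAction.exists_smul_eq M (S.subtype hSM) (T.subtype hTM)
    have hconj : ∀ z : M, z ∈ (T.subtype hTM : Subgroup M) → m⁻¹ * z * m ∈ (S.subtype hSM : Subgroup M) := by
      intro z hz
      rw [← hm, Sylow.coe_subgroup_smul, Subgroup.mem_smul_pointwise_iff_exists] at hz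
      obtain ⟨w, hw, rfl⟩ := hz
      show m⁻¹ * (m * w * m⁻¹) * m ∈ _
      simpa [mul_assoc] using hw
    refine not_both_central hG h8 hN hV (a := (m : G) * t * (m : G)⁻¹) (b := u)
      (((MulAut.conj (m : G)).orderOf_eq t).trans ht) hu (hnf m m.2) T ?_ huT ?_ huZ
    · have h1 : m * ⟨t, htM⟩ * m⁻¹ ∈ (T.subtype hTM : Subgroup M) := by
        rw [← hm, Sylow.coe_subgroup_smul, Subgroup.mem_smul_pointwise_iff_exists]
        exact ⟨_, htS, rfl⟩
      exact h1
    · intro z hz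
      have h1 := htZ _ (hconj ⟨z, hTM hz⟩ hz)
      have h2 : (m : G)⁻¹ * z * (m : G) * t = t * ((m : G)⁻¹ * z * (m : G)) := h1
      calc z * ((m : G) * t * (m : G)⁻¹) = (m : G) * ((m : G)⁻¹ * z * (m : G) * t) * (m : G)⁻¹ := by group
        _ = (m : G) * (t * ((m : G)⁻¹ * z * (m : G))) * (m : G)⁻¹ := by rw [h2]
        _ = _ := by group
  obtain ⟨hi, hii⟩ := Cfsg.Agent.S1856.result hG.nonab hKP M N hM hN' hMN
  obtain ⟨s, hsu, hst⟩ := exists_swap hG h8 hV hu ht (Ne.symm hne) hut.symm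
  -- the Fitting subgroup of `N` lies in `M`
  have hFN : (Cfsg.fittingSubgroup N).map N.subtype ≤ M := by
    rw [Cfsg.Lib.Core.fittingSubgroup_eq_iSup_pCore, Subgroup.map_iSup, iSup_le_iff]
    rintro ⟨l, hl⟩
    haveI : Fact l.Prime := ⟨hl⟩
    have hle : Cfsg.pCore l N ≤ Cfsg.fittingSubgroup N :=
      Cfsg.Lib.Core.le_fittingSubgroup' inferInstance (Cfsg.Lib.Core.pCore_isPGroup l N).isNilpotent
    obtain ⟨R, hR⟩ := ((Cfsg.Lib.Core.pCore_isPGroup l N).of_equiv
      (subgroupOfEquivOfLe hle).symm).exists_le_sylow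
    have hBR : (Cfsg.pCore l N).map N.subtype ≤
        ((R : Subgroup (Cfsg.fittingSubgroup N)).map (Cfsg.fittingSubgroup N).subtype).map N.subtype :=
      map_mono fun z hz => ⟨⟨z, hle hz⟩, hR hz, rfl⟩
    by_cases hdiv : l ∣ Nat.card (Cfsg.fittingSubgroup M)
    · exact hBR.trans (hi ⟨q, r, Fact.out, Fact.out, Ne.symm hqr, dvd_card_fitting hqne,
        dvd_card_fitting hr⟩ l hl hdiv R)
    set B := (Cfsg.pCore l N).map N.subtype with hB
    suffices hBbot : B = ⊥ by rw [hBbot]; exact bot_le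
    have hBM : B ⊓ M = ⊥ := le_bot_iff.1 ((inf_le_inf_right M hBR).trans (hii l hl hdiv R).le)
    have hNB : N ≤ normalizer (B : Set G) := fun n hn => mem_normalizer_fintype fun z hz => by
      obtain ⟨w, hw, rfl⟩ := hz
      exact ⟨⟨n, hn⟩ * w * ⟨n, hn⟩⁻¹, Subgroup.Normal.conj_mem inferInstance _ hw _, rfl⟩
    have htfix : ∀ b ∈ B, Commute b t → b = 1 := fun b hb hbt =>
      mem_bot.1 (hBM ▸ ⟨hb, hCM (mem_centralizer_singleton_iff.2 hbt.eq)⟩ : b ∈ (⊥ : Subgroup G))
    have hsN : s ∈ N := hCuN (mem_centralizer_singleton_iff.2 hsu.eq)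
    have hutfix : ∀ b ∈ B, Commute b (u * t) → b = 1 := by
      intro b hb hbut
      have h1 : s⁻¹ * b * s ∈ B := by
        have := (mem_normalizer_iff.1 (inv_mem (hNB hsN)) b).1 hb
        rwa [inv_inv] at this
      have h2 : Commute (s⁻¹ * b * s) t := by
        rw [hut.eq, ← hst] at hbut
        have h3 := hbut.map (MulAut.conj s⁻¹).toMonoidHom
        simpa [mul_assoc] using h3
      calc b = s * (s⁻¹ * b * s) * s⁻¹ := by group
        _ = 1 := by rw [htfix _ h1 h2, mul_one, mul_inv_cancel]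
    have hinvB : ∀ a : G, a * a = 1 → a ∈ N → (∀ b ∈ B, Commute b a → b = 1) →
        ∀ b ∈ B, a * b * a⁻¹ = b⁻¹ := by
      intro a ha haN hfix b hb
      let φ : B →* B := MonoidHom.mk' (fun z => ⟨a * z * a⁻¹, (mem_normalizer_iff.1 (hNB haN) z).1 z.2⟩)
        fun z w => Subtype.ext (by simp [mul_assoc])
      have hfpf : MonoidHom.FixedPointFree φ := fun z hz => Subtype.ext
        (hfix z z.2 (show Commute (z : G) a from (mul_inv_eq_iff_eq_mul.1 (congrArg Subtype.val hz)).symm))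
      have hinv : Function.Involutive φ := fun z => Subtype.ext (by
        show a * (a * z * a⁻¹) * a⁻¹ = (z : G)
        rw [show a * (a * z * a⁻¹) * a⁻¹ = (a * a) * z * (a * a)⁻¹ by group, ha]
        simp)
      exact congrArg Subtype.val (congrFun (hfpf.coe_eq_inv_of_involutive hinv) ⟨b, hb⟩)
    have ht2 : t * t = 1 := by rw [← sq, ← ht, pow_orderOf_eq_one]
    have hu2 : u * u = 1 := by rw [← sq, ← hu, pow_orderOf_eq_one]
    have htB := hinvB t ht2 htN htfix
    have hutN : u * t ∈ N := mul_mem (hCuN (mem_centralizer_singleton_iff.2 rfl)) htN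
    have hutB := hinvB (u * t) (by rw [mul_assoc, ← mul_assoc t, ← hut.eq, mul_assoc, ht2, mul_one, hu2])
      hutN hutfix
    -- `P` centralises `B`
    set K := (centralizer (B : Set G)).subgroupOf M with hK
    have hcomm : ∀ y ∈ P, ∀ w : G, (∀ b ∈ B, w * b * w⁻¹ = b⁻¹) → w * (y : G) * w⁻¹ = (y : G)⁻¹ → y ∈ K := by
      intro y hy w hw hwy
      refine mem_subgroupOf.2 (mem_centralizer_iff.2 fun b hb => ?_)
      exact (commute_of_inverts hw (hNB (hPN (mem_map_of_mem _ hy))) hwy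
        (by rw [orderOf_injective M.subtype M.subtype_injective y]
            exact hPodd.of_dvd_nat (Subgroup.orderOf_dvd_natCard _ hy)) hb).eq.symm
    have hcore : ∀ (a : G), orderOf a = 2 → ∀ y ∈ P, Commute (y : G) a → (y : G) ∈ coreC a :=
      fun a ha y hy hya => mem_coreC hG h8 hV ha hya
        (by rw [orderOf_coe]; exact hPodd.of_dvd_nat (Subgroup.orderOf_dvd_natCard _ hy))
    have hutne : u * t ≠ t := fun h => Cfsg.Lib.Invol.ne_one hu (mul_eq_right.1 h)
    have huto : orderOf (u * t) = 2 := orderOf_eq_prime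
      (by rw [sq, mul_assoc, ← mul_assoc t, ← hut.eq, mul_assoc, ht2, mul_one, hu2])
      (fun h => hne (by rw [eq_inv_of_mul_eq_one_left h]; exact inv_eq_of_mul_eq_one_right ht2))
    have hPK : P ≤ K := by
      have hPG : Odd (Nat.card (P.map M.subtype)) := by rwa [card_map_of_injective M.subtype_injective]
      have hnorm : ∀ a ∈ M, a ∈ normalizer ((P.map M.subtype : Subgroup G) : Set G) := fun a ha =>
        mem_normalizer_fintype fun z hz => by
          obtain ⟨w, hw, rfl⟩ := hz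
          exact ⟨⟨a, ha⟩ * w * ⟨a, ha⟩⁻¹, Subgroup.Normal.conj_mem inferInstance _ hw _, rfl⟩
      have := le_of_three hG h8 hV ht hu hne hut (P := P.map M.subtype) (K := K.map M.subtype) hPG
        (hnorm t htM) (hnorm u huM) ?_ ?_ ?_
      · exact (map_le_map_iff_of_injective M.subtype_injective).1 this
      · rintro _ ⟨y, hy, rfl⟩ hyt
        refine mem_map_of_mem _ (hcomm y hy (u * t) hutB ?_)
        exact hG.inverts_core hV ht huto hutne (hut.mul_left (Commute.refl t)) (hcore t ht y hy hyt)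
      · rintro _ ⟨y, hy, rfl⟩ hyu
        refine mem_map_of_mem _ (hcomm y hy t htB ?_)
        exact hG.inverts_core hV hu ht (Ne.symm hne) hut.symm (hcore u hu y hy hyu)
      · rintro _ ⟨y, hy, rfl⟩ hyut
        refine mem_map_of_mem _ (hcomm y hy t htB ?_)
        exact hG.inverts_core hV huto ht (Ne.symm hutne) (hut.symm.mul_right (Commute.refl t))
          (hcore _ huto y hy hyut)
    -- so `B` normalises `P`, and lies in `M`
    have hNP : normalizer ((P.map M.subtype : Subgroup G) : Set G) = M := by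
      refine (hM.le_iff.1 (fun a ha => mem_normalizer_fintype fun z hz => by
        obtain ⟨w, hw, rfl⟩ := hz
        exact ⟨⟨a, ha⟩ * w * ⟨a, ha⟩⁻¹, Subgroup.Normal.conj_mem inferInstance _ hw _, rfl⟩)).resolve_left
        fun h => ?_
      rw [normalizer_eq_top_iff] at h
      rcases IsSimpleGroup.eq_bot_or_eq_top_of_normal _ h with h' | h'
      · exact hr ((map_eq_bot_iff_of_injective _ M.subtype_injective).1 h')
      · exact hM.1 (eq_top_iff.2 (h' ▸ map_subtype_le _))
    refine le_bot_iff.1 (le_trans (le_inf le_rfl ?_) hBM.le)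
    rw [← hNP]
    refine le_trans (fun b hb => ?_) (centralizer_le_normalizer _)
    refine mem_centralizer_iff.2 ?_
    rintro _ ⟨y, hy, rfl⟩
    exact ((mem_centralizer_iff.1 (mem_subgroupOf.1 (hPK hy))) b hb).symm
  have hgfN := Cfsg.Lib.Core.generalizedFitting_eq_fitting_of_layer_eq_bot hstrN.1
  have hgfM := Cfsg.Lib.Core.generalizedFitting_eq_fitting_of_layer_eq_bot hstr.1
  have hNM : Cfsg.leadsTo N M :=
    ⟨(Cfsg.fittingSubgroup N).map N.subtype,
      fun h => hstrN.2.2 ((map_eq_bot_iff_of_injective _ N.subtype_injective).1 h), le_rfl,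
      inf_le_left.trans (by rw [hgfN]; exact hFN)⟩
  rcases Cfsg.Agent.S1857.result hG.nonab hKP M N hM hN' hMN hNM with h | ⟨l, hl, hp, -⟩
  · exact hne' h
  haveI : Fact l.Prime := ⟨hl⟩
  rw [hgfM] at hp
  obtain ⟨k, hk⟩ := hp.exists_card_eq
  have h1 := dvd_card_fitting hqne
  have h2 := dvd_card_fitting hr
  rw [hk] at h1 h2
  exact hqr (((Nat.prime_dvd_prime_iff_eq Fact.out hl).1 (Nat.Prime.dvd_of_dvd_pow Fact.out h2)).trans
    ((Nat.prime_dvd_prime_iff_eq Fact.out hl).1 (Nat.Prime.dvd_of_dvd_pow Fact.out h1)).symm)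

/-- The case of a `p`-group `F(M)`: `M` controls `p`-fusion. -/
theorem false_of_prime_power {t : G} (ht : orderOf t = 2) (M : Subgroup G) (hM : IsCoatom M)
    (hCM : centralizer ({t} : Set G) ≤ M) {u : G} (hu : orderOf u = 2) (hut : Commute u t)
    (hnf : ∀ m ∈ M, m * t * m⁻¹ ≠ u) {q : ℕ} [Fact q.Prime] (hq : q ≠ 2)
    (hc : centralizer (Cfsg.pCore q M : Set M) ≤ Cfsg.pCore q M) {x : M}
    (hx : x ∈ Cfsg.pCore q M) (hx1 : x ≠ 1) (hxu : Commute (x : G) u) : False := by
  haveI := hG.isSimple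
  haveI : Fact (Nat.Prime 2) := ⟨Nat.prime_two⟩
  obtain ⟨P₀⟩ : Nonempty (Sylow q M) := inferInstance
  have hZn := Cfsg.Agent.S0664.result hq (qd_free (hG.twoCycDih.subgroup M) hq) hc P₀
  set P' : Subgroup G := (P₀ : Subgroup M).map M.subtype with hP'
  set Z := Cfsg.centerThompsonAOf P' with hZ
  have hZmap : Z = (Cfsg.centerThompsonAOf (P₀ : Subgroup M)).map M.subtype := by
    rw [hZ, hP', Cfsg.Lib.Local.GlaubermanZJ.map_centerThompsonAOf' M.subtype _ M.subtype_injective.injOn]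
  have hxP : (x : G) ∈ P' := mem_map_of_mem _ (Cfsg.Lib.Core.pCore_le_sylow P₀ hx)
  have hP'ne : P' ≠ ⊥ := fun h => hx1 (Subtype.ext (mem_bot.1 (h ▸ hxP)))
  have hZne : Z ≠ ⊥ := Cfsg.Lib.Local.GlaubermanZJ.centerThompsonAOf_ne_bot (P₀.2.map _) hP'ne
  have hZM : normalizer (Z : Set G) = M := by
    refine (hM.le_iff.1 (fun a ha => mem_normalizer_fintype fun z hz => by
      rw [SetLike.mem_coe, hZmap] at hz ⊢
      obtain ⟨w, hw, rfl⟩ := hz
      exact ⟨⟨a, ha⟩ * w * ⟨a, ha⟩⁻¹, hZn.conj_mem _ hw _, rfl⟩)).resolve_left fun h => ?_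
    rw [normalizer_eq_top_iff] at h
    rcases IsSimpleGroup.eq_bot_or_eq_top_of_normal Z h with h' | h'
    · exact hZne h'
    · exact hM.1 (eq_top_iff.2 (h' ▸ hZmap.le.trans (map_subtype_le _)))
  -- a Sylow subgroup of `G`
  obtain ⟨P, hP⟩ := (P₀.2.map M.subtype).exists_le_sylow
  have hPeq : (P : Subgroup G) = P' := by
    refine le_antisymm ?_ hP
    by_contra hlt
    haveI : Group.IsNilpotent (P : Subgroup G) := P.2.isNilpotent
    have hlt' : P'.subgroupOf (P : Subgroup G) < ⊤ := lt_top_iff_ne_top.2 fun h =>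
      hlt (subgroupOf_eq_top.1 h)
    obtain ⟨y, hy, hyP⟩ := SetLike.exists_of_lt (Group.normalizerCondition_of_isNilpotent _ hlt')
    have hyn : (y : G) ∈ normalizer (P' : Set G) := mem_normalizer_fintype fun z hz =>
      (mem_normalizer_iff.1 hy ⟨z, hP hz⟩).1 hz
    have hyM : (y : G) ∈ M := by
      rw [← hZM, hZ]
      refine mem_normalizer_fintype fun z hz => ?_
      have hinj : Set.InjOn (MulAut.conj (y : G)).toMonoidHom P' := (MulAut.conj (y : G)).injective.injOn
      have h := Cfsg.Lib.Local.GlaubermanZJ.map_centerThompsonAOf' (MulAut.conj (y : G)).toMonoidHom P' hinj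
      have hmapP : P'.map (MulAut.conj (y : G)).toMonoidHom = P' :=
        eq_of_le_of_card_ge (by rintro _ ⟨w, hw, rfl⟩; exact (mem_normalizer_iff.1 hyn w).1 hw)
          (le_of_eq (card_map_of_injective (MulAut.conj (y : G)).injective).symm)
      rw [hmapP] at h
      exact h.le (mem_map_of_mem _ hz)
    refine hyP (mem_subgroupOf.2 ?_)
    have hsup : IsPGroup q ((P₀ : Subgroup M) ⊔ zpowers (⟨y, hyM⟩ : M) : Subgroup M) := by
      refine ((P.2.comap_of_injective M.subtype M.subtype_injective).to_le (sup_le ?_ ?_))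
      · exact fun w hw => hP (mem_map_of_mem _ hw)
      · exact zpowers_le.2 y.2
    exact ⟨⟨y, hyM⟩, (P₀.3 hsup le_sup_left) ▸ mem_sup_right (mem_zpowers _), rfl⟩
  obtain ⟨g, hg⟩ := isConj_iff.1 (hG.oneClass t u ht hu)
  have hxo : Odd (orderOf (x : G)) := by
    obtain ⟨k, hk⟩ := IsPGroup.iff_orderOf.1 (Cfsg.Lib.Core.pCore_isPGroup q M) ⟨x, hx⟩
    rw [orderOf_mk] at hk
    rw [orderOf_coe, hk]
    exact ((Fact.out : q.Prime).odd_of_ne_two hq).pow
  set y := g⁻¹ * (x : G) * g with hy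
  have hyo : orderOf y = orderOf (x : G) := by
    have h := (MulAut.conj g⁻¹).orderOf_eq (x : G)
    simpa [hy] using h
  have hyt : Commute y t := by
    have h1 := hxu.map (MulAut.conj g⁻¹).toMonoidHom
    rw [← hg] at h1
    simpa [hy, mul_assoc] using h1
  have hyM : y ∈ M := hCM (coreC_le t (mem_coreC hG h8 hV ht hyt (hyo ▸ hxo)))
  obtain ⟨k, hk⟩ := (Cfsg.Lib.Core.pCore_isPGroup q M) ⟨x, hx⟩
  have hyp : IsPGroup q (zpowers (⟨y, hyM⟩ : M)) := by
    refine IsPGroup.of_card (n := (orderOf (x : G)).factorization q) ?_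
    rw [Nat.card_zpowers, ← orderOf_coe]
    show orderOf y = _
    obtain ⟨i, -, hi⟩ := (Nat.dvd_prime_pow (Fact.out : q.Prime)).1
      (orderOf_dvd_of_pow_eq_one (x := (x : G)) (congrArg (fun w : Cfsg.pCore q M => ((w : M) : G)) hk))
    rw [hyo, hi, Nat.Prime.factorization_pow Fact.out]
    simp
  obtain ⟨R, hR⟩ := hyp.exists_le_sylow
  obtain ⟨m₀, hm₀⟩ := MulAction.exists_smul_eq M R P₀
  have hy' : (m₀ : G) * y * (m₀ : G)⁻¹ ∈ (P : Subgroup G) := by
    rw [hPeq]
    refine ⟨m₀ * ⟨y, hyM⟩ * m₀⁻¹, ?_, rfl⟩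
    rw [← hm₀]
    exact ⟨_, hR (mem_zpowers _), rfl⟩
  have hctl := (Cfsg.Agent.S3081.result hq P (P : Subgroup G) ⟨le_rfl, fun _ _ _ h => h⟩
    (fun hi => by
      obtain ⟨K, R', hR', ⟨e⟩⟩ := hi
      exact qd_free hG.twoCycDih hq ⟨K, R', hR', ⟨e⟩⟩)).1 {(x : G)}
    (Set.singleton_subset_iff.2 (hPeq ▸ hxP))
  obtain ⟨n, hn, heq⟩ := hctl.2 ((m₀ : G) * g⁻¹) (by
    rintro _ ⟨a, rfl, rfl⟩
    show _ ∈ (P : Subgroup G)
    simpa [hy, mul_assoc, SetLike.mem_coe] using hy')
  rw [hPeq, ← hZ, hZM] at hn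
  set m := n⁻¹ * (m₀ : G) with hm
  have hmM : m ∈ M := mul_mem (inv_mem hn) m₀.2
  have hxm : (x : G) = m * y * m⁻¹ := by
    calc (x : G) = n⁻¹ * (n * (x : G) * n⁻¹) * n := by group
      _ = n⁻¹ * ((m₀ : G) * g⁻¹ * (x : G) * ((m₀ : G) * g⁻¹)⁻¹) * n := by rw [← heq (x : G) rfl]
      _ = _ := by rw [hm, hy]; group
  set w := m * t * m⁻¹ with hw
  have hwo : orderOf w = 2 := ((MulAut.conj m).orderOf_eq t).trans ht
  have hxw : Commute (x : G) w := by
    rw [hxm, hw]
    exact hyt.map (MulAut.conj m).toMonoidHom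
  -- two involutions centralising `x` are conjugate in `M`
  set H := centralizer ({(x : G)} : Set G) ⊓ M with hH
  have htM : t ∈ M := hCM (mem_centralizer_singleton_iff.2 rfl)
  have huH : u ∈ H := Subgroup.mem_inf.2 ⟨mem_centralizer_singleton_iff.2 hxu.symm.eq, hCM (mem_centralizer_singleton_iff.2 hut.eq)⟩
  have hwH : w ∈ H := Subgroup.mem_inf.2 ⟨mem_centralizer_singleton_iff.2 hxw.symm.eq, mul_mem (mul_mem hmM htM) (inv_mem hmM)⟩
  have huniq : ∀ (R : Sylow 2 H) (a b : H), a ∈ (R : Subgroup H) → b ∈ (R : Subgroup H) →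
      orderOf a = 2 → orderOf b = 2 → a = b := by
    intro R a b haR hbR ha hb
    haveI : Nontrivial (R : Subgroup H) :=
      ⟨⟨a, haR⟩, 1, fun h => Cfsg.Lib.Invol.ne_one ha (congrArg Subtype.val h)⟩
    haveI := R.2.center_nontrivial
    obtain ⟨c, hc⟩ := exists_prime_orderOf_dvd_card' (G := center (R : Subgroup H)) 2 (by
      obtain ⟨k, hk⟩ := (R.2.to_subgroup (center (R : Subgroup H))).exists_card_eq
      have h1 : 1 < Nat.card (center (R : Subgroup H)) := Finite.one_lt_card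
      rcases k with _ | k
      · omega
      · exact hk ▸ dvd_pow_self 2 k.succ_ne_zero)
    have hxH : ∀ z : H, Commute (z : G) (x : G) := fun z => mem_centralizer_singleton_iff.1 z.2.1
    have key : ∀ d : H, d ∈ (R : Subgroup H) → orderOf d = 2 →
        ((d : H) : G) = (((c : (R : Subgroup H)) : H) : G) := by
      intro d hd hdo
      refine eq_of_commute_odd hG h8 hV (by rw [orderOf_coe]; exact hdo)
        (by rw [orderOf_coe, orderOf_coe, orderOf_coe]; exact hc) ?_ (hxH _) (hxH _) hxo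
        (fun h => hx1 (Subtype.ext h))
      exact congrArg (fun z : (R : Subgroup H) => ((z : H) : G)) (mem_center_iff.1 c.2 ⟨d, hd⟩)
    exact Subtype.ext ((key a haR ha).trans (key b hbR hb).symm)
  have hp2 : ∀ a : H, orderOf a = 2 → ∃ R : Sylow 2 H, a ∈ (R : Subgroup H) := by
    intro a ha
    obtain ⟨R, hR⟩ := (IsPGroup.of_card (n := 1) (p := 2) (G := zpowers a)
      (by rw [Nat.card_zpowers, ha, pow_one])).exists_le_sylow
    exact ⟨R, hR (mem_zpowers a)⟩
  have huo' : orderOf (⟨u, huH⟩ : H) = 2 := by rw [← orderOf_coe]; exact hu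
  have hwo' : orderOf (⟨w, hwH⟩ : H) = 2 := by rw [← orderOf_coe]; exact hwo
  obtain ⟨R₁, hR₁⟩ := hp2 _ hwo'
  obtain ⟨R₂, hR₂⟩ := hp2 _ huo'
  obtain ⟨a, ha⟩ := MulAction.exists_smul_eq H R₁ R₂
  have hconj : a * ⟨w, hwH⟩ * a⁻¹ = (⟨u, huH⟩ : H) := huniq R₂ _ _
    (by rw [← ha]; exact ⟨_, hR₁, rfl⟩) hR₂ (((MulAut.conj a).orderOf_eq _).trans hwo') huo'
  refine hnf ((a : G) * m) (mul_mem a.2.2 hmM) ?_
  have := congrArg Subtype.val hconj
  simp only [Subgroup.coe_mul, InvMemClass.coe_inv] at this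
  rw [← this, hw]
  group

/-- Hypothesis (c) of Brauer–Suzuki–Wall. -/
theorem normalizer_le_of_coreC {t : G} (ht : orderOf t = 2) {Y : Subgroup G} (hY : Y ≤ coreC t)
    (hY1 : Y ≠ ⊥) : normalizer (Y : Set G) ≤ centralizer ({t} : Set G) := by
  haveI := hG.isSimple
  by_contra hnle
  obtain ⟨g, hg, hgt⟩ := SetLike.not_le_iff_exists.1 hnle
  have hYtop : normalizer (Y : Set G) ≠ ⊤ := by
    intro h
    rw [normalizer_eq_top_iff] at h
    rcases IsSimpleGroup.eq_bot_or_eq_top_of_normal Y h with h' | h'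
    · exact hY1 h'
    · exact hgt (coreC_le t (hY (h' ▸ mem_top g)))
  obtain ⟨M, hM, hYM⟩ := (eq_top_or_exists_le_coatom (normalizer (Y : Set G))).resolve_left hYtop
  have hCM := (le_normalizer_of_le_coreC hG h8 hV ht hY).trans hYM
  have hstr := max_structure hG h8 hV ht M hM.1 hCM hY hY1 (hYM hg) hg hgt
  obtain ⟨u, hu, hut, hnf⟩ := exists_unfused hG h8 hN hV ht M hCM hM.1
  have hne : u ≠ t := fun h => hnf 1 (one_mem _) (by simp [h])
  have hCF := Cfsg.Lib.Core.centralizer_fitting_le_iff_layer_eq_bot.2 hstr.1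
  have htM : t ∈ M := hCM (mem_centralizer_singleton_iff.2 rfl)
  have huM : u ∈ M := hCM (mem_centralizer_singleton_iff.2 hut.eq)
  obtain ⟨s, hst, hsu⟩ := exists_swap hG h8 hV ht hu hne hut
  have hsM : s ∈ M := hCM (mem_centralizer_singleton_iff.2 hst.eq)
  -- some `O_q(M)` meets the centralizer of `u`
  obtain ⟨q, hq, x, hx, hx1, hxu⟩ : ∃ q : ℕ, q.Prime ∧ ∃ x ∈ Cfsg.pCore q M, x ≠ 1 ∧ Commute (x : G) u := by
    by_contra hno
    push Not at hno
    set T : M := ⟨t, htM⟩ with hT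
    have hFt : Cfsg.fittingSubgroup M ≤ centralizer ({T} : Set M) := by
      rw [Cfsg.Lib.Core.fittingSubgroup_eq_iSup_pCore, iSup_le_iff]
      rintro ⟨l, hl⟩
      haveI : Fact l.Prime := ⟨hl⟩
      have hle : Cfsg.pCore l M ≤ Cfsg.fittingSubgroup M :=
        Cfsg.Lib.Core.le_fittingSubgroup' inferInstance (Cfsg.Lib.Core.pCore_isPGroup l M).isNilpotent
      have hodd : Odd (Nat.card ((Cfsg.pCore l M).map M.subtype)) := by
        rw [card_map_of_injective M.subtype_injective]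
        exact hstr.2.1.of_dvd_nat (card_dvd_of_le hle)
      have hnorm : ∀ a ∈ M, a ∈ normalizer (((Cfsg.pCore l M).map M.subtype : Subgroup G) : Set G) :=
        fun a ha => mem_normalizer_fintype fun z hz => by
          obtain ⟨w, hw, rfl⟩ := hz
          exact ⟨⟨a, ha⟩ * w * ⟨a, ha⟩⁻¹, Subgroup.Normal.conj_mem inferInstance _ hw _, rfl⟩
      have h := le_of_three hG h8 hV ht hu hne hut (P := (Cfsg.pCore l M).map M.subtype)
        (K := (centralizer ({T} : Set M)).map M.subtype) hodd (hnorm t htM) (hnorm u huM) ?_ ?_ ?_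
      · exact (map_le_map_iff_of_injective M.subtype_injective).1 h
      · rintro _ ⟨y, hy, rfl⟩ hyt
        exact mem_map_of_mem _ (mem_centralizer_singleton_iff.2 (Subtype.ext hyt.eq))
      · rintro _ ⟨y, hy, rfl⟩ hyu
        have : y = 1 := by_contra fun h => hno l hl y hy h hyu
        subst this
        exact mem_map_of_mem _ (one_mem _)
      · rintro _ ⟨y, hy, rfl⟩ hyut
        have : y = 1 := by
          by_contra h
          refine hno l hl (⟨s, hsM⟩⁻¹ * y * ⟨s, hsM⟩) (Subgroup.Normal.conj_mem' inferInstance y hy _)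
            (fun h' => h ?_) ?_
          · calc y = (⟨s, hsM⟩ : M) * ((⟨s, hsM⟩ : M)⁻¹ * y * ⟨s, hsM⟩) * (⟨s, hsM⟩ : M)⁻¹ := by group
              _ = 1 := by rw [h', mul_one, mul_inv_cancel]
          rw [← hsu] at hyut
          have h3 := hyut.map (MulAut.conj s⁻¹).toMonoidHom
          simpa [mul_assoc] using h3
        subst this
        exact mem_map_of_mem _ (one_mem _)
    have hTF : T ∈ Cfsg.fittingSubgroup M := hCF (mem_centralizer_iff.2 fun y hy =>
      mem_centralizer_singleton_iff.1 (hFt hy))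
    have h2 : Odd (orderOf T) := hstr.2.1.of_dvd_nat (Subgroup.orderOf_dvd_natCard _ hTF)
    rw [show orderOf T = 2 by rw [← orderOf_coe]; exact ht] at h2
    exact absurd h2 (by decide)
  haveI : Fact q.Prime := ⟨hq⟩
  have hqne : Cfsg.pCore q M ≠ ⊥ := fun h => hx1 (mem_bot.1 (h ▸ hx))
  by_cases hone : ∀ r : ℕ, r.Prime → r ≠ q → Cfsg.pCore r M = ⊥
  · have hF : Cfsg.fittingSubgroup M = Cfsg.pCore q M := by
      refine le_antisymm ?_ (Cfsg.Lib.Core.le_fittingSubgroup' inferInstance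
        (Cfsg.Lib.Core.pCore_isPGroup q M).isNilpotent)
      rw [Cfsg.Lib.Core.fittingSubgroup_eq_iSup_pCore, iSup_le_iff]
      rintro ⟨l, hl⟩
      by_cases h : l = q
      · subst h; exact le_rfl
      · rw [hone l hl h]; exact bot_le
    refine false_of_prime_power hG h8 hN hV ht M hM hCM hu hut hnf ?_ (hF ▸ hCF) hx hx1 hxu
    intro h
    have h1 := dvd_card_fitting hqne
    rw [h] at h1
    exact (Nat.not_even_iff_odd.2 hstr.2.1) (even_iff_two_dvd.2 h1)
  · push Not at hone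
    obtain ⟨r, hr, hrq, hrne⟩ := hone
    haveI : Fact r.Prime := ⟨hr⟩
    exact false_of_two_primes hG h8 hN hV ht M hM hCM hstr hu hut hnf hrq hx hx1 hxu hrne

omit hG h8 hN hV in
/-- Case One of the theorem of Gorenstein and Walter. -/
theorem caseOne : CaseOne.{u} := fun _ _ _ hG h8 hN hV =>
  hG.isGW_of_normalizer_le hV fun _ ht _ hY hY1 => normalizer_le_of_coreC hG h8 hN hV ht hY hY1

end Cfsg.Lib.GW
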