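import Cfsg.Agent.Lib.GW.CaseOneBase
import Cfsg.Agent.Lib.GW.AlmostSimple
import Cfsg.Agent.Lib.GW.Shape

/-!
# Case One: maximal overgroups

A maximal subgroup containing `C(t)` and an element outside `C(t)` normalising a nontrivial subgroup
of `O(C(t))` has Fitting subgroup of odd order containing its own centralizer.
-/

set_option autoImplicit false
set_option linter.style.haveILetI false
set_option linter.unusedSectionVars false

namespace Cfsg.Lib.GW

open Subgroup

universe u

variable {G : Type u} [Group G] [Finite G]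
variable (hG : GWMin G) (h8 : 8 ∣ Nat.card G) (hV : KleinSelfCentralizing G)
include hG h8 hV

theorem kleinSelfCentralizing_subgroup (M : Subgroup G) : KleinSelfCentralizing M := by
  intro V hVK x hx
  haveI := hVK
  have hK : IsKleinFour (V.map M.subtype) := by
    let e := V.equivMapOfInjective M.subtype M.subtype_injective
    exact ⟨(Nat.card_congr e.toEquiv).symm.trans IsKleinFour.card_four,
      (Monoid.exponent_eq_of_mulEquiv e).symm.trans IsKleinFour.exponent_two⟩
  have h1 : (x : G) ∈ V.map M.subtype := hV _ hK (mem_centralizer_iff.2 (by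
    rintro _ ⟨v, hv, rfl⟩
    exact congrArg Subtype.val (mem_centralizer_iff.1 hx v hv)))
  obtain ⟨v, hv, hvx⟩ := h1
  rwa [show x = v from Subtype.ext hvx.symm]

/-- In a subgroup containing `C(t)` but not contained in it, with `O(C(t)) ≠ 1`, there is no nontrivial
normal 2-subgroup. -/
theorem pCore_two_eq_bot {t : G} (ht : orderOf t = 2) (M : Subgroup G)
    (hCM : centralizer ({t} : Set G) ≤ M) (hne : ¬ M ≤ centralizer ({t} : Set G)) (hU : coreC t ≠ ⊥) :
    Cfsg.pCore 2 M = ⊥ := by
  haveI : Fact (Nat.Prime 2) := ⟨Nat.prime_two⟩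
  by_contra hQ
  set Q := Cfsg.pCore 2 M with hQdef
  obtain ⟨S, htS, htZ⟩ := hG.exists_sylow_central ht
  have hSM : (S : Subgroup G) ≤ M := fun x hx => hCM (mem_centralizer_singleton_iff.2 (htZ x hx))
  have hQS : Q.map M.subtype ≤ (S : Subgroup G) := by
    refine le_trans (map_mono (Cfsg.Lib.Core.pCore_le_sylow (S.subtype hSM))) ?_
    rintro _ ⟨x, hx, rfl⟩
    exact hx
  have hQC : ∀ x ∈ Q, Commute (x : G) t := fun x hx => htZ _ (hQS (mem_map_of_mem _ hx))
  -- `Q` centralises `O(C(t))`
  have hQU : ∀ x ∈ Q, ∀ y ∈ coreC t, Commute (x : G) y := by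
    intro x hx y hy
    have hyM : y ∈ M := hCM (coreC_le t hy)
    have h1 : (x : G) * y * (x : G)⁻¹ * y⁻¹ ∈ Q.map M.subtype := by
      refine ⟨x * ⟨y, hyM⟩ * x⁻¹ * ⟨y, hyM⟩⁻¹, ?_, rfl⟩
      rw [show x * ⟨y, hyM⟩ * x⁻¹ * ⟨y, hyM⟩⁻¹ = x * (⟨y, hyM⟩ * x⁻¹ * (⟨y, hyM⟩ : M)⁻¹) by group]
      exact mul_mem hx (Subgroup.Normal.conj_mem inferInstance _ (inv_mem hx) _)
    have h2 : (x : G) * y * (x : G)⁻¹ * y⁻¹ ∈ coreC t := by
      refine mul_mem ?_ (inv_mem hy)
      exact (mem_normalizer_iff.1 (le_normalizer_of_le_coreC hG h8 hV ht le_rfl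
        (mem_centralizer_singleton_iff.2 (hQC x hx))) y).1 hy
    obtain ⟨k, hk⟩ := ((Cfsg.Lib.Core.pCore_isPGroup 2 M).map M.subtype) ⟨_, h1⟩
    have h3 : (x : G) * y * (x : G)⁻¹ * y⁻¹ = 1 := by
      refine orderOf_eq_one_iff.1 (Nat.Coprime.eq_one_of_dvd
        ((Nat.coprime_two_right.2 ((odd_card_coreC t).of_dvd_nat
          (Subgroup.orderOf_dvd_natCard _ h2))).pow_right k) ?_)
      exact orderOf_dvd_of_pow_eq_one (congrArg Subtype.val hk)
    exact mul_inv_eq_iff_eq_mul.1 (mul_inv_eq_one.1 h3)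
  -- so its only involution is `t`
  obtain ⟨y, hy, hy1⟩ := (bot_or_exists_ne_one _).resolve_left hU
  have honly : ∀ z ∈ Q, orderOf (z : G) = 2 → (z : G) = t := by
    intro z hz ho
    by_contra hzt
    refine hy1 (eq_one_of_fixed_inverted_conj ((odd_card_coreC t).of_dvd_nat (Subgroup.orderOf_dvd_natCard _ hy))
      (conj_of_commute (hQU z hz y hy)) (hG.inverts_core hV ht ho hzt (hQC z hz) hy))
  obtain ⟨x, hx, hx1⟩ := (bot_or_exists_ne_one Q).resolve_left hQ
  obtain ⟨k, hk⟩ := IsPGroup.iff_orderOf.1 (Cfsg.Lib.Core.pCore_isPGroup 2 M) ⟨x, hx⟩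
  rw [← orderOf_coe] at hk
  obtain ⟨i, hi⟩ := exists_involution_of_mem x hk hx1
  have hit : ((x ^ i : M) : G) = t := honly _ (pow_mem hx i) (by rw [orderOf_coe]; exact hi)
  refine hne fun g hg => mem_centralizer_singleton_iff.2 ?_
  have h4 : g * t * g⁻¹ = t := by
    have h := honly (⟨g, hg⟩ * x ^ i * ⟨g, hg⟩⁻¹) (Subgroup.Normal.conj_mem inferInstance _ (pow_mem hx i) _)
      (by rw [orderOf_coe]; exact ((MulAut.conj (⟨g, hg⟩ : M)).orderOf_eq (x ^ i)).trans hi)
    simpa [← hit] using h
  exact mul_inv_eq_iff_eq_mul.1 h4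

/-- The structure of the maximal subgroup. -/
theorem max_structure {t : G} (ht : orderOf t = 2) (M : Subgroup G) (hMtop : M ≠ ⊤)
    (hCM : centralizer ({t} : Set G) ≤ M) {Y : Subgroup G} (hY : Y ≤ coreC t) (hY1 : Y ≠ ⊥)
    {g : G} (hgM : g ∈ M) (hgY : g ∈ normalizer (Y : Set G)) (hgt : g ∉ centralizer ({t} : Set G)) :
    Cfsg.layer M = ⊥ ∧ Odd (Nat.card (Cfsg.fittingSubgroup M)) ∧ Cfsg.fittingSubgroup M ≠ ⊥ := by
  haveI : Fact (Nat.Prime 2) := ⟨Nat.prime_two⟩
  have hU : coreC t ≠ ⊥ := fun h => hY1 (le_bot_iff.1 (h ▸ hY))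
  have hQ := pCore_two_eq_bot hG h8 hV ht M hCM (fun h => hgt (h hgM)) hU
  have hodd : Odd (Nat.card (Cfsg.fittingSubgroup M)) := by
    haveI := Cfsg.Lib.Core.fittingSubgroup_isNilpotent M
    rw [← Nat.coprime_two_left, Nat.prime_two.coprime_iff_not_dvd]
    intro h2
    obtain ⟨R⟩ : Nonempty (Sylow 2 (Cfsg.fittingSubgroup M)) := inferInstance
    have hRn : (R : Subgroup (Cfsg.fittingSubgroup M)).Normal :=
      Sylow.normal_of_normalizerCondition Group.normalizerCondition_of_isNilpotent R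
    haveI := R.characteristic_of_normal hRn
    haveI := Cfsg.Lib.Core.fittingSubgroup_normal' M
    have hle := Cfsg.Lib.Core.le_pCore' (p := 2)
      (Cfsg.Lib.Core.normal_map_char_of_normal (R : Subgroup (Cfsg.fittingSubgroup M))) (R.2.map _)
    rw [hQ, le_bot_iff, map_eq_bot_iff_of_injective _ (Cfsg.fittingSubgroup M).subtype_injective] at hle
    exact R.ne_bot_of_dvd_card h2 hle
  have hlayer : Cfsg.layer M = ⊥ := by
    by_contra hE
    obtain ⟨L, hL⟩ : ∃ L : Subgroup M, Cfsg.IsComponent L := by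
      by_contra hc
      push Not at hc
      exact hE (Cfsg.Lib.Core.layer_eq_bot_iff.2 hc)
    have hD := hG.twoCycDih.subgroup M
    haveI hLn : L.Normal := Cfsg.Lib.Core.normal_iff_map_conj.2 fun g =>
      component_unique hD (Cfsg.Lib.Core.IsComponent.map_conj hL g) hL
    have hLns := Cfsg.Lib.Core.quasisimple_not_solvable hL.2
    -- the centre of `L` is trivial
    have hZ : center L = ⊥ := by
      obtain ⟨R⟩ : Nonempty (Sylow 2 L) := inferInstance
      obtain ⟨n, hn, ⟨e⟩⟩ := sylowDihedral_of_not_solvable (hD.subgroup L) hLns R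
      rw [eq_bot_iff]
      intro z hz
      rw [mem_bot]
      have hzodd : ∀ w ∈ center L, orderOf w ≠ 2 := fun w hw ho =>
        hLns (isSolvable_of_complement (complement_of_central (hD.subgroup L) ho hw))
      haveI : Fact (1 < n) := ⟨by omega⟩
      haveI : NeZero n := ⟨by omega⟩
      -- two commuting involutions of `L`
      have h4 : 4 ∣ Nat.card (R : Subgroup L) := by
        rw [Nat.card_congr e.toEquiv, DihedralGroup.nat_card]
        obtain ⟨k, hk⟩ := R.2.exists_card_eq
        rw [Nat.card_congr e.toEquiv, DihedralGroup.nat_card] at hk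
        rcases k with _ | _ | k
        · omega
        · omega
        · exact ⟨2 ^ k, by rw [hk]; ring⟩
      haveI : Nontrivial (R : Subgroup L) :=
        Finite.one_lt_card_iff_nontrivial.1 (lt_of_lt_of_le (by norm_num) (Nat.le_of_dvd Nat.card_pos h4))
      haveI := R.2.center_nontrivial
      obtain ⟨c, hc⟩ := exists_prime_orderOf_dvd_card' (G := center (R : Subgroup L)) 2 (by
        obtain ⟨k, hk⟩ := (R.2.to_subgroup (center (R : Subgroup L))).exists_card_eq
        have h1 : 1 < Nat.card (center (R : Subgroup L)) := Finite.one_lt_card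
        rcases k with _ | k
        · omega
        · exact hk ▸ dvd_pow_self 2 k.succ_ne_zero)
      obtain ⟨d, hd, hdc⟩ : ∃ d : (R : Subgroup L), orderOf d = 2 ∧ d ≠ (c : (R : Subgroup L)) := by
        by_contra hno
        push Not at hno
        have h0 : ∀ j : ZMod n, e.symm (DihedralGroup.sr j) = (c : (R : Subgroup L)) := fun j =>
          hno _ (by rw [MulEquiv.orderOf_eq, DihedralGroup.orderOf_sr])
        exact zero_ne_one (DihedralGroup.sr.inj (e.symm.injective ((h0 0).trans (h0 1).symm)))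
      set a : G := ((((c : (R : Subgroup L)) : L) : M) : G) with ha
      set b : G := (((d : L) : M) : G) with hb
      have hao : orderOf a = 2 := by rw [ha, orderOf_coe, orderOf_coe, orderOf_coe, orderOf_coe, hc]
      have hbo : orderOf b = 2 := by rw [hb, orderOf_coe, orderOf_coe, orderOf_coe, hd]
      have hab : Commute b a := congrArg (fun w : (R : Subgroup L) => (((w : L) : M) : G)) (mem_center_iff.1 c.2 d)
      obtain ⟨V, hVK, hbV, haV, -⟩ := Cfsg.Agent.S1255.exists_four
        (by rw [← sq, ← hbo, pow_orderOf_eq_one]) (by rw [← sq, ← hao, pow_orderOf_eq_one])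
        (Cfsg.Lib.Invol.ne_one hbo) (Cfsg.Lib.Invol.ne_one hao)
        (fun h => hdc (Subtype.ext (Subtype.ext (Subtype.ext h)))) hab.eq
      haveI := hVK
      have hzV : ((z : M) : G) ∈ V := hV V hVK (mem_centralizer_iff.2 fun w hw => by
        have hzc : ∀ l : L, Commute ((l : M) : G) ((z : M) : G) := fun l =>
          congrArg (fun w : L => ((w : M) : G)) (mem_center_iff.1 hz l)
        by_cases hw1 : w = 1
        · simp [hw1]
        rcases Cfsg.Lib.Invol.klein_mem_cases hbV haV (Cfsg.Lib.Invol.ne_one hbo) (Cfsg.Lib.Invol.ne_one hao)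
          (fun h => hdc (Subtype.ext (Subtype.ext (Subtype.ext h)))) hw hw1 with rfl | rfl | rfl
        · exact (hzc _).eq
        · exact (hzc _).eq
        · exact ((hzc _).mul_left (hzc _)).eq)
      by_contra hz1
      refine hzodd z hz (orderOf_eq_prime ?_ hz1)
      rw [sq]
      exact Subtype.ext (Subtype.ext (Cfsg.Lib.Invol.klein_mul_self hzV))
    haveI hLs : IsSimpleGroup L :=
      haveI := hL.2.2
      ((QuotientGroup.quotientMulEquivOfEq hZ).trans QuotientGroup.quotientBot).symm.isSimpleGroup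
    have hna : ¬ IsMulCommutative L := fun h => hLns (Cfsg.Lib.Core.isSolvable_of_isMulCommutative _)
    have hgw : IsGW L := by
      refine hG.below L hna (sylowDihedral_of_not_solvable (hD.subgroup L) (not_isSolvable_of_simple hna)) ?_
      exact lt_of_le_of_lt (card_le_card_group L) (Cfsg.Lib.Core.lt_card_of_ne_top hMtop)
    obtain ⟨S, htS, htZ⟩ := hG.exists_sylow_central ht
    have hSM : (S : Subgroup G) ≤ M := fun x hx => hCM (mem_centralizer_singleton_iff.2 (htZ x hx))
    have hYM : Y ≤ M := hY.trans ((coreC_le t).trans hCM)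
    have h := almostSimple_normalizer_le (kleinSelfCentralizing_subgroup hG h8 hV M) L hgw
      (t := ⟨t, hCM (mem_centralizer_singleton_iff.2 rfl)⟩) (by rw [← orderOf_coe]; exact ht)
      (S.subtype hSM) (fun s hs => Subtype.ext (htZ _ hs)) (Y.subgroupOf M)
      (fun y hy => mem_centralizer_singleton_iff.2 (Subtype.ext (commute_of_mem_coreC (hY hy)).eq))
      (by rw [Nat.card_congr (subgroupOfEquivOfLe hYM).toEquiv]
          exact (odd_card_coreC t).of_dvd_nat (card_dvd_of_le hY))
      (fun h => hY1 ((subgroupOf_eq_bot.1 h).eq_bot_of_le hYM))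
      (show (⟨g, hgM⟩ : M) ∈ normalizer ((Y.subgroupOf M : Subgroup M) : Set M) from
        mem_normalizer_iff.2 fun y => (mem_normalizer_iff.1 hgY y))
    exact hgt (mem_centralizer_singleton_iff.2 (congrArg Subtype.val (mem_centralizer_singleton_iff.1 h)))
  refine ⟨hlayer, hodd, fun hF => ?_⟩
  haveI : Nontrivial M := ⟨⟨⟨g, hgM⟩, 1, fun h => hgt (by rw [show g = 1 from congrArg Subtype.val h]; exact one_mem _)⟩⟩
  refine Cfsg.Lib.Core.generalizedFitting_ne_bot (G := M) ?_
  rw [Cfsg.Lib.Core.generalizedFitting_eq_fitting_of_layer_eq_bot hlayer, hF]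

end Cfsg.Lib.GW
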