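import Cfsg.Agent.Lib.GW.OuterPairGen

/-!
# Involution pairs on a simple group with dihedral Sylow 2-subgroups, from the theorem of Gorenstein and Walter
-/

set_option autoImplicit false
set_option linter.style.haveILetI false

namespace Cfsg.Lib.GW

open Subgroup Cfsg.Lib.Linear.AutPSL Cfsg.Lib.GW.OuterPair Equiv

universe u

/-- An involutory automorphism of `A₇` centralizes a four group. -/
theorem not_noFour_alt7 (φ : MulAut (alternatingGroup (Fin 7))) (hφ : φ * φ = 1) : ¬ NoFour φ := by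
  intro hN
  haveI : Fact (Nat.Prime 2) := ⟨Nat.prime_two⟩
  obtain ⟨σ, rfl⟩ := Cfsg.Agent.S4231.mem_range 7 (by norm_num) φ (Or.inl (by norm_num))
  have hσ : σ ^ 2 = 1 := Cfsg.Agent.S4231.conj_inj 7 (by norm_num) (by rw [pow_two, map_mul, hφ, map_one])
  -- two commuting even involutions commuting with `σ`
  suffices ∃ u v : Perm (Fin 7), u ∈ alternatingGroup (Fin 7) ∧ v ∈ alternatingGroup (Fin 7) ∧ u ≠ 1 ∧ v ≠ 1 ∧
      u ≠ v ∧ u * u = 1 ∧ v * v = 1 ∧ u * v = v * u ∧ σ * u = u * σ ∧ σ * v = v * σ by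
    obtain ⟨u, v, hu, hv, hu1, hv1, huv, hu2, hv2, huv', hsu, hsv⟩ := this
    have hfix : ∀ w (hw : w ∈ alternatingGroup (Fin 7)), σ * w = w * σ →
        MulAut.conjNormal σ (⟨w, hw⟩ : alternatingGroup (Fin 7)) = ⟨w, hw⟩ := fun w hw h => by
      refine Subtype.ext ?_
      rw [MulAut.conjNormal_apply]
      exact mul_inv_eq_iff_eq_mul.2 h
    rcases hN ⟨u, hu⟩ ⟨v, hv⟩ (hfix u hu hsu) (hfix v hv hsv) (Subtype.ext hu2) (Subtype.ext hv2)
      (Subtype.ext huv') with h | h | h
    · exact hu1 (congrArg Subtype.val h)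
    · exact hv1 (congrArg Subtype.val h)
    · exact huv (congrArg Subtype.val h)
  -- by conjugation it is enough to look at representatives
  have hrep : ∀ τ : Perm (Fin 7), IsConj τ σ → ∀ u v : Perm (Fin 7),
      (u ∈ alternatingGroup (Fin 7) ∧ v ∈ alternatingGroup (Fin 7) ∧ u ≠ 1 ∧ v ≠ 1 ∧ u ≠ v ∧ u * u = 1 ∧
        v * v = 1 ∧ u * v = v * u ∧ τ * u = u * τ ∧ τ * v = v * τ) →
      ∃ u v : Perm (Fin 7), u ∈ alternatingGroup (Fin 7) ∧ v ∈ alternatingGroup (Fin 7) ∧ u ≠ 1 ∧ v ≠ 1 ∧
        u ≠ v ∧ u * u = 1 ∧ v * v = 1 ∧ u * v = v * u ∧ σ * u = u * σ ∧ σ * v = v * σ := by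
    intro τ hτ u v ⟨hu, hv, hu1, hv1, huv, hu2, hv2, huv', hsu, hsv⟩
    obtain ⟨c, rfl⟩ := isConj_iff.1 hτ
    set k := MulAut.conj c with hk
    have hkc : ∀ x, c * x * c⁻¹ = k x := fun x => rfl
    rw [hkc τ]
    refine ⟨k u, k v, Normal.conj_mem inferInstance u hu c, Normal.conj_mem inferInstance v hv c,
      (map_ne_one_iff k k.injective).2 hu1, (map_ne_one_iff k k.injective).2 hv1, k.injective.ne huv,
      by rw [← map_mul, hu2, map_one], by rw [← map_mul, hv2, map_one], by rw [← map_mul, huv', map_mul],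
      by rw [← map_mul, hsu, map_mul], by rw [← map_mul, hsv, map_mul]⟩
  have htype : σ.cycleType = Multiset.replicate σ.cycleType.card 2 := by
    refine Multiset.eq_replicate.2 ⟨rfl, fun n hn => ?_⟩
    have h1 := Equiv.Perm.two_le_of_mem_cycleType hn
    have h2 := Nat.le_of_dvd (by norm_num)
      ((Equiv.Perm.dvd_of_mem_cycleType hn).trans (orderOf_dvd_of_pow_eq_one hσ))
    omega
  have hle : 2 * σ.cycleType.card ≤ 7 := by
    have h1 := Equiv.Perm.sum_cycleType σ
    rw [htype, Multiset.sum_replicate, smul_eq_mul] at h1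
    have h2 := σ.support.card_le_univ
    rw [Fintype.card_fin] at h2
    omega
  generalize hk : σ.cycleType.card = k at htype hle
  have hk3 : k ≤ 3 := by omega
  interval_cases k
  · exact hrep 1 (Equiv.Perm.isConj_iff_cycleType_eq.2 (by rw [htype, Equiv.Perm.cycleType_one]; rfl))
      (swap 0 1 * swap 2 3) (swap 0 2 * swap 1 3) (by simp only [Equiv.Perm.mem_alternatingGroup]; decide)
  · exact hrep (swap 4 5) (Equiv.Perm.isConj_iff_cycleType_eq.2 (by rw [htype]; decide))
      (swap 0 1 * swap 2 3) (swap 0 2 * swap 1 3) (by simp only [Equiv.Perm.mem_alternatingGroup]; decide)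
  · exact hrep (swap 0 1 * swap 2 3) (Equiv.Perm.isConj_iff_cycleType_eq.2 (by rw [htype]; decide))
      (swap 0 1 * swap 2 3) (swap 0 2 * swap 1 3) (by simp only [Equiv.Perm.mem_alternatingGroup]; decide)
  · exact hrep (swap 0 1 * swap 2 3 * swap 4 5) (Equiv.Perm.isConj_iff_cycleType_eq.2 (by rw [htype]; decide))
      (swap 0 1 * swap 2 3) (swap 0 2 * swap 1 3) (by simp only [Equiv.Perm.mem_alternatingGroup]; decide)

/-- An involutory automorphism of `PSL₂(q)` without a four group of fixed points is inner-diagonal. -/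
theorem mem_innd_of_noFour {F : Type} [Field F] [Fintype F] (hodd : Odd (Fintype.card F))
    (φ : MulAut (Matrix.ProjectiveSpecialLinearGroup (Fin 2) F)) (hφ : φ * φ = 1) (hN : NoFour φ) :
    ∃ A : GL (Fin 2) F, φ = innd A := by
  obtain ⟨A, σ, rfl⟩ := PGL.exists_decomp_two φ
  by_cases hσ1 : σ = 1
  · exact ⟨A, by rw [hσ1, map_one, mul_one]⟩
  exfalso
  have hσ2 : orderOf σ = 2 := by
    refine orderOf_eq_prime ?_ hσ1
    have h3 : innd (A * Cfsg.Lib.Linear.Descent.sm σ A) * fld (σ ^ 2) =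
        (1 : MulAut (Matrix.ProjectiveSpecialLinearGroup (Fin 2) F)) := by
      rw [map_mul, map_pow, pow_two, ← mul_assoc, mul_assoc (innd A), ← fld_mul_innd', ← mul_assoc, mul_assoc, hφ]
    exact fld_eq_of_eq (n := 2) (g := A * Cfsg.Lib.Linear.Descent.sm σ A) (g' := 1) (σ := σ ^ 2) (σ' := 1) le_rfl
      (h3.trans (by rw [map_one, map_one, mul_one]))
  have ho : orderOf (innd A * fld σ : MulAut (Matrix.ProjectiveSpecialLinearGroup (Fin 2) F)) = 2 := by
    refine orderOf_eq_prime (by rw [pow_two, hφ]) fun h => hσ1 ?_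
    exact fld_eq_of_eq (n := 2) (g := A) (g' := 1) (σ := σ) (σ' := 1) le_rfl
      (h.trans (by rw [map_one, map_one, mul_one]))
  obtain ⟨k, -, hk⟩ := (field_coset (n := 2) le_rfl Nat.prime_two hσ2 A).1 ho
  obtain ⟨a, b, ha, hb, ha1, hb1, hab, hcomm, hfa, hfb⟩ := PGL.exists_fixed_four hodd σ
  have hfix : ∀ y, (fld σ : MulAut (Matrix.ProjectiveSpecialLinearGroup (Fin 2) F)) y = y →
      (innd A * fld σ : MulAut (Matrix.ProjectiveSpecialLinearGroup (Fin 2) F)) (k y) = k y := fun y hy => by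
    rw [hk, MulAut.mul_apply, MulAut.mul_apply, MulAut.inv_apply_self, hy]
  rcases hN _ _ (hfix a hfa) (hfix b hfb) (by rw [← map_mul, ha, map_one]) (by rw [← map_mul, hb, map_one])
    (by rw [← map_mul, hcomm, map_mul]) with h | h | h
  · exact ha1 (k.injective (h.trans (map_one k).symm))
  · exact hb1 (k.injective (h.trans (map_one k).symm))
  · exact hab (k.injective h)

/-- S1916 from the theorem of Gorenstein and Walter. -/
theorem product_centralizes (h : SimpleGW.{u}) {G : Type u} [Group G] [Finite G] (L : Subgroup G)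
    (hL : IsSimpleGroup L) (hLn : ¬ IsMulCommutative L)
    (hD : ∀ P : Sylow 2 L, ∃ n : ℕ, Nonempty (↥(P : Subgroup L) ≃* DihedralGroup n))
    (a b : G) (ha : orderOf a = 2) (hb : orderOf b = 2) (hc : a * b = b * a)
    (haL : a ∈ Subgroup.normalizer (L : Set G)) (hbL : b ∈ Subgroup.normalizer (L : Set G))
    (hCa : ∀ R : Sylow 2 ↥(L ⊓ Subgroup.centralizer ({a} : Set G)), IsCyclic R)
    (hCb : ∀ R : Sylow 2 ↥(L ⊓ Subgroup.centralizer ({b} : Set G)), IsCyclic R)
    (hgen : ¬ L ≤ Subgroup.closure ({a, b} : Set G) ⊔ (L ⊓ Subgroup.centralizer ({a} : Set G)) ⊔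
      (L ⊓ Subgroup.centralizer ({b} : Set G))) :
    a * b ∈ Subgroup.centralizer (L : Set G) := by
  haveI : Fact (Nat.Prime 2) := ⟨Nat.prime_two⟩
  haveI := hL
  have h4 : 4 ∣ Nat.card L := by
    by_contra h4
    exact not_isSolvable_of_simple hLn (isSolvable_of_not_four_dvd h4)
  have hSD : SylowDihedral L := by
    intro P
    obtain ⟨n, ⟨e⟩⟩ := hD P
    refine ⟨n, ?_, ⟨e⟩⟩
    have hP4 : 2 ^ 2 ∣ Nat.card (P : Subgroup L) := by
      rw [P.card_eq_multiplicity]
      exact pow_dvd_pow 2 ((Nat.prime_two.pow_dvd_iff_le_factorization (Nat.card_pos).ne').1 h4)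
    rw [Nat.card_congr e.toEquiv, DihedralGroup.nat_card] at hP4
    by_contra hn
    interval_cases n
    · have hfin := Finite.of_equiv _ e.toEquiv
      exact not_finite (DihedralGroup 0)
    · norm_num at hP4
  -- the action on `L`
  set ρ := Subgroup.normalizerMonoidHom L with hρ
  set α := ρ ⟨a, haL⟩ with hα
  set β := ρ ⟨b, hbL⟩ with hβ
  have hαa : ∀ x : L, (α x : G) = a * x * a⁻¹ := fun x => rfl
  have hβb : ∀ x : L, (β x : G) = b * x * b⁻¹ := fun x => rfl
  have hsq : ∀ {c : G} (hcN : c ∈ Subgroup.normalizer (L : Set G)), orderOf c = 2 →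
      ρ ⟨c, hcN⟩ * ρ ⟨c, hcN⟩ = 1 := fun hcN ho => by
    rw [← map_mul, ← map_one ρ]
    exact congrArg ρ (Subtype.ext (Cfsg.Lib.Invol.inv_mul_self ho))
  have hα2 : α * α = 1 := hsq haL ha
  have hβ2 : β * β = 1 := hsq hbL hb
  have hαβ : α * β = β * α := by
    rw [hα, hβ, ← map_mul, ← map_mul]
    exact congrArg ρ (Subtype.ext hc)
  -- a cyclic Sylow subgroup allows no four group
  have hnf : ∀ (c : G) (γ : MulAut L), (∀ x : L, (γ x : G) = c * x * c⁻¹) →
      (∀ R : Sylow 2 ↥(L ⊓ Subgroup.centralizer ({c} : Set G)), IsCyclic R) → NoFour γ := by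
    intro c γ hγ hR u v hu hv hu2 hv2 huv
    by_contra hcon
    push Not at hcon
    obtain ⟨hu1, hv1, huv'⟩ := hcon
    have hmem : ∀ w : L, γ w = w → (w : G) ∈ L ⊓ Subgroup.centralizer ({c} : Set G) := fun w hw => by
      refine ⟨w.2, mem_centralizer_singleton_iff.2 ?_⟩
      have h1 := congrArg Subtype.val hw
      rw [hγ] at h1
      exact (mul_inv_eq_iff_eq_mul.1 h1).symm
    set u' : ↥(L ⊓ Subgroup.centralizer ({c} : Set G)) := ⟨(u : G), hmem u hu⟩ with hu'
    set v' : ↥(L ⊓ Subgroup.centralizer ({c} : Set G)) := ⟨(v : G), hmem v hv⟩ with hv'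
    have hcu : u' * v' = v' * u' := Subtype.ext (by simpa using congrArg Subtype.val huv)
    have hu2' : u' * u' = 1 := Subtype.ext (by simpa using congrArg Subtype.val hu2)
    have hv2' : v' * v' = 1 := Subtype.ext (by simpa using congrArg Subtype.val hv2)
    have hp : IsPGroup 2 (Subgroup.zpowers u' ⊔ Subgroup.zpowers v' : Subgroup _) := by
      have hpz : ∀ {w : ↥(L ⊓ Subgroup.centralizer ({c} : Set G))}, w * w = 1 → IsPGroup 2 (Subgroup.zpowers w) := by
        intro w hw x
        refine ⟨1, Subtype.ext ?_⟩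
        obtain ⟨i, hi⟩ := mem_zpowers_iff.1 x.2
        rw [pow_one, Subgroup.coe_pow, ← hi, Subgroup.coe_one, ← zpow_natCast, ← zpow_mul, mul_comm, zpow_mul,
          zpow_natCast, pow_two, hw, one_zpow]
      refine (hpz hu2').to_sup_of_normal_right' (hpz hv2') ?_
      rw [Subgroup.zpowers_le]
      refine (centralizer_le_normalizer _) (mem_centralizer_iff.2 fun y hy => ?_)
      obtain ⟨i, rfl⟩ := mem_zpowers_iff.1 hy
      exact ((Commute.symm hcu).zpow_left i).eq
    obtain ⟨R, hRle⟩ := hp.exists_le_sylow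
    haveI := hR R
    haveI := Fintype.ofFinite (R : Subgroup ↥(L ⊓ Subgroup.centralizer ({c} : Set G)))
    classical
    have h2 : ({1, ⟨u', hRle (mem_sup_left (mem_zpowers u'))⟩, ⟨v', hRle (mem_sup_right (mem_zpowers v'))⟩} :
        Finset (R : Subgroup ↥(L ⊓ Subgroup.centralizer ({c} : Set G)))).card ≤ 2 := by
      refine (Finset.card_le_card fun w hw => ?_).trans (IsCyclic.card_pow_eq_one_le (n := 2) two_pos)
      simp only [Finset.mem_insert, Finset.mem_singleton] at hw
      simp only [Finset.mem_filter, Finset.mem_univ, true_and]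
      rcases hw with rfl | rfl | rfl
      · exact one_pow 2
      · exact Subtype.ext (by rw [Subgroup.coe_pow, pow_two]; exact hu2')
      · exact Subtype.ext (by rw [Subgroup.coe_pow, pow_two]; exact hv2')
    rw [Finset.card_insert_of_notMem, Finset.card_pair] at h2
    · omega
    · exact fun h => huv' (Subtype.ext (congrArg Subtype.val (congrArg Subtype.val h) : _))
    · simp only [Finset.mem_insert, Finset.mem_singleton, not_or]
      exact ⟨fun h => hu1 (Subtype.ext (congrArg Subtype.val (congrArg Subtype.val h) : _).symm),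
        fun h => hv1 (Subtype.ext (congrArg Subtype.val (congrArg Subtype.val h) : _).symm)⟩
  have hNa := hnf a α hαa hCa
  have hNb := hnf b β hβb hCb
  have hab : α = β := by
    by_contra hne
    rcases h L hLn hSD with ⟨F, _, _, hodd, h3, ⟨e⟩⟩ | ⟨⟨e⟩⟩
    · set C : MulAut L ≃* MulAut (Matrix.ProjectiveSpecialLinearGroup (Fin 2) F) := MulAut.congr e with hC
      have hCapp : ∀ γ x, C γ x = e (γ (e.symm x)) := fun _ _ => rfl
      have hN : ∀ γ : MulAut L, NoFour γ → NoFour (C γ) := by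
        intro γ hγ u v hu hv hu2 hv2 huv
        rw [hCapp] at hu hv
        rcases hγ (e.symm u) (e.symm v) (e.injective (by rw [hu, e.apply_symm_apply]))
          (e.injective (by rw [hv, e.apply_symm_apply])) (by rw [← map_mul, hu2, map_one])
          (by rw [← map_mul, hv2, map_one]) (by rw [← map_mul, huv, map_mul]) with h | h | h
        · exact Or.inl (e.symm.injective (h.trans (map_one e.symm).symm))
        · exact Or.inr (Or.inl (e.symm.injective (h.trans (map_one e.symm).symm)))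
        · exact Or.inr (Or.inr (e.symm.injective h))
      obtain ⟨A, hA⟩ := mem_innd_of_noFour hodd (C α) (by rw [← map_mul, hα2, map_one]) (hN α hNa)
      obtain ⟨B, hB⟩ := mem_innd_of_noFour hodd (C β) (by rw [← map_mul, hβ2, map_one]) (hN β hNb)
      have h5 : 5 ≤ Fintype.card F := by obtain ⟨c, hc⟩ := hodd; omega
      have htop := fix_sup_eq_top hodd h5 (A := A) (B := B) (by rw [← hA, ← map_mul, hα2, map_one])
        (by rw [← hB, ← map_mul, hβ2, map_one]) (by rw [← hA, ← hB, ← map_mul, hαβ, map_mul])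
        (by rw [← hA, ← hB]; exact fun h => hne (C.injective h)) (hA ▸ hN α hNa) (hB ▸ hN β hNb)
      refine hgen fun x hx => ?_
      have hmem : e ⟨x, hx⟩ ∈ fixSub (innd A : MulAut (Matrix.ProjectiveSpecialLinearGroup (Fin 2) F)) ⊔
          fixSub (innd B : MulAut (Matrix.ProjectiveSpecialLinearGroup (Fin 2) F)) := htop ▸ mem_top _
      set f := L.subtype.comp e.symm.toMonoidHom
      have hle : (fixSub (innd A : MulAut (Matrix.ProjectiveSpecialLinearGroup (Fin 2) F)) ⊔
          fixSub (innd B : MulAut (Matrix.ProjectiveSpecialLinearGroup (Fin 2) F))).map f ≤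
          Subgroup.closure ({a, b} : Set G) ⊔ (L ⊓ Subgroup.centralizer ({a} : Set G)) ⊔
            (L ⊓ Subgroup.centralizer ({b} : Set G)) := by
        rw [Subgroup.map_sup]
        refine sup_le ?_ ?_ <;> rintro _ ⟨y, hy, rfl⟩
        · refine mem_sup_left (mem_sup_right ⟨(e.symm y).2, mem_centralizer_singleton_iff.2 ?_⟩)
          rw [SetLike.mem_coe, mem_fixSub, ← hA, hCapp] at hy
          have h1 := congrArg Subtype.val ((e.eq_symm_apply).2 hy)
          rw [hαa] at h1
          exact (mul_inv_eq_iff_eq_mul.1 h1).symm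
        · refine mem_sup_right ⟨(e.symm y).2, mem_centralizer_singleton_iff.2 ?_⟩
          rw [SetLike.mem_coe, mem_fixSub, ← hB, hCapp] at hy
          have h1 := congrArg Subtype.val ((e.eq_symm_apply).2 hy)
          rw [hβb] at h1
          exact (mul_inv_eq_iff_eq_mul.1 h1).symm
      have := hle (mem_map_of_mem f hmem)
      simpa [f] using this
    · refine not_noFour_alt7 (MulAut.congr e α) (by rw [← map_mul, hα2, map_one]) ?_
      intro u v hu hv hu2 hv2 huv
      have hfix : ∀ w, MulAut.congr e α w = w → α (e.symm w) = e.symm w := fun w hw =>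
        e.eq_symm_apply.2 hw
      rcases hNa (e.symm u) (e.symm v) (hfix u hu) (hfix v hv) (by rw [← map_mul, hu2, map_one])
        (by rw [← map_mul, hv2, map_one]) (by rw [← map_mul, huv, map_mul]) with h | h | h
      · exact Or.inl (e.symm.injective (h.trans (map_one e.symm).symm))
      · exact Or.inr (Or.inl (e.symm.injective (h.trans (map_one e.symm).symm)))
      · exact Or.inr (Or.inr (e.symm.injective h))
  rw [mem_centralizer_iff]
  intro x hx
  have h1 : a * x * a⁻¹ = b * x * b⁻¹ := by rw [← hαa ⟨x, hx⟩, hab, hβb ⟨x, hx⟩]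
  have hbi : b⁻¹ = b := inv_eq_of_mul_eq_one_right (Cfsg.Lib.Invol.inv_mul_self hb)
  have hai : a⁻¹ = a := inv_eq_of_mul_eq_one_right (Cfsg.Lib.Invol.inv_mul_self ha)
  rw [hai, hbi] at h1
  have hbb := Cfsg.Lib.Invol.inv_mul_self hb
  have haa := Cfsg.Lib.Invol.inv_mul_self ha
  calc x * (a * b) = a * (a * x * a) * b := by simp only [← mul_assoc, haa, one_mul]
    _ = a * (b * x * b) * b := by rw [h1]
    _ = a * b * x := by simp only [mul_assoc, hbb, mul_one]

end Cfsg.Lib.GW
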