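import Cfsg.Agent.Lib.GW.Quaternion
import Cfsg.Agent.Lib.Char.TwoClassCore
import Cfsg.Agent.Lib.Linear.GLTwo
import Cfsg.Agent.Lib.Recog.Icosahedral
import Cfsg.Agent.Lib.Fusion.Alperin
import Mathlib.GroupTheory.SpecificGroups.ZGroup

/-!
# Consumers of the theorem of Gorenstein and Walter: quaternion Sylow 2-subgroups with cyclic intersections
-/

set_option autoImplicit false
set_option linter.style.haveILetI false

namespace Cfsg.Lib.GW

open Subgroup

universe u

variable {G : Type u} [Group G] [Finite G]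

theorem quaternion_eight_of_cyclic_inter (hns : ¬ Group.IsSolvable G)
    (hQ : ∀ S : Sylow 2 G, ∃ n : ℕ, Nonempty (↥(S : Subgroup G) ≃* QuaternionGroup (2 ^ (n + 1))))
    (hC : ∀ S T : Sylow 2 G, S ≠ T → IsCyclic ↥((S : Subgroup G) ⊓ (T : Subgroup G))) (S : Sylow 2 G) :
    Nonempty (↥(S : Subgroup G) ≃* QuaternionGroup 2) := by
  haveI : Fact (Nat.Prime 2) := ⟨Nat.prime_two⟩
  obtain ⟨n, ⟨e⟩⟩ := hQ S
  rcases n with _ | n
  · exact ⟨e⟩
  exfalso
  have hnc : ¬ Cfsg.HasNormalPComplement 2 G := fun h => hns (isSolvable_of_complement h)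
  rw [Cfsg.Lib.Fusion.frobenius S] at hnc
  push Not at hnc
  obtain ⟨Q, hQS, g, hg, hco, hgc⟩ := hnc
  set σ : MulAut Q := Q.normalizerMonoidHom ⟨g, hg⟩ with hσ
  have hσ1 : σ ≠ 1 := by
    intro h
    have : (⟨g, hg⟩ : normalizer (Q : Set G)) ∈ Q.normalizerMonoidHom.ker := h
    rw [normalizerMonoidHom_ker, mem_subgroupOf] at this
    exact hgc this
  have hodd : Odd (orderOf σ) := by
    refine (Nat.coprime_two_right.1 hco).of_dvd_nat ?_
    have h1 := orderOf_map_dvd Q.normalizerMonoidHom ⟨g, hg⟩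
    rwa [Subgroup.orderOf_mk] at h1
  have hQp : IsPGroup 2 Q := S.isPGroup'.to_le hQS
  have hQc : ¬ IsCyclic Q := by
    intro hc
    obtain ⟨j, hj⟩ := hQp.exists_card_eq
    have hcard : Nat.card (MulAut Q) ∣ 2 ^ j := by
      rw [IsCyclic.card_mulAut, hj]
      rcases Nat.eq_zero_or_pos j with rfl | hj0
      · simp
      · rw [Nat.totient_prime_pow Nat.prime_two hj0]
        simpa using pow_dvd_pow 2 (Nat.sub_le j 1)
    exact hσ1 (orderOf_eq_one_iff.1 (((Nat.coprime_two_right.2 hodd).pow_right j).eq_one_of_dvd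
      ((orderOf_dvd_natCard σ).trans hcard)))
  by_cases hgS : g ∈ normalizer ((S : Subgroup G) : Set G)
  · have htriv : ∀ τ : MulAut (S : Subgroup G), Odd (orderOf τ) → τ = 1 := by
      intro τ hτ
      by_contra h1
      obtain ⟨p, hp, hpd⟩ := Nat.exists_prime_and_dvd (fun h => h1 (orderOf_eq_one_iff.1 h))
      haveI : Fact p.Prime := ⟨hp⟩
      have hp2 : p ≠ 2 := fun h => Nat.not_even_iff_odd.2 (hτ.of_dvd_nat hpd) (h ▸ even_two)
      have hord : orderOf (τ ^ (orderOf τ / p)) = p := by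
        have hne : orderOf τ / p ≠ 0 :=
          (Nat.div_pos (Nat.le_of_dvd (orderOf_pos τ) hpd) hp.pos).ne'
        rw [orderOf_pow_of_dvd hne (Nat.div_dvd_of_dvd hpd), Nat.div_div_self hpd (orderOf_pos τ).ne']
      rcases Cfsg.Lib.Char.TwoClassCore.quaternion_aut (p := p) (Nat.le_add_left 1 (n + 1)) e hp2
        (τ ^ (orderOf τ / p)) (j := 1) (by rw [pow_one]; convert pow_orderOf_eq_one _; exact hord.symm) with h | ⟨-, h⟩
      · rw [h, orderOf_one] at hord
        exact hp.one_lt.ne hord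
      · omega
    have h2 := htriv ((S : Subgroup G).normalizerMonoidHom ⟨g, hgS⟩) (by
      refine (Nat.coprime_two_right.1 hco).of_dvd_nat ?_
      have h1 := orderOf_map_dvd (S : Subgroup G).normalizerMonoidHom ⟨g, hgS⟩
      rwa [Subgroup.orderOf_mk] at h1)
    have h3 : (⟨g, hgS⟩ : normalizer ((S : Subgroup G) : Set G)) ∈ (S : Subgroup G).normalizerMonoidHom.ker := h2
    rw [normalizerMonoidHom_ker, mem_subgroupOf] at h3
    exact hgc (centralizer_le (fun x hx => hQS hx) h3)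
  · have hne : S ≠ g • S := fun h => hgS (Sylow.smul_eq_iff_mem_normalizer.1 h.symm)
    have hle : Q ≤ (S : Subgroup G) ⊓ ((g • S : Sylow 2 G) : Subgroup G) := by
      refine le_inf hQS fun x hx => ?_
      rw [Sylow.coe_subgroup_smul, Subgroup.mem_smul_pointwise_iff_exists]
      refine ⟨g⁻¹ * x * g, hQS ?_, ?_⟩
      · have := (mem_normalizer_iff.1 (inv_mem hg) x).1 hx
        rwa [inv_inv] at this
      · show g * (g⁻¹ * x * g) * g⁻¹ = x
        group
    haveI := hC S (g • S) hne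
    exact hQc (isCyclic_of_injective (inclusion hle) (inclusion_injective hle))

/-- S3307 from the theorem of Gorenstein and Walter. -/
theorem quaternion_cyclic_inter (h : SimpleGW.{u}) (hns : ¬ Group.IsSolvable G)
    (hQ : ∀ S : Sylow 2 G, ∃ n : ℕ, Nonempty (↥(S : Subgroup G) ≃* QuaternionGroup (2 ^ (n + 1))))
    (hC : ∀ S T : Sylow 2 G, S ≠ T → IsCyclic ↥((S : Subgroup G) ⊓ (T : Subgroup G))) :
    (∀ S : Sylow 2 G, Nonempty (↥(S : Subgroup G) ≃* QuaternionGroup 2)) ∧
    ∃ (G₁ : Subgroup G) (_ : G₁.Normal) (_ : ((Cfsg.oddCore G).subgroupOf G₁).Normal),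
      Odd G₁.index ∧ Cfsg.oddCore G ≤ G₁ ∧
      ∃ (F : Type) (_ : Field F) (_ : Fintype F),
        (Fintype.card F % 8 = 3 ∨ Fintype.card F % 8 = 5) ∧ 3 < Fintype.card F ∧
        Nonempty (↥G₁ ⧸ (Cfsg.oddCore G).subgroupOf G₁ ≃* Matrix.SpecialLinearGroup (Fin 2) F) := by
  haveI : Fact (Nat.Prime 2) := ⟨Nat.prime_two⟩
  refine ⟨quaternion_eight_of_cyclic_inter hns hQ hC, ?_⟩
  obtain ⟨S⟩ : Nonempty (Sylow 2 G) := inferInstance
  obtain ⟨eQ⟩ := quaternion_eight_of_cyclic_inter hns hQ hC S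
  obtain ⟨N, hN, hNeq, hO, hON2, T, ⟨eT⟩⟩ := quaternion_omega S (n := 1) le_rfl eQ
  haveI := hN
  set π := QuotientGroup.mk' N with hπ
  have hSc : Nat.card (S : Subgroup G) = 8 := by
    rw [Nat.card_congr eQ.toEquiv, Nat.card_eq_fintype_card, QuaternionGroup.card]
  have hG16 : ¬ 16 ∣ Nat.card G := fun h16 => by
    have h1 := (S : Subgroup G).card_mul_index
    have h2 := S.not_dvd_index
    rw [hSc] at h1; omega
  have hTc : Nat.card (T : Subgroup (G ⧸ N)) = 4 := (Nat.card_congr eT.toEquiv).trans DihedralGroup.nat_card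
  have hGN8 : ¬ 8 ∣ Nat.card (G ⧸ N) := fun h8 => by
    have h1 := (T : Subgroup (G ⧸ N)).card_mul_index
    have h2 := T.not_dvd_index
    rw [hTc] at h1; omega
  have hON : Cfsg.oddCore G ≤ N := hNeq ▸ le_sup_right
  -- involutions lie in `N`, and `N` is solvable
  have hinvN : ∀ x : G, orderOf x = 2 → x ∈ N := by
    intro x hx
    have hp : IsPGroup 2 (zpowers x) := IsPGroup.of_card (n := 1) (by rw [Nat.card_zpowers, hx, pow_one])
    obtain ⟨R, hR⟩ := hp.exists_le_sylow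
    obtain ⟨g, hg⟩ := MulAction.exists_smul_eq G R S
    have h1 : g * x * g⁻¹ ∈ (S : Subgroup G) := by
      rw [← hg, Sylow.coe_subgroup_smul, Subgroup.mem_smul_pointwise_iff_exists]
      exact ⟨x, hR (mem_zpowers x), rfl⟩
    have h2 : g * x * g⁻¹ ∈ N := by
      rw [hNeq]
      refine mem_sup_left (subset_closure ⟨h1, ?_⟩)
      have := pow_orderOf_eq_one x
      rw [hx] at this
      rw [conj_pow, this, mul_one, mul_inv_cancel]
    have h3 := hN.conj_mem _ h2 g⁻¹
    rwa [inv_inv, show g⁻¹ * (g * x * g⁻¹) * g = x by group] at h3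
  have hNsol : Group.IsSolvable N := isSolvable_of_not_four_dvd fun h4 => by
    have h1 := N.card_mul_index
    have h2 : 4 ∣ N.index := by
      rw [index_eq_card]; exact hTc ▸ card_subgroup_dvd_card (T : Subgroup (G ⧸ N))
    exact hG16 (h1 ▸ Nat.mul_dvd_mul h4 h2)
  have hno : ¬ Group.IsSolvable (G ⧸ N) := fun hs => by
    haveI := hs; haveI := hNsol
    exact hns (Group.isSolvable_of_ker_le_range N.subtype π (by simp [hπ]))
  have hD : TwoCycDih (G ⧸ N) := TwoCycDih.of_dihedral_sylow T (n := 2 ^ 1) le_rfl ⟨eT⟩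
  rcases shape hD (gwSections_of_simpleGW h hD) hO with
    h2 | ⟨V, -, -, -, hc⟩ | ⟨E, hE, hEs, hEna, -, hED, -, -, -⟩
  · haveI := h2.isNilpotent
    exact absurd (inferInstance : Group.IsSolvable (G ⧸ N)) hno
  · exact absurd (Cfsg.Lib.Recog.Icosa.solvable_of_lt_sixty (Nat.card (G ⧸ N)) (G ⧸ N) rfl (by omega)) hno
  haveI := hE
  haveI := hEs
  have hE4 : 4 ∣ Nat.card E := by
    by_contra h4
    exact not_isSolvable_of_simple hEna (isSolvable_of_not_four_dvd h4)
  have hEi : Odd E.index := by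
    rw [Nat.odd_iff]
    by_contra hne
    exact hGN8 (E.card_mul_index ▸ Nat.mul_dvd_mul hE4 (show 2 ∣ E.index by omega))
  set G₁ := E.comap π with hG1
  haveI hG1n : G₁.Normal := Normal.comap inferInstance π
  have hOG : Cfsg.oddCore G ≤ G₁ := fun x hx => by
    rw [hG1, mem_comap, show π x = 1 from (QuotientGroup.eq_one_iff x).2 (hON hx)]
    exact one_mem _
  have hidx : Odd G₁.index := by
    rwa [hG1, E.index_comap_of_surjective (QuotientGroup.mk'_surjective N)]
  haveI hO1n : ((Cfsg.oddCore G).subgroupOf G₁).Normal := Normal.comap inferInstance _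
  refine ⟨G₁, hG1n, hO1n, hidx, hOG, ?_⟩
  set O₁ := (Cfsg.oddCore G).subgroupOf G₁ with hO1
  let f : G₁ →* E := π.subgroupComap E
  have hf : Function.Surjective f := π.subgroupComap_surjective_of_surjective E (QuotientGroup.mk'_surjective N)
  have hfk : ∀ x : G₁, f x = 1 ↔ (x : G) ∈ N := fun x =>
    ⟨fun hx => (QuotientGroup.eq_one_iff _).1 (congrArg Subtype.val hx),
      fun hx => Subtype.ext ((QuotientGroup.eq_one_iff _).2 hx)⟩
  have hmap : (commutator G₁).map f = ⊤ := by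
    rw [commutator_map_top f hf]
    refine (IsSimpleGroup.eq_bot_or_eq_top_of_normal (commutator E) inferInstance).resolve_left fun hb => hEna ?_
    exact ⟨⟨fun a b => commutatorElement_eq_one_iff_mul_comm.1
      (mem_bot.1 (hb ▸ commutator_mem_commutator (mem_top a) (mem_top b)))⟩⟩
  -- the quotient is perfect
  have hperf : commutator (G₁ ⧸ O₁) = ⊤ := by
    rw [← commutator_map_top (QuotientGroup.mk' O₁) (QuotientGroup.mk'_surjective O₁), eq_top_iff]
    have hev : 2 ∣ Nat.card (commutator G₁) := by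
      refine dvd_trans ((show 2 ∣ 4 by norm_num).trans hE4) ?_
      have := (commutator G₁).card_map_dvd f
      rwa [hmap, card_top] at this
    obtain ⟨d, hd⟩ := exists_prime_orderOf_dvd_card' 2 hev
    have hdo : orderOf ((d : G₁) : G) = 2 := by rw [orderOf_coe, orderOf_coe, hd]
    have hdN := hinvN _ hdo
    intro y _
    obtain ⟨x, rfl⟩ := QuotientGroup.mk'_surjective O₁ y
    obtain ⟨c, hc, hcx⟩ : ∃ c ∈ commutator G₁, f c = f x := by
      have : f x ∈ (commutator G₁).map f := hmap ▸ mem_top _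
      exact mem_map.1 this
    set r := c⁻¹ * x with hr
    have hrN : (r : G) ∈ N := (hfk r).1 (by rw [hr, map_mul, map_inv, hcx, inv_mul_cancel])
    -- `N` is `O(G)` and `O(G) d`
    have hNO : ∀ w ∈ N, w ∈ Cfsg.oddCore G ∨ ((d : G₁) : G)⁻¹ * w ∈ Cfsg.oddCore G := by
      intro w hw
      by_cases hwO : w ∈ Cfsg.oddCore G
      · exact Or.inl hwO
      refine Or.inr ?_
      have hdO : ((d : G₁) : G) ∉ Cfsg.oddCore G := ZStar.notMem_oddCore hdo
      have := (mul_mem_iff_of_index_two hON2 (a := (⟨_, hdN⟩ : N)⁻¹) (b := ⟨w, hw⟩)).2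
        (iff_of_false (fun h => hdO ((inv_mem_iff (H := (Cfsg.oddCore G).subgroupOf N)).1 h)) hwO)
      exact this
    rcases hNO _ hrN with hrO | hrO
    · refine ⟨c, hc, ?_⟩
      exact QuotientGroup.eq.2 hrO
    · refine ⟨c * (d : G₁), mul_mem hc d.2, ?_⟩
      refine QuotientGroup.eq.2 ?_
      show ((c * (d : G₁))⁻¹ * x : G₁) ∈ O₁
      rw [mul_inv_rev, mul_assoc]
      exact hrO
  -- trivial core
  have hO' : Cfsg.oddCore (G₁ ⧸ O₁) = ⊥ := by
    refine eq_bot_iff.2 fun y hy => ?_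
    obtain ⟨x, rfl⟩ := QuotientGroup.mk'_surjective O₁ y
    set R := (Cfsg.oddCore (G₁ ⧸ O₁)).comap (QuotientGroup.mk' O₁) with hR
    haveI : R.Normal := Normal.comap inferInstance _
    have hRodd : Odd (Nat.card R) := by
      rw [hR, card_comap_eq _ (QuotientGroup.mk'_surjective O₁), QuotientGroup.ker_mk',
        Nat.card_congr (subgroupOfEquivOfLe hOG).toEquiv]
      exact ZStar.odd_card_oddCore.mul ZStar.odd_card_oddCore
    haveI : (R.map f).Normal := Normal.map inferInstance f hf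
    have hRf : R.map f = ⊥ := by
      refine (IsSimpleGroup.eq_bot_or_eq_top_of_normal (R.map f) inferInstance).resolve_right fun ht => ?_
      have h1 := R.card_map_dvd f
      rw [ht, card_top] at h1
      exact Nat.not_even_iff_odd.2 (hRodd.of_dvd_nat h1)
        (even_iff_two_dvd.2 ((show 2 ∣ 4 by norm_num).trans hE4))
    have hxR : x ∈ R := hy
    have hxN : (x : G) ∈ N := (hfk x).1 (mem_bot.1 (hRf ▸ mem_map_of_mem f hxR))
    have hxo : Odd (orderOf (x : G)) := by
      rw [orderOf_coe]; exact hRodd.of_dvd_nat (Subgroup.orderOf_dvd_natCard _ hxR)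
    refine mem_bot.2 ((QuotientGroup.eq_one_iff x).2 ?_)
    show (x : G) ∈ Cfsg.oddCore G
    have hx2 : (x : G) ^ 2 ∈ Cfsg.oddCore G := by
      have h : (⟨x, hxN⟩ : N) * ⟨x, hxN⟩ ∈ (Cfsg.oddCore G).subgroupOf N :=
        (mul_mem_iff_of_index_two hON2).2 Iff.rfl
      rw [pow_two]
      exact h
    obtain ⟨k, hk⟩ := hxo
    have : (x : G) = (((x : G) ^ 2) ^ k)⁻¹ := by
      rw [eq_inv_iff_mul_eq_one, ← pow_mul, ← pow_succ', ← hk]
      exact pow_orderOf_eq_one _
    rw [this]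
    exact inv_mem (pow_mem hx2 k)
  -- the Sylow subgroup
  have hSG : (S : Subgroup G) ≤ G₁ := by
    intro s hs
    have h1 : orderOf (QuotientGroup.mk' G₁ s) ∣ G₁.index := by
      rw [index_eq_card]; exact orderOf_dvd_natCard _
    obtain ⟨i, hi⟩ := IsPGroup.iff_orderOf.1 S.isPGroup' ⟨s, hs⟩
    rw [Subgroup.orderOf_mk] at hi
    have h2 := orderOf_map_dvd (QuotientGroup.mk' G₁) s
    rw [hi] at h2
    have h3 := ((Nat.coprime_two_right.2 (hidx.of_dvd_nat h1)).pow_right i).eq_one_of_dvd h2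
    exact (QuotientGroup.eq_one_iff s).1 (orderOf_eq_one_iff.1 h3)
  let S₁ : Sylow 2 G₁ := S.subtype hSG
  let q := QuotientGroup.mk' O₁
  have hinj : Function.Injective (q.subgroupMap (S₁ : Subgroup G₁)) := by
    rw [← MonoidHom.ker_eq_bot_iff, eq_bot_iff]
    intro x hx
    have hxO : ((x : G₁) : G) ∈ Cfsg.oddCore G :=
      ((QuotientGroup.eq_one_iff (x : G₁)).1 (congrArg Subtype.val hx : q (x : G₁) = 1) :)
    obtain ⟨i, hi⟩ := IsPGroup.iff_orderOf.1 S₁.isPGroup' x
    rw [← Subgroup.orderOf_coe, ← Subgroup.orderOf_coe] at hi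
    have h7 := ((Nat.coprime_two_left.2 (ZStar.odd_orderOf_oddCore hxO)).pow_left i).eq_one_of_dvd
      (dvd_of_eq hi.symm)
    exact Subgroup.mem_bot.2 (Subtype.ext (Subtype.ext (orderOf_eq_one_iff.1 (hi.trans h7))))
  let S' : Sylow 2 (G₁ ⧸ O₁) := S₁.mapSurjective (f := q) (QuotientGroup.mk'_surjective _)
  let e' : (S' : Subgroup (G₁ ⧸ O₁)) ≃* QuaternionGroup (2 ^ 1) :=
    (MulEquiv.ofBijective _ ⟨hinj, q.subgroupMap_surjective _⟩).symm.trans
      ((MulEquiv.subgroupCongr (S.coe_subtype (h := hSG))).trans ((subgroupOfEquivOfLe hSG).trans eQ))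
  have h16 : ¬ 16 ∣ Nat.card (G₁ ⧸ O₁) := fun h16 =>
    hG16 (h16.trans ((card_quotient_dvd_card O₁).trans (card_subgroup_dvd_card G₁)))
  rcases quaternion_perfect h hperf hO' S' le_rfl e' with ⟨F, i, j, hodd, h3, ⟨eF⟩⟩ | ⟨hZ, ⟨eA⟩, -⟩
  · refine ⟨F, i, j, ?_, h3, ⟨eF⟩⟩
    rw [Nat.card_congr eF.toEquiv, Cfsg.Lib.Linear.Two.card_SL_two] at h16
    by_contra hne
    refine h16 ?_
    have hq : Fintype.card F % 8 = 1 ∨ Fintype.card F % 8 = 7 := by
      have := Nat.odd_iff.1 hodd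
      omega
    have hsq : 16 ∣ Fintype.card F ^ 2 - 1 := by
      obtain ⟨k, hk | hk⟩ : ∃ k, Fintype.card F = 8 * k + 1 ∨ Fintype.card F = 8 * k + 7 :=
        ⟨Fintype.card F / 8, by omega⟩
      · exact ⟨4 * k * k + k, by rw [hk, Nat.sub_eq_iff_eq_add (Nat.one_le_pow _ _ (by omega))]; ring⟩
      · exact ⟨4 * k * k + 7 * k + 3, by rw [hk, Nat.sub_eq_iff_eq_add (Nat.one_le_pow _ _ (by omega))]; ring⟩
    exact hsq.trans (dvd_mul_left _ _)
  · exfalso
    refine h16 ?_
    rw [card_eq_card_quotient_mul_card_subgroup (center (G₁ ⧸ O₁)), Nat.card_congr eA.toEquiv, hZ,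
      nat_card_alternatingGroup, Nat.card_fin]
    norm_num [Nat.factorial]

end Cfsg.Lib.GW
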