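import Cfsg.Agent.Lib.GW.Perfect
import Cfsg.Agent.Lib.Linear.SLPerfect
import Cfsg.Agent.Lib.Linear.SLBasic
import Cfsg.Agent.S2202
import Cfsg.Agent.S4593

/-!
# Self-centralizing D-groups: the central four group case

`H = B ∪ hB` with `B` abelian and inverted from outside, and `C(j) = H` for the involutions `j` of `B`.
If `B` contains a four group and is not of exponent two, a nonsolvable group is `PSL₂(2ⁿ)` over a normal
subgroup of order twice an odd number (`DCtx.main`). `main_elementary` is the case of elementary `H`.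
-/

set_option autoImplicit false
set_option linter.style.haveILetI false

namespace Cfsg.Lib.GW.DGroup

open Subgroup
open scoped commutatorElement

universe u

variable {G : Type u} [Group G] [Finite G]

/-- The conclusion: `PSL₂(2ⁿ)` over a normal subgroup of small 2-part. -/
def Concl (G : Type u) [Group G] : Prop :=
  ∃ (N : Subgroup G) (_ : N.Normal), (Odd (Nat.card ↥N) ∨ ∃ m : ℕ, Odd m ∧ Nat.card ↥N = 2 * m) ∧
    ∃ (F : Type) (_ : Field F) (_ : Fintype F), 3 < Fintype.card F ∧
      Nonempty (G ⧸ N ≃* Matrix.ProjectiveSpecialLinearGroup (Fin 2) F)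

theorem mem_centralizer_conj {x i y : G} :
    x * y * x⁻¹ ∈ centralizer ({x * i * x⁻¹} : Set G) ↔ y ∈ centralizer ({i} : Set G) := by
  rw [mem_centralizer_singleton_iff, mem_centralizer_singleton_iff]
  constructor
  · intro h
    have h' : x * (y * i) * x⁻¹ = x * (i * y) * x⁻¹ := by
      simp only [mul_assoc, inv_mul_cancel_left] at h ⊢
      exact h
    exact mul_left_cancel (mul_right_cancel h')
  · intro h
    simp only [mul_assoc, inv_mul_cancel_left]
    rw [← mul_assoc y i, h, mul_assoc]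

theorem sign_of_fixedPointFree {α : Type*} [Fintype α] [DecidableEq α] (σ : Equiv.Perm α) (h2 : σ * σ = 1)
    (hf : ∀ a, σ a ≠ a) {m : ℕ} (hm : Odd m) (hc : Fintype.card α = 2 * m) : Equiv.Perm.sign σ = -1 := by
  have hsupp : σ.support = Finset.univ := Finset.eq_univ_of_forall fun a => Equiv.Perm.mem_support.2 (hf a)
  have hall : ∀ n ∈ σ.cycleType, n = 2 := fun n hn => by
    have h1 := (Equiv.Perm.dvd_of_mem_cycleType hn).trans (orderOf_dvd_of_pow_eq_one
      (show σ ^ 2 = 1 by rw [pow_two, h2]))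
    have h2' := Equiv.Perm.two_le_of_mem_cycleType hn
    have := Nat.le_of_dvd two_pos h1
    omega
  have hsum : σ.cycleType.sum = 2 * m := by rw [Equiv.Perm.sum_cycleType, hsupp, Finset.card_univ, hc]
  have hrep := Multiset.eq_replicate_card.2 hall
  have hk : Multiset.card σ.cycleType = m := by
    rw [hrep, Multiset.sum_replicate, smul_eq_mul] at hsum
    omega
  rw [Equiv.Perm.sign_of_cycleType, hsum, hk]
  exact Odd.neg_one_pow ((even_two_mul m).add_odd hm)

theorem sq_eq_one_of_two_pow {F : Type*} [Field F] [CharP F 2] (x : Matrix.SpecialLinearGroup (Fin 2) F)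
    {k : ℕ} (hx : x ^ (2 ^ k) = 1) : x * x = 1 := by
  haveI : Fact (Nat.Prime 2) := ⟨Nat.prime_two⟩
  set X : Matrix (Fin 2) (Fin 2) F := ↑x
  haveI : CharP (Matrix (Fin 2) (Fin 2) F) 2 := inferInstance
  have hN : IsNilpotent (X - 1) := ⟨2 ^ k, by
    rw [sub_pow_char_pow_of_commute 2 k (Commute.one_right X), one_pow]
    have := congrArg (fun y : Matrix.SpecialLinearGroup (Fin 2) F => (y : Matrix (Fin 2) (Fin 2) F)) hx
    simp only [Matrix.SpecialLinearGroup.coe_pow, Matrix.SpecialLinearGroup.coe_one] at this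
    rw [this, sub_self]⟩
  have htr : (X - 1).trace = 0 := (Matrix.isNilpotent_trace_of_isNilpotent hN).eq_zero
  have hdet : (X - 1).det = 0 := IsNilpotent.eq_zero (by
    obtain ⟨n, hn⟩ := hN
    refine ⟨n + 1, ?_⟩
    rw [← Matrix.det_pow, pow_succ, hn, zero_mul]
    exact Matrix.det_zero)
  have hsq : (X - 1) * (X - 1) = 0 := by
    rw [Matrix.trace_fin_two] at htr
    rw [Matrix.det_fin_two] at hdet
    generalize hM : X - 1 = M at htr hdet ⊢
    ext i j
    fin_cases i <;> fin_cases j <;> simp [Matrix.mul_apply, Fin.sum_univ_two]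
    · linear_combination M 0 0 * htr - hdet
    · linear_combination M 0 1 * htr
    · linear_combination M 1 0 * htr
    · linear_combination M 1 1 * htr - hdet
  refine Subtype.ext ?_
  show X * X = 1
  have h2 : (X - 1) * (X - 1) = X * X - 1 := by
    have := sub_pow_char_of_commute 2 (Commute.one_right X)
    rw [pow_two, pow_two, pow_two, one_mul] at this
    exact this
  rw [h2, sub_eq_zero] at hsq
  exact hsq

/-- The hypotheses. -/
structure DCtx (H B : Subgroup G) : Prop where
  le : B ≤ H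
  comm : ∀ a ∈ B, ∀ b ∈ B, a * b = b * a
  index : B.relIndex H = 2
  sq : ∀ x ∈ H, x ∉ B → x * x = 1
  inv : ∀ x ∈ H, x ∉ B → ∀ b ∈ B, x * b * x⁻¹ = b⁻¹
  cent : ∀ j ∈ B, orderOf j = 2 → centralizer ({j} : Set G) = H
  exp : ∃ b ∈ B, b * b ≠ 1

namespace DCtx

variable {H B : Subgroup G}

theorem exists_outside (c : DCtx H B) : ∃ h ∈ H, h ∉ B := by
  by_contra hne
  push Not at hne
  have h1 := relIndex_eq_one.2 hne
  rw [c.index] at h1
  omega

/-- The involutions of `B`, with `1`. -/
def two (c : DCtx H B) : Subgroup G where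
  carrier := {b | b ∈ B ∧ b * b = 1}
  one_mem' := ⟨one_mem _, one_mul 1⟩
  mul_mem' := fun {a b} ha hb => ⟨mul_mem ha.1 hb.1, by
    rw [mul_assoc, ← mul_assoc b, c.comm b hb.1 a ha.1, mul_assoc, hb.2, mul_one, ha.2]⟩
  inv_mem' := fun {a} ha => ⟨inv_mem ha.1, by rw [← mul_inv_rev, ha.2, inv_one]⟩

theorem mem_two (c : DCtx H B) {b : G} : b ∈ c.two ↔ b ∈ B ∧ b * b = 1 := Iff.rfl

theorem orderOf_two (c : DCtx H B) {b : G} (hb : b ∈ c.two) (h1 : b ≠ 1) : orderOf b = 2 :=
  orderOf_eq_prime (by rw [pow_two]; exact hb.2) h1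

theorem two_le (c : DCtx H B) : c.two ≤ H := fun _ hb => c.le hb.1

theorem two_central (c : DCtx H B) {b y : G} (hb : b ∈ c.two) (hy : y ∈ H) : y * b = b * y := by
  by_cases hyB : y ∈ B
  · exact c.comm y hyB b hb.1
  · have h := c.inv y hy hyB b hb.1
    rw [inv_eq_of_mul_eq_one_right hb.2] at h
    exact mul_inv_eq_iff_eq_mul.1 h

theorem not_central (c : DCtx H B) {h : G} (hh : h ∈ H) (hB : h ∉ B)
    (hc : H ≤ centralizer ({h} : Set G)) : False := by
  obtain ⟨b, hb, hb2⟩ := c.exp
  have h1 : h * b = b * h := (mem_centralizer_singleton_iff.1 (hc (c.le hb))).symm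
  have h2 := c.inv h hh hB b hb
  rw [h1, mul_inv_cancel_right] at h2
  exact hb2 (mul_eq_one_iff_eq_inv.2 h2)

/-- An elementary abelian subgroup of `H` of order at least four meets the involutions of `B`. -/
theorem exists_mem_two (c : DCtx H B) {E : Subgroup G} (hE : E ≤ H) (h4 : 4 ≤ Nat.card E)
    (hsq : ∀ e ∈ E, e * e = 1) : ∃ e ∈ E, e ≠ 1 ∧ e ∈ c.two := by
  have hle : B.relIndex E ≤ 2 := by
    rw [← c.index]
    exact relIndex_le_of_le_right hE (by rw [c.index]; omega)
  have h1 := relIndex_mul_relIndex (⊥ : Subgroup G) (E ⊓ B) E bot_le inf_le_left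
  rw [relIndex_bot_left, relIndex_bot_left, inf_relIndex_left] at h1
  by_contra hne
  push Not at hne
  have hb : E ⊓ B = ⊥ := (eq_bot_iff_forall _).2 fun e he => by
    by_contra h
    exact hne e he.1 h ⟨he.2, hsq e he.1⟩
  rw [hb, Subgroup.card_bot, one_mul] at h1
  omega

theorem conj_mem_iff (c : DCtx H B) {x i : G} (hi : i ∈ c.two) (hi1 : i ≠ 1) (hxi : x * i * x⁻¹ ∈ c.two)
    (y : G) : x * y * x⁻¹ ∈ H ↔ y ∈ H := by
  have h1 := c.cent i hi.1 (c.orderOf_two hi hi1)
  have h2 := c.cent _ hxi.1 (c.orderOf_two hxi (fun h => hi1 (conj_eq_one_iff.1 h)))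
  rw [← SetLike.ext_iff.1 h2, mem_centralizer_conj, h1]

/-- If `x` carries all involutions of `B` into `H` then it fixes `H`. -/
theorem conj_mem_iff_of_le (c : DCtx H B) (h4 : 4 ≤ Nat.card c.two) {x : G}
    (hx : ∀ b ∈ c.two, x * b * x⁻¹ ∈ H) (y : G) : x * y * x⁻¹ ∈ H ↔ y ∈ H := by
  have hcard : 4 ≤ Nat.card (c.two.map (MulAut.conj x).toMonoidHom) := by
    rwa [card_map_of_injective (MulAut.conj x).injective]
  obtain ⟨_, ⟨i, hi, rfl⟩, he1, he2⟩ := c.exists_mem_two
    (E := c.two.map (MulAut.conj x).toMonoidHom) (by rintro _ ⟨b, hb, rfl⟩; exact hx b hb) hcard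
    (by rintro _ ⟨b, hb, rfl⟩; rw [← map_mul, hb.2, map_one])
  refine c.conj_mem_iff hi (fun h => he1 ?_) he2 y
  rw [h, map_one]

theorem not_conj_mem (c : DCtx H B) (h4 : 4 ≤ Nat.card c.two) {h g : G} (hh : h ∈ H) (hB : h ∉ B)
    (hg : g * h * g⁻¹ ∈ B) : False := by
  have hne : g * h * g⁻¹ ≠ 1 := fun e => hB (by rw [conj_eq_one_iff.1 e]; exact one_mem B)
  have hsq : g * h * g⁻¹ * (g * h * g⁻¹) = 1 := by
    rw [show g * h * g⁻¹ * (g * h * g⁻¹) = g * (h * h) * g⁻¹ by group, c.sq h hh hB]; group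
  have hC := c.cent _ hg (c.orderOf_two ⟨hg, hsq⟩ hne)
  have hmem : ∀ y, g * y * g⁻¹ ∈ H ↔ y ∈ centralizer ({h} : Set G) := fun y => by
    rw [← hC, mem_centralizer_conj]
  have hH : ∀ y, g * y * g⁻¹ ∈ H ↔ y ∈ H := c.conj_mem_iff_of_le h4 fun b hb =>
    (hmem b).2 (mem_centralizer_singleton_iff.2 (c.two_central hb hh).symm)
  exact c.not_central hh hB fun y hy => (hmem y).1 ((hH y).2 hy)

/-- There is a Sylow 2-subgroup of `G` contained in `H`. -/
theorem exists_sylow (c : DCtx H B) (h4 : 4 ≤ Nat.card c.two) :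
    ∃ P : Sylow 2 G, (P : Subgroup G) ≤ H := by
  haveI : Fact (Nat.Prime 2) := ⟨Nat.prime_two⟩
  have htwo : IsPGroup 2 (c.two.subgroupOf H) := fun x =>
    ⟨1, Subtype.ext (Subtype.ext (by rw [pow_one, pow_two]; exact x.2.2))⟩
  obtain ⟨S, hS⟩ := htwo.exists_le_sylow
  obtain ⟨P, hP⟩ := (S.isPGroup'.map H.subtype).exists_le_sylow
  refine ⟨P, ?_⟩
  have hPH : (P : Subgroup G) ⊓ H = (S : Subgroup H).map H.subtype := by
    refine le_antisymm ?_ (le_inf hP (map_subtype_le _))
    have hmax := S.is_maximal' (P.isPGroup'.comap_subtype (K := H)) fun x hx => hP (mem_map_of_mem _ hx)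
    intro x hx
    exact ⟨⟨x, hx.2⟩, hmax ▸ (show (⟨x, hx.2⟩ : H) ∈ (P : Subgroup G).comap H.subtype from hx.1), rfl⟩
  by_contra hne
  let S0 : Subgroup (P : Subgroup G) := ((P : Subgroup G) ⊓ H).subgroupOf P
  have hlt : S0 < ⊤ := lt_top_iff_ne_top.2 fun htop => hne fun x hx => by
    have : (⟨x, hx⟩ : (P : Subgroup G)) ∈ S0 := by rw [htop]; exact mem_top _
    exact this.2
  haveI : Group.IsNilpotent (P : Subgroup G) := P.isPGroup'.isNilpotent
  obtain ⟨⟨x, hxP⟩, hxN, hxS⟩ := SetLike.exists_of_lt (Group.normalizerCondition_of_isNilpotent S0 hlt)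
  have hxH : x ∉ H := fun h => hxS ⟨hxP, h⟩
  have hnorm : ∀ y ∈ (P : Subgroup G) ⊓ H, x * y * x⁻¹ ∈ (P : Subgroup G) ⊓ H := fun y hy =>
    ((mem_normalizer_iff.1 hxN ⟨y, hy.1⟩).1 hy :)
  have htwoPH : c.two ≤ (P : Subgroup G) ⊓ H := fun b hb =>
    ⟨hP ⟨⟨b, c.two_le hb⟩, hS hb, rfl⟩, c.two_le hb⟩
  have hH := c.conj_mem_iff_of_le h4 fun b hb => (hnorm b (htwoPH hb)).2
  -- `x` permutes the involutions of `B`
  have hperm : ∀ b ∈ c.two, x * b * x⁻¹ ∈ c.two := by
    intro b hb
    by_cases hb1 : b = 1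
    · subst hb1; simp
    have hsq : x * b * x⁻¹ * (x * b * x⁻¹) = 1 := by
      rw [show x * b * x⁻¹ * (x * b * x⁻¹) = x * (b * b) * x⁻¹ by group, hb.2]; group
    refine ⟨?_, hsq⟩
    by_contra hB
    refine c.not_central ((hH b).2 (c.two_le hb)) hB fun y hy => ?_
    have hy' : x⁻¹ * y * x ∈ H := (hH _).1 (by simpa [mul_assoc] using hy)
    have h1 : x * (x⁻¹ * y * x) * x⁻¹ ∈ centralizer ({x * b * x⁻¹} : Set G) :=
      mem_centralizer_conj.2 (mem_centralizer_singleton_iff.2 (c.two_central hb hy'))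
    simpa [mul_assoc] using h1
  classical
  haveI := Fintype.ofFinite c.two
  let f : c.two → c.two := fun b => ⟨x * b * x⁻¹, hperm b b.2⟩
  have hf : Function.Injective f := fun a b hab =>
    Subtype.ext (mul_left_cancel (mul_right_cancel (congrArg Subtype.val hab :)))
  let σ : Equiv.Perm c.two := Equiv.ofBijective f (Finite.injective_iff_bijective.1 hf)
  obtain ⟨k, hk⟩ := P.isPGroup' ⟨x, hxP⟩
  have hxk : x ^ 2 ^ k = 1 := congrArg Subtype.val hk
  have hpow : ∀ n (b : c.two), ((σ ^ n) b : G) = x ^ n * b * (x ^ n)⁻¹ := by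
    intro n
    induction n with
    | zero => intro b; simp
    | succ n ih =>
      intro b
      rw [pow_succ', Equiv.Perm.mul_apply]
      show x * ((σ ^ n) b : G) * x⁻¹ = _
      rw [ih, pow_succ', mul_inv_rev]
      group
  have hσ : σ ^ 2 ^ k = 1 := Equiv.ext fun b => Subtype.ext (by rw [hpow, hxk]; simp)
  have hmod := Equiv.Perm.card_compl_support_modEq (p := 2) hσ
  have heven : 2 ∣ Fintype.card c.two := by
    obtain ⟨j, hj⟩ := (IsPGroup.of_equiv htwo (subgroupOfEquivOfLe c.two_le)).exists_card_eq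
    rw [← Nat.card_eq_fintype_card, hj]
    refine dvd_pow_self 2 ?_
    rintro rfl
    rw [hj] at h4
    omega
  have hfix : ∃ b : c.two, σ b = b ∧ b ≠ 1 := by
    by_contra hno
    push Not at hno
    have h1 : σ.supportᶜ = {1} := by
      ext b
      simp only [Finset.mem_compl, Equiv.Perm.mem_support, not_not, Finset.mem_singleton]
      refine ⟨hno b, fun hb => ?_⟩
      rw [hb]
      exact Subtype.ext (by show x * 1 * x⁻¹ = 1; simp)
    rw [h1, Finset.card_singleton, Nat.modEq_iff_dvd'] at hmod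
    · have := Fintype.card_pos (α := c.two); omega
    · exact Fintype.card_pos
  obtain ⟨b, hb, hb1⟩ := hfix
  refine hxH ?_
  rw [← c.cent (b : G) b.2.1 (c.orderOf_two b.2 fun h => hb1 (Subtype.ext h)),
    mem_centralizer_singleton_iff]
  exact mul_inv_eq_iff_eq_mul.1 (congrArg Subtype.val hb :)

/-- The case where `B` has a four group. -/
theorem main (c : DCtx H B) (h4 : 4 ≤ Nat.card c.two) (hns : ¬ Group.IsSolvable G) : Concl G := by
  classical
  haveI : Fact (Nat.Prime 2) := ⟨Nat.prime_two⟩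
  obtain ⟨P, hPH⟩ := c.exists_sylow h4
  set B2 := (P : Subgroup G) ⊓ B
  have hP2 : B2.relIndex (P : Subgroup G) = 2 := by
    rw [show B2.relIndex (P : Subgroup G) = B.relIndex (P : Subgroup G) from inf_relIndex_left _ _]
    have hle : B.relIndex (P : Subgroup G) ≤ 2 :=
      (relIndex_le_of_le_right hPH (by rw [c.index]; omega)).trans c.index.le
    have h0 : B.relIndex (P : Subgroup G) ≠ 0 := index_ne_zero_of_finite
    have h1 : B.relIndex (P : Subgroup G) ≠ 1 := fun h => by
      have hdvd : B.index ∣ (P : Subgroup G).index := index_dvd_of_le (relIndex_eq_one.1 h)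
      have h2 : 2 ∣ B.index := ⟨H.index, by rw [← relIndex_mul_index c.le, c.index]⟩
      exact P.not_dvd_index (h2.trans hdvd)
    omega
  have hB2 : B2.index = 2 * (P : Subgroup G).index := by
    rw [← relIndex_mul_index (inf_le_left : B2 ≤ (P : Subgroup G)), hP2]
  have hodd : Odd (P : Subgroup G).index := by
    rw [← Nat.not_even_iff_odd, even_iff_two_dvd]
    exact P.not_dvd_index
  -- the sign of the action on the cosets of `B2`
  haveI := Fintype.ofFinite (G ⧸ B2)
  let ε : G →* ℤˣ := Equiv.Perm.sign.comp (MulAction.toPermHom G (G ⧸ B2))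
  have hεP : ∀ h ∈ (P : Subgroup G), h ∉ B → ε h = -1 := by
    intro h hh hB
    refine sign_of_fixedPointFree _ ?_ ?_ hodd ?_
    · rw [← map_mul, c.sq h (hPH hh) hB, map_one]
    · rintro ⟨g⟩ hg
      refine c.not_conj_mem h4 (hPH hh) hB (g := g⁻¹) ?_
      have hg' : ((h * g : G) : G ⧸ B2) = (g : G ⧸ B2) := hg
      rw [inv_inv]
      have h1 := (QuotientGroup.eq.1 hg'.symm).2
      rwa [← mul_assoc] at h1
    · rw [← Nat.card_eq_fintype_card, ← index_eq_card, hB2]
  have hBn : ∀ x ∈ H, ∀ b ∈ B, x * b * x⁻¹ ∈ B := fun x hx b hb => by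
    by_cases hxB : x ∈ B
    · exact mul_mem (mul_mem hxB hb) (inv_mem hxB)
    · rw [c.inv x hx hxB b hb]; exact inv_mem hb
  have hout : ∀ h ∈ H, h ∉ B → ε h = -1 := by
    intro h hh hB
    have h2 : IsPGroup 2 (zpowers (⟨h, hh⟩ : H)) := by
      refine IsPGroup.of_card (n := 1) ?_
      rw [Nat.card_zpowers, orderOf_eq_prime (p := 2)]
      · rfl
      · exact Subtype.ext (by rw [pow_two]; exact c.sq h hh hB)
      · exact fun e => hB (by rw [show h = 1 from congrArg Subtype.val e]; exact one_mem B)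
    obtain ⟨T, hT⟩ := h2.exists_le_sylow
    obtain ⟨y, hy⟩ := MulAction.exists_smul_eq H T (P.subtype hPH)
    have hm : y * ⟨h, hh⟩ * y⁻¹ ∈ (P.subtype hPH : Sylow 2 H) := by
      rw [← hy]
      exact ⟨⟨h, hh⟩, hT (mem_zpowers _), rfl⟩
    have hP' : (y : G) * h * (y : G)⁻¹ ∈ (P : Subgroup G) := hm
    have hB' : (y : G) * h * (y : G)⁻¹ ∉ B := fun hb => hB (by
      have := hBn (y : G)⁻¹ (inv_mem y.2) _ hb
      simpa [mul_assoc] using this)
    have := hεP _ hP' hB'
    rwa [map_mul, map_mul, map_inv, mul_comm (ε y), mul_inv_cancel_right] at this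
  obtain ⟨h0, hh0, hh0B⟩ := c.exists_outside
  set K := ε.ker
  have hin : ∀ b ∈ B, b ∈ K := fun b hb => by
    have := hout (h0 * b) (mul_mem hh0 (c.le hb)) (fun h => hh0B ((mul_mem_cancel_right hb).1 h))
    rw [map_mul, hout h0 hh0 hh0B] at this
    exact MonoidHom.mem_ker.2 (mul_left_cancel (this.trans (mul_one (-1)).symm))
  have hHK : ∀ y ∈ H, y ∈ K → y ∈ B := fun y hy hyK => by
    by_contra hB
    have := (hout y hy hB).symm.trans (MonoidHom.mem_ker.1 hyK)
    exact absurd this (by decide)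
  have hKi : K.index = 2 := by
    rw [index_ker]
    refine le_antisymm ((card_le_card_group _).trans (le_of_eq ?_)) ?_
    · simp
    · rw [Nat.succ_le_iff, one_lt_card_iff_ne_bot]
      intro hb
      have hm : ε h0 ∈ ε.range := ⟨h0, rfl⟩
      rw [hb, mem_bot, hout h0 hh0 hh0B] at hm
      exact absurd hm (by decide)
  have hKodd : Group.IsSolvable (G ⧸ K) := isSolvable_of_not_four_dvd (by rw [← index_eq_card, hKi]; omega)
  have hKns : ¬ Group.IsSolvable K := fun hs => hns
    (Group.isSolvable_of_ker_le_range K.subtype (QuotientGroup.mk' K) (by simp))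
  -- every involution of `K` is conjugate into `B`
  have hinv : ∀ t : G, t ∈ K → orderOf t = 2 → ∃ g : G, g * t * g⁻¹ ∈ B := by
    intro t htK ht
    obtain ⟨T, hT⟩ := (IsPGroup.of_card (n := 1) (by rw [Nat.card_zpowers, ht]; rfl) :
      IsPGroup 2 (zpowers t)).exists_le_sylow
    obtain ⟨g, hg⟩ := MulAction.exists_smul_eq G T P
    have hm : g * t * g⁻¹ ∈ (P : Subgroup G) := by
      rw [← hg]
      exact ⟨t, hT (mem_zpowers _), rfl⟩
    exact ⟨g, hHK _ (hPH hm) (Normal.conj_mem inferInstance t htK g)⟩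
  have hab : ∀ t : K, orderOf t = 2 → IsMulCommutative ↥(centralizer ({t} : Set K)) := by
    intro t ht
    rw [← Subgroup.orderOf_coe] at ht
    obtain ⟨g, hg⟩ := hinv t t.2 ht
    have hC := c.cent _ hg (by rw [← MulAut.conj_apply, (MulAut.conj g).orderOf_eq]; exact ht)
    have hB : ∀ y : centralizer ({t} : Set K), g * ((y : K) : G) * g⁻¹ ∈ B := fun y => by
      refine hHK _ ?_ (Normal.conj_mem inferInstance _ (y : K).2 g)
      rw [← hC, mem_centralizer_conj]
      exact mem_centralizer_singleton_iff.2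
        (congrArg Subtype.val (mem_centralizer_singleton_iff.1 y.2) :)
    refine ⟨⟨fun a b => Subtype.ext (Subtype.ext ?_)⟩⟩
    have h := c.comm _ (hB a) _ (hB b)
    simp only [mul_assoc, inv_mul_cancel_left] at h
    simp only [← mul_assoc] at h
    exact mul_left_cancel (a := g) (mul_right_cancel (b := g⁻¹) (by simpa [mul_assoc] using h))
  have htwoK : c.two ≤ K := fun b hb => hin b hb.1
  have hevenK : Even (Nat.card K) := by
    rw [even_iff_two_dvd]
    obtain ⟨b, hb, hb1, hb2⟩ := c.exists_mem_two c.two_le h4 fun e he => he.2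
    rw [← c.orderOf_two hb2 hb1, ← Subgroup.orderOf_mk b (htwoK hb2)]
    exact orderOf_dvd_natCard _
  rcases Cfsg.Agent.S2202.result hevenK hab with hcyc | hnorm | hSL
  · exfalso
    have htwo : IsPGroup 2 (c.two.subgroupOf K) := fun x =>
      ⟨1, Subtype.ext (Subtype.ext (by rw [pow_one, pow_two]; exact x.2.2))⟩
    obtain ⟨T, hT⟩ := htwo.exists_le_sylow
    haveI := hcyc T
    haveI : IsCyclic (c.two.subgroupOf K) :=
      isCyclic_of_injective (Subgroup.inclusion hT) (Subgroup.inclusion_injective hT)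
    obtain ⟨a, ha⟩ := IsCyclic.exists_generator (α := c.two.subgroupOf K)
    have h2 : orderOf a ≤ 2 := orderOf_le_of_pow_eq_one two_pos
      (Subtype.ext (Subtype.ext (by rw [pow_two]; exact a.2.2)))
    rw [orderOf_eq_card_of_forall_mem_zpowers ha, Nat.card_congr (subgroupOfEquivOfLe htwoK).toEquiv] at h2
    omega
  · exfalso
    obtain ⟨T⟩ : Nonempty (Sylow 2 K) := inferInstance
    haveI := hnorm T
    haveI : Group.IsSolvable (T : Subgroup K) := by
      haveI := T.isPGroup'.isNilpotent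
      infer_instance
    haveI : Group.IsSolvable (K ⧸ (T : Subgroup K)) := isSolvable_of_not_four_dvd fun h => by
      rw [← index_eq_card] at h
      exact T.not_dvd_index ((show 2 ∣ 4 by norm_num).trans h)
    exact hKns (Group.isSolvable_of_ker_le_range (T : Subgroup K).subtype (QuotientGroup.mk' (T : Subgroup K)) (by rw [QuotientGroup.ker_mk', range_subtype]))
  · obtain ⟨F, _, _, A, _, _, hF2, hA, ⟨e⟩⟩ := hSL
    haveI := hF2
    -- `q > 3`
    obtain ⟨f, -, hq⟩ := FiniteField.card F 2
    have h4q : 4 ≤ Fintype.card F := by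
      by_contra hlt
      have hq2 : Fintype.card F = 2 := by
        rcases Nat.lt_or_ge (f : ℕ) 2 with hf | hf
        · have hf1 : (f : ℕ) = 1 := by have := f.pos; omega
          rw [hq, hf1, pow_one]
        · exact absurd (hq ▸ (show 2 ^ 2 ≤ 2 ^ (f : ℕ) from Nat.pow_le_pow_right two_pos hf)) hlt
      have hcard := Cfsg.Lib.Linear.card_SL_mul (F := F) 2 (by norm_num)
      rw [hq2] at hcard
      simp at hcard
      haveI : Group.IsSolvable (Matrix.SpecialLinearGroup (Fin 2) F) :=
        isSolvable_of_not_four_dvd (by rw [Nat.card_eq_fintype_card, hcard]; decide)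
      haveI : Group.IsSolvable A := Cfsg.Lib.Core.isSolvable_of_isMulCommutative _
      exact hKns (Group.isSolvable_of_isSolvable_injective (f := e.toMonoidHom) e.injective)
    -- the component `L`
    let SL := Matrix.SpecialLinearGroup (Fin 2) F
    have hperf : commutator SL = ⊤ := Cfsg.Lib.Linear.commutator_SL_eq_top' (Or.inr h4q)
    let f₀ : SL →* G := K.subtype.comp (e.symm.toMonoidHom.comp (MonoidHom.inl SL A))
    have hf₀ : Function.Injective f₀ := fun a b hab =>
      (Prod.ext_iff.1 (e.symm.injective (K.subtype_injective hab :))).1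
    set L := f₀.range
    have hL : L = ⁅K, K⁆ := by
      refine le_antisymm ?_ (commutator_le.2 fun a ha b hb => ?_)
      · show f₀.range ≤ _
        rw [MonoidHom.range_eq_map, ← hperf, _root_.commutator_def, map_commutator]
        refine commutator_mono ?_ ?_ <;> exact (map_le_range _ _).trans (by rintro _ ⟨s, rfl⟩; exact Subtype.coe_prop _)
      · obtain ⟨s, hs⟩ : ∃ s : SL, s = ⁅((e ⟨a, ha⟩).1 : SL), ((e ⟨b, hb⟩).1 : SL)⁆ := ⟨_, rfl⟩
        refine ⟨s, ?_⟩
        have hpair : ((s, 1) : SL × A) = ⁅e ⟨a, ha⟩, e ⟨b, hb⟩⁆ :=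
          Prod.ext hs (by simp [commutatorElement_def, mul_comm, mul_left_comm])
        show ((e.symm (s, 1) : K) : G) = _
        rw [hpair, ← map_commutatorElement, e.symm_apply_apply]
        exact map_commutatorElement K.subtype _ _
    haveI : L.Normal := by rw [hL]; infer_instance
    let eL : SL ≃* L := MonoidHom.ofInjective hf₀
    -- `L` is simple
    have hcen : center SL = ⊥ := by
      refine Subgroup.card_eq_one.1 ?_
      rw [Cfsg.Lib.Linear.card_center_SL, Fintype.card_fin, hq]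
      obtain ⟨m, hm⟩ : Odd (2 ^ (f : ℕ) - 1) :=
        Nat.Even.sub_odd (Nat.one_le_two_pow) (even_two.pow_of_ne_zero f.ne_zero) odd_one
      rw [hm]
      simp
    let θ : SL ≃* Matrix.ProjectiveSpecialLinearGroup (Fin 2) F :=
      (QuotientGroup.quotientBot (G := SL)).symm.trans (QuotientGroup.quotientMulEquivOfEq hcen.symm)
    haveI : IsSimpleGroup (Matrix.ProjectiveSpecialLinearGroup (Fin 2) F) :=
      Cfsg.Lib.Linear.PSL_simple 2 le_rfl fun _ => by rw [Nat.card_eq_fintype_card]; exact h4q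
    let eP : L ≃* Matrix.ProjectiveSpecialLinearGroup (Fin 2) F := eL.symm.trans θ
    haveI : Nontrivial L := eP.toEquiv.nontrivial
    haveI : IsSimpleGroup L := IsSimpleGroup.isSimpleGroup_of_surjective eP.symm.toMonoidHom eP.symm.surjective
    have hLna : ¬ IsMulCommutative L := fun h => by
      have h1 : commutator SL = ⊥ := by
        rw [eq_bot_iff, _root_.commutator_def, commutator_le]
        intro a _ b _
        rw [mem_bot, commutatorElement_eq_one_iff_mul_comm]
        exact eL.injective (by rw [map_mul, map_mul]; exact h.is_comm.comm _ _)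
      rw [hperf] at h1
      exact not_subsingleton L ⟨fun a b => eL.symm.injective
        ((mem_bot.1 (h1 ▸ mem_top (eL.symm a))).trans (mem_bot.1 (h1 ▸ mem_top (eL.symm b))).symm)⟩
    have hLZ : center L = ⊥ := by
      rcases (center L).normal_of_characteristic.eq_bot_or_eq_top with h | h
      · exact h
      · exact absurd ⟨⟨fun a b => (mem_center_iff.1 (h ▸ mem_top a) b).symm⟩⟩ hLna
    have hLO : Cfsg.pPrimeCore 2 L = ⊥ := by
      rcases (inferInstance : (Cfsg.pPrimeCore 2 L).Normal).eq_bot_or_eq_top with h | h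
      · exact h
      exfalso
      have ho := ZStar.odd_card_oddCore (G := L)
      rw [show Cfsg.oddCore L = ⊤ from h, Subgroup.card_top] at ho
      haveI := isSolvable_of_not_four_dvd (G := L)
        fun h4 => Nat.not_even_iff_odd.2 ho (even_iff_two_dvd.2 ((show 2 ∣ 4 by norm_num).trans h4))
      haveI := subsingleton_of_perfect_solvable (G := L) (by
        rw [_root_.commutator_def, ← map_top_of_surjective eL.toMonoidHom eL.surjective, ← map_commutator,
          ← _root_.commutator_def, hperf])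
      exact not_subsingleton L inferInstance
    -- an element inverting a Sylow 2-subgroup of `L`
    obtain ⟨T⟩ : Nonempty (Sylow 2 L) := inferInstance
    obtain ⟨P', hP'⟩ := (T.isPGroup'.map L.subtype).exists_le_sylow
    obtain ⟨g, hg⟩ := MulAction.exists_smul_eq G P P'
    have hLK : L ≤ K := by rw [hL]; exact commutator_le_self K
    have hTB : ∀ x ∈ (T : Subgroup L), g⁻¹ * (x : G) * g ∈ B := by
      intro x hx
      have h1 : (x : G) ∈ (P' : Subgroup G) := hP' ⟨x, hx, rfl⟩
      rw [← hg] at h1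
      obtain ⟨y, hy, hy'⟩ := h1
      have hy2 : g * y * g⁻¹ = (x : G) := hy'
      have : g⁻¹ * (x : G) * g = y := by rw [← hy2]; group
      rw [this]
      refine hHK y (hPH hy) ?_
      rw [← this]
      simpa using Normal.conj_mem (inferInstance : K.Normal) _ (hLK x.2) g⁻¹
    have hsqT : ∀ x ∈ (T : Subgroup L), x * x = 1 := fun x hx => by
      obtain ⟨k, hk⟩ := T.isPGroup' ⟨x, hx⟩
      have hk' : x ^ 2 ^ k = 1 := congrArg Subtype.val hk
      refine eL.symm.injective ?_
      rw [map_mul, map_one]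
      exact sq_eq_one_of_two_pow _ (k := k) (by rw [← map_pow, hk', map_one])
    set h := g * h0 * g⁻¹
    have hh2 : h * h = 1 := by
      show g * h0 * g⁻¹ * (g * h0 * g⁻¹) = 1
      rw [show g * h0 * g⁻¹ * (g * h0 * g⁻¹) = g * (h0 * h0) * g⁻¹ by group, c.sq h0 hh0 hh0B]; group
    let α : MulAut L := MulAut.conjNormal h
    have hα2 : ∃ j : ℕ, orderOf α = 2 ^ j := by
      obtain ⟨j, -, hj⟩ := (Nat.dvd_prime_pow Nat.prime_two).1
        (orderOf_dvd_of_pow_eq_one (n := 2 ^ 1) (x := α)
          (by rw [pow_one, pow_two]; show MulAut.conjNormal h * MulAut.conjNormal h = 1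
              rw [← map_mul, hh2, map_one]))
      exact ⟨j, hj⟩
    have hfix : ∀ x ∈ (T : Subgroup L), α x = x := fun x hx => Subtype.ext (by
      rw [MulAut.conjNormal_apply]
      have h1 := c.inv h0 hh0 hh0B _ (hTB x hx)
      have h2 : (g⁻¹ * (x : G) * g)⁻¹ = g⁻¹ * (x : G) * g := by
        have h3 : (x : G)⁻¹ = x := inv_eq_of_mul_eq_one_right (congrArg Subtype.val (hsqT x hx) :)
        rw [mul_inv_rev, mul_inv_rev, inv_inv, h3, mul_assoc]
      rw [h2] at h1
      have h3 := congrArg (fun y => g * y * g⁻¹) h1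
      simp only [mul_assoc, mul_inv_cancel, mul_inv_cancel_left, mul_one] at h3
      show g * h0 * g⁻¹ * (x : G) * (g * h0 * g⁻¹)⁻¹ = x
      simp only [mul_assoc, mul_inv_rev, inv_inv]
      exact h3)
    haveI hTab : IsMulCommutative (T : Subgroup L) := ⟨⟨fun a b => Subtype.ext (Subtype.ext (by
      have h1 := c.comm _ (hTB a a.2) _ (hTB b b.2)
      have h2 := congrArg (fun y => g * y * g⁻¹) h1
      simp only [mul_assoc, mul_inv_cancel_left, mul_inv_cancel, mul_one] at h2
      exact h2))⟩⟩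
    obtain ⟨l, hl⟩ := Cfsg.Agent.S4593.result hLZ hLO T hTab α hα2 hfix
    -- the centralizer of `L`
    set N := centralizer (L : Set G)
    haveI : N.Normal := Subgroup.normal_centralizer
    have hNL : ∀ x : G, x ∈ N → x ∈ L → x = 1 := fun x hxN hxL => by
      have : (⟨x, hxL⟩ : L) ∈ center L := mem_center_iff.2 fun y => Subtype.ext
        (mem_centralizer_iff.1 hxN y y.2)
      rw [hLZ, mem_bot] at this
      exact congrArg Subtype.val this
    have hhN : (l : G)⁻¹ * h ∈ N := mem_centralizer_iff.2 fun y hy => by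
      have h1 : h * y * h⁻¹ = (l : G) * y * (l : G)⁻¹ := by
        have := congrArg Subtype.val (hl ⟨y, hy⟩)
        rwa [MulAut.conjNormal_apply] at this
      calc y * ((l : G)⁻¹ * h) = (l : G)⁻¹ * ((l : G) * y * (l : G)⁻¹) * h := by group
        _ = (l : G)⁻¹ * h * y := by rw [← h1]; group
    have hhK : h ∉ K := fun hK => hh0B (hHK h0 hh0 (by
      have := Normal.conj_mem (inferInstance : K.Normal) h hK g⁻¹
      rwa [show g⁻¹ * h * g⁻¹⁻¹ = h0 by show g⁻¹ * (g * h0 * g⁻¹) * g⁻¹⁻¹ = h0; group] at this))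
    have hKsup : K ≤ N ⊔ L := fun y hy => by
      obtain ⟨s, a, hsa⟩ : ∃ s a, e ⟨y, hy⟩ = (s, a) := ⟨_, _, rfl⟩
      have hy' : (⟨y, hy⟩ : K) = e.symm (1, a) * e.symm (s, 1) := by
        rw [← map_mul, Prod.mk_mul_mk, one_mul, mul_one, ← hsa, e.symm_apply_apply]
      rw [show y = ((e.symm (1, a) : K) : G) * ((e.symm (s, 1) : K) : G) from
        congrArg Subtype.val hy']
      refine mul_mem_sup (mem_centralizer_iff.2 ?_) ⟨s, rfl⟩
      rintro _ ⟨r, rfl⟩
      show ((e.symm (r, 1) : K) : G) * ((e.symm (1, a) : K) : G) = _ * ((e.symm (r, 1) : K) : G)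
      rw [← Subgroup.coe_mul, ← Subgroup.coe_mul, ← map_mul, ← map_mul]
      simp
    have htop : N ⊔ L = ⊤ := by
      have hdvd : (N ⊔ L).index ∣ 2 := hKi ▸ index_dvd_of_le hKsup
      rcases (Nat.dvd_prime Nat.prime_two).1 hdvd with h1 | h1
      · exact index_eq_one.1 h1
      · exfalso
        have hle : N ⊔ L ≤ K := by
          intro y hy
          by_contra hyK
          have hKlt : K < N ⊔ L := lt_of_le_of_ne hKsup fun e' => hyK (e' ▸ hy)
          exact absurd (h1.trans hKi.symm) (ne_of_lt (index_strictAnti hKlt))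
        have h2 := mul_mem (hLK l.2) (hle (le_sup_left (a := N) hhN))
        rw [mul_inv_cancel_left] at h2
        exact hhK h2
    let π : L →* G ⧸ N := (QuotientGroup.mk' N).comp L.subtype
    have hπ : Function.Bijective π := by
      refine ⟨(injective_iff_map_eq_one π).2 fun x hx => Subtype.ext
        (hNL x ((QuotientGroup.eq_one_iff _).1 hx) x.2), ?_⟩
      rintro ⟨y⟩
      have hy : y ∈ N ⊔ L := htop ▸ mem_top y
      rw [sup_comm] at hy
      obtain ⟨a, ha, b, hb, rfl⟩ := mem_sup_of_normal_right.1 hy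
      refine ⟨⟨a, ha⟩, ?_⟩
      show (a : G ⧸ N) = ((a * b : G) : G ⧸ N)
      rw [QuotientGroup.eq, inv_mul_cancel_left]
      exact hb
    refine ⟨N, inferInstance, Or.inr ⟨Nat.card A, hA, ?_⟩, F, inferInstance, inferInstance, by omega,
      ⟨(MulEquiv.ofBijective π hπ).symm.trans eP⟩⟩
    have h1 := card_mul_index N
    rw [index_eq_card, ← Nat.card_congr (Equiv.ofBijective π hπ), ← Nat.card_congr eL.toEquiv,
      ← card_mul_index K, hKi, Nat.card_congr e.toEquiv, Nat.card_prod] at h1
    exact Nat.eq_of_mul_eq_mul_right (Nat.card_pos (α := SL)) (by rw [h1]; ring)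

end DCtx

/-- The case of an elementary abelian `H`. -/
theorem main_elementary (H : Subgroup G) (hsq : ∀ x ∈ H, x * x = 1) (h4 : 4 ∣ Nat.card H)
    (hC : ∀ j ∈ H, orderOf j = 2 → centralizer ({j} : Set G) = H) (hns : ¬ Group.IsSolvable G) :
    Concl G := by
  haveI : Fact (Nat.Prime 2) := ⟨Nat.prime_two⟩
  have hHp : IsPGroup 2 H := fun x => ⟨1, Subtype.ext (by rw [pow_one, pow_two]; exact hsq x x.2)⟩
  obtain ⟨P, hP⟩ := hHp.exists_le_sylow
  have hPH : (P : Subgroup G) = H := by
    refine le_antisymm (fun x hx => ?_) hP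
    haveI : Nontrivial H := Finite.one_lt_card_iff_nontrivial.1
      (lt_of_lt_of_le (by norm_num) (Nat.le_of_dvd Nat.card_pos h4))
    haveI : Nontrivial (P : Subgroup G) := (Subgroup.inclusion_injective hP).nontrivial
    haveI := P.isPGroup'.center_nontrivial
    obtain ⟨z, hz⟩ := exists_prime_orderOf_dvd_card' 2 (G := center (P : Subgroup G)) (by
      obtain ⟨k, hk, hc⟩ := (P.isPGroup'.to_subgroup (center (P : Subgroup G))).nontrivial_iff_card.1 inferInstance
      rw [hc]; exact dvd_pow_self 2 hk.ne')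
    have hz' : orderOf ((z : (P : Subgroup G)) : G) = 2 := by
      rw [Subgroup.orderOf_coe, Subgroup.orderOf_coe, hz]
    obtain ⟨b, hb, hb1⟩ := exists_ne_one_of_nontrivial H
    have hbo : orderOf b = 2 := orderOf_eq_prime (by rw [pow_two]; exact hsq b hb) hb1
    have hzH : ((z : (P : Subgroup G)) : G) ∈ H := by
      rw [← hC b hb hbo, mem_centralizer_singleton_iff]
      exact (congrArg Subtype.val (mem_center_iff.1 z.2 ⟨b, hP hb⟩) :).symm
    rw [← hC _ hzH hz', mem_centralizer_singleton_iff]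
    exact congrArg Subtype.val (mem_center_iff.1 z.2 ⟨x, hx⟩)
  have hcomm : ∀ a ∈ H, ∀ b ∈ H, a * b = b * a := fun a ha b hb => by
    have h := hsq (a * b) (mul_mem ha hb)
    rw [mul_eq_one_iff_eq_inv, mul_inv_rev, inv_eq_of_mul_eq_one_right (hsq a ha),
      inv_eq_of_mul_eq_one_right (hsq b hb)] at h
    exact h
  have hab : ∀ t : G, orderOf t = 2 → IsMulCommutative ↥(centralizer ({t} : Set G)) := by
    intro t ht
    obtain ⟨T, hT⟩ := (IsPGroup.of_card (n := 1) (by rw [Nat.card_zpowers, ht]; rfl) :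
      IsPGroup 2 (zpowers t)).exists_le_sylow
    obtain ⟨g, hg⟩ := MulAction.exists_smul_eq G T P
    have hm : g * t * g⁻¹ ∈ H := by
      rw [← hPH, ← hg]
      exact ⟨t, hT (mem_zpowers _), rfl⟩
    have hC' := hC _ hm (by rw [← MulAut.conj_apply, (MulAut.conj g).orderOf_eq]; exact ht)
    refine ⟨⟨fun a b => Subtype.ext ?_⟩⟩
    have ha : g * (a : G) * g⁻¹ ∈ H := hC' ▸ mem_centralizer_conj.2 a.2
    have hb : g * (b : G) * g⁻¹ ∈ H := hC' ▸ mem_centralizer_conj.2 b.2
    have h := hcomm _ ha _ hb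
    exact mul_left_cancel (a := g) (mul_right_cancel (b := g⁻¹) (by simpa [mul_assoc] using h))
  have heven : Even (Nat.card G) :=
    even_iff_two_dvd.2 (((show 2 ∣ 4 by norm_num).trans h4).trans (card_subgroup_dvd_card H))
  rcases Cfsg.Agent.S2202.result heven hab with hcyc | hnorm | hSL
  · exfalso
    haveI : IsCyclic H := by
      haveI := hcyc P
      exact isCyclic_of_surjective (MulEquiv.subgroupCongr hPH) (MulEquiv.subgroupCongr hPH).surjective
    obtain ⟨a, ha⟩ := IsCyclic.exists_generator (α := H)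
    have h2 : orderOf a ≤ 2 := orderOf_le_of_pow_eq_one two_pos
      (Subtype.ext (by rw [pow_two]; exact hsq a a.2))
    rw [orderOf_eq_card_of_forall_mem_zpowers ha] at h2
    have := Nat.le_of_dvd Nat.card_pos h4
    omega
  · exfalso
    haveI := hnorm P
    haveI : Group.IsSolvable (P : Subgroup G) := by
      haveI := P.isPGroup'.isNilpotent
      infer_instance
    haveI : Group.IsSolvable (G ⧸ (P : Subgroup G)) := isSolvable_of_not_four_dvd fun h => by
      rw [← index_eq_card] at h
      exact P.not_dvd_index ((show 2 ∣ 4 by norm_num).trans h)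
    exact hns (Group.isSolvable_of_ker_le_range (P : Subgroup G).subtype (QuotientGroup.mk' (P : Subgroup G)) (by rw [QuotientGroup.ker_mk', range_subtype]))
  · obtain ⟨F, _, _, A, _, _, hF2, hA, ⟨e⟩⟩ := hSL
    -- the odd factor is trivial
    have hA1 : Subsingleton A := by
      refine ⟨fun a a' => ?_⟩
      suffices ∀ a : A, a = 1 by rw [this a, this a']
      intro a
      let g := e.symm (1, a)
      obtain ⟨b, hb, hb1⟩ : ∃ b ∈ H, b ≠ 1 := by
        haveI : Nontrivial H := Finite.one_lt_card_iff_nontrivial.1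
          (lt_of_lt_of_le (by norm_num) (Nat.le_of_dvd Nat.card_pos h4))
        exact exists_ne_one_of_nontrivial H
      have hg : g ∈ H := by
        rw [← hC b hb (orderOf_eq_prime (by rw [pow_two]; exact hsq b hb) hb1),
          mem_centralizer_singleton_iff]
        refine e.injective ?_
        rw [map_mul, map_mul, e.apply_symm_apply]
        exact Prod.ext (by simp) (mul_comm _ _)
      have h2 : a * a = 1 := by
        have h := congrArg (fun x => (e x).2) (hsq g hg)
        simpa [g] using h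
      exact orderOf_eq_one_iff.1 (Nat.eq_one_of_dvd_coprimes (Nat.coprime_two_right.2 hA)
        (orderOf_dvd_natCard a) (orderOf_dvd_of_pow_eq_one (by rw [pow_two, h2])))
    let e' : G ≃* Matrix.SpecialLinearGroup (Fin 2) F :=
      MulEquiv.ofBijective ((MonoidHom.fst _ A).comp e.toMonoidHom)
        ⟨fun x y h => e.injective (Prod.ext h (Subsingleton.elim _ _)),
          fun s => ⟨e.symm (s, 1), by simp⟩⟩
    haveI := hF2
    obtain ⟨f, -, hq⟩ := FiniteField.card F 2
    have h4q : 3 < Fintype.card F := by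
      by_contra hlt
      have hq2 : Fintype.card F = 2 := by
        rcases Nat.lt_or_ge (f : ℕ) 2 with hf | hf
        · have hf1 : (f : ℕ) = 1 := by have := f.pos; omega
          rw [hq, hf1, pow_one]
        · have := hq ▸ (show 2 ^ 2 ≤ 2 ^ (f : ℕ) from Nat.pow_le_pow_right two_pos hf)
          omega
      have hcard := Cfsg.Lib.Linear.card_SL_mul (F := F) 2 (by norm_num)
      rw [hq2] at hcard
      simp at hcard
      exact hns (isSolvable_of_not_four_dvd (by rw [Nat.card_congr e'.toEquiv, hcard]; decide))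
    have hcen : center (Matrix.SpecialLinearGroup (Fin 2) F) = ⊥ := by
      refine Subgroup.card_eq_one.1 ?_
      rw [Cfsg.Lib.Linear.card_center_SL, Fintype.card_fin, hq]
      obtain ⟨m, hm⟩ : Odd (2 ^ (f : ℕ) - 1) :=
        Nat.Even.sub_odd (Nat.one_le_two_pow) (even_two.pow_of_ne_zero f.ne_zero) odd_one
      rw [hm]
      simp
    exact ⟨⊥, inferInstance, Or.inl (by simp), F, inferInstance, inferInstance, h4q,
      ⟨QuotientGroup.quotientBot.trans (e'.trans
        ((QuotientGroup.quotientBot).symm.trans (QuotientGroup.quotientMulEquivOfEq hcen.symm)))⟩⟩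

end Cfsg.Lib.GW.DGroup
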