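import Cfsg.Agent.Lib.GW.Companion
import Cfsg.Agent.Lib.Char.Induced
import Cfsg.Agent.Lib.Char.Constituents

/-!
# Bounds on the degrees in the principal block from positivity on the singular elements

For a combination `f` of block characters vanishing on the regular elements and a character `θ`,
the inner product `(θ, f)` only sees the singular elements, where all the values are explicit.
-/

set_option autoImplicit false
set_option linter.unusedSectionVars false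
set_option maxHeartbeats 800000

namespace Cfsg.Lib.GW

open Cfsg Cfsg.Lib.Block Cfsg.Lib.Char
open scoped ComplexConjugate

universe u

variable {G : Type u} [Group G] [Fintype G] {M : Ideal AlgInt}
variable {P : Sylow 2 G} {σ τ : G} {h : ℕ} [Fact (Nat.Prime 2)]

/-- A singular element is conjugate to one in the section of a power of `σ`. -/
theorem singular_section (D : DihSylow P σ τ h)
    (hone : ∀ a : G, a * a = 1 → a ≠ 1 → IsConj (σ ^ h) a) {g : G} (hg : ¬ IsPRegular 2 g) :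
    ∃ (x y : G) (l : ℕ), 0 < l ∧ l < 2 * h ∧ Commute (σ ^ l) y ∧ ¬ 2 ∣ orderOf y ∧
      x * g * x⁻¹ = σ ^ l * y := by
  have hh := D.two_le
  set u := pPt 2 g with hu
  have hu1 : u ≠ 1 := fun e => hg ((pPt_eq_one_iff g).1 e)
  obtain ⟨k, hk⟩ := exists_orderOf_pPt (p := 2) g
  have key : ∃ (x : G) (l : ℕ), 0 < l ∧ l < 2 * h ∧ x * u * x⁻¹ = σ ^ l := by
    by_cases h2 : u * u = 1
    · obtain ⟨c, hc⟩ := isConj_iff.1 (hone u h2 hu1)
      exact ⟨c⁻¹, h, by omega, by omega, by rw [← hc]; group⟩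
    · have hp : IsPGroup 2 (Subgroup.zpowers u) :=
        IsPGroup.of_card (n := k) (by rw [Nat.card_zpowers, ← hk, hu])
      obtain ⟨a, ha⟩ := Lib.Invol.exists_conj_mem_sylow P hp
      have hmem := ha u (Subgroup.mem_zpowers u)
      have hz := D.mem_of_sq_ne hmem (fun e => h2 (by
        have e' : a * (u * u) * a⁻¹ = 1 := by rw [← e]; group
        exact conj_eq_one_iff.1 e'))
      obtain ⟨l, hl⟩ := (IsOfFinOrder.mem_powers_iff_mem_zpowers (isOfFinOrder_of_finite σ)).2 hz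
      replace hl : σ ^ l = a * u * a⁻¹ := hl
      refine ⟨a, l % (2 * h), Nat.pos_of_ne_zero fun h0 => hu1 ?_, Nat.mod_lt _ (by omega), ?_⟩
      · rw [← pow_mod_orderOf, D.orderσ, h0, pow_zero] at hl
        exact conj_eq_one_iff.1 hl.symm
      · rw [← D.orderσ, pow_mod_orderOf, hl]
  obtain ⟨x, l, h0, hl, hx⟩ := key
  refine ⟨x, x * pReg 2 g * x⁻¹, l, h0, hl, ?_, ?_, ?_⟩
  · rw [← hx]
    exact (pPt_commute_pReg g).map (MulAut.conj x).toMonoidHom
  · have e := (MulAut.conj x).orderOf_eq (pReg 2 g)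
    rw [MulAut.conj_apply] at e
    rw [e]
    exact not_dvd_orderOf_pReg g
  · rw [← hx]
    conv_lhs => rw [← pPt_mul_pReg (p := 2) g, ← hu]
    group

/-- Characters of the principal block on a section. -/
theorem block_value_section (hM : IsPModular 2 M) (D : DihSylow P σ τ h) {χ : IrrCharacter G}
    (hχ : χ ∈ principalBlock M G) {x g y : G} {l : ℕ} (h0 : 0 < l) (hl : l < 2 * h)
    (hc : Commute (σ ^ l) y) (hy : ¬ 2 ∣ orderOf y) (hx : x * g * x⁻¹ = σ ^ l * y) :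
    (χ : G → ℂ) g = (χ : G → ℂ) (σ ^ l) := by
  have e : (χ : G → ℂ) g = (χ : G → ℂ) (x * g * x⁻¹) := (χ.2.isClassFunction g x).symm
  rw [e, hx]
  exact principal_value_of_complement hM
    (D.exists_order (pow_mem D.memσ l)) (D.complement (pow_mem D.memσ l) (D.pow_ne_one h0 hl)) hχ hc hy

/-- The two combinations: `e₀` is used for permutation characters, `eS` for products. -/
structure BlockData (M : Ideal AlgInt) (σ : G) (h : ℕ) where
  χ₁ : IrrCharacter G
  χ₂ : IrrCharacter G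
  χ₃ : IrrCharacter G
  ψ : IrrCharacter G
  ψ' : IrrCharacter G
  δ : ℤ
  δ₂ : ℤ
  δ₃ : ℤ
  ζ : ℂ
  hδ : δ = 1 ∨ δ = -1
  hδ₂ : δ₂ = 1 ∨ δ₂ = -1
  hδ₃ : δ₃ = 1 ∨ δ₃ = -1
  hζ : IsPrimitiveRoot ζ (2 * h)
  mem : χ₁ ∈ principalBlock M G ∧ χ₂ ∈ principalBlock M G ∧ χ₃ ∈ principalBlock M G ∧
    ψ ∈ principalBlock M G ∧ ψ' ∈ principalBlock M G
  ne_one : (χ₁ : G → ℂ) ≠ fun _ => 1
  val : ∀ l : ℕ, 0 < l → l < 2 * h → (χ₁ : G → ℂ) (σ ^ l) = δ ∧
    (χ₂ : G → ℂ) (σ ^ l) = δ₂ * (-1) ^ (l + 1) ∧ (χ₃ : G → ℂ) (σ ^ l) = δ₃ * (-1) ^ (l + 1) ∧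
    (ψ : G → ℂ) (σ ^ l) = δ * (ζ ^ l + (ζ ^ l)⁻¹) ∧
    (ψ' : G → ℂ) (σ ^ l) = δ * ((ζ ^ (h / 2)) ^ l + ((ζ ^ (h / 2)) ^ l)⁻¹)
  rel : ∀ ρ : G, IsPRegular 2 ρ → (1 + δ * (χ₁ : G → ℂ) ρ - δ * (ψ : G → ℂ) ρ = 0) ∧
    (1 + δ * (χ₁ : G → ℂ) ρ - δ * (ψ' : G → ℂ) ρ = 0) ∧
    (1 + δ * (χ₁ : G → ℂ) ρ + δ₂ * (χ₂ : G → ℂ) ρ + δ₃ * (χ₃ : G → ℂ) ρ = 0)

theorem exists_blockData (D : DihSylow P σ τ h) (co : Companion M P σ τ h) :
    ∃ B : BlockData M σ h, B.χ₁ = co.χ₁ ∧ B.χ₂ = co.χ₂ ∧ B.χ₃ = co.χ₃ ∧ B.δ = co.δ₁ := by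
  have hh := D.two_le
  obtain ⟨ζ, χ', hζ, hfam⟩ := co.family
  let j0 : Fin (h - 1) := ⟨0, by omega⟩
  let j1 : Fin (h - 1) := ⟨h / 2 - 1, by omega⟩
  refine ⟨⟨co.χ₁, co.χ₂, co.χ₃, χ' j0, χ' j1, co.δ₁, co.δ₂, co.δ₃, ζ, co.hδ₁, co.hδ₂, co.hδ₃, hζ,
    ⟨co.mem_block, co.mem_block₂₃.1, co.mem_block₂₃.2, (hfam j0).1, (hfam j1).1⟩,
    fun e => co.ne_triv.1 (Subtype.ext (e.trans trivChar_coe.symm)), fun l hl0 hl => ?_,
    fun ρ hρ => ?_⟩, rfl, rfl, rfl, rfl⟩
  · refine ⟨co.value l hl0 hl, co.value₂ l hl0 hl, co.value₃ l hl0 hl, ?_, ?_⟩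
    · simpa [j0] using (hfam j0).2.1 l hl0 hl
    · rw [(hfam j1).2.1 l hl0 hl, ← pow_mul, show ((j1 : ℕ) + 1) = h / 2 by simp [j1]; omega]
  · exact ⟨by linear_combination (hfam j0).2.2 ρ hρ, by linear_combination (hfam j1).2.2 ρ hρ,
      by linear_combination co.regular ρ hρ⟩

variable (B : BlockData M σ h)

/-- The inner product of `θ` with `1 + δ a + d b`. -/
theorem classInner_comb (θ a b : G → ℂ) (d d' : ℤ) :
    classInner θ ((fun _ => (1 : ℂ)) + (d : ℂ) • a + (d' : ℂ) • b) =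
      classInner θ (fun _ => 1) + d * classInner θ a + d' * classInner θ b := by
  rw [classInner_add_right, classInner_add_right, classInner_smul_right, classInner_smul_right,
    map_intCast, map_intCast]

/-- A sum of nonpositive real values with a negative one. -/
theorem re_classInner_neg {θ f : G → ℂ} (hle : ∀ g : G, (θ g * conj (f g)).re ≤ 0)
    (g₀ : G) (h₀ : (θ g₀ * conj (f g₀)).re < 0) : (classInner θ f).re < 0 := by
  have hs : (∑ g : G, θ g * conj (f g)).re < 0 := by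
    rw [Complex.re_sum]
    exact Finset.sum_neg' (fun g _ => hle g) ⟨g₀, Finset.mem_univ _, h₀⟩
  have e : classInner θ f = (((Nat.card G : ℝ)⁻¹ : ℝ) : ℂ) * ∑ g : G, θ g * conj (f g) := by
    rw [classInner]; push_cast; rfl
  rw [e, Complex.re_ofReal_mul]
  exact mul_neg_of_pos_of_neg (inv_pos.2 (Nat.cast_pos.2 Nat.card_pos)) hs

include B in
/-- For negative `δ` one of `χ₂`, `χ₃` occurs in `χ₁ ψ'`. -/
theorem degree_le_product (hM : IsPModular 2 M) (D : DihSylow P σ τ h)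
    (hone : ∀ a : G, a * a = 1 → a ≠ 1 → IsConj (σ ^ h) a) (hneg : B.δ = -1) :
    charDegree (B.χ₂ : G → ℂ) ≤ charDegree (B.χ₁ : G → ℂ) * charDegree (B.ψ' : G → ℂ) ∨
      charDegree (B.χ₃ : G → ℂ) ≤ charDegree (B.χ₁ : G → ℂ) * charDegree (B.ψ' : G → ℂ) := by
  have hh := D.two_le
  obtain ⟨m1, m2, m3, -, m5⟩ := B.mem
  set θ : G → ℂ := fun g => (B.χ₁ : G → ℂ) g * (B.ψ' : G → ℂ) g with hθdef
  have hθ : IsCharacter G θ := B.χ₁.2.isCharacter.mul B.ψ'.2.isCharacter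
  have hdeg : ∀ χ : IrrCharacter G, classInner θ (χ : G → ℂ) ≠ 0 →
      charDegree (χ : G → ℂ) ≤ charDegree (B.χ₁ : G → ℂ) * charDegree (B.ψ' : G → ℂ) := by
    intro χ hne
    have e := degree_le_of_constituent χ.2 hθ hne
    rw [hθdef] at e
    simp only [apply_one_eq_charDegree] at e
    rw [← Nat.cast_mul, Complex.natCast_re, Complex.natCast_re] at e
    exact_mod_cast e
  obtain ⟨d0, hd0⟩ := hθ.exists_nat_classInner (isCharacter_one (G := G))
  obtain ⟨d1, hd1⟩ := hθ.exists_nat_classInner B.χ₁.2.isCharacter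
  obtain ⟨d', hd'⟩ := hθ.exists_nat_classInner B.ψ'.2.isCharacter
  by_contra hcon
  push Not at hcon
  have z2 : classInner θ (B.χ₂ : G → ℂ) = 0 := by
    by_contra hne
    exact absurd (hdeg _ hne) (not_le.2 hcon.1)
  have z3 : classInner θ (B.χ₃ : G → ℂ) = 0 := by
    by_contra hne
    exact absurd (hdeg _ hne) (not_le.2 hcon.2)
  set i := B.ζ ^ (h / 2) with hidef
  obtain ⟨r, hr⟩ := D.even
  have hi2 : i * i = -1 := by
    rw [hidef, ← pow_add, show h / 2 + h / 2 = h by omega]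
    exact (B.hζ.pow (a := h) (by omega) (mul_comm 2 h)).eq_neg_one_of_two_right
  have hiinv : i⁻¹ = -i := inv_eq_of_mul_eq_one_right (by rw [mul_neg, hi2, neg_neg])
  have hval : ∀ l : ℕ, i ^ l + (i ^ l)⁻¹ = if l % 2 = 1 then 0 else 2 * (-1) ^ (l / 2) := by
    intro l
    rcases Nat.even_or_odd' l with ⟨q, rfl | rfl⟩
    · rw [if_neg (by omega), Nat.mul_div_cancel_left _ two_pos, pow_mul, pow_two, hi2]
      rcases neg_one_pow_eq_or ℂ q with e | e <;> rw [e] <;> norm_num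
    · rw [if_pos (by omega), ← inv_pow, hiinv, (Odd.neg_pow ⟨q, rfl⟩ i), add_neg_cancel]
  -- the combination with `χ₂`, `χ₃` vanishes on the singular elements where `θ` does not
  have h2 : classInner θ (fun g => 1 + (B.δ : ℂ) * (B.χ₁ : G → ℂ) g +
      B.δ₂ * (B.χ₂ : G → ℂ) g + B.δ₃ * (B.χ₃ : G → ℂ) g) = 0 := by
    rw [classInner, Finset.sum_eq_zero, mul_zero]
    intro g _
    show θ g * conj (1 + (B.δ : ℂ) * (B.χ₁ : G → ℂ) g + B.δ₂ * (B.χ₂ : G → ℂ) g +
      B.δ₃ * (B.χ₃ : G → ℂ) g) = 0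
    by_cases hg : IsPRegular 2 g
    · rw [(B.rel g hg).2.2, map_zero, mul_zero]
    obtain ⟨x, y, l, h0, hl, hc, hy, hx⟩ := singular_section D hone hg
    have v := fun χ (hχ : χ ∈ principalBlock M G) => block_value_section hM D hχ h0 hl hc hy hx
    obtain ⟨a1, a2, a3, -, a5⟩ := B.val l h0 hl
    rw [hθdef]
    simp only [v _ m1, v _ m2, v _ m3, v _ m5, a1, a2, a3, a5, ← hidef, hval]
    by_cases hpar : l % 2 = 1
    · rw [if_pos hpar, mul_zero, mul_zero, zero_mul]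
    · rw [if_neg hpar]
      have he : ((-1 : ℂ)) ^ (l + 1) = -1 := by
        rw [pow_succ, Even.neg_one_pow (Nat.even_iff.2 (by omega)), one_mul]
      rw [he]
      have hs : ((B.δ : ℂ) * B.δ) - (B.δ₂ : ℂ) * B.δ₂ - (B.δ₃ : ℂ) * B.δ₃ = -1 := by
        rcases B.hδ with e | e <;> rcases B.hδ₂ with e' | e' <;> rcases B.hδ₃ with e'' | e'' <;>
          rw [e, e', e''] <;> norm_num
      have : (1 : ℂ) + B.δ * B.δ + B.δ₂ * (B.δ₂ * -1) + B.δ₃ * (B.δ₃ * -1) = 0 := by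
        linear_combination hs
      rw [this, map_zero, mul_zero]
  have hR : (classInner θ (fun g => 1 + (B.δ : ℂ) * (B.χ₁ : G → ℂ) g -
      B.δ * (B.ψ' : G → ℂ) g)).re < 0 := by
    have hterm : ∀ (g x y : G) (l : ℕ), 0 < l → l < 2 * h → Commute (σ ^ l) y → ¬ 2 ∣ orderOf y →
        x * g * x⁻¹ = σ ^ l * y →
        θ g * conj (1 + (B.δ : ℂ) * (B.χ₁ : G → ℂ) g - B.δ * (B.ψ' : G → ℂ) g) =
          (((if l % 2 = 1 then 0 else 2 * (-1) ^ (l / 2)) *
            (2 - if l % 2 = 1 then 0 else 2 * (-1) ^ (l / 2)) : ℝ) : ℂ) := by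
      intro g x y l h0 hl hc hy hx
      obtain ⟨a1, -, -, -, a5⟩ := B.val l h0 hl
      rw [hθdef]
      simp only [block_value_section hM D m1 h0 hl hc hy hx,
        block_value_section hM D m5 h0 hl hc hy hx, a1, a5, ← hidef, hval, hneg]
      split_ifs
      · norm_num
      · rcases Nat.even_or_odd (l / 2) with e | e
        · rw [e.neg_one_pow, e.neg_one_pow]
          norm_num [Complex.conj_ofNat]
        · rw [e.neg_one_pow, e.neg_one_pow]
          norm_num [Complex.conj_ofNat]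
    refine re_classInner_neg (fun g => ?_) (σ ^ 2) ?_
    · show (θ g * conj (1 + (B.δ : ℂ) * (B.χ₁ : G → ℂ) g - B.δ * (B.ψ' : G → ℂ) g)).re ≤ 0
      by_cases hg : IsPRegular 2 g
      · rw [(B.rel g hg).2.1, map_zero, mul_zero, Complex.zero_re]
      obtain ⟨x, y, l, h0, hl, hc, hy, hx⟩ := singular_section D hone hg
      rw [hterm g x y l h0 hl hc hy hx, Complex.ofReal_re]
      split_ifs
      · norm_num
      · rcases neg_one_pow_eq_or ℝ (l / 2) with e | e <;> rw [e] <;> norm_num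
    · show (θ (σ ^ 2) * conj (1 + (B.δ : ℂ) * (B.χ₁ : G → ℂ) (σ ^ 2) -
        B.δ * (B.ψ' : G → ℂ) (σ ^ 2))).re < 0
      rw [hterm (σ ^ 2) 1 1 2 two_pos (by omega) (Commute.one_right _) (by simp) (by group),
        Complex.ofReal_re]
      norm_num
  have e2 : classInner θ (fun g => 1 + (B.δ : ℂ) * (B.χ₁ : G → ℂ) g +
      B.δ₂ * (B.χ₂ : G → ℂ) g + B.δ₃ * (B.χ₃ : G → ℂ) g) =
      classInner θ (fun _ => 1) + B.δ * classInner θ (B.χ₁ : G → ℂ) +
        B.δ₂ * classInner θ (B.χ₂ : G → ℂ) + B.δ₃ * classInner θ (B.χ₃ : G → ℂ) := by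
    rw [show (fun g => 1 + (B.δ : ℂ) * (B.χ₁ : G → ℂ) g + B.δ₂ * (B.χ₂ : G → ℂ) g +
        B.δ₃ * (B.χ₃ : G → ℂ) g) = ((fun _ => (1 : ℂ)) + (B.δ : ℂ) • (B.χ₁ : G → ℂ) +
        (B.δ₂ : ℂ) • (B.χ₂ : G → ℂ)) + (B.δ₃ : ℂ) • (B.χ₃ : G → ℂ) from rfl,
      classInner_add_right, classInner_comb, classInner_smul_right, map_intCast]
  have eR : classInner θ (fun g => 1 + (B.δ : ℂ) * (B.χ₁ : G → ℂ) g -
      B.δ * (B.ψ' : G → ℂ) g) =
      classInner θ (fun _ => 1) + B.δ * classInner θ (B.χ₁ : G → ℂ) -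
        B.δ * classInner θ (B.ψ' : G → ℂ) := by
    rw [sub_eq_add_neg, ← neg_mul, ← Int.cast_neg, ← classInner_comb θ _ _ B.δ (-B.δ)]
    congr 1
    funext g
    simp [sub_eq_add_neg]
  rw [e2, z2, z3, hd0, hd1, hneg] at h2
  rw [eR, hd0, hd1, hd', hneg] at hR
  push_cast at h2 hR
  have e01 : (d0 : ℂ) = d1 := by linear_combination h2
  rw [e01, show (d1 : ℂ) + -1 * d1 - -1 * d' = (d' : ℂ) by ring, Complex.natCast_re] at hR
  exact absurd hR (not_lt.2 (Nat.cast_nonneg _))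

include B in
/-- The degree bound by the index of an overgroup of the centralizer fusing the involution into
another of its classes. -/
theorem degree_le_index (hM : IsPModular 2 M) (D : DihSylow P σ τ h)
    (hone : ∀ a : G, a * a = 1 → a ≠ 1 → IsConj (σ ^ h) a) (H : Subgroup G)
    (hC : Subgroup.centralizer ({σ ^ h} : Set G) ≤ H)
    (hx : ∃ x : G, x ∉ H ∧ x⁻¹ * σ ^ h * x ∈ H) :
    (B.δ = 1 → charDegree (B.χ₁ : G → ℂ) ≤ H.index) ∧
      (B.δ = -1 → charDegree (B.ψ : G → ℂ) ≤ H.index) := by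
  classical
  letI : Fintype H := Fintype.ofFinite H
  have hh := D.two_le
  obtain ⟨m1, -, -, m4, -⟩ := B.mem
  obtain ⟨x₁, hx₁, hx₁'⟩ := hx
  set π : G → ℂ := indFun H (fun _ => (1 : ℂ)) with hπdef
  have hπ : IsCharacter G π := isCharacter_indFun H (isCharacter_one (G := H))
  have hπ1 : π 1 = (H.index : ℂ) := by rw [hπdef, indFun_apply_one, mul_one]
  set N : G → ℕ := fun g => (Finset.univ.filter fun x : G => x⁻¹ * g * x ∈ H).card with hN
  have hπN : ∀ g, π g = (((N g : ℝ) / Nat.card H : ℝ) : ℂ) := by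
    intro g
    have e : ∀ x : G, extendByZero H (fun _ : H => (1 : ℂ)) (x⁻¹ * g * x) =
        if x⁻¹ * g * x ∈ H then 1 else 0 := fun x => by
      split_ifs with hm
      · exact extendByZero_of_mem _ _ hm
      · exact extendByZero_of_notMem _ _ hm
    rw [hπdef, indFun, Finset.sum_congr rfl fun x _ => e x, Finset.sum_boole, hN]
    push_cast
    ring
  have hHcard : Nat.card H = (Finset.univ.filter fun x : G => x ∈ H).card := by
    rw [Nat.card_eq_fintype_card]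
    exact Fintype.card_of_subtype _ (by simp)
  have hpw : ∀ l : ℕ, 0 < l → l < 2 * h → ∃ k : ℕ, (σ ^ l) ^ k = σ ^ h := by
    intro l hl0 hl
    obtain ⟨k, hk⟩ : ∃ k : ℕ, h = 2 ^ k := by
      obtain ⟨e, he⟩ := P.2.exists_card_eq
      rw [D.card] at he
      have hd : h ∣ 2 ^ e := he ▸ dvd_mul_left h 4
      obtain ⟨k, -, hk⟩ := (Nat.dvd_prime_pow Nat.prime_two).1 hd
      exact ⟨k, hk⟩
    obtain ⟨a, q, hq, hlq⟩ := Nat.exists_eq_pow_mul_and_not_dvd hl0.ne' 2 (by norm_num)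
    have hak : a ≤ k := by
      by_contra hlt
      have h1 : 2 ^ (k + 1) ≤ 2 ^ a := Nat.pow_le_pow_right two_pos (by omega)
      have h2 : 2 ^ a ≤ l := hlq ▸ Nat.le_mul_of_pos_right _ (Nat.pos_of_ne_zero fun e => hq (e ▸ dvd_zero 2))
      rw [pow_succ, ← hk] at h1
      omega
    obtain ⟨r, rfl⟩ : Odd q := Nat.odd_iff.2 (by omega)
    refine ⟨2 ^ (k - a), ?_⟩
    rw [← pow_mul, hlq, show 2 ^ a * (2 * r + 1) * 2 ^ (k - a) = 2 * h * r + h by
      rw [hk, show 2 ^ a * (2 * r + 1) * 2 ^ (k - a) = 2 ^ a * 2 ^ (k - a) * (2 * r + 1) by ring,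
        ← pow_add, show a + (k - a) = k by omega]
      ring, pow_add, pow_mul, ← D.orderσ, pow_orderOf_eq_one, one_pow, one_mul]
  have hsingle : ∀ {g x y : G} {l : ℕ}, 0 < l → l < 2 * h → Commute (σ ^ l) y →
      x * g * x⁻¹ = σ ^ l * y → Nat.card H ≤ N g := by
    intro g x y l hl0 hl hc hx
    have hy : σ ^ l * y ∈ H := by
      refine hC (Subgroup.mem_centralizer_singleton_iff.2 ?_)
      have h1 : Commute (σ ^ h) (σ ^ l) := (Commute.refl σ).pow_pow h l
      obtain ⟨k, hk⟩ := hpw l hl0 hl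
      exact (h1.mul_right (hk ▸ hc.pow_left k)).eq.symm
    rw [hHcard]
    refine Finset.card_le_card_of_injOn (fun w => x⁻¹ * w) (fun w hw => ?_)
      (fun a _ b _ e => mul_left_cancel e)
    simp only [Finset.coe_filter, Finset.mem_univ, true_and, Set.mem_setOf_eq] at hw ⊢
    rw [show (x⁻¹ * w)⁻¹ * g * (x⁻¹ * w) = w⁻¹ * (x * g * x⁻¹) * w by group, hx]
    exact H.mul_mem (H.mul_mem (H.inv_mem hw) hy) hw
  have hJ : Nat.card H < N (σ ^ h) := by
    rw [hHcard]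
    refine Finset.card_lt_card (Finset.ssubset_iff_of_subset (fun w hw => ?_) |>.2
      ⟨x₁, by simpa using hx₁', by simpa using hx₁⟩)
    simp only [Finset.mem_filter, Finset.mem_univ, true_and] at hw ⊢
    exact H.mul_mem (H.mul_mem (H.inv_mem hw)
      (hC (Subgroup.mem_centralizer_singleton_iff.2 rfl))) hw
  -- the combination is a nonnegative real on the singular elements
  have hval : ∀ {g x y : G} {l : ℕ}, 0 < l → l < 2 * h → Commute (σ ^ l) y → ¬ 2 ∣ orderOf y →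
      x * g * x⁻¹ = σ ^ l * y → 1 + (B.δ : ℂ) * (B.χ₁ : G → ℂ) g - B.δ * (B.ψ : G → ℂ) g =
        ((2 - 2 * (B.ζ ^ l).re : ℝ) : ℂ) := by
    intro g x y l h0 hl hc hy hx
    obtain ⟨a1, -, -, a4, -⟩ := B.val l h0 hl
    rw [block_value_section hM D m1 h0 hl hc hy hx, block_value_section hM D m4 h0 hl hc hy hx,
      a1, a4]
    have hn : ‖B.ζ ^ l‖ = 1 := by
      rw [norm_pow, Complex.norm_eq_one_of_pow_eq_one B.hζ.pow_eq_one (by omega), one_pow]
    rw [Complex.inv_eq_conj hn, Complex.add_conj]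
    rcases B.hδ with e | e <;> rw [e] <;> push_cast <;> ring
  have hre : ∀ l : ℕ, 0 ≤ 2 - 2 * (B.ζ ^ l).re := fun l => by
    have hn : ‖B.ζ ^ l‖ = 1 := by
      rw [norm_pow, Complex.norm_eq_one_of_pow_eq_one B.hζ.pow_eq_one (by omega), one_pow]
    have := Complex.re_le_norm (B.ζ ^ l)
    linarith
  set f : G → ℂ := fun g => 1 + (B.δ : ℂ) * (B.χ₁ : G → ℂ) g - B.δ * (B.ψ : G → ℂ) g with hf
  have hlt : (classInner (fun g => 1 - π g) f).re < 0 := by
    refine re_classInner_neg (fun g => ?_) (σ ^ h) ?_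
    · by_cases hg : IsPRegular 2 g
      · rw [hf]
        simp only [(B.rel g hg).1, map_zero, mul_zero, Complex.zero_re, le_refl]
      obtain ⟨x, y, l, h0, hl, hc, hy, hx⟩ := singular_section D hone hg
      show ((1 - π g) * conj (f g)).re ≤ 0
      rw [show f g = _ from hval h0 hl hc hy hx, hπN, Complex.conj_ofReal, ← Complex.ofReal_one,
        ← Complex.ofReal_sub, ← Complex.ofReal_mul, Complex.ofReal_re]
      refine mul_nonpos_of_nonpos_of_nonneg ?_ (hre l)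
      rw [sub_nonpos, le_div_iff₀ (Nat.cast_pos.2 Nat.card_pos), one_mul]
      exact Nat.cast_le.2 (hsingle h0 hl hc hx)
    · show ((1 - π (σ ^ h)) * conj (f (σ ^ h))).re < 0
      rw [show f (σ ^ h) = _ from hval (g := σ ^ h) (x := 1) (y := 1) (l := h) (by omega) (by omega)
        (Commute.one_right _) (by simp) (by group), hπN, Complex.conj_ofReal,
        ← Complex.ofReal_one, ← Complex.ofReal_sub, ← Complex.ofReal_mul, Complex.ofReal_re]
      have hzh : B.ζ ^ h = -1 :=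
        (B.hζ.pow (a := h) (by omega) (mul_comm 2 h)).eq_neg_one_of_two_right
      rw [hzh, Complex.neg_re, Complex.one_re]
      refine mul_neg_of_neg_of_pos ?_ (by norm_num)
      rw [sub_neg, one_lt_div (Nat.cast_pos.2 Nat.card_pos)]
      exact Nat.cast_lt.2 hJ
  have e1 : ∀ θ : G → ℂ, classInner θ f = classInner θ (fun _ => 1) +
      B.δ * classInner θ (B.χ₁ : G → ℂ) - B.δ * classInner θ (B.ψ : G → ℂ) := by
    intro θ
    rw [show f = (fun _ => (1 : ℂ)) + (B.δ : ℂ) • (B.χ₁ : G → ℂ) +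
      ((-B.δ : ℤ) : ℂ) • (B.ψ : G → ℂ) from funext fun g => by simp [hf, sub_eq_add_neg],
      classInner_comb]
    push_cast
    ring
  have hone' : IsIrrCharacter G (fun _ => (1 : ℂ)) := isIrrCharacter_one
  have hψne : (B.ψ : G → ℂ) ≠ fun _ => 1 := by
    intro e
    obtain ⟨-, -, -, a4, -⟩ := B.val h (by omega) (by omega)
    have hzh : B.ζ ^ h = -1 :=
      (B.hζ.pow (a := h) (by omega) (mul_comm 2 h)).eq_neg_one_of_two_right
    rw [e, hzh] at a4
    rcases B.hδ with q | q <;> rw [q] at a4 <;> norm_num at a4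
  rw [show (fun g => 1 - π g) = (fun _ => (1 : ℂ)) - π from rfl, classInner_sub_left, e1, e1,
    classInner_irr_self hone', classInner_irr_ne hone' B.χ₁.2 (Ne.symm B.ne_one),
    classInner_irr_ne hone' B.ψ.2 (Ne.symm hψne)] at hlt
  obtain ⟨c0, hc0⟩ := hπ.exists_nat_classInner (isCharacter_one (G := G))
  obtain ⟨c1, hc1⟩ := hπ.exists_nat_classInner B.χ₁.2.isCharacter
  obtain ⟨c', hc'⟩ := hπ.exists_nat_classInner B.ψ.2.isCharacter
  have hc01 : c0 = 1 := by
    have e := classInner_indFun H (fun _ : H => (1 : ℂ)) (χ := fun _ : G => (1 : ℂ))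
      hone'.isClassFunction
    rw [← hπdef, hc0, classInner_irr_self isIrrCharacter_one] at e
    exact_mod_cast e
  rw [hc0, hc1, hc', hc01] at hlt
  have hdeg : ∀ (χ : IrrCharacter G) (c : ℕ), classInner π (χ : G → ℂ) = c → c ≠ 0 →
      charDegree (χ : G → ℂ) ≤ H.index := by
    intro χ c e hne
    have e' := degree_le_of_constituent χ.2 hπ (by rw [e]; exact Nat.cast_ne_zero.2 hne)
    rw [hπ1, apply_one_eq_charDegree, Complex.natCast_re, Complex.natCast_re] at e'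
    exact_mod_cast e'
  constructor
  · intro hd
    refine hdeg _ c1 hc1 fun h0 => ?_
    subst h0
    rw [hd] at hlt
    norm_num at hlt
    exact absurd hlt (not_lt.2 (Nat.cast_nonneg _))
  · intro hd
    refine hdeg _ c' hc' fun h0 => ?_
    subst h0
    rw [hd] at hlt
    norm_num at hlt
    exact absurd hlt (not_lt.2 (Nat.cast_nonneg _))

end Cfsg.Lib.GW
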