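import Cfsg.Agent.Lib.GW.FusedUnits
import Cfsg.Agent.Lib.GW.FusedChar
import Cfsg.Agent.Lib.Char.ConstantFour

/-!
# Odd subgroups normalized by a two-group and a character constant on the singular elements
-/

set_option autoImplicit false
set_option linter.unusedSectionVars false
set_option linter.style.haveILetI false
set_option maxHeartbeats 800000

namespace Cfsg.Lib.GW

open Cfsg Cfsg.Lib.Block Cfsg.Lib.Char
open scoped ComplexConjugate

universe u

variable {G : Type u} [Group G] [Fintype G]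

/-- A nontrivial irreducible character of a simple group is faithful. -/
theorem eq_one_of_apply_eq_degree [IsSimpleGroup G] (χ : IrrCharacter G) (hne : χ ≠ trivChar G)
    {g : G} (h : (χ : G → ℂ) g = (χ : G → ℂ) 1) : g = 1 := by
  haveI := charKer_normal χ.2.isCharacter
  rcases IsSimpleGroup.eq_bot_or_eq_top_of_normal (charKer χ.2.isCharacter) inferInstance with e | e
  · exact Subgroup.mem_bot.1 (e ▸ (mem_charKer _).2 h)
  · exfalso
    refine hne (Subtype.ext ?_)
    have hc : ∀ x, (χ : G → ℂ) x = (charDegree (χ : G → ℂ) : ℂ) := fun x => by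
      rw [← apply_one_eq_charDegree]
      exact (mem_charKer _).1 (e ▸ Subgroup.mem_top x)
    have h1 := classInner_irr_self χ.2
    simp only [Cfsg.classInner, hc, map_natCast, Finset.sum_const, Finset.card_univ, nsmul_eq_mul,
      ← Nat.card_eq_fintype_card] at h1
    rw [inv_mul_cancel_left₀ Char.card_cast_ne_zero] at h1
    have h2 : charDegree (χ : G → ℂ) = 1 := Nat.eq_one_of_mul_eq_one_right (by exact_mod_cast h1)
    rw [trivChar_coe]
    funext x
    rw [hc, h2, Nat.cast_one]

variable {A S : Subgroup G}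

/-- An odd subgroup and a two-group normalizing it. -/
theorem product_setup (hA : Odd (Nat.card A)) (hS : IsPGroup 2 S)
    (hn : ∀ s ∈ S, ∀ a ∈ A, s * a * s⁻¹ ∈ A) :
    (A.subgroupOf (A ⊔ S)).Normal ∧ (A.subgroupOf (A ⊔ S)).index = Nat.card S ∧
      ∀ x : ↥(A ⊔ S), (x : G) ∉ A → ¬ IsPRegular 2 (x : G) := by
  haveI : Fact (Nat.Prime 2) := ⟨Nat.prime_two⟩
  have hSN : S ≤ Subgroup.normalizer (A : Set G) := fun s hs => Subgroup.mem_normalizer_iff.2
    fun a => ⟨hn s hs a, fun h => by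
      have := hn s⁻¹ (inv_mem hs) _ h
      rwa [show s⁻¹ * (s * a * s⁻¹) * s⁻¹⁻¹ = a by group] at this⟩
  haveI hN : (A.subgroupOf (A ⊔ S)).Normal := Subgroup.normal_subgroupOf_of_le_normalizer
    (sup_le Subgroup.le_normalizer hSN)
  have hdisj : A ⊓ S = ⊥ := by
    refine le_bot_iff.1 fun x hx => Subgroup.mem_bot.2 (orderOf_eq_one_iff.1 ?_)
    obtain ⟨k, hk⟩ := IsPGroup.iff_orderOf.1 hS ⟨x, hx.2⟩
    rw [← Subgroup.orderOf_coe] at hk
    have hd := Subgroup.orderOf_dvd_natCard _ hx.1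
    exact Nat.eq_one_of_dvd_coprimes ((Nat.coprime_two_right.2 hA).pow_right k) hd (hk ▸ dvd_refl _)
  have hidx : (A.subgroupOf (A ⊔ S)).index = Nat.card S := by
    have h := Subgroup.relIndex_sup_right (H := S.subgroupOf (A ⊔ S))
      (K := A.subgroupOf (A ⊔ S))
    rw [← Subgroup.subgroupOf_sup le_sup_right le_sup_left, sup_comm S A, Subgroup.subgroupOf_self,
      Subgroup.relIndex_top_right, Subgroup.relIndex_subgroupOf le_sup_right] at h
    rw [h, ← Subgroup.inf_relIndex_right, hdisj, Subgroup.relIndex_bot_left]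
  refine ⟨hN, hidx, fun x hx hreg => hx ?_⟩
  suffices (QuotientGroup.mk x : ↥(A ⊔ S) ⧸ A.subgroupOf (A ⊔ S)) = 1 from
    Subgroup.mem_subgroupOf.1 ((QuotientGroup.eq_one_iff x).1 this)
  obtain ⟨k, hk⟩ := hS.exists_card_eq
  refine orderOf_eq_one_iff.1 (Nat.eq_one_of_dvd_coprimes
    ((Nat.coprime_two_right.2 ?_).pow_right k) (orderOf_map_dvd (QuotientGroup.mk' _) x) ?_)
  · rw [Nat.odd_iff]
    rw [IsPRegular, Subgroup.orderOf_coe] at hreg
    omega
  · rw [← hk, ← hidx]
    exact orderOf_dvd_natCard _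

variable (χ : IrrCharacter G) {δ : ℤ}

/-- The character on the product. -/
theorem isCharacter_product : IsCharacter ↥(A ⊔ S) fun x => (χ : G → ℂ) x :=
  χ.2.isCharacter.comp (A ⊔ S).subtype

variable [IsSimpleGroup G] (hne : χ ≠ trivChar G)
  (hconst : ∀ g : G, ¬ IsPRegular 2 g → (χ : G → ℂ) g = δ)

include hne hconst in
/-- A small degree: no odd subgroup is normalized. -/
theorem eq_bot_of_small (hS : IsPGroup 2 S) (hA : Odd (Nat.card A))
    (hn : ∀ s ∈ S, ∀ a ∈ A, s * a * s⁻¹ ∈ A) (hδ : δ = -1)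
    (hle : charDegree (χ : G → ℂ) + 1 ≤ Nat.card S) : A = ⊥ := by
  classical
  obtain ⟨hN, hidx, hsing⟩ := product_setup hA hS hn
  subst hδ
  refine le_bot_iff.1 fun a ha => Subgroup.mem_bot.2 (eq_one_of_apply_eq_degree χ hne ?_)
  exact units_kernel (A.subgroupOf (A ⊔ S)) (isCharacter_product χ)
    (fun x hx => hconst x (hsing x hx)) (by rw [OneMemClass.coe_one, apply_one_eq_charDegree])
    (hidx ▸ hle) ⟨⟨a, Subgroup.mem_sup_left ha⟩, ha⟩

include hne hconst in
/-- Degree nine or fifteen: the odd subgroups normalized by a group of order eight are abelian. -/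
theorem comm_of_small (hS : IsPGroup 2 S) (hS8 : Nat.card S = 8) (hA : Odd (Nat.card A))
    (hn : ∀ s ∈ S, ∀ a ∈ A, s * a * s⁻¹ ∈ A)
    (hsm : δ = 1 ∧ charDegree (χ : G → ℂ) = 9 ∨ δ = -1 ∧ charDegree (χ : G → ℂ) = 15)
    {a b : G} (ha : a ∈ A) (hb : b ∈ A) : a * b = b * a := by
  classical
  obtain ⟨hN, hidx, hsing⟩ := product_setup hA hS hn
  have hodd : Odd (Nat.card (A.subgroupOf (A ⊔ S))) := by
    rwa [Nat.card_congr (Subgroup.subgroupOfEquivOfLe le_sup_left).toEquiv]
  have h := units_commutator (A.subgroupOf (A ⊔ S)) (isCharacter_product χ)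
    (fun x hx => hconst x (hsing x hx)) (by rw [OneMemClass.coe_one, apply_one_eq_charDegree])
    (hidx.trans hS8) hsm hodd ⟨⟨a, Subgroup.mem_sup_left ha⟩, ha⟩
    ⟨⟨b, Subgroup.mem_sup_left hb⟩, hb⟩
  have h1 := eq_one_of_apply_eq_degree χ hne h
  simp only [Subgroup.coe_mul, Subgroup.coe_inv] at h1
  exact mul_inv_eq_iff_eq_mul.1 (mul_inv_eq_one.1 h1)

include hne hconst in
/-- A perfect simple group: no element of odd prime order centralized by a group of order eight. -/
theorem no_centralized_prime (hperf : commutator G = ⊤) (hS : IsPGroup 2 S)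
    (hS8 : Nat.card S = 8)
    (hsm : δ = 1 ∧ charDegree (χ : G → ℂ) = 9 ∨ δ = -1 ∧ charDegree (χ : G → ℂ) = 15)
    {a : G} (hp : (orderOf a).Prime) (hodd : Odd (orderOf a)) (hc : ∀ s ∈ S, Commute a s) :
    False := by
  classical
  haveI : Fact (Nat.Prime 2) := ⟨Nat.prime_two⟩
  set d := charDegree (χ : G → ℂ) with hd
  set p := orderOf a with hpdef
  have hcom : ∀ (x : Subgroup.zpowers a) (s : S), Commute (x : G) (s : G) := fun x s => by
    obtain ⟨k, hk⟩ := Subgroup.mem_zpowers_iff.1 x.2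
    rw [← hk]
    exact (hc s s.2).zpow_left k
  let f : Subgroup.zpowers a × S →* G :=
    (Subgroup.zpowers a).subtype.noncommCoprod S.subtype hcom
  have hfc : IsCharacter (Subgroup.zpowers a × S) fun x => (χ : G → ℂ) (f x) :=
    χ.2.isCharacter.comp f
  have hsing : ∀ x : Subgroup.zpowers a × S, x.2 ≠ 1 → (χ : G → ℂ) (f x) = δ := by
    rintro ⟨x, s⟩ hs
    refine hconst _ fun hreg => hs ?_
    have hx : orderOf (x : G) ∣ p := by
      rw [hpdef, ← Nat.card_zpowers a]
      exact Subgroup.orderOf_dvd_natCard _ x.2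
    obtain ⟨k, hk⟩ := IsPGroup.iff_orderOf.1 hS s
    rw [← Subgroup.orderOf_coe] at hk
    have hcop : (orderOf (x : G)).Coprime (orderOf (s : G)) := by
      rw [hk]
      exact (Nat.coprime_two_right.2 (hodd.of_dvd_nat hx)).pow_right k
    have e := (hcom x s).orderOf_mul_eq_mul_orderOf_of_coprime hcop
    rw [IsPRegular] at hreg
    replace hreg : ¬ 2 ∣ orderOf ((x : G) * (s : G)) := hreg
    rw [e, hk] at hreg
    have hk0 : k = 0 := by
      by_contra hk0
      exact hreg (dvd_mul_of_dvd_right (dvd_pow_self 2 hk0) _)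
    rw [hk0, pow_zero, orderOf_eq_one_iff] at hk
    exact Subtype.ext hk
  obtain ⟨n, ρ, -, hρ⟩ := χ.2
  obtain ⟨b, μ, hb, -, hprod, -, hpow⟩ := IcosaThree.exists_roots_det_one hperf ρ a
  have hn : n = d := by
    have h1 := congrFun hρ 1
    rw [apply_one_eq_charDegree, Representation.char_one, Module.finrank_fin_fun] at h1
    exact_mod_cast h1
  have hμ : ∀ i, μ i ^ p = 1 := by
    intro i
    have hk : ∀ k : ℕ, ρ (a ^ k) (b i) = μ i ^ k • b i := fun k => by
      induction k with
      | zero => simp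
      | succ m ih =>
        rw [pow_succ, map_mul, Module.End.mul_apply, hb, map_smul, ih, smul_smul, pow_succ']
    have h1 := hk p
    rw [hpdef, pow_orderOf_eq_one, map_one, Module.End.one_apply] at h1
    by_contra hne1
    have h2 : (μ i ^ p - 1) • b i = 0 := by rw [sub_smul, one_smul, hpdef, ← h1, sub_self]
    rcases smul_eq_zero.1 h2 with h3 | h3
    · exact hne1 (sub_eq_zero.1 h3)
    · exact b.ne_zero i h3
  -- the multiplicity of an eigenvalue is an inner product
  have hmult : ∀ (w : ℂˣ) (hw : orderOf w ∣ p),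
      ∃ l : Subgroup.zpowers a →* ℂˣ, l ⟨a, Subgroup.mem_zpowers a⟩ = w ∧
      classInner (fun x : Subgroup.zpowers a => (χ : G → ℂ) x) (fun x => (l x : ℂ)) =
        ((Finset.univ.filter fun i => μ i = w).card : ℂ) := by
    intro w hw
    have hgen : ∀ x : Subgroup.zpowers a,
        x ∈ Subgroup.zpowers (⟨a, Subgroup.mem_zpowers a⟩ : Subgroup.zpowers a) := fun x => by
      obtain ⟨k, hk⟩ := Subgroup.mem_zpowers_iff.1 x.2
      exact ⟨k, Subtype.ext hk⟩
    have hord : orderOf w ∣ orderOf (⟨a, Subgroup.mem_zpowers a⟩ : Subgroup.zpowers a) := by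
      rwa [Subgroup.orderOf_mk]
    refine ⟨monoidHomOfForallMemZpowers hgen hord, monoidHomOfForallMemZpowers_apply_gen hgen hord,
      ?_⟩
    set l := monoidHomOfForallMemZpowers hgen hord with hl
    have hla : l ⟨a, Subgroup.mem_zpowers a⟩ = w := monoidHomOfForallMemZpowers_apply_gen hgen hord
    rw [classInner, ← (finEquivZPowers (isOfFinOrder_of_finite a)).sum_comp, Nat.card_zpowers]
    have hterm : ∀ j : Fin (orderOf a),
        (χ : G → ℂ) ((finEquivZPowers (isOfFinOrder_of_finite a) j : Subgroup.zpowers a) : G) *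
          conj ((l (finEquivZPowers (isOfFinOrder_of_finite a) j) : ℂˣ) : ℂ) =
        ∑ i, (μ i * (w : ℂ)⁻¹) ^ (j : ℕ) := by
      intro j
      have he : finEquivZPowers (isOfFinOrder_of_finite a) j =
          (⟨a, Subgroup.mem_zpowers a⟩ : Subgroup.zpowers a) ^ (j : ℕ) := Subtype.ext (by
        rw [finEquivZPowers_apply]; simp)
      have hw1 : conj ((w : ℂˣ) : ℂ) = (w : ℂ)⁻¹ := by
        refine Complex.inv_eq_conj ?_ |>.symm
        refine norm_eq_one_of_pow_orderOf (g := a) ?_
        rw [← Units.val_pow_eq_pow_val, orderOf_dvd_iff_pow_eq_one.1 (hpdef ▸ hw), Units.val_one]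
      rw [he, map_pow, hla, SubgroupClass.coe_pow, ← hρ, hpow, Units.val_pow_eq_pow_val, map_pow,
        hw1, Finset.sum_mul]
      exact Finset.sum_congr rfl fun i _ => (mul_pow _ _ _).symm
    rw [Finset.sum_congr rfl fun j _ => hterm j, Finset.sum_comm]
    have hgeo : ∀ i, ∑ j : Fin (orderOf a), (μ i * (w : ℂ)⁻¹) ^ (j : ℕ) =
        if μ i = w then (orderOf a : ℂ) else 0 := by
      intro i
      rw [Fin.sum_univ_eq_sum_range (fun j => (μ i * (w : ℂ)⁻¹) ^ j)]
      split_ifs with h
      · rw [h, mul_inv_cancel₀ w.ne_zero]; simp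
      · have hne1 : μ i * (w : ℂ)⁻¹ ≠ 1 := fun e => h (eq_of_div_eq_one (div_eq_mul_inv (μ i) _ ▸ e))
        rw [geom_sum_eq hne1, mul_pow, inv_pow, ← hpdef, hμ i, ← Units.val_pow_eq_pow_val,
          orderOf_dvd_iff_pow_eq_one.1 hw, Units.val_one, inv_one, mul_one, sub_self, zero_div]
    rw [Finset.sum_congr rfl fun i _ => hgeo i, Finset.sum_ite, Finset.sum_const,
      Finset.sum_const_zero, add_zero, nsmul_eq_mul, mul_comm,
      mul_assoc, mul_inv_cancel₀ (Nat.cast_ne_zero.2 (orderOf_pos a).ne'), mul_one]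
  -- the trivial eigenvalue
  obtain ⟨l0, hl0a, hl0⟩ := hmult 1 (by simp)
  have hAodd : Odd (Nat.card (Subgroup.zpowers a)) := by rwa [Nat.card_zpowers]
  obtain ⟨hN, hidx, hs'⟩ := product_setup hAodd hS fun s hs x hx => by
    have := (hcom ⟨x, hx⟩ ⟨s, hs⟩).symm.eq
    simp only at this
    rwa [this, mul_inv_cancel_right]
  obtain ⟨c, hc', -, hd8⟩ := units_small ((Subgroup.zpowers a).subgroupOf (Subgroup.zpowers a ⊔ S))
    (isCharacter_product χ) (fun x hx => hconst x (hs' x hx))
    (by rw [OneMemClass.coe_one, apply_one_eq_charDegree]) (hidx.trans hS8) hsm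
  have hc0 : (Finset.univ.filter fun i => μ i = 1).card = c := by
    have h1 : ∀ x, ((l0 x : ℂˣ) : ℂ) = 1 := fun x => by
      obtain ⟨k, hk⟩ := Subgroup.mem_zpowers_iff.1 x.2
      rw [show x = (⟨a, Subgroup.mem_zpowers a⟩ : Subgroup.zpowers a) ^ k from Subtype.ext hk.symm,
        map_zpow, hl0a, one_zpow, Units.val_one]
    have e := classInner_comp_equiv (Subgroup.subgroupOfEquivOfLe
      (le_sup_left : Subgroup.zpowers a ≤ Subgroup.zpowers a ⊔ S))
      (fun x => (χ : G → ℂ) x) (fun _ => 1)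
    simp only [h1] at hl0
    rw [Units.val_one] at hl0
    apply Nat.cast_injective (R := ℂ)
    rw [← hl0, ← hc', ← e]
    rfl
  have h8 : ∀ i, μ i ≠ 1 → 8 ∣ (Finset.univ.filter fun j => μ j = μ i).card := by
    intro i hi
    have hu : IsUnit (μ i) := IsUnit.of_pow_eq_one (hμ i) hp.ne_zero
    obtain ⟨l, hla, hl⟩ := hmult hu.unit (orderOf_dvd_of_pow_eq_one (Units.ext (by
      rw [Units.val_pow_eq_pow_val, IsUnit.unit_spec, hμ i, Units.val_one])))
    rw [IsUnit.unit_spec] at hl
    rw [← hS8]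
    refine units_central hfc hsing l (fun e => hi ?_) ?_
    · rw [e, MonoidHom.one_apply] at hla
      rw [← hu.unit_spec, ← hla, Units.val_one]
    · rw [← hl]
      congr 1
      funext x
      show (χ : G → ℂ) (((x : G)) * ((1 : S) : G)) = _
      rw [OneMemClass.coe_one, mul_one]
  -- all nontrivial eigenvalues agree
  have hsplit : (Finset.univ.filter fun i => μ i = 1).card +
      (Finset.univ.filter fun i => ¬ μ i = 1).card = d := by
    rw [Finset.card_filter_add_card_filter_not, Finset.card_univ, Fintype.card_fin, hn]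
  rcases (Finset.univ.filter fun i => ¬ μ i = 1).eq_empty_or_nonempty with h0 | ⟨i₀, hi₀⟩
  · refine hp.ne_one (orderOf_eq_one_iff.2 (eq_one_of_apply_eq_degree χ hne ?_))
    rw [apply_one_eq_charDegree, ← hd, ← hρ, ← pow_one a, hpow]
    rw [Finset.filter_eq_empty_iff] at h0
    rw [Finset.sum_congr rfl fun i _ => by rw [pow_one, not_not.1 (h0 (Finset.mem_univ i))]]
    simp [hn]
  rw [Finset.mem_filter] at hi₀
  set T := Finset.univ.filter fun j => μ j = μ i₀ with hT
  have hTle : T ⊆ Finset.univ.filter fun i => ¬ μ i = 1 := fun j hj => by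
    rw [hT, Finset.mem_filter] at hj
    simp [hj.2, hi₀.2]
  have hT8 : 8 ≤ T.card := Nat.le_of_dvd (Finset.card_pos.2 ⟨i₀, by simp [hT]⟩) (h8 i₀ hi₀.2)
  have hTeq := Finset.eq_of_subset_of_card_le hTle (by omega)
  have hTc : T.card = 8 := by
    have := Finset.card_le_card hTle
    omega
  have hz : μ i₀ ^ 8 = 1 := by
    rw [← Finset.prod_filter_mul_prod_filter_not Finset.univ (fun i => μ i = 1),
      Finset.prod_congr rfl (fun i hi => (Finset.mem_filter.1 hi).2), Finset.prod_const_one, one_mul,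
      ← hTeq, Finset.prod_congr rfl (fun i hi => (Finset.mem_filter.1 hi).2), Finset.prod_const,
      hTc] at hprod
    exact hprod
  refine hi₀.2 ?_
  have hcop : Nat.Coprime p 8 := by
    rw [show (8 : ℕ) = 2 ^ 3 by norm_num]
    exact (Nat.coprime_two_right.2 hodd).pow_right 3
  exact orderOf_eq_one_iff.1 (Nat.eq_one_of_dvd_coprimes hcop
    (orderOf_dvd_of_pow_eq_one (hμ i₀)) (orderOf_dvd_of_pow_eq_one hz))

end Cfsg.Lib.GW
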