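import Mathlib.Data.Int.Lemmas
import Mathlib.Data.Nat.Sqrt
import Mathlib.Tactic

/-!
# The arithmetic of a fused overgroup

`X`, `a`, `b` are the signed degrees, `W : W'` the ratio of the orders of the odd parts of the
centralizers of the two kinds of four groups, `m` the index and `X₀` the signed degree in the
subgroup of index two of the overgroup. Only five possibilities are left.
-/

set_option autoImplicit false

namespace Cfsg.Lib.GW.FusedArith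

/-- The five remaining possibilities. -/
def rowsOK (X p q : ℤ) (m : ℕ) : Bool :=
  decide (X = 9 ∧ p = q ∧ m = 15) || decide (X = -7 ∧ p = q ∧ m = 7) ||
    decide (X = -7 ∧ p = 5 * q ∧ m = 63) || decide (X = -15 ∧ p = 3 * q ∧ m = 7) ||
    decide (X = -15 ∧ p = 3 * q ∧ m = 35)

/-- Squares of integers. -/
def isSquare (n : ℤ) : Bool :=
  decide (0 ≤ n) && decide (n.natAbs.sqrt * n.natAbs.sqrt = n.natAbs)

theorem isSquare_mul_self (k : ℤ) : isSquare (k * k) = true := by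
  simp [isSquare, mul_self_nonneg, Int.natAbs_mul, Nat.sqrt_eq]

/-- The roots of `K x (x + 1) = L (x - 1) ^ 2` may be integers. -/
def hasRoot (K L : ℤ) : Bool :=
  isSquare (K ^ 2 + 8 * K * L) &&
    (decide (2 * (K - L) ∣ ((K ^ 2 + 8 * K * L).natAbs.sqrt : ℤ) - (K + 2 * L)) ||
      decide (2 * (K - L) ∣ -((K ^ 2 + 8 * K * L).natAbs.sqrt : ℤ) - (K + 2 * L)))

theorem hasRoot_of_eq {K L x : ℤ} (h : K * (x * (x + 1)) = L * (x - 1) ^ 2) :
    hasRoot K L = true := by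
  obtain ⟨r, hr⟩ : ∃ r, r = 2 * (K - L) * x + K + 2 * L := ⟨_, rfl⟩
  have e : K ^ 2 + 8 * K * L = r * r := by
    rw [hr]; linear_combination (-4 * (K - L)) * h
  rw [hasRoot, e, isSquare_mul_self, Bool.true_and, Int.natAbs_mul, Nat.sqrt_eq]
  simp only [Bool.or_eq_true, decide_eq_true_eq]
  rcases Int.natAbs_eq r with h' | h'
  · exact Or.inl ⟨x, by rw [← h', hr]; ring⟩
  · exact Or.inr ⟨x, by
      rw [show -((r.natAbs : ℕ) : ℤ) = r by omega, hr]; ring⟩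

/-- The test for one index. -/
def indexOK (X p q : ℤ) (m : ℕ) : Bool :=
  if hasRoot (m * (X - 1) ^ 2 * q ^ 2) (X * (X + 1) * (p + q) ^ 2)
  then rowsOK X p q m else true

/-- The test for one pair of signed degrees. -/
def degOK (X b : ℤ) : Bool :=
  let den := (-(X + 1) - b) * b * (X - 1) ^ 2
  let n := X * ((X + 1) ^ 2 - 4 * ((-(X + 1) - b) * b)) * den
  if b != -1 && den != 0 && decide (n < den * den) && isSquare n then
    let k : ℤ := n.natAbs.sqrt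
    (List.range 172).all fun m => decide (m < 7) || decide (m % 2 = 0) ||
      (indexOK X (den + k) (den - k) m && indexOK X (den - k) (den + k) m)
  else true

/-- The possible values of `X`. -/
def values : List ℤ := [9, 17, 25, 33, 41, -7, -15, -23, -31, -39]

theorem finite_check : ∀ X ∈ values, ∀ j ∈ List.range (X.natAbs * (X.natAbs + 1) / 2 + 4),
    degOK X (4 * ((j : ℤ) - ((X.natAbs * (X.natAbs + 1) / 4 + 1 : ℕ) : ℤ)) + 3) = true := by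
  decide +kernel

variable {X a b W W' X₀ : ℤ} {m : ℕ}

theorem check_of_bound (hX : X ∈ values) (hb : (4 : ℤ) ∣ b - 3)
    (hbd : |b| ≤ |X| * (|X| + 1)) : degOK X b = true := by
  obtain ⟨i, hi⟩ := hb
  obtain ⟨N, hN⟩ : ∃ N, N = X.natAbs * (X.natAbs + 1) := ⟨_, rfl⟩
  have hbN : |b| ≤ (N : ℤ) := by rw [hN]; push_cast; exact hbd
  rw [abs_le] at hbN
  obtain ⟨j, hj⟩ : ∃ j : ℕ, (j : ℤ) = i + ((N / 4 + 1 : ℕ) : ℤ) :=
    ⟨(i + ((N / 4 + 1 : ℕ) : ℤ)).toNat, Int.toNat_of_nonneg (by push_cast; omega)⟩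
  have hjlt : j < N / 2 + 4 := by push_cast at hj; omega
  have h := finite_check X hX j (List.mem_range.2 (hN ▸ hjlt))
  rw [← hN, hj] at h
  rw [show b = 4 * (i + ((N / 4 + 1 : ℕ) : ℤ) - ((N / 4 + 1 : ℕ) : ℤ)) + 3 by
    rw [add_sub_cancel_right]; omega]
  exact h

/-- The core: `X` and one of the degrees are bounded. -/
theorem core (hX : X ∈ values) (hsum : a + b = -(X + 1))
    (hb : (4 : ℤ) ∣ b - 3) (hb1 : b ≠ -1) (hbd : |b| ≤ |X| * (|X| + 1)) (hab : a * b ≠ 0)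
    (hW : 0 < W) (hW' : 0 < W')
    (hprod : a * b * ((W - W') ^ 2 * (X + 1) ^ 2 + 16 * X * W * W') =
      X * (X + 1) ^ 2 * (W + W') ^ 2)
    (hidx : (m : ℤ) * X₀ * (X₀ + 1) * (X - 1) ^ 2 * W' ^ 2 =
      X * (X + 1) * (W + W') ^ 2 * (X₀ - 1) ^ 2) (hm : 7 ≤ m) (hmodd : m % 2 = 1) (hm' : m ≤ 171) :
    (X = 9 ∧ W = W' ∧ m = 15 ∧ X₀ = -3) ∨ (X = -7 ∧ W = W' ∧ m = 7 ∧ X₀ = -3) ∨
      (X = -7 ∧ W = 5 * W' ∧ m = 63 ∧ X₀ = -3) ∨ (X = -15 ∧ W = 3 * W' ∧ m = 7 ∧ X₀ = 5) ∨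
      (X = -15 ∧ W = 3 * W' ∧ m = 35 ∧ X₀ = -3) := by
  have hX1 : X - 1 ≠ 0 := fun h => by
    have : X = 1 := by omega
    subst this
    simp [values] at hX
  have ha : a = -(X + 1) - b := by omega
  obtain ⟨den, hden⟩ : ∃ den, den = a * b * (X - 1) ^ 2 := ⟨_, rfl⟩
  obtain ⟨n, hn⟩ : ∃ n, n = X * ((X + 1) ^ 2 - 4 * (a * b)) * den := ⟨_, rfl⟩
  have hden0 : den ≠ 0 := hden ▸ mul_ne_zero hab (pow_ne_zero 2 hX1)
  have hs : W + W' ≠ 0 := by omega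
  have hsq : (den * (W - W')) ^ 2 = n * (W + W') ^ 2 := by
    rw [hn, hden]
    linear_combination (a * b * (X - 1) ^ 2) * hprod
  obtain ⟨k, hk⟩ := (Int.pow_dvd_pow_iff two_ne_zero).1 (Dvd.intro_left n hsq.symm)
  have hnk : n = k * k := by
    refine mul_right_cancel₀ (pow_ne_zero 2 hs) ?_
    rw [← hsq, hk]
    ring
  have hlt : n < den * den := by
    refine lt_of_mul_lt_mul_right ?_ (sq_nonneg (W + W'))
    rw [← hsq]
    nlinarith [mul_pos (mul_self_pos.2 hden0) (mul_pos hW hW')]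
  have h := check_of_bound hX hb hbd
  rw [degOK] at h
  simp only [← ha, ← hden, ← hn] at h
  rw [if_pos (by rw [hnk] at hlt ⊢; simp [hb1, hden0, hlt, isSquare_mul_self]),
    List.all_eq_true] at h
  have h7 := h m (List.mem_range.2 (by omega))
  rw [decide_eq_false (show ¬ m < 7 by omega), decide_eq_false (show ¬ m % 2 = 0 by omega),
    Bool.false_or, Bool.false_or, Bool.and_eq_true] at h7
  have hroot : ((n.natAbs.sqrt : ℕ) : ℤ) = k ∨ ((n.natAbs.sqrt : ℕ) : ℤ) = -k := by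
    rw [hnk, Int.natAbs_mul, Nat.sqrt_eq]
    omega
  have hok : indexOK X (den + k) (den - k) m = true := by
    rcases hroot with e | e <;> rw [e] at h7
    · exact h7.1
    · have := h7.2
      rwa [sub_neg_eq_add, ← sub_eq_add_neg] at this
  obtain ⟨p, hp⟩ : ∃ p, p = den + k := ⟨_, rfl⟩
  obtain ⟨q, hq⟩ : ∃ q, q = den - k := ⟨_, rfl⟩
  rw [← hp, ← hq] at hok
  have hpq : W * q = W' * p := by rw [hp, hq]; linear_combination hk
  have hq0 : q ≠ 0 := by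
    intro e
    rw [e, mul_zero] at hpq
    rcases mul_eq_zero.1 hpq.symm with e' | e' <;> omega
  have hK : (m : ℤ) * (X - 1) ^ 2 * q ^ 2 * (X₀ * (X₀ + 1)) =
      X * (X + 1) * (p + q) ^ 2 * (X₀ - 1) ^ 2 := by
    refine mul_right_cancel₀ (pow_ne_zero 2 hW'.ne') ?_
    linear_combination (q ^ 2) * hidx +
      (X * (X + 1) * (X₀ - 1) ^ 2 * ((W + W') * q + W' * (p + q))) * hpq
  rw [indexOK, if_pos (hasRoot_of_eq hK)] at hok
  simp only [rowsOK, Bool.or_eq_true, decide_eq_true_eq] at hok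
  have hWr : ∀ r : ℤ, p = r * q → W = r * W' := fun r e => by
    refine mul_right_cancel₀ hq0 ?_
    rw [hpq, e]
    ring
  have hlow : ∀ x : ℤ, 8 * (x * (x + 1)) = 3 * (x - 1) ^ 2 → x = -3 := fun x e => by
    rcases mul_eq_zero.1 (show (x + 3) * (5 * x - 1) = 0 by linear_combination e) with e | e <;> omega
  rcases hok with (((⟨rfl, e, rfl⟩ | ⟨rfl, e, rfl⟩) | ⟨rfl, e, rfl⟩) | ⟨rfl, e, rfl⟩) |
    ⟨rfl, e, rfl⟩ <;> subst e <;> push_cast at hK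
  · exact Or.inl ⟨rfl, by simpa using hWr 1 (one_mul _).symm, rfl,
      hlow X₀ (mul_left_cancel₀ (pow_ne_zero 2 hq0) (by linarith))⟩
  · exact Or.inr (Or.inl ⟨rfl, by simpa using hWr 1 (one_mul _).symm, rfl,
      hlow X₀ (mul_left_cancel₀ (pow_ne_zero 2 hq0) (by linarith))⟩)
  · exact Or.inr (Or.inr (Or.inl ⟨rfl, hWr 5 rfl, rfl,
      hlow X₀ (mul_left_cancel₀ (pow_ne_zero 2 hq0) (by linarith))⟩))
  · refine Or.inr (Or.inr (Or.inr (Or.inl ⟨rfl, hWr 3 rfl, rfl, ?_⟩)))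
    rcases mul_eq_zero.1 (show (X₀ - 5) * (7 * X₀ - 3) = 0 from
      mul_left_cancel₀ (pow_ne_zero 2 hq0) (by linarith)) with e | e <;> omega
  · exact Or.inr (Or.inr (Or.inr (Or.inr ⟨rfl, hWr 3 rfl, rfl,
      hlow X₀ (mul_left_cancel₀ (pow_ne_zero 2 hq0) (by linarith))⟩)))

/-- Cancelling the factor of the subgroup of index two. -/
theorem index_bound (hX₀ : 3 * (X₀ - 1) ^ 2 ≤ 8 * X₀ * (X₀ + 1)) (hX₀1 : X₀ ≠ 1)
    (hidx : (m : ℤ) * X₀ * (X₀ + 1) * (X - 1) ^ 2 * W' ^ 2 =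
      X * (X + 1) * (W + W') ^ 2 * (X₀ - 1) ^ 2) :
    3 * (m : ℤ) * (X - 1) ^ 2 * W' ^ 2 ≤ 8 * (X * (X + 1)) * (W + W') ^ 2 := by
  refine le_of_mul_le_mul_right ?_ (pow_two_pos_of_ne_zero (sub_ne_zero.2 hX₀1))
  nlinarith [mul_le_mul_of_nonneg_left hX₀
    (show (0 : ℤ) ≤ m * (X - 1) ^ 2 * W' ^ 2 by positivity)]

/-- The possible values of `X` for positive `X`. -/
theorem values_pos (hX : 9 ≤ X) (h8 : (8 : ℤ) ∣ X - 1) (hsum : a + b = -(X + 1))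
    (ha : (4 : ℤ) ∣ a - 3) (ha1 : a ≠ -1) (hb : (4 : ℤ) ∣ b - 3) (hb1 : b ≠ -1)
    (hW : 0 < W) (hW' : 0 < W')
    (hprod : a * b * ((W - W') ^ 2 * (X + 1) ^ 2 + 16 * X * W * W') =
      X * (X + 1) ^ 2 * (W + W') ^ 2)
    (hm : 3 * (m : ℤ) * (X - 1) ^ 2 * W' ^ 2 ≤ 8 * (X * (X + 1)) * (W + W') ^ 2)
    (hdeg : X ≤ m) : X ∈ values ∧ a < 0 ∧ b < 0 ∧ (m : ℤ) ≤ 171 := by
  have hbr : 0 < (W - W') ^ 2 * (X + 1) ^ 2 + 16 * X * W * W' := by positivity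
  have hab : 0 < a * b := by
    by_contra hle
    have : 0 < X * (X + 1) ^ 2 * (W + W') ^ 2 := by positivity
    nlinarith [mul_nonpos_of_nonpos_of_nonneg (not_lt.1 hle) hbr.le]
  obtain ⟨haneg, hbneg⟩ : a < 0 ∧ b < 0 := by
    rcases pos_and_pos_or_neg_and_neg_of_mul_pos hab with ⟨p, q⟩ | h
    · omega
    · exact h
  have ha5 : a ≤ -5 := by omega
  have hb5 : b ≤ -5 := by omega
  have hab5 : 5 * X - 20 ≤ a * b := by
    nlinarith [mul_nonneg (show (0 : ℤ) ≤ -5 - a by omega) (show (0 : ℤ) ≤ -5 - b by omega)]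
  have hT : 5 * (X - 4) * (X - 1) ^ 2 * (W - W') ^ 2 ≤ X * (X - 9) ^ 2 * (W + W') ^ 2 := by
    nlinarith [mul_le_mul_of_nonneg_right hab5 hbr.le]
  have hpoly : 4 * (X * (X - 9) ^ 2) ≤ 5 * (X - 4) * (X - 1) ^ 2 := by
    nlinarith [mul_nonneg (show (0 : ℤ) ≤ X - 9 by omega) (sq_nonneg (X - 1))]
  have hpos : 0 < 5 * (X - 4) * (X - 1) ^ 2 :=
    mul_pos (by omega) (pow_two_pos_of_ne_zero (by omega))
  have h4 : 4 * (W - W') ^ 2 ≤ (W + W') ^ 2 := by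
    refine le_of_mul_le_mul_left ?_ hpos
    nlinarith [mul_le_mul_of_nonneg_right hpoly (sq_nonneg (W + W'))]
  have h3 : W ≤ 3 * W' := by
    by_contra hlt
    nlinarith [mul_pos (show (0 : ℤ) < W - 3 * W' by omega) (show (0 : ℤ) < 3 * W - W' by omega)]
  have hS : (W + W') ^ 2 ≤ 16 * W' ^ 2 := by nlinarith
  have hmb : 3 * (m : ℤ) * (X - 1) ^ 2 ≤ 128 * (X * (X + 1)) := by
    refine le_of_mul_le_mul_right ?_ (pow_pos hW' 2)
    nlinarith [mul_le_mul_of_nonneg_left hS (show 0 ≤ 8 * (X * (X + 1)) by positivity)]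
  have hm171 : (m : ℤ) ≤ 171 := by
    by_contra hlt
    nlinarith [mul_le_mul_of_nonneg_right (show (172 : ℤ) ≤ m by omega) (sq_nonneg (X - 1))]
  have hX45 : X ≤ 45 := by
    by_contra hlt
    nlinarith [mul_le_mul_of_nonneg_right hdeg (sq_nonneg (X - 1)),
      mul_nonneg (show (0 : ℤ) ≤ X - 46 by omega) (show (0 : ℤ) ≤ X by omega)]
  refine ⟨?_, haneg, hbneg, hm171⟩
  have : X = 9 ∨ X = 17 ∨ X = 25 ∨ X = 33 ∨ X = 41 := by omega
  rcases this with rfl | rfl | rfl | rfl | rfl <;> simp [values]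

/-- The refinement for large negative `X`. -/
theorem negative_small {x : ℤ} (hW : 0 < W) (hW' : 0 < W') (h8 : (8 : ℤ) ∣ x + 1) (hx7 : 7 ≤ x)
    (key : 5 * (x + 4) * (x + 1) ^ 2 * (W - W') ^ 2 ≤ x * (x + 9) ^ 2 * (W + W') ^ 2)
    (hmx : 3 * (m : ℤ) * (x + 1) ^ 2 * W' ^ 2 ≤ 8 * (x * (x - 1)) * (W + W') ^ 2)
    (hdeg : x - 1 ≤ m) : x ≤ 39 := by
  have hden : 0 < 5 * (x + 4) * (x + 1) ^ 2 := mul_pos (by omega) (pow_pos (by omega) 2)
  have hxx : x * (x - 1) ≤ (x + 1) ^ 2 := by nlinarith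
  have hxx0 : 0 ≤ x * (x - 1) := mul_nonneg (by omega) (by omega)
  have step : ∀ c d : ℤ, 0 < d → d * (x * (x + 9) ^ 2) ≤ c * (5 * (x + 4) * (x + 1) ^ 2) →
      d * (W - W') ^ 2 ≤ c * (W + W') ^ 2 := fun c d hd hcd => by
    refine le_of_mul_le_mul_left ?_ hden
    linarith [mul_le_mul_of_nonneg_left key hd.le,
      mul_le_mul_of_nonneg_right hcd (sq_nonneg (W + W'))]
  have hfin : ∀ c : ℤ, (W + W') ^ 2 ≤ c * W' ^ 2 →
      3 * (m : ℤ) * (x + 1) ^ 2 ≤ 8 * (x * (x - 1)) * c := fun c hc => by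
    refine le_of_mul_le_mul_right ?_ (pow_pos hW' 2)
    linarith [mul_le_mul_of_nonneg_left hc (mul_nonneg (by norm_num : (0 : ℤ) ≤ 8) hxx0)]
  by_contra hlt
  have h1000 : 1000 * (W - W') ^ 2 ≤ 304 * (W + W') ^ 2 := step 304 1000 (by norm_num) (by
    nlinarith [mul_nonneg (show (0 : ℤ) ≤ x - 23 by omega) (sq_nonneg x),
      mul_nonneg (show (0 : ℤ) ≤ x - 23 by omega) (show (0 : ℤ) ≤ x by omega)])
  have h35 : 2 * W ≤ 7 * W' := by
    by_contra hlt'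
    nlinarith [mul_pos (show (0 : ℤ) < 2 * W - 7 * W' by omega) (show (0 : ℤ) < W by omega)]
  have hm54 : (m : ℤ) ≤ 54 := by
    have h := hfin 21 (by nlinarith)
    by_contra hlt'
    nlinarith [mul_le_mul_of_nonneg_right (show (55 : ℤ) ≤ m by omega) (sq_nonneg (x + 1))]
  have hxr : x = 47 ∨ x = 55 := by omega
  have hnum : 1000 * (x * (x + 9) ^ 2) ≤ 260 * (5 * (x + 4) * (x + 1) ^ 2) := by
    rcases hxr with e | e <;> rw [e] <;> norm_num
  have h260 := step 260 1000 (by norm_num) hnum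
  have h31 : 10 * W ≤ 31 * W' := by
    by_contra hlt'
    nlinarith [mul_pos (show (0 : ℤ) < 10 * W - 31 * W' by omega) (show (0 : ℤ) < W by omega)]
  have h := hfin 17 (by nlinarith)
  rcases hxr with e | e <;> rw [e] at h hdeg <;> norm_num at h hdeg <;> omega

/-- The possible values of `X` for negative `X`. -/
theorem values_neg (hX : X ≤ -7) (h8 : (8 : ℤ) ∣ X - 1) (hsum : a + b = -(X + 1))
    (ha : (4 : ℤ) ∣ a - 3) (ha1 : a ≠ -1) (hb : (4 : ℤ) ∣ b - 3) (hb1 : b ≠ -1)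
    (hW : 0 < W) (hW' : 0 < W')
    (hprod : a * b * ((W - W') ^ 2 * (X + 1) ^ 2 + 16 * X * W * W') =
      X * (X + 1) ^ 2 * (W + W') ^ 2)
    (hm : 3 * (m : ℤ) * (X - 1) ^ 2 * W' ^ 2 ≤ 8 * (X * (X + 1)) * (W + W') ^ 2)
    (hdeg : -X - 1 ≤ m) : X ∈ values ∧ (m : ℤ) ≤ 171 := by
  obtain ⟨x, rfl⟩ : ∃ x, X = -x := ⟨-X, by ring⟩
  obtain ⟨T, hT⟩ : ∃ T, T = (W - W') ^ 2 := ⟨_, rfl⟩
  obtain ⟨S, hS⟩ : ∃ S, S = (W + W') ^ 2 := ⟨_, rfl⟩
  have hT0 : 0 ≤ T := hT ▸ sq_nonneg _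
  have hS0 : 0 < S := hS ▸ pow_pos (by omega) 2
  have hp : a * b * (T * (x + 1) ^ 2 - 4 * x * S) = -(x * (x - 1) ^ 2) * S := by
    rw [hT, hS]
    linear_combination hprod
  have key : 5 * (x + 4) * (x + 1) ^ 2 * T ≤ x * (x + 9) ^ 2 * S := by
    rcases le_or_gt 0 (a * b) with h | h
    · have hle : T * (x + 1) ^ 2 ≤ 4 * x * S := by
        by_contra hlt
        have : 0 < x * (x - 1) ^ 2 * S :=
          mul_pos (mul_pos (by omega) (pow_two_pos_of_ne_zero (by omega))) hS0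
        nlinarith [mul_nonneg h (show 0 ≤ T * (x + 1) ^ 2 - 4 * x * S by omega)]
      nlinarith [mul_le_mul_of_nonneg_left hle (show 0 ≤ 5 * (x + 4) by omega),
        mul_nonneg (mul_nonneg (show 0 ≤ x by omega) (sq_nonneg (x - 1))) hS0.le]
    · obtain ⟨u, v, hu, hv, huv, hsv⟩ : ∃ u v : ℤ, u ≤ -5 ∧ 0 ≤ v ∧ a * b = u * v ∧
          u + v = x - 1 := by
        rcases lt_or_ge a 0 with hlt | hge
        · have : 0 ≤ b := by nlinarith
          exact ⟨a, b, by omega, this, rfl, by omega⟩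
        · have : b < 0 := by nlinarith
          exact ⟨b, a, by omega, hge, mul_comm _ _, by omega⟩
      have hle : a * b ≤ -(5 * (x + 4)) := by
        rw [huv]
        nlinarith [mul_nonneg (show 0 ≤ -5 - u by omega) hv]
      have hbr : 0 ≤ T * (x + 1) ^ 2 - 4 * x * S := by
        by_contra hlt
        have : 0 < x * (x - 1) ^ 2 * S :=
          mul_pos (mul_pos (by omega) (pow_two_pos_of_ne_zero (by omega))) hS0
        nlinarith [mul_nonneg (show 0 ≤ -(a * b) by omega)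
          (show 0 ≤ -(T * (x + 1) ^ 2 - 4 * x * S) by omega)]
      nlinarith [mul_le_mul_of_nonneg_right hle hbr]
  have hden : 0 < 5 * (x + 4) * (x + 1) ^ 2 := mul_pos (by omega) (pow_pos (by omega) 2)
  have hxx : x * (x - 1) ≤ (x + 1) ^ 2 := by nlinarith
  have step : ∀ c d : ℤ, 0 < d → d * (x * (x + 9) ^ 2) ≤ c * (5 * (x + 4) * (x + 1) ^ 2) →
      d * T ≤ c * S := fun c d hd hcd => by
    refine le_of_mul_le_mul_left ?_ hden
    nlinarith [mul_le_mul_of_nonneg_left key hd.le, mul_le_mul_of_nonneg_right hcd hS0.le]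
  have h64 : 64 * T ≤ 33 * S := step 33 64 (by norm_num) (by
    nlinarith [mul_nonneg (show (0 : ℤ) ≤ x - 7 by omega) (sq_nonneg x),
      mul_nonneg (show (0 : ℤ) ≤ x - 7 by omega) (show (0 : ℤ) ≤ x by omega)])
  have h7 : W ≤ 7 * W' := by
    by_contra hlt
    rw [hT, hS] at h64
    nlinarith [mul_pos (show (0 : ℤ) < W - 7 * W' by omega) (show (0 : ℤ) < W by omega)]
  have hmx : 3 * (m : ℤ) * (x + 1) ^ 2 * W' ^ 2 ≤ 8 * (x * (x - 1)) * S := by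
    rw [hS]; linear_combination hm
  have hfin : ∀ c : ℤ, S ≤ c * W' ^ 2 → 3 * (m : ℤ) * (x + 1) ^ 2 ≤ 8 * (x * (x - 1)) * c :=
    fun c hc => by
    refine le_of_mul_le_mul_right ?_ (pow_pos hW' 2)
    nlinarith [mul_le_mul_of_nonneg_left hc (show 0 ≤ 8 * (x * (x - 1)) by
      exact mul_nonneg (by norm_num) (mul_nonneg (by omega) (by omega)))]
  have hm171 : (m : ℤ) ≤ 171 := by
    have h := hfin 64 (by rw [hS]; nlinarith)
    by_contra hlt
    nlinarith [mul_le_mul_of_nonneg_right (show (172 : ℤ) ≤ m by omega) (sq_nonneg (x + 1))]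
  refine ⟨?_, hm171⟩
  have hx39 : x ≤ 39 :=
    negative_small hW hW' (by omega) (by omega) (hT ▸ hS ▸ key) (hS ▸ hmx) (by omega)
  have : x = 7 ∨ x = 15 ∨ x = 23 ∨ x = 31 ∨ x = 39 := by omega
  rcases this with rfl | rfl | rfl | rfl | rfl <;> simp [values]

/-- The five possibilities of a fused overgroup. -/
theorem fused_arith (h8 : (8 : ℤ) ∣ X - 1) (hX1 : X ≠ 1)
    (ha : (4 : ℤ) ∣ a - 3) (ha1 : a ≠ -1) (hb : (4 : ℤ) ∣ b - 3) (hb1 : b ≠ -1)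
    (hsum : a + b = -(X + 1)) (hW : 0 < W) (hW' : 0 < W')
    (hprod : a * b * ((W - W') ^ 2 * (X + 1) ^ 2 + 16 * X * W * W') =
      X * (X + 1) ^ 2 * (W + W') ^ 2)
    (hX₀ : 3 * (X₀ - 1) ^ 2 ≤ 8 * X₀ * (X₀ + 1)) (hX₀1 : X₀ ≠ 1)
    (hidx : (m : ℤ) * X₀ * (X₀ + 1) * (X - 1) ^ 2 * W' ^ 2 =
      X * (X + 1) * (W + W') ^ 2 * (X₀ - 1) ^ 2)
    (hm : 7 ≤ m) (hmodd : m % 2 = 1) (hpos : 0 < X → X ≤ m) (hneg : X < 0 → -X - 1 ≤ m)
    (hdeg : X < 0 → |a| ≤ X * (X + 1) ∨ |b| ≤ X * (X + 1)) :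
    (X = 9 ∧ W = W' ∧ m = 15 ∧ X₀ = -3) ∨ (X = -7 ∧ W = W' ∧ m = 7 ∧ X₀ = -3) ∨
      (X = -7 ∧ W = 5 * W' ∧ m = 63 ∧ X₀ = -3) ∨ (X = -15 ∧ W = 3 * W' ∧ m = 7 ∧ X₀ = 5) ∨
      (X = -15 ∧ W = 3 * W' ∧ m = 35 ∧ X₀ = -3) := by
  have hbound := index_bound hX₀ hX₀1 hidx
  have hab : a * b ≠ 0 := mul_ne_zero (by omega) (by omega)
  rcases lt_or_gt_of_ne (show X ≠ 0 by omega) with hlt | hgt
  · obtain ⟨hv, hm'⟩ := values_neg (by omega) h8 hsum ha ha1 hb hb1 hW hW' hprod hbound (hneg hlt)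
    have hX' : |X| = -X := abs_of_neg hlt
    rcases hdeg hlt with h | h
    · exact core (a := b) hv (by omega) ha ha1 (by rw [hX']; nlinarith) (by rwa [mul_comm]) hW hW'
        (by rwa [mul_comm b a]) hidx hm hmodd (by omega)
    · exact core hv hsum hb hb1 (by rw [hX']; nlinarith) hab hW hW' hprod hidx hm hmodd (by omega)
  · obtain ⟨hv, han, hbn, hm'⟩ := values_pos (by omega) h8 hsum ha ha1 hb hb1 hW hW' hprod hbound
      (hpos hgt)
    exact core hv hsum hb hb1 (by rw [abs_of_pos hgt, abs_of_neg hbn]; nlinarith) hab hW hW' hprod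
      hidx hm hmodd (by omega)

end Cfsg.Lib.GW.FusedArith
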