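import Cfsg.Agent.Lib.GW.FusedChar
import Cfsg.Agent.Lib.GW.ArithTwo
import Cfsg.Agent.Lib.Char.ConstantFour

/-!
# Congruences and bounds for the signed degrees
-/

set_option autoImplicit false
set_option linter.unusedSectionVars false
set_option maxHeartbeats 800000

namespace Cfsg.Lib.GW

open Cfsg Cfsg.Lib.Block Cfsg.Lib.Char
open scoped ComplexConjugate

universe u

variable {G : Type u} [Group G] [Fintype G] {M : Ideal AlgInt}
variable {P : Sylow 2 G} {σ τ : G} {h : ℕ} [Fact (Nat.Prime 2)]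
variable (D : DihSylow P σ τ h) (hone : ∀ a : G, a * a = 1 → a ≠ 1 → IsConj (σ ^ h) a)
  (co : Companion M P σ τ h)

include D hone in
/-- A character constant on the nontrivial elements of the Sylow subgroup. -/
theorem sylow_congr (χ : IrrCharacter G) (hM : IsPModular 2 M)
    (hB : χ ∈ principalBlock M G) {d : ℤ}
    (hd : ∀ l : ℕ, 0 < l → l < 2 * h → (χ : G → ℂ) (σ ^ l) = d) :
    ((4 * h : ℕ) : ℤ) ∣ (charDegree (χ : G → ℂ) : ℤ) - d := by
  classical
  letI : Fintype (P : Subgroup G) := Fintype.ofFinite _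
  obtain ⟨N, hN⟩ := (χ.2.isCharacter.comp (P : Subgroup G).subtype).exists_nat_classInner
    (Char.isCharacter_one (G := (P : Subgroup G)))
  rw [classInner] at hN
  simp only [map_one, mul_one, Subgroup.coe_subtype] at hN
  have hval : ∀ y : (P : Subgroup G), y ≠ 1 → (χ : G → ℂ) (y : G) = d := by
    intro y hy
    have hs : ¬ IsPRegular 2 (y : G) := fun hr => hy (by
      obtain ⟨k, hk⟩ := D.exists_order y.2
      rw [IsPRegular, hk] at hr
      have hk0 : k = 0 := Nat.eq_zero_of_not_pos fun hpos => hr (dvd_pow_self 2 hpos.ne')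
      rw [hk0, pow_zero, orderOf_eq_one_iff] at hk
      exact Subtype.ext hk)
    obtain ⟨x, z, l, h0, hl, hc, hz, hx⟩ := singular_section D hone hs
    rw [block_value_section hM D hB h0 hl hc hz hx, hd l h0 hl]
  have hq : (Nat.card (P : Subgroup G) : ℂ) = ((4 * h : ℕ) : ℂ) := by rw [D.card]
  rw [← Finset.add_sum_erase _ _ (Finset.mem_univ (1 : (P : Subgroup G))),
    Finset.sum_congr rfl (fun x hx => hval x (Finset.mem_erase.1 hx).1), Finset.sum_const,
    Finset.card_erase_of_mem (Finset.mem_univ _), Finset.card_univ, ← Nat.card_eq_fintype_card,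
    nsmul_eq_mul, Nat.cast_sub Nat.card_pos, OneMemClass.coe_one, apply_one_eq_charDegree, hq,
    inv_mul_eq_iff_eq_mul₀ (Nat.cast_ne_zero.2 (by have := D.two_le; omega)), Nat.cast_one] at hN
  refine ⟨(N : ℤ) - d, ?_⟩
  apply Int.cast_injective (α := ℂ)
  push_cast at hN ⊢
  linear_combination hN

include D hone in
theorem eight_dvd (hM : IsPModular 2 M) : (8 : ℤ) ∣ co.X - 1 := by
  have h1 : ((8 : ℕ) : ℤ) ∣ ((4 * h : ℕ) : ℤ) := by
    obtain ⟨r, hr⟩ := D.even
    exact Int.natCast_dvd_natCast.2 ⟨r, by omega⟩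
  obtain ⟨k, hk⟩ := h1.trans (sylow_congr D hone co.χ₁ hM co.mem_block (d := co.δ₁)
    fun l h0 hl => co.value l h0 hl)
  have hX := co.degX
  push_cast at hk
  rcases co.hδ₁ with e | e <;> rw [e] at hk hX <;> omega

include D hone in
/-- The values on a four group: the signed degree is `3` modulo `4`. -/
theorem three_mod_four (χ : IrrCharacter G) {d : ℤ}
    (hd : (χ : G → ℂ) (σ ^ h) = -d) :
    (4 : ℤ) ∣ (charDegree (χ : G → ℂ) : ℤ) - 3 * d := by
  classical
  obtain ⟨hJ2, hJ1, hJc⟩ := D.central_involution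
  have hτ := D.sqτ
  have hτP : τ ∈ (P : Subgroup G) ∧ τ ∉ Subgroup.zpowers σ :=
    D.reflection_iff.2 ⟨0, by have := D.two_le; omega, by rw [pow_zero, one_mul]⟩
  have hc : Commute τ (σ ^ h) := hJc τ D.memτ
  let f : ℤˣ × ℤˣ →* G := MonoidHom.mk'
    (fun p => (if p.1 = 1 then 1 else σ ^ h) * (if p.2 = 1 then 1 else τ)) (by
      rintro ⟨a, b⟩ ⟨a', b'⟩
      rcases Int.units_eq_one_or a with rfl | rfl <;> rcases Int.units_eq_one_or b with rfl | rfl <;>
        rcases Int.units_eq_one_or a' with rfl | rfl <;>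
        rcases Int.units_eq_one_or b' with rfl | rfl <;>
        simp [mul_assoc, hJ2, hτ, hc.eq, hc.left_comm,
          show ∀ z : G, σ ^ h * (σ ^ h * z) = z from fun z => by rw [← mul_assoc, hJ2, one_mul],
          show ∀ z : G, τ * (τ * z) = z from fun z => by rw [← mul_assoc, hτ, one_mul]])
  obtain ⟨N, hN⟩ := (χ.2.isCharacter.comp f).exists_nat_classInner
    (Char.isCharacter_one (G := ℤˣ × ℤˣ))
  rw [classInner] at hN
  simp only [map_one, mul_one] at hN
  have hv : ∀ y : G, y * y = 1 → y ≠ 1 → (χ : G → ℂ) y = -d := by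
    intro y hy hy1
    obtain ⟨c, hc'⟩ := isConj_iff.1 (hone y hy hy1)
    rw [← hc', ← hd]
    exact χ.2.isClassFunction _ c
  have hu : (Finset.univ : Finset (ℤˣ × ℤˣ)) = {(1, 1), (1, -1), (-1, 1), (-1, -1)} := by decide
  have hne : (-1 : ℤˣ) ≠ 1 := by decide
  rw [hu, Finset.sum_insert (by decide), Finset.sum_insert (by decide),
    Finset.sum_insert (by decide), Finset.sum_singleton] at hN
  simp only [f, MonoidHom.mk'_apply, if_true, if_neg hne, one_mul, mul_one] at hN
  rw [apply_one_eq_charDegree, hv τ hτ (fun e => hτP.2 (e ▸ one_mem _)), hd,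
    hv (σ ^ h * τ) (by
      rw [mul_assoc, ← mul_assoc τ, hc.eq, mul_assoc (σ ^ h) τ, hτ, mul_one, hJ2])
      (fun e => hτP.2 (by
        rw [← inv_eq_of_mul_eq_one_right e]
        exact inv_mem (D.mem_pow h)))] at hN
  refine ⟨N, ?_⟩
  apply Int.cast_injective (α := ℂ)
  rw [Nat.card_prod, Nat.card_eq_fintype_card, Fintype.card_units_int] at hN
  push_cast at hN ⊢
  linear_combination 4 * hN

include D hone in
/-- Signed degrees of `χ₂`, `χ₃`: congruent `3` modulo `4`, and not `-1` for a perfect group. -/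
theorem degree_two_three (hperf : commutator G = ⊤) :
    ((4 : ℤ) ∣ co.a - 3 ∧ co.a ≠ -1) ∧ ((4 : ℤ) ∣ co.b - 3 ∧ co.b ≠ -1) := by
  have hh := D.two_le
  obtain ⟨hJ2, hJ1, -⟩ := D.central_involution
  have hsgn : ((-1 : ℂ)) ^ (h + 1) = -1 := by rw [pow_succ, D.even.neg_one_pow, one_mul]
  have key : ∀ (χ : IrrCharacter G) (δ : ℤ) (a : ℤ), χ ≠ trivChar G → (δ = 1 ∨ δ = -1) →
      a = δ * charDegree (χ : G → ℂ) → (χ : G → ℂ) (σ ^ h) = δ * (-1) ^ (h + 1) →
      (4 : ℤ) ∣ a - 3 ∧ a ≠ -1 := by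
    intro χ δ a hne hδ ha hv
    rw [hsgn, mul_neg_one] at hv
    obtain ⟨k, hk⟩ := three_mod_four D hone χ hv
    refine ⟨⟨δ * k, ?_⟩, fun h1 => ?_⟩
    · rw [ha]
      rcases hδ with e | e <;> rw [e] at hk ⊢ <;> omega
    · have hd : charDegree (χ : G → ℂ) = 1 := by
        have := charDegree_pos χ
        rcases hδ with e | e <;> rw [e] at ha <;> omega
      exact hne (Subtype.ext ((Cfsg.Lib.Char.ConstantFour.eq_one_of_degree_one hperf χ.2
        (by rw [apply_one_eq_charDegree, hd, Nat.cast_one])).trans trivChar_coe.symm))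
  exact ⟨key co.χ₂ co.δ₂ co.a co.ne_triv.2.1 co.hδ₂ co.dega (co.value₂ h (by omega) (by omega)),
    key co.χ₃ co.δ₃ co.b co.ne_triv.2.2 co.hδ₃ co.degb (co.value₃ h (by omega) (by omega))⟩

end Cfsg.Lib.GW
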