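import Cfsg.Agent.Lib.GW.OvergroupBase
import Cfsg.Agent.Lib.GW.Free
import Cfsg.Agent.Lib.Coprime.Generation
import Cfsg.Agent.Lib.Local.GlaubermanZJ
import Cfsg.Agent.S0111
import Cfsg.Agent.S0664
import Cfsg.Agent.S3081

/-!
# Overgroups of the centralizer of an involution: the case of a Fitting subgroup of prime power order

If `M` is maximal, contains `C(t)`, has no component and `F(M)` is a `p`-group, then `M` controls
`p`-fusion; an element of `F(M)` inverted by `t` and fixed by an involution outside a subgroup `M₀` of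
index two containing `t` is then inverted by an element of odd order, which is absurd.
-/

set_option autoImplicit false
set_option linter.style.haveILetI false

namespace Cfsg.Lib.GW

open Subgroup

universe u

variable {G : Type u} [Group G] [Finite G]

namespace GWMin

variable (hG : GWMin G)
include hG

/-- An unfused involution lies outside a subgroup of index two of `M` containing `t`. -/
theorem exists_parity (h8 : 8 ∣ Nat.card G) {t u : G} {M : Subgroup G} (ht : orderOf t = 2)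
    (hC : centralizer ({t} : Set G) ≤ M) (hu : Unfused t u M) :
    ∃ N : Subgroup G, N ≤ M ∧ t ∈ N ∧ u ∉ N ∧ (∀ a ∈ M, ∀ b ∈ N, a * b * a⁻¹ ∈ N) ∧
      ∀ a ∈ M, ∀ b ∈ M, a ∉ N → b ∉ N → a * b ∈ N := by
  haveI : Fact (Nat.Prime 2) := ⟨Nat.prime_two⟩
  obtain ⟨hu1, huc, huf⟩ := hu
  have hne : u ≠ t := Unfused.ne ⟨hu1, huc, huf⟩
  obtain ⟨T, huT, htT, htZ⟩ := hG.exists_sylow_pair' ht hu1 huc
  have hTM : (T : Subgroup G) ≤ M := fun x hx => mem_of_commute hC (htZ x hx)
  obtain ⟨m, hm, ⟨e⟩⟩ := hG.sylow T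
  haveI : NeZero m := ⟨by omega⟩
  have hcard : Nat.card (T : Subgroup G) = 2 * m :=
    (Nat.card_congr e.toEquiv).trans DihedralGroup.nat_card
  obtain ⟨k, hk⟩ := T.2.exists_card_eq
  have h8T : 8 ∣ Nat.card (T : Subgroup G) := T.pow_dvd_card_of_pow_dvd_card (n := 3) (by simpa using h8)
  have hk3 : 3 ≤ k := by
    by_contra hlt
    have hle : 2 ^ k ≤ 2 ^ 2 := Nat.pow_le_pow_right two_pos (by omega)
    have h := Nat.le_of_dvd Nat.card_pos h8T
    omega
  obtain ⟨l, rfl⟩ : ∃ l, k = l + 3 := ⟨k - 3, by omega⟩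
  have hm4 : m = 4 * 2 ^ l := by
    have : 2 * m = 8 * 2 ^ l := by rw [← hcard, hk, pow_add]; ring
    omega
  -- the cyclic subgroup of index two
  set R : Subgroup (T : Subgroup G) :=
    (zpowers (DihedralGroup.r 1 : DihedralGroup m)).map e.symm.toMonoidHom with hR
  haveI : IsCyclic R := isCyclic_of_surjective
    (e.symm.toMonoidHom.subgroupMap (zpowers (DihedralGroup.r 1 : DihedralGroup m)))
    (MonoidHom.subgroupMap_surjective _ _)
  set Q : Subgroup G := R.map (T : Subgroup G).subtype with hQ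
  have hQc : IsCyclic Q := isCyclic_of_surjective ((T : Subgroup G).subtype.subgroupMap R)
    (MonoidHom.subgroupMap_surjective _ _)
  have hQT : Q ≤ (T : Subgroup G) := map_subtype_le R
  have hQi : Q.relIndex (T : Subgroup G) = 2 := by
    have h := Cfsg.Lib.Core.card_mul_relIndex hQT
    rw [hQ, card_map_of_injective (T : Subgroup G).subtype_injective, hR,
      card_map_of_injective e.symm.injective, Nat.card_zpowers, DihedralGroup.orderOf_r_one, hcard,
      mul_comm 2] at h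
    exact Nat.eq_of_mul_eq_mul_left (by omega) h
  have hrQ : ∀ i : ℕ, ((e.symm ((DihedralGroup.r 1 : DihedralGroup m) ^ i)) : G) ∈ Q := fun i =>
    mem_map_of_mem _ (mem_map_of_mem e.symm.toMonoidHom (pow_mem (mem_zpowers _) i))
  -- `t` is a square in it
  set s := e.symm ((DihedralGroup.r 1 : DihedralGroup m) ^ 2 ^ l) with hs
  have hso : orderOf ((s : G)) = 4 := by
    rw [orderOf_coe, hs, MulEquiv.orderOf_eq, orderOf_pow_of_dvd (pow_ne_zero _ two_ne_zero)
      (by rw [DihedralGroup.orderOf_r_one, hm4]; exact dvd_mul_left _ _), DihedralGroup.orderOf_r_one, hm4]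
    exact Nat.mul_div_left 4 (pow_pos two_pos l)
  have hs2 : orderOf ((s : G) * s) = 2 := by
    rw [← sq, orderOf_pow_of_dvd two_ne_zero (by rw [hso]; norm_num), hso]
  have htQ : t ∈ Q := by
    obtain ⟨i, hi⟩ : ∃ i, e ⟨t, htT⟩ = DihedralGroup.r i := by
      rcases he : e ⟨t, htT⟩ with i | i
      · exact ⟨i, rfl⟩
      · exfalso
        refine not_commute_sr e (s := s) (fun h => ?_) he (Subtype.ext (htZ _ s.2))
        rw [show (s : G) * s = 1 from congrArg Subtype.val h, orderOf_one] at hs2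
        omega
    have := hrQ i.val
    rwa [DihedralGroup.r_one_pow, ZMod.natCast_zmod_val, ← hi, e.symm_apply_apply] at this
  have hts : (s : G) * s = t := by
    have hsQ : (s : G) ∈ Q := hrQ _
    exact Cfsg.Lib.Invol.eq_of_pow_two_group_cyclic hQc (mul_mem hsQ hsQ) htQ hs2 ht
  have huQ : u ∉ Q := fun h => hne (Cfsg.Lib.Invol.eq_of_pow_two_group_cyclic hQc h htQ hu1 ht)
  -- transfer in `M`
  set T' := T.subtype hTM with hT'
  have hQM : Q ≤ M := hQT.trans hTM
  have hrel : (Q.subgroupOf M).relIndex (T' : Subgroup M) = 2 := by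
    rw [Sylow.coe_subtype, relIndex_subgroupOf hTM, hQi]
  rcases Cfsg.Agent.S0111.result T' (Q.subgroupOf M) (by
      rw [Sylow.coe_subtype]; exact fun x hx => hQT hx) hrel
      ⟨u, mem_of_commute hC huc⟩ (by rw [← orderOf_coe]; exact hu1) (by rw [Sylow.coe_subtype]; exact huT)
      (fun h => huQ h) with ⟨N, hN, hNi, huN⟩ | ⟨a, ha⟩
  · haveI := hN
    have hcoe : ∀ {x : M}, (x : G) ∈ N.map M.subtype → x ∈ N := fun {x} hx => by
      obtain ⟨y, hy, hyx⟩ := hx
      rwa [show x = y from Subtype.ext hyx.symm]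
    refine ⟨N.map M.subtype, map_subtype_le N, ?_, fun h => huN (hcoe h), ?_, ?_⟩
    · rw [← hts]
      exact ⟨⟨s, hTM s.2⟩ * ⟨s, hTM s.2⟩, mul_self_mem_of_index_two hNi _, rfl⟩
    · rintro a ha _ ⟨b, hb, rfl⟩
      exact ⟨⟨a, ha⟩ * b * ⟨a, ha⟩⁻¹, hN.conj_mem b hb _, rfl⟩
    · intro a ha b hb haN hbN
      refine ⟨⟨a, ha⟩ * ⟨b, hb⟩, ?_, rfl⟩
      show (⟨a, ha⟩ * ⟨b, hb⟩ : M) ∈ N
      rw [Subgroup.mul_mem_iff_of_index_two hNi]
      exact iff_of_false (fun h => haN ⟨_, h, rfl⟩) fun h => hbN ⟨_, h, rfl⟩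
  · exfalso
    refine huf (a : G)⁻¹ (inv_mem a.2) ?_
    have h := Cfsg.Lib.Invol.eq_of_pow_two_group_cyclic hQc (x := (a : G) * u * (a : G)⁻¹) ha htQ
      (((MulAut.conj (a : G)).orderOf_eq u).trans hu1) ht
    rw [← h]
    group

/-- If `F(M)` is self-centralizing of odd prime power order, then `p`-elements of `M` which are conjugate
in `G` are conjugate in `M`. -/
theorem exists_conj_mem {M : Subgroup G} (hM : IsCoatom M) {q : ℕ} [Fact q.Prime] (hq : q ≠ 2)
    (hc : centralizer (Cfsg.pCore q M : Set M) ≤ Cfsg.pCore q M) {x : M} (hx : x ∈ Cfsg.pCore q M)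
    (hx1 : x ≠ 1) {g : G} (hyM : g⁻¹ * (x : G) * g ∈ M) :
    ∃ m ∈ M, (x : G) = m * (g⁻¹ * (x : G) * g) * m⁻¹ := by
  haveI := hG.isSimple
  obtain ⟨P₀⟩ : Nonempty (Sylow q M) := inferInstance
  have hZn := Cfsg.Agent.S0664.result hq (qd_free (hG.twoCycDih.subgroup M) hq) hc P₀
  set P' : Subgroup G := (P₀ : Subgroup M).map M.subtype with hP'
  set Z := Cfsg.centerThompsonAOf P' with hZ
  have hZmap : Z = (Cfsg.centerThompsonAOf (P₀ : Subgroup M)).map M.subtype := by
    rw [hZ, hP', Cfsg.Lib.Local.GlaubermanZJ.map_centerThompsonAOf' M.subtype _ M.subtype_injective.injOn]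
  have hxP : (x : G) ∈ P' := mem_map_of_mem _ (Cfsg.Lib.Core.pCore_le_sylow P₀ hx)
  have hP'ne : P' ≠ ⊥ := fun h => hx1 (Subtype.ext (mem_bot.1 (h ▸ hxP)))
  have hZne : Z ≠ ⊥ := Cfsg.Lib.Local.GlaubermanZJ.centerThompsonAOf_ne_bot (P₀.2.map _) hP'ne
  have hZM : normalizer (Z : Set G) = M := by
    refine (hM.le_iff.1 (fun a ha => mem_normalizer_fintype fun z hz => by
      rw [SetLike.mem_coe, hZmap] at hz ⊢
      obtain ⟨w, hw, rfl⟩ := hz
      exact ⟨⟨a, ha⟩ * w * ⟨a, ha⟩⁻¹, hZn.conj_mem _ hw _, rfl⟩)).resolve_left fun h => ?_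
    rw [normalizer_eq_top_iff] at h
    rcases IsSimpleGroup.eq_bot_or_eq_top_of_normal Z h with h' | h'
    · exact hZne h'
    · exact hM.1 (eq_top_iff.2 (h' ▸ hZmap.le.trans (map_subtype_le _)))
  obtain ⟨P, hP⟩ := (P₀.2.map M.subtype).exists_le_sylow
  have hPeq : (P : Subgroup G) = P' := by
    refine le_antisymm ?_ hP
    by_contra hlt
    haveI : Group.IsNilpotent (P : Subgroup G) := P.2.isNilpotent
    have hlt' : P'.subgroupOf (P : Subgroup G) < ⊤ := lt_top_iff_ne_top.2 fun h =>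
      hlt (subgroupOf_eq_top.1 h)
    obtain ⟨y, hy, hyP⟩ := SetLike.exists_of_lt (Group.normalizerCondition_of_isNilpotent _ hlt')
    have hyn : (y : G) ∈ normalizer (P' : Set G) := mem_normalizer_fintype fun z hz =>
      (mem_normalizer_iff.1 hy ⟨z, hP hz⟩).1 hz
    have hyM : (y : G) ∈ M := by
      rw [← hZM, hZ]
      refine mem_normalizer_fintype fun z hz => ?_
      have hinj : Set.InjOn (MulAut.conj (y : G)).toMonoidHom P' := (MulAut.conj (y : G)).injective.injOn
      have h := Cfsg.Lib.Local.GlaubermanZJ.map_centerThompsonAOf' (MulAut.conj (y : G)).toMonoidHom P' hinj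
      have hmapP : P'.map (MulAut.conj (y : G)).toMonoidHom = P' :=
        eq_of_le_of_card_ge (by rintro _ ⟨w, hw, rfl⟩; exact (mem_normalizer_iff.1 hyn w).1 hw)
          (le_of_eq (card_map_of_injective (MulAut.conj (y : G)).injective).symm)
      rw [hmapP] at h
      exact h.le (mem_map_of_mem _ hz)
    refine hyP (mem_subgroupOf.2 ?_)
    have hsup : IsPGroup q ((P₀ : Subgroup M) ⊔ zpowers (⟨y, hyM⟩ : M) : Subgroup M) := by
      refine ((P.2.comap_of_injective M.subtype M.subtype_injective).to_le (sup_le ?_ ?_))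
      · exact fun w hw => hP (mem_map_of_mem _ hw)
      · exact zpowers_le.2 y.2
    exact ⟨⟨y, hyM⟩, (P₀.3 hsup le_sup_left) ▸ mem_sup_right (mem_zpowers _), rfl⟩
  set y := g⁻¹ * (x : G) * g with hy
  obtain ⟨k, hk⟩ := (Cfsg.Lib.Core.pCore_isPGroup q M) ⟨x, hx⟩
  have hk' : (x : G) ^ q ^ k = 1 := congrArg (fun w : Cfsg.pCore q M => ((w : M) : G)) hk
  have hyk : y ^ q ^ k = 1 := by
    have h := map_pow (MulAut.conj g⁻¹).toMonoidHom (x : G) (q ^ k)
    simp only [hk', map_one, MulEquiv.coe_toMonoidHom, MulAut.conj_apply, inv_inv] at h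
    exact h.symm
  have hyp : IsPGroup q (zpowers (⟨y, hyM⟩ : M)) := by
    rintro ⟨z, j, rfl⟩
    refine ⟨k, Subtype.ext (Subtype.ext ?_)⟩
    simp only [SubmonoidClass.coe_pow, SubgroupClass.coe_zpow, OneMemClass.coe_one]
    rw [← zpow_natCast, zpow_comm, zpow_natCast, hyk, one_zpow]
  obtain ⟨R, hR⟩ := hyp.exists_le_sylow
  obtain ⟨m₀, hm₀⟩ := MulAction.exists_smul_eq M R P₀
  have hy' : (m₀ : G) * y * (m₀ : G)⁻¹ ∈ (P : Subgroup G) := by
    rw [hPeq]
    refine ⟨m₀ * ⟨y, hyM⟩ * m₀⁻¹, ?_, rfl⟩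
    rw [← hm₀]
    exact ⟨_, hR (mem_zpowers _), rfl⟩
  have hctl := (Cfsg.Agent.S3081.result hq P (P : Subgroup G) ⟨le_rfl, fun _ _ _ h => h⟩
    (fun hi => by
      obtain ⟨K, R', hR', ⟨e⟩⟩ := hi
      exact qd_free hG.twoCycDih hq ⟨K, R', hR', ⟨e⟩⟩)).1 {(x : G)}
    (Set.singleton_subset_iff.2 (hPeq ▸ hxP))
  obtain ⟨n, hn, heq⟩ := hctl.2 ((m₀ : G) * g⁻¹) (by
    rintro _ ⟨a, rfl, rfl⟩
    show _ ∈ (P : Subgroup G)
    simpa [hy, mul_assoc, SetLike.mem_coe] using hy')
  rw [hPeq, ← hZ, hZM] at hn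
  refine ⟨n⁻¹ * (m₀ : G), mul_mem (inv_mem hn) m₀.2, ?_⟩
  calc (x : G) = n⁻¹ * (n * (x : G) * n⁻¹) * n := by group
    _ = n⁻¹ * ((m₀ : G) * g⁻¹ * (x : G) * ((m₀ : G) * g⁻¹)⁻¹) * n := by rw [← heq (x : G) rfl]
    _ = _ := by rw [hy]; group

/-- `F(M)` is not of prime power order. -/
theorem oddMax_not_pGroup (h8 : 8 ∣ Nat.card G) {t u : G} {M : Subgroup G} (hM : OddMax t M)
    (hu : Unfused t u M) {p : ℕ} (hp : p.Prime) (hp2 : p ≠ 2)
    (hF : IsPGroup p (Cfsg.fittingSubgroup M)) : False := by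
  haveI : Fact p.Prime := ⟨hp⟩
  haveI := hG.isSimple
  obtain ⟨ht, hMc, hC, hlayer, hodd⟩ := hM
  obtain ⟨N, hNM, htN, huN, hNn, hNm⟩ := hG.exists_parity h8 ht hC hu
  obtain ⟨hu1, huc, -⟩ := hu
  have htt : t * t = 1 := by rw [← sq, ← ht, pow_orderOf_eq_one]
  have huu : u * u = 1 := by rw [← sq, ← hu1, pow_orderOf_eq_one]
  have htM : t ∈ M := hNM htN
  have huM : u ∈ M := mem_of_commute hC huc
  have hne : u ≠ t := fun h => huN (h ▸ htN)
  -- the Fitting subgroup
  have hFp : Cfsg.fittingSubgroup M = Cfsg.pCore p M :=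
    haveI := Cfsg.Lib.Core.fittingSubgroup_normal' M
    le_antisymm (Cfsg.Lib.Core.le_pCore' inferInstance hF)
      (Cfsg.Lib.Core.le_fittingSubgroup' inferInstance (Cfsg.Lib.Core.pCore_isPGroup p M).isNilpotent)
  have hcent : centralizer (Cfsg.pCore p M : Set M) ≤ Cfsg.pCore p M :=
    hFp ▸ Cfsg.Lib.Core.centralizer_fitting_le_iff_layer_eq_bot.2 hlayer
  have hXodd : Odd (Nat.card (Cfsg.pCore p M)) := hFp ▸ hodd
  set X : Subgroup G := (Cfsg.pCore p M).map M.subtype with hX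
  have hXo : Odd (Nat.card X) := by rwa [hX, card_map_of_injective M.subtype_injective]
  have hMX : M ≤ normalizer (X : Set G) :=
    le_normalizer.trans (Cfsg.Lib.Core.normalizer_le_normalizer_map_char _)
  obtain ⟨y, hy, hyt⟩ : ∃ y ∈ X, ¬ Commute y t := by
    by_contra hall
    push Not at hall
    have h1 : (⟨t, htM⟩ : M) ∈ Cfsg.pCore p M := hcent (mem_centralizer_iff.2 fun z hz =>
      Subtype.ext (hall _ (mem_map_of_mem M.subtype hz)).eq)
    have h2 := hXodd.of_dvd_nat (Subgroup.orderOf_dvd_natCard _ h1)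
    rw [← orderOf_coe, ht] at h2
    exact absurd h2 (by decide)
  -- some such element commutes with an involution outside `N`
  obtain ⟨v, hv, hvt, hvN, z, hz, hzv, hzt⟩ : ∃ v : G, orderOf v = 2 ∧ Commute v t ∧ v ∉ N ∧
      ∃ z ∈ X, Commute z v ∧ ¬ Commute z t := by
    by_contra hno
    push Not at hno
    obtain ⟨V, hVK, huV, htV, hVle⟩ := Cfsg.Agent.S1255.exists_four huu htt
      (Cfsg.Lib.Invol.ne_one hu1) (Cfsg.Lib.Invol.ne_one ht) hne huc.eq
    haveI := hVK
    haveI : IsMulCommutative V := ⟨⟨fun a b => Subtype.ext (Cfsg.Lib.Invol.klein_comm a.2 b.2)⟩⟩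
    have hle : X ≤ centralizer ({t} : Set G) := by
      refine (Cfsg.Lib.Coprime.le_iSup_centralizer_of_not_isCyclic (A := V) (G := X)
        IsKleinFour.not_isCyclic ((hVle _ huM htM).trans hMX) ?_).trans (iSup_le fun a => ?_)
      · rw [IsKleinFour.card_four, show (4 : ℕ) = 2 ^ 2 by norm_num]
        exact (Nat.coprime_two_left.2 hXo).pow_left 2
      · obtain ⟨a, ha, ha1⟩ := a
        rintro z ⟨hz, hza⟩
        have hza' : Commute z a := mem_centralizer_singleton_iff.1 hza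
        refine mem_centralizer_singleton_iff.2 ?_
        rcases Cfsg.Lib.Invol.klein_mem_cases huV htV (Cfsg.Lib.Invol.ne_one hu1) (Cfsg.Lib.Invol.ne_one ht)
          hne ha ha1 with rfl | rfl | rfl
        · exact (hno _ hu1 huc huN z hz hza').eq
        · exact hza'.eq
        · refine (hno _ (Cfsg.Lib.Invol.orderOf_eq_two_of ha1 (Cfsg.Lib.Invol.klein_mul_self ha))
            (huc.mul_left (Commute.refl t)) (fun h => huN ?_) z hz hza').eq
          have := N.mul_mem h htN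
          rwa [mul_assoc, htt, mul_one] at this
    exact hyt (mem_centralizer_singleton_iff.1 (hle hy))
  have hvv : v * v = 1 := by rw [← sq, ← hv, pow_orderOf_eq_one]
  have hvM : v ∈ M := mem_of_commute hC hvt
  -- make it inverted by `t`
  obtain ⟨c, hc, x, hx, hct, hxt, hzx⟩ := InvAct.exists_split (P := X ⊓ centralizer ({v} : Set G))
    (hXo.of_dvd_nat (card_dvd_of_le inf_le_left)) htt
    (mem_normalizer_fintype fun a ha => ⟨(mem_normalizer_iff.1 (hMX htM) a).1 ha.1,
      mem_centralizer_singleton_iff.2 (((hvt.symm.mul_left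
        (mem_centralizer_singleton_iff.1 ha.2)).mul_left hvt.symm.inv_left).eq)⟩)
    (x := z) ⟨hz, mem_centralizer_singleton_iff.2 hzv.eq⟩
  have hxv : Commute x v := mem_centralizer_singleton_iff.1 hx.2
  have hxo : Odd (orderOf x) := InvAct.odd_orderOf_of_mem hXo hx.1
  have hx1 : x ≠ 1 := fun h => hzt (by rw [hzx, h, mul_one]; exact hct)
  obtain ⟨x', hx', hxx'⟩ := hx.1
  rw [Subgroup.coe_subtype] at hxx'
  -- its conjugate centralizing `t`
  obtain ⟨g, hg⟩ := isConj_iff.1 (hG.oneClass t v ht hv)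
  have hyt' : Commute (g⁻¹ * x * g) t := by
    have h1 := hxv.map (MulAut.conj g⁻¹).toMonoidHom
    rw [← hg] at h1
    simpa [mul_assoc] using h1
  obtain ⟨m, hm, hxm⟩ := hG.exists_conj_mem hMc hp2 hcent hx'
    (fun h => hx1 (by rw [← hxx', h]; rfl)) (g := g) (by rw [hxx']; exact mem_of_commute hC hyt')
  rw [hxx'] at hxm
  set w := m * t * m⁻¹ with hw
  have hwN : w ∈ N := hNn m hm t htN
  have hwM : w ∈ M := hNM hwN
  have hwo : orderOf w = 2 := ((MulAut.conj m).orderOf_eq t).trans ht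
  have hxw : Commute x w := by
    rw [hxm, hw]
    exact hyt'.map (MulAut.conj m).toMonoidHom
  -- an involution of `N` commuting with `x` and `v`
  obtain ⟨a, hao, haN, hax, hav⟩ : ∃ a, orderOf a = 2 ∧ a ∈ N ∧ Commute x a ∧ Commute a v := by
    by_cases heven : Even (orderOf (v * w))
    · obtain ⟨hjo, hjv, hjw⟩ := Cfsg.Lib.Invol.central_involution hv hwo heven
      set j := (v * w) ^ (orderOf (v * w) / 2) with hj
      have hjx : Commute x j := (hxv.mul_right hxw).pow_right _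
      have hjM : j ∈ M := pow_mem (mul_mem hvM hwM) _
      by_cases hjN : j ∈ N
      · exact ⟨j, hjo, hjN, hjx, hjv⟩
      by_cases hjv' : j = v
      · exact ⟨w, hwo, hwN, hxw, (hjv' ▸ hjw).symm⟩
      refine ⟨j * v, ?_, hNm j hjM v hvM hjN hvN, hjx.mul_right hxv, hjv.mul_left (Commute.refl v)⟩
      refine Cfsg.Lib.Invol.orderOf_eq_two_of (fun h => hjv' ?_) ?_
      · rw [eq_inv_of_mul_eq_one_left h, Cfsg.Lib.Invol.inv_eq_self hv]
      · rw [hjv.symm.mul_mul_mul_comm, Cfsg.Lib.Invol.inv_mul_self hjo, hvv, one_mul]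
    · exfalso
      obtain ⟨d, hd, hdv⟩ := Cfsg.Lib.Invol.exists_conj_of_odd hv hwo (Nat.not_even_iff_odd.1 heven)
      have hdM : d ∈ M := (closure_le M).2 (by
        rintro _ (rfl | rfl)
        · exact hvM
        · exact hwM) hd
      refine hvN ?_
      have h := hNn d⁻¹ (inv_mem hdM) w hwN
      rwa [← hdv, inv_inv, show d⁻¹ * (d * v * d⁻¹) * d = v by group] at h
  have haa : a * a = 1 := Cfsg.Lib.Invol.inv_mul_self hao
  -- `t * a` inverts `x`
  have hta : t ≠ a := fun h => hx1 (InvAct.eq_one_of_commute_inverted hxo htt (h ▸ hax) hxt)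
  by_cases heven : Even (orderOf (t * a))
  · obtain ⟨hjo, hjt, hja⟩ := Cfsg.Lib.Invol.central_involution ht hao heven
    set j := (t * a) ^ (orderOf (t * a) / 2) with hj
    have hjN : j ∈ N := pow_mem (mul_mem htN haN) _
    have hjv : Commute j v := (hvt.symm.mul_left hav).pow_left _
    obtain ⟨V, hVK, hvV, htV, -⟩ := Cfsg.Agent.S1255.exists_four hvv htt
      (Cfsg.Lib.Invol.ne_one hv) (Cfsg.Lib.Invol.ne_one ht) (fun h => hvN (h ▸ htN)) hvt.eq
    haveI := hVK
    have hjV : j ∈ V := mem_klein_of_centralizes hG.twoCycDih hVK (mem_centralizer_iff.2 fun w hw => by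
      by_cases hw1 : w = 1
      · simp [hw1]
      rcases Cfsg.Lib.Invol.klein_mem_cases hvV htV (Cfsg.Lib.Invol.ne_one hv) (Cfsg.Lib.Invol.ne_one ht)
        (fun h => hvN (h ▸ htN)) hw hw1 with rfl | rfl | rfl
      · exact hjv.symm.eq
      · exact hjt.symm.eq
      · exact (hjv.mul_right hjt).symm.eq) (k := 1) (by rw [pow_one, ← hjo, pow_orderOf_eq_one])
    rcases Cfsg.Lib.Invol.klein_mem_cases hvV htV (Cfsg.Lib.Invol.ne_one hv) (Cfsg.Lib.Invol.ne_one ht)
      (fun h => hvN (h ▸ htN)) hjV (Cfsg.Lib.Invol.ne_one hjo) with h | h | h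
    · exact hvN (h ▸ hjN)
    · -- then `t` commutes with `a`
      rw [h] at hja
      have h2 : orderOf (t * a) ∣ 2 := orderOf_dvd_of_pow_eq_one (by
        rw [sq, hja.symm.mul_mul_mul_comm, htt, haa, one_mul])
      have h3 : orderOf (t * a) = 2 := ((Nat.dvd_prime Nat.prime_two).1 h2).resolve_left fun h1 => by
        rw [h1] at heven
        exact absurd heven (by decide)
      rw [hj, h3, show 2 / 2 = 1 by norm_num, pow_one] at h
      exact Cfsg.Lib.Invol.ne_one hao (mul_eq_left.1 h)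
    · refine hvN ?_
      have := N.mul_mem (h ▸ hjN) htN
      rwa [mul_assoc, htt, mul_one] at this
  · have hodd' : Odd (orderOf (t * a)) := Nat.not_even_iff_odd.1 heven
    have h2 : t * a * x * (t * a)⁻¹ = x⁻¹ := by
      rw [show t * a * x * (t * a)⁻¹ = t * (a * x * a⁻¹) * t⁻¹ by group, ← hax.eq, mul_inv_cancel_right,
        Cfsg.Lib.Invol.inv_eq_self ht, hxt]
    have h3 : Commute ((t * a) * (t * a)) x := mul_inv_eq_iff_eq_mul.1 (calc
      t * a * (t * a) * x * (t * a * (t * a))⁻¹ = t * a * (t * a * x * (t * a)⁻¹) * (t * a)⁻¹ := by group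
      _ = t * a * x⁻¹ * (t * a)⁻¹ := by rw [h2]
      _ = (t * a * x * (t * a)⁻¹)⁻¹ := by group
      _ = x := by rw [h2, inv_inv])
    rw [(InvAct.commute_of_sq hodd' h3).eq, mul_inv_cancel_right] at h2
    exact hx1 (InvAct.eq_one_of_commute_inverted hxo htt (InvAct.commute_of_conj htt (hxt.trans h2.symm)) hxt)

end GWMin

end Cfsg.Lib.GW
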