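import Cfsg.Agent.Lib.GW.OddMaxPGroup
import Cfsg.Agent.Lib.GW.OnePrime
import Cfsg.Agent.Lib.GW.CaseTwoParts

/-!
# Gorenstein–Walter, Theorem A: maximal overgroups of the centralizer of an involution

No maximal overgroup of `C(t)` with odd Fitting subgroup containing its centralizer has an unfused
four group through `t`; with Step N there is then no such maximal subgroup at all.
-/

set_option autoImplicit false

namespace Cfsg.Lib.GW

open Subgroup

universe u

variable {G : Type u} [Group G] [Finite G]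

/-- Theorem A. -/
theorem noOddMax (hG : GWMin G) (h8 : 8 ∣ Nat.card G) : NoOddMax G := by
  intro t M ht hM hC hlayer hodd u hu huc _ huf
  have hO : OddMax t M := ⟨ht, hM, hC, hlayer, hodd⟩
  obtain ⟨p, hp, hp2, hF⟩ := oddMax_pGroup hG h8 hO ⟨hu, huc, huf⟩
  exact hG.oddMax_not_pGroup h8 hO ⟨hu, huc, huf⟩ hp hp2 hF

/-- In a proper overgroup of `C(t)` some involution commuting with `t` is not conjugate to it. -/
theorem GWMin.exists_unfused_involution (hG : GWMin G) (hN : NoFusedOvergroup G) {t : G}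
    (ht : orderOf t = 2) {M : Subgroup G} (hC : centralizer ({t} : Set G) ≤ M) (hMtop : M ≠ ⊤) :
    ∃ u : G, Unfused t u M := by
  have : Fact (Nat.Prime 2) := ⟨Nat.prime_two⟩
  by_contra hno
  simp only [Unfused, not_exists, not_and, not_forall, not_not] at hno
  refine hN t M ht hC hMtop fun a b ha hb => ?_
  obtain ⟨S, htS, htZ⟩ := hG.exists_sylow_central ht
  have hSM : (S : Subgroup G) ≤ M := fun x hx => mem_of_commute hC (htZ x hx)
  set T : M := ⟨t, mem_of_commute hC (Commute.refl t)⟩
  have key : ∀ c : M, orderOf c = 2 → IsConj T c := by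
    intro c hc
    have hp : IsPGroup 2 (zpowers c) := by
      refine IsPGroup.of_card (n := 1) ?_
      rw [Nat.card_zpowers, hc, pow_one]
    obtain ⟨R, hR⟩ := hp.exists_le_sylow
    obtain ⟨m, hm⟩ := MulAction.exists_smul_eq M R (S.subtype hSM)
    have hmem : m * c * m⁻¹ ∈ (S.subtype hSM : Subgroup M) := by
      rw [← hm]
      exact ⟨c, hR (mem_zpowers c), rfl⟩
    obtain ⟨g, hg, hge⟩ := hno ((m * c * m⁻¹ : M) : G)
      (by rw [orderOf_coe]; exact ((MulAut.conj m).orderOf_eq c).trans hc) (htZ _ hmem)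
    exact (isConj_iff.2 ⟨⟨g, hg⟩, Subtype.ext hge⟩ : IsConj T (m * c * m⁻¹)).trans
      (isConj_iff.2 ⟨m⁻¹, by group⟩)
  exact (key a ha).symm.trans (key b hb)

/-- With Step N no maximal overgroup of `C(t)` has odd Fitting subgroup containing its centralizer. -/
theorem no_oddMax (hG : GWMin G) (h8 : 8 ∣ Nat.card G) (hN : NoFusedOvergroup G) {t : G}
    {M : Subgroup G} (hM : OddMax t M) : False := by
  obtain ⟨u, hu⟩ := hG.exists_unfused_involution hN hM.ht hM.hC hM.hM.1
  exact noOddMax hG h8 t M hM.ht hM.hM hM.hC hM.layer hM.odd u hu.1 hu.2.1 hu.ne hu.2.2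

end Cfsg.Lib.GW
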