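import Cfsg.Agent.Lib.GW.FusedLocal
import Cfsg.Agent.Lib.GW.FusedApply
import Cfsg.Agent.Lib.GW.Overgroup
import Cfsg.Agent.S0984

/-!
# Fused maximal overgroups: the group is `A₇`
-/

set_option autoImplicit false
set_option linter.unusedSectionVars false
set_option linter.style.haveILetI false
set_option maxHeartbeats 800000

namespace Cfsg.Lib.GW

open Cfsg Cfsg.Lib.Block Cfsg.Lib.Char

universe u

variable {G : Type u} [Group G] [Finite G] {P : Sylow 2 G} {n : ℕ} {σ τ : G}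

/-- Another reflection as the second generator. -/
theorem Gens.reflection (g : Gens (P : Subgroup G) n σ τ) (i : ℤ) :
    Gens (P : Subgroup G) n σ (σ ^ i * τ) := by
  have hmem : σ ^ i * τ ∈ (P : Subgroup G) := mul_mem (Subgroup.zpow_mem _ g.σ_mem i) g.τ_mem
  have hτ2 : τ * τ = 1 := by rw [← pow_two, ← g.orderOf_τ, pow_orderOf_eq_one]
  have hτi : τ⁻¹ = τ := inv_eq_of_mul_eq_one_right hτ2
  have hk : τ * σ ^ i * τ = σ ^ (-i) := by
    nth_rw 2 [← hτi]
    rw [← conj_zpow, g.rel, inv_zpow, ← zpow_neg]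
  refine ⟨g.three_le, g.σ_mem, hmem, g.orderOf_σ, ?_, ?_, ?_⟩
  · refine orderOf_eq_prime ?_ fun e => g.τ_notMem ?_
    · calc (σ ^ i * τ) ^ 2 = σ ^ i * (τ * σ ^ i * τ) := by rw [pow_two]; group
        _ = 1 := by rw [hk, ← zpow_add, add_neg_cancel, zpow_zero]
    · rw [eq_inv_of_mul_eq_one_right e]
      exact inv_mem (Subgroup.zpow_mem _ (Subgroup.mem_zpowers σ) i)
  · calc σ ^ i * τ * σ * (σ ^ i * τ)⁻¹ = σ ^ i * (τ * σ * τ⁻¹) * (σ ^ i)⁻¹ := by group
      _ = σ⁻¹ := by rw [g.rel, (Commute.refl σ).zpow_left i |>.inv_right.eq, mul_inv_cancel_right]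
  · refine le_antisymm ?_ ?_
    · rw [Subgroup.closure_le]
      rintro x (rfl | rfl)
      exacts [g.σ_mem, hmem]
    · conv_lhs => rw [← g.gen]
      rw [Subgroup.closure_le]
      have h1 : σ ∈ Subgroup.closure ({σ, σ ^ i * τ} : Set G) :=
        Subgroup.subset_closure (Set.mem_insert _ _)
      have h2 : σ ^ i * τ ∈ Subgroup.closure ({σ, σ ^ i * τ} : Set G) :=
        Subgroup.subset_closure (Set.mem_insert_of_mem _ rfl)
      rintro x (rfl | rfl)
      · exact h1
      · have := mul_mem (Subgroup.zpow_mem _ h1 (-i)) h2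
        rwa [← mul_assoc, ← zpow_add, neg_add_cancel, zpow_zero, one_mul] at this

/-- An involution commuting with the central one is conjugate in its centralizer to a reflection. -/
theorem exists_reflection_conj (g : Gens (P : Subgroup G) n σ τ) {v : G} (hv : orderOf v = 2)
    (hc : Commute v (σ ^ (2 ^ (n - 2)))) (hne : v ≠ σ ^ (2 ^ (n - 2))) :
    ∃ c : G, Commute c (σ ^ (2 ^ (n - 2))) ∧ ∃ i : ℤ, c * v * c⁻¹ = σ ^ i * τ := by
  haveI : Fact (Nat.Prime 2) := ⟨Nat.prime_two⟩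
  set C := Subgroup.centralizer ({σ ^ (2 ^ (n - 2))} : Set G)
  let R : Sylow 2 C := P.subtype g.le_centralizer
  have hvC : v ∈ C := Subgroup.mem_centralizer_singleton_iff.2 hc
  have hp : IsPGroup 2 (Subgroup.zpowers (⟨v, hvC⟩ : C)) :=
    IsPGroup.of_card (n := 1) (by rw [Nat.card_zpowers, Subgroup.orderOf_mk, hv, pow_one])
  obtain ⟨c, hc'⟩ := Lib.Invol.exists_conj_mem_sylow R hp
  have hmem : (c : G) * v * (c : G)⁻¹ ∈ (P : Subgroup G) := by
    have h := hc' _ (Subgroup.mem_zpowers _)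
    rw [Sylow.coe_subtype] at h
    exact Subgroup.mem_subgroupOf.1 h
  have hcJ : Commute (c : G) (σ ^ (2 ^ (n - 2))) := Subgroup.mem_centralizer_singleton_iff.1 c.2
  refine ⟨c, hcJ, (involution_cases g hmem (hv ▸ (MulAut.conj (c : G)).orderOf_eq v)).resolve_left
    fun e => hne ?_⟩
  have : v = (c : G)⁻¹ * ((c : G) * v * (c : G)⁻¹) * (c : G) := by group
  rw [this, e, mul_assoc, ← hcJ.eq, inv_mul_cancel_left]

variable [Fact (Nat.Prime 2)]

open Classical in
/-- Trivial odd parts of both centralizers of four groups. -/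
theorem kleinSelfCentralizing_of_trivial [Fintype G] (hG : GWMin G)
    (g : Gens (P : Subgroup G) n σ τ) {h : ℕ} (hh : h = 2 ^ (n - 2))
    (h1 : (DihSylow.oddFix σ h τ).card = 1) (h2 : (DihSylow.oddFix σ h (σ * τ)).card = 1) :
    KleinSelfCentralizing G := by
  subst hh
  by_contra hV
  obtain ⟨V, hVK, w, hwC, hw1, hwodd⟩ := exists_odd_centralizing hG.twoCycDih hV
  haveI := hVK
  obtain ⟨v₁, hv₁, hv₁'⟩ : ∃ v ∈ V, v ≠ 1 := by
    by_contra hno
    push Not at hno
    have hb : V = ⊥ := le_bot_iff.1 fun x hx => Subgroup.mem_bot.2 (hno x hx)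
    have h4 := (IsKleinFour.card_four (G := V))
    rw [hb, Subgroup.card_bot] at h4
    omega
  obtain ⟨v₂, hv₂, hv₂', hne⟩ : ∃ v ∈ V, v ≠ 1 ∧ v ≠ v₁ := by
    by_contra hno
    push Not at hno
    have hle : Nat.card V ≤ Nat.card ({1, v₁} : Set G) :=
      Nat.card_mono (Set.toFinite _) fun x hx => (or_iff_not_imp_left.2 (hno x hx))
    rw [IsKleinFour.card_four, Nat.card_coe_set_eq] at hle
    have := Set.ncard_insert_le (1 : G) {v₁}
    rw [Set.ncard_singleton] at this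
    omega
  have ho : ∀ v ∈ V, v ≠ 1 → orderOf v = 2 := fun v hv hv' =>
    orderOf_eq_prime (by rw [pow_two]; exact Cfsg.Lib.Invol.klein_mul_self hv) hv'
  obtain ⟨a, ha⟩ := isConj_iff.1 (hG.oneClass _ _ (ho v₁ hv₁ hv₁') g.orderOf_center)
  set J := σ ^ (2 ^ (n - 2)) with hJ
  have hu2 : orderOf (a * v₂ * a⁻¹) = 2 := ho v₂ hv₂ hv₂' ▸ (MulAut.conj a).orderOf_eq v₂
  have huJ : Commute (a * v₂ * a⁻¹) J := by
    rw [← ha]
    exact (show Commute v₂ v₁ from Cfsg.Lib.Invol.klein_comm hv₂ hv₁).map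
      (MulAut.conj a).toMonoidHom
  obtain ⟨c, hcJ, i, hi⟩ := exists_reflection_conj g hu2 huJ fun e =>
    hne (mul_left_cancel (mul_right_cancel (e.trans ha.symm)))
  obtain ⟨r, hr⟩ : ∃ r, r = i / 2 := ⟨_, rfl⟩
  obtain ⟨y, hy⟩ : ∃ y, y = σ ^ (-r) * c * a := ⟨_, rfl⟩
  have hyv₁ : y * v₁ * y⁻¹ = J := by
    have e1 : c * J * c⁻¹ = J := mul_inv_eq_iff_eq_mul.2 hcJ.eq
    have e2 : σ ^ (-r) * J * (σ ^ (-r))⁻¹ = J :=
      mul_inv_eq_iff_eq_mul.2 (((Commute.refl σ).zpow_left _).pow_right _).eq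
    calc y * v₁ * y⁻¹ = σ ^ (-r) * (c * (a * v₁ * a⁻¹) * c⁻¹) * (σ ^ (-r))⁻¹ := by rw [hy]; group
      _ = J := by rw [ha, e1, e2]
  have hyv₂ : y * v₂ * y⁻¹ = σ ^ (i - 2 * r) * τ := by
    calc y * v₂ * y⁻¹ = σ ^ (-r) * (c * (a * v₂ * a⁻¹) * c⁻¹) * (σ ^ (-r))⁻¹ := by rw [hy]; group
      _ = σ ^ i * (σ ^ (-r) * τ * (σ ^ (-r))⁻¹) := by rw [hi]; group
      _ = σ ^ (i - 2 * r) * τ := by
        rw [conj_reflection g, ← mul_assoc, ← zpow_add]
        congr 2
        ring
  have hw' : ∀ v ∈ V, Commute (y * w * y⁻¹) (y * v * y⁻¹) := fun v hv =>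
    (show Commute w v from (Subgroup.mem_centralizer_iff.1 hwC v hv).symm).map
      (MulAut.conj y).toMonoidHom
  have hwP : y * w * y⁻¹ ∈ DihSylow.oddPart σ (2 ^ (n - 2)) := by
    refine DihSylow.mem_oddPart.2 ⟨by have := hw' v₁ hv₁; rwa [hyv₁] at this, ?_⟩
    have := (MulAut.conj y).orderOf_eq w
    rw [MulAut.conj_apply] at this
    rwa [this]
  have hD := g.toDihSylow
  have key : ∀ x : G, y * v₂ * y⁻¹ = x → (DihSylow.oddFix σ (2 ^ (n - 2)) x).card = 1 → False := by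
    intro x hx hc1
    obtain ⟨z, hz⟩ := Finset.card_eq_one.1 hc1
    have h1' : (1 : G) = z := Finset.mem_singleton.1 (hz ▸
      DihSylow.mem_oddFix.2 ⟨hD.oddPart_spec.1, Commute.one_left _⟩)
    have hw'' : y * w * y⁻¹ = z := Finset.mem_singleton.1 (hz ▸
      DihSylow.mem_oddFix.2 ⟨hwP, hx ▸ hw' v₂ hv₂⟩)
    exact hw1 (conj_eq_one_iff.1 (hw''.trans h1'.symm))
  rcases Int.emod_two_eq_zero_or_one i with he | he
  · exact key τ (by rw [hyv₂, show i - 2 * r = 0 by omega, zpow_zero, one_mul]) h1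
  · exact key (σ * τ) (by rw [hyv₂, show i - 2 * r = 1 by omega, zpow_one]) h2

variable [Fintype G] {M : Ideal AlgInt} {h : ℕ}

/-- The odd part as a subgroup. -/
noncomputable def oddPartGroup (D : DihSylow P σ τ h) : Subgroup G where
  carrier := (DihSylow.oddPart σ h : Set G)
  one_mem' := D.oddPart_spec.1
  mul_mem' := fun ha hb => D.oddPart_spec.2.1 _ ha _ hb
  inv_mem' := fun ha => D.oddPart_spec.2.2.1 _ ha

/-- The first character takes the value `δ₁` on all singular elements. -/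
theorem Companion.value_singular (hM : IsPModular 2 M) (D : DihSylow P σ τ h)
    (hone : ∀ a : G, a * a = 1 → a ≠ 1 → IsConj (σ ^ h) a) (co : Companion M P σ τ h) {x : G}
    (hx : ¬ IsPRegular 2 x) : (co.χ₁ : G → ℂ) x = co.δ₁ := by
  obtain ⟨a, y, l, h0, hl, hc, hy, he⟩ := singular_section D hone hx
  rw [block_value_section hM D co.mem_block h0 hl hc hy he, co.value l h0 hl]

open Classical in
/-- The odd part of the centralizer is trivial for small degree. -/
theorem oddPart_eq_one (hG : GWMin G) (hM : IsPModular 2 M) (D : DihSylow P σ τ h)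
    (hone : ∀ a : G, a * a = 1 → a ≠ 1 → IsConj (σ ^ h) a) (co : Companion M P σ τ h)
    (hX : co.X < 0) (hle : -co.X + 1 ≤ 4 * h) {y : G} (hy : y ∈ DihSylow.oddPart σ h) : y = 1 := by
  haveI := hG.isSimple
  have hδ : co.δ₁ = -1 := co.hδ₁.resolve_left fun e => by
    rw [co.degX, e, one_mul] at hX
    omega
  have hd : (charDegree (co.χ₁ : G → ℂ) : ℤ) = -co.X := by rw [co.degX, hδ]; ring
  have hA : Odd (Nat.card (oddPartGroup D)) := by
    rw [Nat.odd_iff]
    by_contra hev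
    obtain ⟨z, hz⟩ := exists_prime_orderOf_dvd_card' (G := oddPartGroup D) 2
      (Nat.dvd_of_mod_eq_zero (by omega))
    have ho := (DihSylow.mem_oddPart.1 (z.2 : (z : G) ∈ DihSylow.oddPart σ h)).2
    rw [Subgroup.orderOf_coe, hz] at ho
    exact absurd ho (by decide)
  have hbot := eq_bot_of_small co.χ₁ co.ne_triv.1 (fun x hx => co.value_singular hM D hone hx)
    P.isPGroup' hA (fun s hs a ha => D.oddPart_spec.2.2.2.1 s (D.central_involution.2.2 s hs) a ha)
    hδ (by rw [D.card]; omega)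
  exact Subgroup.mem_bot.1 (hbot ▸ (show y ∈ oddPartGroup D from hy))

open Classical in
/-- No nontrivial element of the odd part commutes with both classes of reflections in the small
cases. -/
theorem oddFix_eq_one (hG : GWMin G) (hM : IsPModular 2 M) (g : Gens (P : Subgroup G) n σ τ)
    (D : DihSylow P σ τ h) (hone : ∀ a : G, a * a = 1 → a ≠ 1 → IsConj (σ ^ h) a)
    (co : Companion M P σ τ h) (hh : h = 2) (hX : co.X = 9 ∨ co.X = -15)
    (hcomm : ∀ y ∈ DihSylow.oddPart σ h, Commute y τ) :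
    (DihSylow.oddFix σ h (σ * τ)).card = 1 := by
  haveI := hG.isSimple
  refine Finset.card_eq_one.2 ⟨1, Finset.eq_singleton_iff_unique_mem.2
    ⟨DihSylow.mem_oddFix.2 ⟨D.oddPart_spec.1, Commute.one_left _⟩, fun y hy => ?_⟩⟩
  obtain ⟨hyP, hyστ⟩ := DihSylow.mem_oddFix.1 hy
  obtain ⟨hyJ, hyodd⟩ := DihSylow.mem_oddPart.1 hyP
  by_contra hy1
  obtain ⟨p, hp, hpd⟩ := Nat.exists_prime_and_dvd (n := orderOf y) fun e => hy1 (orderOf_eq_one_iff.1 e)
  obtain ⟨k, hk⟩ := hpd
  have hk0 : k ≠ 0 := by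
    rintro rfl
    exact (orderOf_pos y).ne' (by rw [hk, mul_zero])
  have ho : orderOf (y ^ k) = p := by
    rw [orderOf_pow_of_dvd hk0 (Dvd.intro_left p hk.symm), hk, Nat.mul_div_cancel _ (by omega)]
  have hyσ : Commute y σ := by
    have := hyστ.mul_right (hcomm y hyP)
    rwa [mul_assoc, D.sqτ, mul_one] at this
  have hsm : co.δ₁ = 1 ∧ charDegree (co.χ₁ : G → ℂ) = 9 ∨
      co.δ₁ = -1 ∧ charDegree (co.χ₁ : G → ℂ) = 15 := by
    have e := co.degX
    rcases hX with hX | hX <;> rcases co.hδ₁ with hd | hd <;> rw [hd] at e <;>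
      first | (left; exact ⟨hd, by omega⟩) | (right; exact ⟨hd, by omega⟩) | omega
  refine no_centralized_prime co.χ₁ co.ne_triv.1 (fun x hx => co.value_singular hM D hone hx)
    hG.commutator_eq_top (S := (P : Subgroup G)) P.isPGroup' (by rw [D.card, hh]) hsm
    (a := y ^ k) (ho.symm ▸ hp) (ho.symm ▸ hyodd.of_dvd_nat (hk ▸ Dvd.intro k rfl)) ?_
  intro s hs
  have hle : (P : Subgroup G) ≤ Subgroup.centralizer ({y} : Set G) := by
    rw [← g.gen, Subgroup.closure_le]
    rintro x (rfl | rfl) <;> refine Subgroup.mem_centralizer_singleton_iff.2 ?_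
    exacts [hyσ.symm.eq, (hcomm y hyP).symm.eq]
  exact (show Commute y s from (Subgroup.mem_centralizer_singleton_iff.1 (hle hs)).symm).pow_left k

/-- The arithmetic in the case of index seven. -/
theorem card_of_index_seven {c w k o : ℕ} (h1 : c * (3 * w ^ 2) = 280 * o ^ 3) (ho : o = 3 * w * k)
    (hwp : 0 < w) (hw : Odd w) (hk : Odd k) (hd : c ∣ 5040) : c = 2520 := by
  subst ho
  have hc : c = 2520 * (w * k ^ 3) :=
    Nat.eq_of_mul_eq_mul_right (show 0 < 3 * w ^ 2 by positivity) (by rw [h1]; ring)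
  subst hc
  rw [show 5040 = 2520 * 2 by norm_num, Nat.mul_dvd_mul_iff_left (by norm_num)] at hd
  rcases (Nat.dvd_prime Nat.prime_two).1 hd with e | e
  · rw [e]
  · exact absurd (hw.mul hk.pow) (by rw [e]; decide)

omit [Fintype G] [Fact (Nat.Prime 2)] in
/-- Fused maximal overgroups occur only in `A₇`. -/
theorem fusedFinish (hG : GWMin G) (h8 : 8 ∣ Nat.card G) (hV : ¬ KleinSelfCentralizing G) :
    FusedFinish G := by
  classical
  letI : Fintype G := Fintype.ofFinite G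
  haveI : Fact (Nat.Prime 2) := ⟨Nat.prime_two⟩
  rintro t H ht hC hH ⟨m, hm, hmc, hmne⟩
  haveI := hG.isSimple
  obtain ⟨S⟩ : Nonempty (Sylow 2 G) := inferInstance
  obtain ⟨n', -, ⟨e⟩⟩ := hG.sylow S
  have h8S : 8 ∣ Nat.card (S : Subgroup G) := S.pow_dvd_card_of_pow_dvd_card (n := 3) (by simpa using h8)
  obtain ⟨N, hN⟩ := S.isPGroup'.exists_card_eq
  rw [Nat.card_congr e.toEquiv, DihedralGroup.nat_card] at hN h8S
  have hN3 : 3 ≤ N := by
    by_contra hlt
    have h1 := Nat.le_of_dvd (hN ▸ pow_pos two_pos N) h8S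
    have := Nat.pow_le_pow_right two_pos (show N ≤ 2 by omega)
    omega
  obtain rfl : n' = 2 ^ (N - 1) := by
    have : 2 * n' = 2 * 2 ^ (N - 1) := by rw [hN, ← pow_succ']; congr 1; omega
    omega
  obtain ⟨P, σ, τ₀, g₀, hJt⟩ := exists_gens_at S hN3 ⟨e⟩ hG.oneClass ht
  have hu : orderOf (m * t * m⁻¹) = 2 := ht ▸ (MulAut.conj m).orderOf_eq t
  obtain ⟨c, hc, i, hi⟩ := exists_reflection_conj g₀ hu (hJt ▸ hmc) (hJt ▸ hmne)
  set τ := σ ^ i * τ₀ with hτ
  have g := g₀.reflection i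
  rw [← hτ] at g
  set h := 2 ^ (N - 2) with hh
  have hconj : ∃ x ∈ H, x * σ ^ h * x⁻¹ = τ := by
    refine ⟨c * m, mul_mem (hC ?_) hm, ?_⟩
    · rw [← hJt]
      exact Subgroup.mem_centralizer_singleton_iff.2 hc.eq
    · rw [hJt, ← hi]; group
  have hC' : Subgroup.centralizer ({σ ^ h} : Set G) ≤ H := hJt.symm ▸ hC
  have D : DihSylow P σ τ h := g.toDihSylow
  have hone : ∀ a : G, a * a = 1 → a ≠ 1 → IsConj (σ ^ h) a := fun a ha ha1 =>
    hG.oneClass _ _ g.orderOf_center (orderOf_eq_prime (by rw [pow_two, ha]) ha1)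
  obtain ⟨M, hM⟩ := exists_isPModular Nat.prime_two
  obtain ⟨co⟩ := exists_companion hM D hone
  obtain ⟨⟨h4h, -⟩, hrow⟩ := fused_cases hG h8 g hh hH.1 hC' hconj hM co rfl rfl
  set W := (DihSylow.oddFix σ h τ).card with hW
  set W' := (DihSylow.oddFix σ h (σ * τ)).card with hW'
  set o := (DihSylow.oddPart σ h).card with ho
  have hne : ¬ (W = 1 ∧ W' = 1) := fun e =>
    hV (kleinSelfCentralizing_of_trivial hG g hh e.1 e.2)
  have htriv : co.X < 0 → -co.X + 1 ≤ 4 * h → W = 1 ∧ W' = 1 := fun hX hle => by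
    constructor <;>
    · refine Finset.card_eq_one.2 ⟨1, Finset.eq_singleton_iff_unique_mem.2
        ⟨DihSylow.mem_oddFix.2 ⟨D.oddPart_spec.1, Commute.one_left _⟩, fun y hy => ?_⟩⟩
      exact oddPart_eq_one hG hM D hone co hX hle (DihSylow.mem_oddFix.1 hy).1
  have hpow : h = 2 ∨ 4 ≤ h := by
    rcases (show N = 3 ∨ 4 ≤ N by omega) with e | e
    · left; rw [hh, e]; norm_num
    · right
      rw [hh]
      exact le_trans (by norm_num) (Nat.pow_le_pow_right two_pos (show 2 ≤ N - 2 by omega))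
  have hof := co.order_formula D
  rw [← hW, ← hW', ← ho] at hof
  have hWpos : 0 < W := Finset.card_pos.2
    ⟨1, DihSylow.mem_oddFix.2 ⟨D.oddPart_spec.1, Commute.one_left _⟩⟩
  have hW'pos : 0 < W' := Finset.card_pos.2
    ⟨1, DihSylow.mem_oddFix.2 ⟨D.oddPart_spec.1, Commute.one_left _⟩⟩
  have hWo : W = o → ∀ y ∈ DihSylow.oddPart σ h, Commute y τ := fun e y hy => by
    have := Finset.eq_of_subset_of_card_le (s := DihSylow.oddFix σ h τ) (Finset.filter_subset _ _)
      (le_of_eq e.symm)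
    exact (DihSylow.mem_oddFix.1 (this ▸ hy)).2
  have hWeq : (∀ y ∈ DihSylow.oddPart σ h, Commute y τ) → W = o := fun hcm => by
    rw [hW, ho]
    congr 1
    exact Finset.filter_true_of_mem hcm
  rcases hrow with ⟨hX, hWW, hidx⟩ | ⟨hX, hWW, -⟩ | ⟨hX, hWW, -⟩ | ⟨hX, hWW, hidx⟩ | ⟨hX, hWW, hidx⟩
  · -- `X = 9`: everything is trivial
    exfalso
    rw [hX, ← hWW, ← H.index_mul_card, hidx] at hof
    have hWq : (W : ℚ) ≠ 0 := Nat.cast_ne_zero.2 hWpos.ne'
    have heq : Nat.card H * W ^ 2 = 3 * h ^ 3 * o ^ 3 := by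
      apply Nat.cast_injective (R := ℚ)
      push_cast at hof ⊢
      field_simp at hof
      linear_combination hof / 960
    obtain ⟨h2, hcm, -⟩ := Fused.fused_local hG h8 (noOddMax hG h8) g hh hH hC' hconj heq
    have := oddFix_eq_one hG hM g D hone co h2 (Or.inl hX) hcm
    exact hne ⟨hWW.trans this, this⟩
  · exact absurd (htriv (by omega) (by omega)) hne
  · have := htriv (by omega) (by omega)
    omega
  · -- index seven
    rcases hpow with h2 | h4
    swap
    · have := htriv (by omega) (by omega)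
      omega
    have hWq : (W' : ℚ) ≠ 0 := Nat.cast_ne_zero.2 hW'pos.ne'
    rw [hX, h2, hWW] at hof
    have h280 : Nat.card G * (3 * W' ^ 2) = 280 * o ^ 3 := by
      apply Nat.cast_injective (R := ℚ)
      push_cast at hof ⊢
      field_simp at hof
      linear_combination hof / 768
    obtain ⟨hdvd, -⟩ := OrderLeHundred.card_dvd_factorial_index hH.1
    rw [hidx] at hdvd
    have hfix := (D.card_invCoset_mul g.τ_mem g.τ_notMem).1
    rw [← hW, ← ho, hWW] at hfix
    have hodd : Odd o := by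
      rw [Nat.odd_iff]
      by_contra hev
      have hsub : o = Nat.card (oddPartGroup D) := by
        rw [ho, ← Nat.card_eq_finsetCard]; rfl
      obtain ⟨z, hz⟩ := exists_prime_orderOf_dvd_card' (G := oddPartGroup D) 2
        (Nat.dvd_of_mod_eq_zero (by omega))
      have hzo := (DihSylow.mem_oddPart.1 (z.2 : (z : G) ∈ DihSylow.oddPart σ h)).2
      rw [Subgroup.orderOf_coe, hz] at hzo
      exact absurd hzo (by decide)
    have h5040 : Nat.card G ∣ 5040 := hdvd
    refine Or.inr (Cfsg.Agent.S0984.result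
      (card_of_index_seven h280 (k := (DihSylow.invCoset σ h τ).card) (by rw [← hfix]; ring) hW'pos
        (hodd.of_dvd_nat ⟨3 * (DihSylow.invCoset σ h τ).card, by rw [← hfix]; ring⟩)
        (hodd.of_dvd_nat ⟨3 * W', by rw [← hfix]⟩) h5040))
  · -- index thirty-five
    rcases hpow with h2 | h4
    swap
    · have := htriv (by omega) (by omega)
      omega
    have hWq : (W' : ℚ) ≠ 0 := Nat.cast_ne_zero.2 hW'pos.ne'
    rw [hX, hWW, ← H.index_mul_card, hidx] at hof
    have heq : Nat.card H * W ^ 2 = 3 * h ^ 3 * o ^ 3 := by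
      apply Nat.cast_injective (R := ℚ)
      rw [hWW]
      push_cast at hof ⊢
      field_simp at hof
      linear_combination hof / 8960
    obtain ⟨-, hcm, -⟩ := Fused.fused_local hG h8 (noOddMax hG h8) g hh hH hC' hconj heq
    have h1 := oddFix_eq_one hG hM g D hone co h2 (Or.inr hX) hcm
    rw [← hW'] at h1
    have ho3 : o = 3 := by rw [← hWeq hcm, hWW, h1]
    refine Or.inr (Cfsg.Agent.S0984.result ?_)
    rw [← H.index_mul_card, hidx]
    rw [hWW, h1, h2, ho3] at heq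
    omega

end Cfsg.Lib.GW
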