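import Cfsg.Agent.Lib.GW.FusedIndexTwo
import Cfsg.Agent.Lib.GW.Companion
import Cfsg.Agent.Lib.Char.Constituents
import Cfsg.Agent.Lib.Char.Induced

/-!
# The order formula of a fused overgroup through its subgroup of index two
-/

set_option autoImplicit false
set_option linter.unusedSectionVars false
set_option maxHeartbeats 800000

namespace Cfsg.Lib.GW

open Cfsg Cfsg.Lib.Block Cfsg.Lib.Char
open scoped ComplexConjugate

universe u

variable {G : Type u} [Group G]

/-- A constituent, fixed by an element outside, of a character restricted to a subgroup of index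
two has the same values on the subgroup. -/
theorem restrict_eq_of_fixed [Fintype G] (N : Subgroup G) [Fintype N] [N.Normal] (h2 : N.index = 2)
    {s : G} (hs : s ∉ N) (ψ : IrrCharacter G) (η : IrrCharacter N)
    (hfix : ∀ x : N, (η : N → ℂ) (MulAut.conjNormal s x) = (η : N → ℂ) x)
    (hne : classInner (fun x : N => (ψ : G → ℂ) x) (η : N → ℂ) ≠ 0) :
    ∀ x : N, (ψ : G → ℂ) x = (η : N → ℂ) x := by
  classical
  set Θ : N → ℂ := fun x => (ψ : G → ℂ) x with hΘ
  have hΘc : IsCharacter N Θ := ψ.2.isCharacter.comp N.subtype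
  set π := indFun N (η : N → ℂ) with hπdef
  have hπc : IsCharacter G π := isCharacter_indFun N η.2.isCharacter
  -- on the subgroup the induced character is twice the given one
  have hres : (fun x : N => π x) = (2 : ℂ) • (η : N → ℂ) := by
    funext x
    have hterm : ∀ y : G, extendByZero N (η : N → ℂ) (y⁻¹ * (x : G) * y) = (η : N → ℂ) x := by
      intro y
      have hm : y⁻¹ * (x : G) * y ∈ N := by
        have := ‹N.Normal›.conj_mem _ x.2 y⁻¹
        rwa [inv_inv] at this
      rw [extendByZero_of_mem N _ hm]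
      by_cases hy : y ∈ N
      · have e := η.2.isClassFunction x (⟨y, hy⟩ : N)⁻¹
        rw [inv_inv] at e
        exact e
      · have hyN : s * y⁻¹ ∈ N := by
          rw [Subgroup.mul_mem_iff_of_index_two h2]
          simp [hy, hs]
        have e3 := η.2.isClassFunction x (⟨s * y⁻¹, hyN⟩ : N)
        rw [← hfix ⟨_, hm⟩, ← e3]
        refine congrArg (η : N → ℂ) (Subtype.ext ?_)
        simp only [MulAut.conjNormal_apply, Subgroup.coe_mul, Subgroup.coe_inv]
        group
    rw [hπdef, indFun, Finset.sum_congr rfl (fun y _ => hterm y), Finset.sum_const,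
      Finset.card_univ, nsmul_eq_mul, ← mul_assoc, ← Nat.card_eq_fintype_card, card_inv_mul_card, h2]
    simp
  have hππ : classInner π π = 2 := by
    rw [hπdef, classInner_indFun N _ hπc.isClassFunction, hres, classInner_smul_right,
      classInner_irr_self η.2, map_ofNat, mul_one]
  obtain ⟨k, hk⟩ := hΘc.exists_nat_classInner η.2.isCharacter
  have hπψ : classInner π (ψ : G → ℂ) = k := by
    rw [hπdef, classInner_indFun N _ ψ.2.isClassFunction, ← classInner_conj_symm, hk,
      Complex.conj_natCast]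
  have hk0 : k ≠ 0 := fun h => hne (by rw [hk, h, Nat.cast_zero])
  have hψπ : classInner (ψ : G → ℂ) π = k := by
    rw [← classInner_conj_symm, hπψ, Complex.conj_natCast]
  -- the degree of an irreducible constituent
  have hdeg : ∀ φ : IrrCharacter G, classInner π (φ : G → ℂ) ≠ 0 →
      ((η : N → ℂ) 1).re ≤ ((φ : G → ℂ) 1).re := by
    intro φ hφ
    refine degree_le_of_constituent η.2 (φ.2.isCharacter.comp N.subtype) ?_
    rw [hπdef, classInner_indFun N _ φ.2.isClassFunction] at hφ
    intro h0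
    apply hφ
    rw [← classInner_conj_symm]
    exact (congrArg conj h0).trans (map_zero _)
  set R : G → ℂ := π - (ψ : G → ℂ) with hR
  have hRc : IsCharacter G R := by
    rw [isCharacter_iff]
    refine ⟨fun g x => by
      simp [hR, hπc.isClassFunction g x, ψ.2.isClassFunction g x], fun χ hχ => ?_⟩
    obtain ⟨j, hj⟩ := hπc.exists_nat_classInner hχ.isCharacter
    rw [hR, classInner_sub_left, hj]
    by_cases e : χ = (ψ : G → ℂ)
    · subst e
      rw [hπψ] at hj
      obtain rfl : k = j := Nat.cast_injective hj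
      exact ⟨k - 1, by rw [classInner_irr_self ψ.2, Nat.cast_sub (Nat.pos_of_ne_zero hk0),
        Nat.cast_one]⟩
    · exact ⟨j, by rw [classInner_irr_ne ψ.2 hχ (Ne.symm e), sub_zero]⟩
  obtain ⟨r, hr⟩ := hRc.exists_nat_classInner hRc
  have hrk : r + 2 * k = 3 := by
    rw [hR, classInner_sub_left, classInner_sub_right, classInner_sub_right, hππ, hπψ, hψπ,
      classInner_irr_self ψ.2] at hr
    apply Nat.cast_injective (R := ℂ)
    push_cast
    linear_combination -hr
  obtain ⟨φ, hφ⟩ : ∃ φ : IrrCharacter G, classInner R (φ : G → ℂ) ≠ 0 := by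
    refine exists_constituent hRc fun h0 => ?_
    rw [hRc.eq_zero_of_degree h0, classInner_zero_right] at hr
    have : r = 0 := by exact_mod_cast hr.symm
    omega
  have hφπ : classInner π (φ : G → ℂ) ≠ 0 := by
    intro h0
    obtain ⟨j, hj⟩ := hRc.exists_nat_classInner φ.2.isCharacter
    rw [hR, classInner_sub_left, h0] at hj
    by_cases e : (ψ : G → ℂ) = (φ : G → ℂ)
    · rw [← e, classInner_irr_self ψ.2] at hj
      have h1 := congrArg Complex.re hj
      simp at h1
      linarith [Nat.cast_nonneg (α := ℝ) j]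
    · apply hφ
      rw [hR, classInner_sub_left, h0, classInner_irr_ne ψ.2 φ.2 e, sub_zero]
  have h1 : (2 : ℝ) * ((η : N → ℂ) 1).re - ((ψ : G → ℂ) 1).re = (R 1).re := by
    rw [hR, Pi.sub_apply, Complex.sub_re, hπdef, indFun_apply_one, h2]
    push_cast
    rw [show (2 : ℂ) = ((2 : ℝ) : ℂ) by norm_num, Complex.re_ofReal_mul]
  have hle := degree_le_of_constituent φ.2 hRc hφ
  have hge := hdeg φ hφπ
  have hge' := degree_le_of_constituent η.2 hΘc hne
  have hdegeq : ((ψ : G → ℂ) 1).re = ((η : N → ℂ) 1).re := by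
    have : (Θ 1).re = ((ψ : G → ℂ) 1).re := rfl
    linarith
  have hdiff : IsCharacter N (Θ - (η : N → ℂ)) := by
    rw [isCharacter_iff]
    refine ⟨fun g x => by
      simp [hΘc.isClassFunction g x, η.2.isClassFunction g x], fun χ hχ => ?_⟩
    obtain ⟨j, hj⟩ := hΘc.exists_nat_classInner hχ.isCharacter
    rw [classInner_sub_left, hj]
    by_cases e : χ = (η : N → ℂ)
    · subst e
      rw [hk] at hj
      obtain rfl : k = j := Nat.cast_injective hj
      exact ⟨k - 1, by rw [classInner_irr_self η.2, Nat.cast_sub (Nat.pos_of_ne_zero hk0),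
        Nat.cast_one]⟩
    · exact ⟨j, by rw [classInner_irr_ne η.2 hχ (Ne.symm e), sub_zero]⟩
  have hz := hdiff.eq_zero_of_degree (by
    rw [Pi.sub_apply, hΘ]
    show (ψ : G → ℂ) ((1 : N) : G) - (η : N → ℂ) 1 = 0
    rw [OneMemClass.coe_one, apply_one_eq_charDegree, apply_one_eq_charDegree]
    rw [apply_one_eq_charDegree, apply_one_eq_charDegree] at hdegeq
    rw [sub_eq_zero]
    exact_mod_cast hdegeq)
  intro x
  exact sub_eq_zero.1 (congrFun hz x)

variable [Finite G] {P : Sylow 2 G} {n : ℕ} {σ τ : G}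

/-- The centralizers of the two four groups of the subgroup of index two have the same order. -/
theorem card_centralizer_conj (g : Gens (P : Subgroup G) n σ τ) :
    Nat.card (Subgroup.centralizer ({σ ^ (2 ^ (n - 2)), σ ^ 2 * τ} : Set G)) =
      Nat.card (Subgroup.centralizer ({σ ^ (2 ^ (n - 2)), τ} : Set G)) := by
  have e : σ * τ * σ⁻¹ = σ ^ 2 * τ := by
    have := conj_reflection g 1
    simpa using this
  have hs : MulAut.conj σ '' ({σ ^ (2 ^ (n - 2)), τ} : Set G) =
      {σ ^ (2 ^ (n - 2)), σ ^ 2 * τ} := by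
    rw [Set.image_pair, MulAut.conj_apply, MulAut.conj_apply, e,
      ((Commute.refl σ).pow_right _).eq, mul_inv_cancel_right]
  rw [← hs, ← Subgroup.card_map_of_injective (f := (MulAut.conj σ).toMonoidHom)
    (MulAut.conj σ).injective (K := Subgroup.centralizer ({σ ^ (2 ^ (n - 2)), τ} : Set G))]
  congr 2
  ext x
  constructor
  · intro hx
    refine ⟨(MulAut.conj σ).symm x, Subgroup.mem_centralizer_iff.2 fun y hy =>
      (MulAut.conj σ).injective ?_, MulEquiv.apply_symm_apply _ x⟩
    have := Subgroup.mem_centralizer_iff.1 hx _ ⟨y, hy, rfl⟩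
    rwa [map_mul, map_mul, MulEquiv.apply_symm_apply]
  · rintro ⟨w, hw, rfl⟩
    rw [Subgroup.mem_centralizer_iff]
    rintro _ ⟨y, hy, rfl⟩
    show MulAut.conj σ y * MulAut.conj σ w = MulAut.conj σ w * MulAut.conj σ y
    rw [← map_mul, ← map_mul, Subgroup.mem_centralizer_iff.1 hw y hy]

/-- In the four group case two characters of the block of the subgroup of index two have the same
degree and sign. -/
theorem klein_pair [Fintype G] (g : Gens (P : Subgroup G) 3 σ τ) (N : Subgroup G) [Fintype N]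
    [N.Normal] (h2 : N.index = 2) (hσ : σ ∉ N) {Q : Sylow 2 N} (hQ : KleinCond Q) {z : N}
    (hz : (z : G) = σ ^ 2) {M : Ideal AlgInt}
    (hM : IsPModular 2 M) :
    ∃ η η' : IrrCharacter N, η ≠ η' ∧ η ≠ trivChar N ∧ η' ≠ trivChar N ∧
      η ∈ principalBlock M N ∧ η' ∈ principalBlock M N ∧
      charDegree (η : N → ℂ) = charDegree (η' : N → ℂ) ∧ (η : N → ℂ) z = (η' : N → ℂ) z := by
  classical
  haveI : Fact (Nat.Prime 2) := ⟨Nat.prime_two⟩
  have hz2 : orderOf z = 2 := by
    rw [← Subgroup.orderOf_coe, hz]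
    exact g.orderOf_center
  have D := g.toDihSylow
  norm_num at D
  have hζ : IsPrimitiveRoot (Complex.exp (2 * Real.pi * Complex.I / ((2 * 2 : ℕ) : ℂ))) (2 * 2) :=
    Complex.isPrimitiveRoot_exp (2 * 2) (by norm_num)
  obtain ⟨c₁, c₂, c₃, χ', δ, δ₂, δ₃, d1, -, -, -, -, -, -, -, -, -, -, hset, -, hv, -⟩ :=
    D.principal_shape hM hζ
  set ψ := χ' 0 with hψdef
  have hψB : ψ ∈ principalBlock M G := by
    rw [hset]; exact Or.inr (Or.inr (Or.inr (Or.inr ⟨_, rfl⟩)))
  have hψJ : (ψ : G → ℂ) (σ ^ 2) = -2 * δ := by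
    rw [(hv 2 two_pos (by norm_num)).2.2.2 0]
    have hneg := (hζ.pow (a := 2) (by norm_num) (mul_comm 2 2)).eq_neg_one_of_two_right
    simp only [Fin.val_zero, zero_add, one_mul, hneg, inv_neg, inv_one]
    ring
  have hδ : (δ : ℂ) ≠ 0 := by rcases d1 with e | e <;> rw [e] <;> norm_num
  set Θ : N → ℂ := fun x => (ψ : G → ℂ) x with hΘ
  have hsing : ∀ x : N, ¬ IsPRegular 2 x → Θ x = -2 * δ ∧
      ∀ η ∈ principalBlock M N, (η : N → ℂ) x = (η : N → ℂ) z := by
    intro x hx
    refine ⟨?_, fun η hη => klein_apply_singular hM hQ hz2 hη hx⟩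
    obtain ⟨c, hc⟩ := isConj_iff.1 (hQ.fuse _ _ (hQ.orderOf_pPt hx) hz2)
    have hx' : c * x * c⁻¹ = z * (c * pReg 2 x * c⁻¹) := by
      rw [← hc]
      conv_lhs => rw [← pPt_mul_pReg (p := 2) x]
      group
    have hcom : Commute (z : G) ((c * pReg 2 x * c⁻¹ : N) : G) := by
      have h : Commute z (c * pReg 2 x * c⁻¹) := by
        rw [← hc]; exact (pPt_commute_pReg x).map (MulAut.conj c).toMonoidHom
      exact h.map N.subtype
    have hreg : ¬ 2 ∣ orderOf ((c * pReg 2 x * c⁻¹ : N) : G) := by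
      rw [Subgroup.orderOf_coe]
      have e := (MulAut.conj c).orderOf_eq (pReg 2 x)
      rw [MulAut.conj_apply] at e
      rw [e]
      exact not_dvd_orderOf_pReg x
    have e : Θ x = (ψ : G → ℂ) (((c * x * c⁻¹ : N) : G)) := by
      rw [hΘ]
      simp only [Subgroup.coe_mul, Subgroup.coe_inv]
      exact (ψ.2.isClassFunction (x : G) (c : G)).symm
    rw [e, hx', Subgroup.coe_mul, hz]
    rw [hz] at hcom
    rw [principal_value_of_complement hM (D.exists_order (pow_mem D.memσ 2))
      (D.complement (pow_mem D.memσ 2) (D.pow_ne_one two_pos (by norm_num))) hψB hcom hreg, hψJ]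
  obtain ⟨a, b, c, -, -, -, -, -, -, -, -, -, hset0⟩ := klein_exists_three hM hQ hz2
  have hsg := (klein_signs hM hQ hz2)
  -- the regular-vanishing combination
  set B := (principalBlock M N).toFinset with hBdef
  set Φ : N → ℂ := ∑ η ∈ B, (η : N → ℂ) z • (η : N → ℂ) with hΦ
  have hne : classInner Θ Φ ≠ 0 := by
    have hterm : ∀ x : N, Θ x * conj (Φ x) = if IsPRegular 2 x then 0 else -8 * (δ : ℂ) := by
      intro x
      have hΦx : Φ x = ∑ η ∈ B, (η : N → ℂ) z * (η : N → ℂ) x := by
        simp [hΦ, Finset.sum_apply]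
      split_ifs with hx
      · rw [hΦx, hBdef, klein_relation hM hQ hz2 hx, map_zero, mul_zero]
      · obtain ⟨e1, e2⟩ := hsing x hx
        have hsum : ∑ η ∈ B, (η : N → ℂ) z * (η : N → ℂ) x = 4 := by
          rw [Finset.sum_congr rfl (g := fun _ => (1 : ℂ)) fun η hη => ?_, Finset.sum_const,
            hBdef, ← Set.ncard_eq_toFinset_card', ← Nat.card_coe_set_eq, hsg.2]
          · norm_num
          · rw [e2 η (Set.mem_toFinset.1 hη)]
            rcases hsg.1 η (Set.mem_toFinset.1 hη) with e | e <;> rw [e] <;> norm_num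
        rw [hΦx, hsum, e1, Complex.conj_ofNat]
        ring
    intro h0
    rw [classInner, Finset.sum_congr rfl fun x _ => hterm x, Finset.sum_ite, Finset.sum_const_zero,
      zero_add, Finset.sum_const, nsmul_eq_mul, mul_eq_zero,
      mul_eq_zero, Nat.cast_eq_zero, Finset.card_eq_zero] at h0
    rcases h0 with h0 | h0 | h0
    · exact inv_ne_zero Char.card_cast_ne_zero h0
    · have : z ∈ Finset.univ.filter (fun x : N => ¬ IsPRegular 2 x) := by
        simp [IsPRegular, hz2]
      rw [h0] at this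
      exact absurd this (Finset.notMem_empty z)
    · exact mul_ne_zero (by norm_num) hδ h0
  obtain ⟨η, hηB, hηne⟩ : ∃ η ∈ principalBlock M N, classInner Θ (η : N → ℂ) ≠ 0 := by
    by_contra hcon
    push Not at hcon
    refine hne ?_
    rw [hΦ, classInner_sum_right]
    refine Finset.sum_eq_zero fun η hη => ?_
    rw [classInner_smul_right, hcon η (Set.mem_toFinset.1 hη), mul_zero]
  let φ : N ≃* N := MulAut.conjNormal σ
  have hnfix : ¬ ∀ x : N, (η : N → ℂ) (φ x) = (η : N → ℂ) x := by
    intro hfix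
    have e := restrict_eq_of_fixed N h2 hσ ψ η hfix hηne z
    rw [hz, hψJ] at e
    rcases hsg.1 η hηB with s | s <;> rw [s] at e <;>
      rcases d1 with q | q <;> rw [q] at e <;> norm_num at e
  let η' : IrrCharacter N :=
    ⟨fun x => (η : N → ℂ) (φ x), η.2.comp_surjective φ.toMonoidHom φ.surjective⟩
  have hφz : φ z = z := Subtype.ext (by
    show σ * (z : G) * σ⁻¹ = z
    rw [hz, ((Commute.refl σ).pow_right 2).eq, mul_inv_cancel_right])
  have hzeq : (η : N → ℂ) z = (η' : N → ℂ) z := by
    show _ = (η : N → ℂ) (φ z)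
    rw [hφz]
  have hη'B : η' ∈ principalBlock M N := by
    have e1 := klein_sum_singular hM hQ hz2 η
    have e2 := klein_sum_singular hM hQ hz2 η'
    have e3 : ∑ x ∈ Finset.univ.filter (fun x : N => ¬ IsPRegular 2 x), (η' : N → ℂ) x =
        ∑ x ∈ Finset.univ.filter (fun x : N => ¬ IsPRegular 2 x), (η : N → ℂ) x := by
      refine Finset.sum_bij' (fun x _ => φ x) (fun x _ => φ.symm x) (fun x hx => ?_) (fun x hx => ?_)
        (fun x _ => φ.symm_apply_apply x) (fun x _ => φ.apply_symm_apply x) (fun x _ => rfl)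
      · simpa [IsPRegular] using hx
      · simpa [IsPRegular] using hx
    rw [e3, e1, if_pos hηB] at e2
    by_contra hn
    rw [if_neg hn, mul_zero] at e2
    rcases mul_eq_zero.1 e2 with e | e
    · exact Char.card_cast_ne_zero e
    · exact klein_apply_ne_zero hM hQ hz2 hηB e
  refine ⟨η, η', fun e => hnfix fun x => ?_, fun e => hnfix fun x => ?_, fun e => hnfix fun x => ?_,
    hηB, hη'B, ?_, hzeq⟩
  · exact (congrFun (congrArg Subtype.val e) x).symm
  · rw [e, trivChar_coe]
  · have h1 : ∀ w : N, (η : N → ℂ) (φ w) = 1 := fun w => by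
      have := congrFun (congrArg Subtype.val e) w
      rw [trivChar_coe] at this
      exact this
    rw [h1, ← φ.apply_symm_apply x, h1]
  · have e1 := apply_one_eq_charDegree η
    have e2 := apply_one_eq_charDegree η'
    have e3 : (η' : N → ℂ) 1 = (η : N → ℂ) 1 := by
      show (η : N → ℂ) (φ 1) = _
      rw [map_one]
    rw [e3, e1] at e2
    exact_mod_cast e2

/-- The order formula through the subgroup of index two. -/
theorem half_formula (g : Gens (P : Subgroup G) n σ τ) (N : Subgroup G) (h2 : N.index = 2)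
    (hτ : τ ∈ N) (h1 : OneClass N) :
    ∃ X₀ : ℤ, X₀ ≠ 1 ∧ 3 * (X₀ - 1) ^ 2 ≤ 8 * X₀ * (X₀ + 1) ∧
      (X₀ = -3 → n = 3 → ∃ φ : IrrCharacter N, (φ : N → ℂ) 1 = 1 ∧ (φ : N → ℂ) ≠ (fun _ => 1) ∧
        ∀ x : N, ¬ IsPRegular 2 x → (φ : N → ℂ) x = 1) ∧
      (Nat.card G : ℚ) * ((X₀ : ℚ) - 1) ^ 2 *
          (Nat.card (Subgroup.centralizer ({σ ^ (2 ^ (n - 2)), τ} : Set G)) : ℚ) ^ 2 =
        2 * (Nat.card (Subgroup.centralizer ({σ ^ (2 ^ (n - 2))} : Set G)) : ℚ) ^ 3 *
          X₀ * ((X₀ : ℚ) + 1) := by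
  classical
  haveI : Fact (Nat.Prime 2) := ⟨Nat.prime_two⟩
  letI : Fintype G := Fintype.ofFinite G
  letI : Fintype N := Fintype.ofFinite N
  haveI := Subgroup.normal_of_index_eq_two h2
  have hn := g.three_le
  have hσ := σ_notMem_of_index_two g h2 hτ
  have hσ2 : σ ^ 2 ∈ N := by
    rw [pow_two]
    exact Subgroup.mul_self_mem_of_index_two h2 σ
  obtain ⟨hPc, Q, hQ⟩ := sylow_index_two g h2 hσ
  have hG : (Nat.card G : ℚ) = 2 * Nat.card N := by
    rw [← N.card_mul_index, h2]
    push_cast
    ring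
  set J := σ ^ (2 ^ (n - 2)) with hJ
  have hJe : J = (σ ^ 2) ^ (2 ^ (n - 3)) := by
    rw [hJ, ← pow_mul, ← pow_succ']
    congr 2
    omega
  have hJ0 : J ∈ N := hJe ▸ pow_mem hσ2 _
  have hc := half_centralizer g h2 hσ ⟨J, hJ0⟩ rfl
  rw [← hc]
  have hle := centralizer_pair_le_index_two g h2 hτ
  set a := Nat.card (Subgroup.centralizer ({J, τ} : Set G)) with ha
  by_cases hn4 : 4 ≤ n
  · have g0 : Gens ((Q : Subgroup N)) (n - 1) ⟨σ ^ 2, hσ2⟩ ⟨τ, hτ⟩ := by
      rw [hQ]
      exact (g.index_two hn4 h2 hτ hσ).subgroupOf hσ2 hτ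
    obtain ⟨x, d, -, hd, hne, hdvd, hf⟩ := exists_order_formula g0 h1
    obtain ⟨hl, -⟩ := factor_bounds
      (pow_dvd_pow 2 (show 2 ≤ n - 1 - 1 by omega) : 4 ∣ 2 ^ (n - 1 - 1)) hd hdvd hne
    have eJ : (⟨σ ^ 2, hσ2⟩ : N) ^ (2 ^ (n - 1 - 2)) = ⟨J, hJ0⟩ := Subtype.ext (by
      show (σ ^ 2) ^ (2 ^ (n - 1 - 2)) = J
      rw [hJe, show n - 1 - 2 = n - 3 by omega])
    have e1 : Nat.card (Subgroup.centralizer ({(⟨J, hJ0⟩ : N), ⟨τ, hτ⟩} : Set N)) = a := by
      have := card_centralizer_image (H := N) ({(⟨J, hJ0⟩ : N), ⟨τ, hτ⟩} : Set N)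
        (by rw [Set.image_pair]; exact hle)
      rwa [Set.image_pair] at this
    have e2 : Nat.card (Subgroup.centralizer
        ({(⟨J, hJ0⟩ : N), (⟨σ ^ 2, hσ2⟩ : N) * ⟨τ, hτ⟩} : Set N)) = a := by
      have := card_centralizer_image (H := N)
        ({(⟨J, hJ0⟩ : N), (⟨σ ^ 2, hσ2⟩ : N) * ⟨τ, hτ⟩} : Set N) (by
          rw [Set.image_pair]
          show Subgroup.centralizer ({J, σ ^ 2 * τ} : Set G) ≤ N
          intro w hw
          have hconj : σ⁻¹ * w * σ ∈ Subgroup.centralizer ({J, τ} : Set G) := by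
            refine Subgroup.mem_centralizer_iff.2 ?_
            have e : σ * τ * σ⁻¹ = σ ^ 2 * τ := by simpa using conj_reflection g 1
            have key : ∀ y : G, (σ * y * σ⁻¹) * w = w * (σ * y * σ⁻¹) →
                y * (σ⁻¹ * w * σ) = σ⁻¹ * w * σ * y := fun y hy => by
              calc y * (σ⁻¹ * w * σ) = σ⁻¹ * (σ * y * σ⁻¹ * w) * σ := by group
                _ = σ⁻¹ * w * σ * y := by rw [hy]; group
            intro y hy
            refine key y (Subgroup.mem_centralizer_iff.1 hw _ ?_)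
            rcases hy with rfl | rfl
            · left; rw [hJ, ((Commute.refl σ).pow_right _).eq, mul_inv_cancel_right]
            · right; exact e
          have := ‹N.Normal›.conj_mem _ (hle hconj) σ
          rwa [show σ * (σ⁻¹ * w * σ) * σ⁻¹ = w by group] at this)
      rw [Set.image_pair] at this
      rw [this]
      exact card_centralizer_conj g
    rw [eJ, e1, e2] at hf
    refine ⟨d * x, fun e => hne ?_, ?_, fun _ h3 => by omega, ?_⟩
    · rcases hd with rfl | rfl <;> omega
    · have : (((3 * (d * (x : ℤ) - 1) ^ 2 : ℤ)) : ℚ) ≤ ((8 * (d * x) * (d * x + 1) : ℤ) : ℚ) := by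
        push_cast
        rcases hd with rfl | rfl <;> push_cast at hl ⊢ <;> linarith
      exact_mod_cast this
    · have ha0 : (a : ℚ) ≠ 0 := Nat.cast_ne_zero.2 Nat.card_pos.ne'
      rw [hG]
      rcases hd with rfl | rfl <;> push_cast at hf ⊢ <;> field_simp at hf ⊢ <;>
        linear_combination hf
  · have hn3 : n = 3 := by omega
    subst hn3
    have hJ2 : J = σ ^ 2 := by rw [hJ]; norm_num
    have hcl := g.inf_index_two h2 hτ hσ
    have hP4 : Nat.card ((P : Subgroup G) ⊓ N : Subgroup G) = 4 := by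
      have := g.toDihSylow.card
      norm_num [-Nat.card_eq_fintype_card] at this
      omega
    have hτ2 : τ * τ = 1 := by rw [← pow_two, ← g.orderOf_τ, pow_orderOf_eq_one]
    have hσ4 : σ ^ 2 * σ ^ 2 = 1 := by
      have h4 : orderOf σ = 4 := by rw [g.orderOf_σ]; norm_num
      rw [← pow_add, show 2 + 2 = orderOf σ by omega, pow_orderOf_eq_one]
    have hcomm : Commute (σ ^ 2) τ := g.center_commute_τ.symm
    have hsq : ∀ x ∈ (P : Subgroup G) ⊓ N, x * x = 1 := by
      intro x hx
      rw [← hcl] at hx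
      have key : ∀ y ∈ Subgroup.closure ({σ ^ 2, τ} : Set G),
          y * y = 1 ∧ Commute y (σ ^ 2) ∧ Commute y τ := by
        intro y hy
        have hc2 : ∀ y ∈ Subgroup.closure ({σ ^ 2, τ} : Set G),
            Commute y (σ ^ 2) ∧ Commute y τ := by
          intro y hy
          have hle' : Subgroup.closure ({σ ^ 2, τ} : Set G) ≤
              Subgroup.centralizer ({σ ^ 2, τ} : Set G) := by
            rw [Subgroup.closure_le]
            rintro u (rfl | rfl) <;> refine Subgroup.mem_centralizer_iff.2 ?_ <;>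
              rintro v (rfl | rfl) <;>
              first | rfl | exact hcomm.eq | exact hcomm.eq.symm
          exact ⟨(Subgroup.mem_centralizer_iff.1 (hle' hy) _ (Or.inl rfl)).symm,
            (Subgroup.mem_centralizer_iff.1 (hle' hy) _ (Or.inr rfl)).symm⟩
        refine ⟨?_, hc2 y hy⟩
        induction hy using Subgroup.closure_induction with
        | mem y hy => rcases hy with rfl | rfl <;> assumption
        | one => exact one_mul 1
        | mul p q hp hq ihp ihq =>
          have hcpq : Commute p q := by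
            clear ihp ihq
            induction hq using Subgroup.closure_induction with
            | mem q hq => rcases hq with rfl | rfl; exacts [(hc2 p hp).1, (hc2 p hp).2]
            | one => exact Commute.one_right p
            | mul _ _ _ _ i1 i2 => exact i1.mul_right i2
            | inv _ _ i1 => exact i1.inv_right
          rw [hcpq.symm.mul_mul_mul_comm, ihp, ihq, one_mul]
        | inv p _ ihp => rw [← mul_inv_rev, ihp, inv_one]
      exact (key x hx).1
    have hQK : KleinCond Q := by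
      refine ⟨?_, fun x hx => Subtype.ext (hsq _ ?_), h1⟩
      · show Nat.card (Q : Subgroup N) = 4
        rw [hQ, Nat.card_congr (Subgroup.subgroupOfEquivOfLe inf_le_right).toEquiv, hP4]
      · rw [hQ] at hx
        exact hx
    set z : N := ⟨J, hJ0⟩ with hzdef
    have hzQ : z ∈ (Q : Subgroup N) := by
      rw [hQ]
      exact ⟨g.center_mem, hJ0⟩
    have hz2 : orderOf z = 2 := by rw [hzdef, Subgroup.orderOf_mk]; exact g.orderOf_center
    obtain ⟨M, hM⟩ := exists_isPModular Nat.prime_two
    obtain ⟨p, q, r, hp0, hq0, hr0, hpq, hpr, hqr, sp, sr, sq, hset⟩ :=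
      klein_exists_three hM hQK hz2
    obtain ⟨η, η', hne, h0, h0', hB, hB', hdeg, hval⟩ := klein_pair g N h2 hσ hQK
      (show (z : G) = σ ^ 2 from hJ2) hM
    obtain ⟨e, he, hev⟩ : ∃ e : ℤ, (e = 1 ∨ e = -1) ∧ (q : N → ℂ) z = e := by
      rcases sq with h | h
      · exact ⟨1, Or.inl rfl, by rw [h]; norm_num⟩
      · exact ⟨-1, Or.inr rfl, by rw [h]; norm_num⟩
    have hvp : (p : N → ℂ) z = ((1 : ℤ) : ℂ) := by rw [sp]; norm_num
    have hvr : (r : N → ℂ) z = ((-1 : ℤ) : ℂ) := by rw [sr]; norm_num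
    have hBset : principalBlock M N = {χ : IrrCharacter N |
        (χ : N → ℂ) = (fun _ => 1) ∨ χ = p ∨ χ = q ∨ χ = r} := by
      rw [hset]
      ext χ
      simp only [Set.mem_insert_iff, Set.mem_singleton_iff, Set.mem_ofPred_eq]
      exact or_congr_left ⟨fun h => by rw [h]; rfl, fun h => Subtype.ext h⟩
    have hd : (p : N → ℂ) ≠ (fun _ => 1) ∧ (q : N → ℂ) ≠ (fun _ => 1) ∧
        (r : N → ℂ) ≠ (fun _ => 1) ∧ p ≠ q ∧ p ≠ r ∧ q ≠ r :=
      ⟨fun h => hp0 (Subtype.ext h), fun h => hq0 (Subtype.ext h), fun h => hr0 (Subtype.ext h),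
        hpq, hpr, hqr⟩
    have hrel := klein_degree_relation hM hQK hz2 hBset hd ⟨hvp, hev, hvr⟩
    have hord := klein_order_rat hM hQK hzQ hz2 hBset hd ⟨hvp, hev, hvr⟩
    have hk : Nat.card (Subgroup.centralizer ((Q : Subgroup N) : Set N)) = a := by
      have him : Subtype.val '' ((Q : Subgroup N) : Set N) =
          ((Subgroup.closure ({σ ^ 2, τ} : Set G) : Subgroup G) : Set G) := by
        rw [hcl, hQ]
        ext x
        exact ⟨by rintro ⟨y, hy, rfl⟩; exact hy, fun hx => ⟨⟨x, hx.2⟩, hx, rfl⟩⟩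
      have hC : Subgroup.centralizer (Subtype.val '' ((Q : Subgroup N) : Set N)) =
          Subgroup.centralizer ({J, τ} : Set G) := by
        rw [him, Subgroup.centralizer_closure, hJ2]
      rw [card_centralizer_image (H := N) _ (by rw [hC]; exact hle), hC]
    rw [hk] at hord
    have hrp := klein_degree_congr hM hQK hz2 r hvr
    have hqc := klein_degree_congr hM hQK hz2 q hev
    have hpp := charDegree_pos p
    have hpq' := charDegree_pos q
    have hpr' := charDegree_pos r
    obtain ⟨hl, hu⟩ := klein_sum_bounds (a := (charDegree (p : N → ℂ) : ℚ))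
      (b := (charDegree (q : N → ℂ) : ℚ)) (c := (charDegree (r : N → ℂ) : ℚ)) (e := e)
      (by exact_mod_cast hpp) (by exact_mod_cast hpq')
      (by exact_mod_cast (show 3 ≤ charDegree (r : N → ℂ) by omega))
      (he.imp_right fun h => ⟨h, by
        exact_mod_cast (show 3 ≤ charDegree (q : N → ℂ) by rw [h] at hqc; omega)⟩)
      (by push_cast at hrel; linear_combination hrel)
    -- the equal pair
    have hmem : ∀ χ ∈ principalBlock M N, χ ≠ trivChar N → χ = p ∨ χ = q ∨ χ = r := by
      intro χ hχ hne'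
      rw [hset] at hχ
      rcases hχ with h | h | h | h
      exacts [absurd h hne', Or.inl h, Or.inr (Or.inl h), Or.inr (Or.inr h)]
    have hpair : e = 1 ∧ charDegree (p : N → ℂ) = charDegree (q : N → ℂ) ∨
        e = -1 ∧ charDegree (q : N → ℂ) = charDegree (r : N → ℂ) := by
      rcases hmem η hB h0 with rfl | rfl | rfl <;> rcases hmem η' hB' h0' with rfl | rfl | rfl <;>
        first
        | exact absurd rfl hne
        | (rw [hvp, hev] at hval; exact Or.inl ⟨(Int.cast_injective hval).symm, hdeg⟩)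
        | (rw [hev, hvp] at hval; exact Or.inl ⟨Int.cast_injective hval, hdeg.symm⟩)
        | (rw [hev, hvr] at hval; exact Or.inr ⟨Int.cast_injective hval, hdeg⟩)
        | (rw [hvr, hev] at hval; exact Or.inr ⟨(Int.cast_injective hval).symm, hdeg.symm⟩)
        | (rw [hvp, hvr] at hval; exact absurd (Int.cast_injective hval) (by norm_num))
        | (rw [hvr, hvp] at hval; exact absurd (Int.cast_injective hval) (by norm_num))
    push_cast at hrel hord
    set S : ℚ := 1 + 1 / (charDegree (p : N → ℂ) : ℚ) + (e : ℚ) / (charDegree (q : N → ℂ) : ℚ) -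
      1 / (charDegree (r : N → ℂ) : ℚ) with hS
    set c0 := (Nat.card (Subgroup.centralizer ({z} : Set N)) : ℚ) with hc0
    have hord' : (Nat.card N : ℚ) * S * (a : ℚ) ^ 2 = 8 * c0 ^ 3 := by
      rw [hS, hc0]; linear_combination hord
    obtain ⟨X₀, hX₀1, hp1, hSX, hXpos⟩ : ∃ X₀ : ℤ, X₀ ≠ 1 ∧
        (X₀ = -3 → charDegree (p : N → ℂ) = 1) ∧
        S * ((X₀ : ℚ) * (X₀ + 1)) = ((X₀ : ℚ) - 1) ^ 2 ∧ (0 : ℚ) ≤ (X₀ : ℚ) * (X₀ + 1) := by
      have hp' : (0 : ℚ) < charDegree (p : N → ℂ) := Nat.cast_pos.2 hpp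
      have hq' : (0 : ℚ) < charDegree (q : N → ℂ) := Nat.cast_pos.2 hpq'
      have hr' : (0 : ℚ) < charDegree (r : N → ℂ) := Nat.cast_pos.2 hpr'
      rcases hpair with ⟨he1, heq⟩ | ⟨he1, heq⟩
      · refine ⟨-(charDegree (r : N → ℂ) : ℤ), by omega, fun h3 => ?_, ?_, ?_⟩
        · have h3' : (charDegree (r : N → ℂ) : ℚ) = 3 := by
            exact_mod_cast (show charDegree (r : N → ℂ) = 3 by omega)
          rw [he1, heq, h3'] at hrel
          push_cast at hrel
          have : (charDegree (q : N → ℂ) : ℚ) = 1 := by linarith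
          rw [heq]
          exact_mod_cast this
        · have hr2 : (charDegree (r : N → ℂ) : ℚ) = 1 + 2 * charDegree (q : N → ℂ) := by
            rw [he1, heq] at hrel
            push_cast at hrel
            linear_combination -hrel
          rw [hS, he1, heq]
          push_cast
          rw [hr2]
          field_simp
          ring
        · push_cast
          have h3 : (1 : ℚ) ≤ charDegree (r : N → ℂ) := by exact_mod_cast hpr'
          nlinarith
      · refine ⟨(charDegree (p : N → ℂ) : ℤ), ?_, fun h3 => by omega, ?_, ?_⟩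
        · intro h
          have : (charDegree (q : N → ℂ) : ℚ) = 1 := by
            rw [he1, ← heq] at hrel
            push_cast at hrel
            have hp1 : (charDegree (p : N → ℂ) : ℚ) = 1 := by exact_mod_cast h
            linarith
          have : charDegree (q : N → ℂ) = 1 := by exact_mod_cast this
          rw [he1] at hqc
          omega
        · have hp2 : (charDegree (p : N → ℂ) : ℚ) = 2 * charDegree (q : N → ℂ) - 1 := by
            rw [he1, ← heq] at hrel
            push_cast at hrel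
            linear_combination hrel
          have h21 : (2 : ℚ) * charDegree (q : N → ℂ) - 1 ≠ 0 := by rw [← hp2]; exact hp'.ne'
          rw [hS, he1, ← heq]
          push_cast
          rw [hp2]
          field_simp
          ring
        · push_cast; positivity
    refine ⟨X₀, hX₀1, ?_, fun e3 _ => ⟨p, ?_, hd.1, fun x hx => ?_⟩, ?_⟩
    rotate_left
    · rw [apply_one_eq_charDegree, hp1 e3, Nat.cast_one]
    · rw [klein_apply_singular hM hQK hz2 (hBset ▸ Or.inr (Or.inl rfl)) hx, sp]
    rotate_left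
    · have : (((3 * (X₀ - 1) ^ 2 : ℤ)) : ℚ) ≤ ((8 * X₀ * (X₀ + 1) : ℤ) : ℚ) := by
        push_cast
        nlinarith [mul_le_mul_of_nonneg_right hu hXpos]
      exact_mod_cast this
    · rw [hG, ← hSX]
      push_cast
      rw [← hc0]
      linear_combination 2 * (X₀ : ℚ) * ((X₀ : ℚ) + 1) * hord'

end Cfsg.Lib.GW
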