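import Cfsg.Agent.Lib.GW.OrderTwoClass

/-!
# Two classes of involutions: the subgroup of index two with one class
-/

set_option autoImplicit false
set_option linter.unusedSectionVars false
set_option maxHeartbeats 400000

namespace Cfsg.Lib.GW

open Cfsg Cfsg.Lib.Block

universe u

variable {G : Type u} [Group G] [Finite G] {P : Sylow 2 G} {n : ℕ} {σ τ : G}

theorem Gens.commute_center {g : Gens (P : Subgroup G) n σ τ} {x : G} (hx : x ∈ (P : Subgroup G)) :
    Commute x (σ ^ (2 ^ (n - 2))) :=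
  Subgroup.mem_centralizer_singleton_iff.1 (g.le_centralizer hx)

theorem exists_index_two (g : Gens (P : Subgroup G) n σ τ) (hG : ¬ OneClass G) :
    ∃ N : Subgroup G, N.index = 2 := by
  haveI : Fact (Nat.Prime 2) := ⟨Nat.prime_two⟩
  have hR : pResidual 2 G ≠ ⊤ := by
    intro htop
    refine hG fun u v hu hv => isConj_iff.2
      (Cfsg.Agent.S3864.one_class P (Subgroup.zpowers σ) (Subgroup.zpowers_le.2 g.σ_mem) ?_ htop u v
        hu hv)
    have h := (Subgroup.zpowers σ).subgroupOf (P : Subgroup G) |>.card_mul_index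
    rw [Nat.card_congr (Subgroup.subgroupOfEquivOfLe (Subgroup.zpowers_le.2 g.σ_mem)).toEquiv,
      Nat.card_zpowers, g.toDihSylow.orderσ, g.toDihSylow.card] at h
    rw [Subgroup.relIndex]
    refine Nat.eq_of_mul_eq_mul_left (show 0 < 2 * 2 ^ (n - 2) by positivity) ?_
    rw [h]
    ring
  obtain ⟨k, hk⟩ := Cfsg.Lib.Fusion.index_pResidual_eq_pow (G := G) (p := 2)
  have hk0 : k ≠ 0 := by
    rintro rfl
    exact hR (Subgroup.index_eq_one.1 (by rwa [pow_zero] at hk))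
  haveI := Cfsg.Lib.Fusion.pResidual_normal 2 G
  have hcard : Nat.card (G ⧸ pResidual 2 G) = 2 ^ k := hk
  obtain ⟨K, hK⟩ := Sylow.exists_subgroup_card_pow_prime 2 (n := k - 1)
    (hcard ▸ pow_dvd_pow 2 (Nat.sub_le k 1))
  refine ⟨K.comap (QuotientGroup.mk' (pResidual 2 G)), ?_⟩
  rw [Subgroup.index_comap_of_surjective _ (QuotientGroup.mk'_surjective _)]
  have := K.card_mul_index
  rw [hK, hcard, show (2 : ℕ) ^ k = 2 ^ (k - 1) * 2 by rw [← pow_succ]; congr 1; omega] at this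
  exact mul_left_cancel₀ (pow_ne_zero _ two_ne_zero) this

theorem involution_cases (g : Gens (P : Subgroup G) n σ τ) {x : G} (hx : x ∈ (P : Subgroup G))
    (hx2 : orderOf x = 2) : x = σ ^ (2 ^ (n - 2)) ∨ ∃ i : ℤ, x = σ ^ i * τ := by
  have hτ : τ * τ = 1 := by rw [← pow_two, ← g.orderOf_τ, pow_orderOf_eq_one]
  obtain ⟨i, j, rfl⟩ := g.exists_eq hx
  rcases Nat.even_or_odd' j with ⟨k, rfl | rfl⟩
  · left
    rw [pow_mul, pow_two, hτ, one_pow, mul_one] at hx2 ⊢
    refine (g.toDihSylow.eq_central_of_sq ⟨i, rfl⟩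
      (by rw [← pow_two, ← hx2, pow_orderOf_eq_one])).resolve_left fun h => ?_
    replace h : σ ^ i = 1 := h
    rw [h, orderOf_one] at hx2
    omega
  · exact Or.inr ⟨i, by rw [pow_succ, pow_mul, pow_two, hτ, one_pow, one_mul]⟩

theorem conj_reflection (g : Gens (P : Subgroup G) n σ τ) (k : ℤ) :
    σ ^ k * τ * (σ ^ k)⁻¹ = σ ^ (2 * k) * τ := by
  have hτi : τ⁻¹ = τ := inv_eq_of_mul_eq_one_right (by
    rw [← pow_two, ← g.orderOf_τ, pow_orderOf_eq_one])
  have h : τ * (σ ^ k)⁻¹ = σ ^ k * τ := by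
    have h1 : τ * σ ^ (-k) * τ⁻¹ = σ ^ k := by rw [← conj_zpow, g.rel, inv_zpow', neg_neg]
    rw [← zpow_neg, ← mul_inv_eq_iff_eq_mul, h1]
  rw [mul_assoc, h, ← mul_assoc, ← zpow_add, two_mul]

/-- If `τ` is conjugate to the central involution, a subgroup of index two contains `τ` and has one
class of involutions. -/
theorem exists_index_two_oneClass (g : Gens (P : Subgroup G) n σ τ)
    (hconj : IsConj (σ ^ (2 ^ (n - 2))) τ) (hG : ¬ OneClass G) :
    ∃ N : Subgroup G, N.index = 2 ∧ τ ∈ N ∧ OneClass N := by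
  haveI : Fact (Nat.Prime 2) := ⟨Nat.prime_two⟩
  obtain ⟨N, h2⟩ := exists_index_two g hG
  haveI hN := Subgroup.normal_of_index_eq_two h2
  obtain ⟨e, he⟩ : ∃ e : ℕ, 2 ^ (n - 2) = 2 * e :=
    ⟨2 ^ (n - 3), by rw [← pow_succ']; congr 1; have := g.three_le; omega⟩
  have hJ : σ ^ (2 ^ (n - 2)) ∈ N := by
    rw [he, pow_mul, pow_two]
    exact pow_mem (Subgroup.mul_self_mem_of_index_two h2 σ) _
  obtain ⟨y, hy⟩ := isConj_iff.1 hconj
  have hτ : τ ∈ N := hy ▸ hN.conj_mem _ hJ y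
  have hσ := σ_notMem_of_index_two g h2 hτ
  have hxσ : ∀ x : G, x ∉ N → x * σ ∈ N := fun x hx => by
    rw [Subgroup.mul_mem_iff_of_index_two h2]
    simp [hx, hσ]
  obtain ⟨a, haN, ha⟩ : ∃ a ∈ N, a * σ ^ (2 ^ (n - 2)) * a⁻¹ = τ := by
    by_cases h : y ∈ N
    · exact ⟨y, h, hy⟩
    refine ⟨y * σ, hxσ y h, ?_⟩
    have hc : σ * σ ^ (2 ^ (n - 2)) * σ⁻¹ = σ ^ (2 ^ (n - 2)) := by
      rw [((Commute.refl σ).pow_right _).eq, mul_inv_cancel_right]
    calc y * σ * σ ^ (2 ^ (n - 2)) * (y * σ)⁻¹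
        = y * (σ * σ ^ (2 ^ (n - 2)) * σ⁻¹) * y⁻¹ := by group
      _ = τ := by rw [hc, hy]
  refine ⟨N, h2, hτ, ?_⟩
  suffices key : ∀ u : N, orderOf u = 2 → IsConj (⟨σ ^ (2 ^ (n - 2)), hJ⟩ : N) u from
    fun u v hu hv => (key u hu).symm.trans (key v hv)
  intro u hu
  rw [← Subgroup.orderOf_coe] at hu
  obtain ⟨b, hb⟩ := Cfsg.Agent.S3864.conj_into P hu
  obtain ⟨b, hbN, hb⟩ : ∃ b ∈ N, b * (u : G) * b⁻¹ ∈ (P : Subgroup G) := by
    by_cases h : b ∈ N
    · exact ⟨b, h, hb⟩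
    refine ⟨σ * b, ?_, ?_⟩
    · rw [Subgroup.mul_mem_iff_of_index_two h2]
      simp [h, hσ]
    · rw [show σ * b * (u : G) * (σ * b)⁻¹ = σ * (b * (u : G) * b⁻¹) * σ⁻¹ by group]
      exact mul_mem (mul_mem g.σ_mem hb) (inv_mem g.σ_mem)
  have hxN : b * (u : G) * b⁻¹ ∈ N := hN.conj_mem _ u.2 b
  have hx2 : orderOf (b * (u : G) * b⁻¹) = 2 := hu ▸ (MulAut.conj b).orderOf_eq (u : G)
  have hstep : ∃ c ∈ N, c * σ ^ (2 ^ (n - 2)) * c⁻¹ = b * (u : G) * b⁻¹ := by
    rcases involution_cases g hb hx2 with h | ⟨i, hi⟩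
    · exact ⟨1, one_mem _, by rw [h, one_mul, inv_one, mul_one]⟩
    have hiN : σ ^ i ∈ N := by
      rw [hi] at hxN
      exact (Subgroup.mul_mem_cancel_right _ hτ).1 hxN
    obtain ⟨k, hk⟩ | ⟨k, hk⟩ := Int.even_or_odd i
    · refine ⟨σ ^ k * a * (σ ^ k)⁻¹, hN.conj_mem _ haN _, ?_⟩
      have hc : (σ ^ k)⁻¹ * σ ^ (2 ^ (n - 2)) * σ ^ k = σ ^ (2 ^ (n - 2)) := by
        rw [mul_assoc, ← (((Commute.refl σ).zpow_left k).pow_right _).eq, inv_mul_cancel_left]
      calc σ ^ k * a * (σ ^ k)⁻¹ * σ ^ (2 ^ (n - 2)) * (σ ^ k * a * (σ ^ k)⁻¹)⁻¹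
          = σ ^ k * (a * ((σ ^ k)⁻¹ * σ ^ (2 ^ (n - 2)) * σ ^ k) * a⁻¹) * (σ ^ k)⁻¹ := by group
        _ = b * (u : G) * b⁻¹ := by rw [hc, ha, conj_reflection g k, hi, hk, two_mul]
    · exfalso
      refine hσ ((Subgroup.mul_mem_cancel_left N (?_ : σ ^ (2 * k) ∈ N)).1 ?_)
      · rw [zpow_mul, zpow_two]
        exact Subgroup.zpow_mem _ (Subgroup.mul_self_mem_of_index_two h2 σ) k
      · rwa [hk, zpow_add, zpow_one] at hiN
  obtain ⟨c, hc, hce⟩ := hstep
  refine isConj_iff.2 ⟨⟨b⁻¹ * c, mul_mem (inv_mem hbN) hc⟩, Subtype.ext ?_⟩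
  show b⁻¹ * c * σ ^ (2 ^ (n - 2)) * (b⁻¹ * c)⁻¹ = u
  calc b⁻¹ * c * σ ^ (2 ^ (n - 2)) * (b⁻¹ * c)⁻¹
      = b⁻¹ * (c * σ ^ (2 ^ (n - 2)) * c⁻¹) * b := by group
    _ = (u : G) := by rw [hce]; group

/-- The centralizer of the four group lies in the subgroup of index two. -/
theorem centralizer_pair_le_index_two (g : Gens (P : Subgroup G) n σ τ) {N : Subgroup G}
    (h2 : N.index = 2) (hτ : τ ∈ N) :
    Subgroup.centralizer ({σ ^ (2 ^ (n - 2)), τ} : Set G) ≤ N := by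
  haveI : Fact (Nat.Prime 2) := ⟨Nat.prime_two⟩
  haveI hN := Subgroup.normal_of_index_eq_two h2
  have hσ := σ_notMem_of_index_two g h2 hτ
  have hτ2 : τ * τ = 1 := by rw [← pow_two, ← g.orderOf_τ, pow_orderOf_eq_one]
  set J := σ ^ (2 ^ (n - 2)) with hJdef
  have hJN : J ∈ N := by
    obtain ⟨e, he⟩ : ∃ e : ℕ, 2 ^ (n - 2) = 2 * e :=
      ⟨2 ^ (n - 3), by rw [← pow_succ']; congr 1; have := g.three_le; omega⟩
    rw [hJdef, he, pow_mul, pow_two]
    exact pow_mem (Subgroup.mul_self_mem_of_index_two h2 σ) _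
  have hJτ : J ≠ τ := fun h => g.τ_notMem (h ▸ pow_mem (Subgroup.mem_zpowers σ) _)
  set C := Subgroup.centralizer ({J, τ} : Set G)
  obtain ⟨R⟩ : Nonempty (Sylow 2 C) := inferInstance
  -- the image of a Sylow subgroup of the centralizer, enlarged by the two involutions, is a 2-group
  set V := Subgroup.closure ({J, τ} : Set G)
  set T := (R : Subgroup C).map C.subtype
  have hVC : V ≤ Subgroup.centralizer (T : Set G) := by
    rw [Subgroup.closure_le]
    intro v hv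
    refine Subgroup.mem_centralizer_iff.2 ?_
    rintro _ ⟨w, -, rfl⟩
    exact (Subgroup.mem_centralizer_iff.1 w.2 v hv).symm
  have hVP : V ≤ (P : Subgroup G) := by
    rw [Subgroup.closure_le]
    rintro v (rfl | rfl)
    exacts [g.center_mem, g.τ_mem]
  have hTV : IsPGroup 2 (T ⊔ V : Subgroup G) :=
    IsPGroup.to_sup_of_normal_left' (R.2.map _) (P.2.to_le hVP)
      (hVC.trans (Subgroup.centralizer_le_normalizer _))
  obtain ⟨Q, hQ⟩ := hTV.exists_le_sylow
  obtain ⟨b, hb⟩ := MulAction.exists_smul_eq G Q P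
  have hmem : ∀ x ∈ T ⊔ V, b * x * b⁻¹ ∈ (P : Subgroup G) := fun x hx => by
    rw [← hb, Sylow.coe_subgroup_smul]
    exact Subgroup.smul_mem_pointwise_smul x (MulAut.conj b) _ (hQ hx)
  have hTN : T ≤ N := by
    intro x hx
    have hxC : x ∈ C := Subgroup.map_subtype_le _ hx
    have hsup := fun v (hv : v ∈ ({J, τ} : Set G)) =>
      hmem v (Subgroup.mem_sup_right (Subgroup.subset_closure hv))
    have hX := hmem x (Subgroup.mem_sup_left hx)
    obtain ⟨r, hr, hrN, hro⟩ : ∃ r ∈ ({J, τ} : Set G), r ∈ N ∧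
        ∃ i : ℤ, b * r * b⁻¹ = σ ^ i * τ := by
      rcases involution_cases g (hsup J (Or.inl rfl))
        (g.orderOf_center ▸ (MulAut.conj b).orderOf_eq J) with h | h
      · refine ⟨τ, Or.inr rfl, hτ, ?_⟩
        rcases involution_cases g (hsup τ (Or.inr rfl))
          (g.orderOf_τ ▸ (MulAut.conj b).orderOf_eq τ) with h' | h'
        · exact absurd (mul_left_cancel (mul_right_cancel (h.trans h'.symm))) hJτ
        · exact h'
      · exact ⟨J, Or.inl rfl, hJN, h⟩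
    obtain ⟨i, hi⟩ := hro
    have hiN : σ ^ i ∈ N := by
      have := hN.conj_mem _ hrN b
      rw [hi] at this
      exact (Subgroup.mul_mem_cancel_right _ hτ).1 this
    have hcomm : Commute (b * x * b⁻¹) (σ ^ i * τ) :=
      hi ▸ (show Commute r x from Subgroup.mem_centralizer_iff.1 hxC r hr).symm.map
        (MulAut.conj b).toMonoidHom
    have hX' : b * x * b⁻¹ ∈ N := by
      obtain ⟨l, j, hl⟩ := g.exists_eq hX
      rw [hl] at hcomm ⊢
      have hτi : τ⁻¹ = τ := inv_eq_of_mul_eq_one_right hτ2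
      have hflip : ∀ m : ℤ, τ * σ ^ m = σ ^ (-m) * τ := fun m => by
        rw [← mul_inv_eq_iff_eq_mul, ← conj_zpow, g.rel, inv_zpow']
      rcases Nat.even_or_odd' j with ⟨q, rfl | rfl⟩
      · rw [pow_mul, pow_two, hτ2, one_pow, mul_one] at hcomm ⊢
        have h := hcomm.eq
        rw [mul_assoc (σ ^ i) τ, hflip l, ← mul_assoc, ← mul_assoc, ← zpow_add, ← zpow_add,
          mul_left_inj] at h
        have h1 : σ ^ l * σ ^ l = 1 := by
          rw [← zpow_add, show l + l = (l + i) + -(i + -l) by ring, zpow_add, h, zpow_neg,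
            mul_inv_cancel]
        rcases g.toDihSylow.eq_central_of_sq (Subgroup.zpow_mem _ (Subgroup.mem_zpowers σ) l) h1
          with h3 | h3
        · exact h3.symm ▸ one_mem _
        · exact h3.symm ▸ hJN
      · rw [pow_succ, pow_mul, pow_two, hτ2, one_pow, one_mul] at hcomm ⊢
        have h := hcomm.eq
        rw [mul_assoc (σ ^ l) τ, ← mul_assoc τ, hflip i, mul_assoc (σ ^ (-i)), hτ2, mul_one,
          mul_assoc (σ ^ i) τ, ← mul_assoc τ, hflip l, mul_assoc (σ ^ (-l)), hτ2, mul_one,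
          ← zpow_add, ← zpow_add] at h
        have h1 : σ ^ (l + -i) * σ ^ (l + -i) = 1 := by
          nth_rw 2 [h]
          rw [← zpow_add, show l + -i + (i + -l) = 0 by ring, zpow_zero]
        refine mul_mem ?_ hτ
        rw [show l = (l + -i) + i by ring, zpow_add]
        refine mul_mem ?_ hiN
        rcases g.toDihSylow.eq_central_of_sq
          (Subgroup.zpow_mem _ (Subgroup.mem_zpowers σ) (l + -i)) h1 with h3 | h3
        · exact h3.symm ▸ one_mem _
        · exact h3.symm ▸ hJN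
    have := hN.conj_mem _ hX' b⁻¹
    rwa [inv_inv, show b⁻¹ * (b * x * b⁻¹) * b = x by group] at this
  -- odd index and index dividing two
  have hri : N.relIndex C = 1 := by
    have h1 : N.relIndex C ∣ 2 := h2 ▸ Subgroup.relIndex_dvd_index_of_normal N C
    have h3 : N.relIndex C ∣ (R : Subgroup C).index := by
      rw [Subgroup.relIndex]
      refine Subgroup.index_dvd_of_le fun w hw => ?_
      exact Subgroup.mem_subgroupOf.2 (hTN (Subgroup.mem_map_of_mem C.subtype hw))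
    rcases (Nat.dvd_prime Nat.prime_two).1 h1 with h | h
    · exact h
    · rw [h] at h3
      exact absurd h3 R.not_dvd_index
  exact Subgroup.relIndex_eq_one.1 hri

end Cfsg.Lib.GW
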