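import Cfsg.Agent.Lib.GW.FusedLocal
import Cfsg.Agent.S0984

/-!
# Gorenstein–Walter: four of the five fused possibilities

With `U = C_U(τ)` the subgroup `C_U(στ)`, of index at most five, is normalized by `C(J)` and by an element
moving `J` to `στ`; so it is trivial and `|G|` is small.
-/

set_option autoImplicit false
set_option linter.unusedSectionVars false
set_option linter.style.haveILetI false
set_option maxHeartbeats 800000

namespace Cfsg.Lib.GW.Fused

open Subgroup
open Cfsg.Lib.Block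

universe u

variable {G : Type u} [Group G]

/-- `C_U(x)` as a subgroup. -/
def fixSub [Fintype G] {P : Sylow 2 G} {σ τ : G} {h : ℕ} (D : DihSylow P σ τ h) (x : G) : Subgroup G where
  carrier := {y | y ∈ DihSylow.oddFix σ h x}
  one_mem' := DihSylow.mem_oddFix.2 ⟨D.oddPart_spec.1, Commute.one_left _⟩
  mul_mem' := fun {a b} ha hb => DihSylow.mem_oddFix.2
    ⟨D.oddPart_spec.2.1 a (DihSylow.mem_oddFix.1 ha).1 b (DihSylow.mem_oddFix.1 hb).1,
      (DihSylow.mem_oddFix.1 ha).2.mul_left (DihSylow.mem_oddFix.1 hb).2⟩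
  inv_mem' := fun {a} ha => DihSylow.mem_oddFix.2
    ⟨D.oddPart_spec.2.2.1 a (DihSylow.mem_oddFix.1 ha).1, (DihSylow.mem_oddFix.1 ha).2.inv_left⟩

variable [Fintype G] {P : Sylow 2 G} {n : ℕ} {σ τ : G} {h : ℕ}

theorem mem_fixSub (D : DihSylow P σ τ h) {x y : G} :
    y ∈ fixSub D x ↔ y ∈ DihSylow.oddPart σ h ∧ Commute y x := DihSylow.mem_oddFix

theorem card_fixSub (D : DihSylow P σ τ h) (x : G) :
    Nat.card (fixSub D x) = (DihSylow.oddFix σ h x).card := by
  rw [← Nat.card_eq_finsetCard]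
  exact Nat.card_congr (Equiv.subtypeEquivRight fun y => Iff.rfl)

open Classical in
/-- A subgroup fixing one of at most five conjugates under `U` fixes all of them. -/
theorem fixSub_normalized (D : DihSylow P σ τ h) {x : G} (hx : x ∈ (P : Subgroup G))
    (hx' : x ∉ zpowers σ) (h5 : (DihSylow.invCoset σ h x).card ≤ 5) {u : G}
    (hu : u ∈ DihSylow.oddPart σ h) : u ∈ normalizer (fixSub D x : Set G) := by
  obtain ⟨h1, hmul, hinv, hconj, -, -, -⟩ := D.oddPart_spec
  have hxJ : Commute x (σ ^ h) := D.central_involution.2.2 x hx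
  have hx2 := D.sq_outside hx hx'
  have hx1 : x ≠ 1 := fun e => hx' (e ▸ one_mem _)
  have hxi : x⁻¹ = x := inv_eq_of_mul_eq_one_right hx2
  have hxmem : x ∈ DihSylow.invCoset σ h x :=
    DihSylow.mem_invCoset.2 ⟨hx2, hx1, by rw [mul_inv_cancel]; exact h1⟩
  set S := (DihSylow.invCoset σ h x).erase x with hS
  have hS4 : S.card ≤ 4 := by
    rw [hS, Finset.card_erase_of_mem hxmem]
    omega
  have hι : ∀ a ∈ S, x * a * x ∈ S ∧ x * a * x ≠ a ∧ x * (x * a * x) * x = a := by
    intro a ha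
    obtain ⟨hne, ha'⟩ := Finset.mem_erase.1 ha
    obtain ⟨ha2, ha1, ha3⟩ := DihSylow.mem_invCoset.1 ha'
    obtain ⟨z, hz⟩ : ∃ z, z = a * x⁻¹ := ⟨_, rfl⟩
    rw [← hz] at ha3
    have hzx : x * a * x * x⁻¹ = z⁻¹ := by
      rw [hz, mul_inv_cancel_right, mul_inv_rev, inv_inv, inv_eq_of_mul_eq_one_right ha2]
    have hback : x * (x * a * x) * x = a := by
      rw [show x * (x * a * x) * x = x * x * a * (x * x) by group, hx2, one_mul, mul_one]
    have hmove : x * a * x ≠ a := fun e => by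
      rw [e, ← hz] at hzx
      have hzz : z ^ 2 = 1 := by rw [pow_two]; exact mul_eq_one_iff_eq_inv.2 hzx
      have hz1 : z = 1 := orderOf_eq_one_iff.1 (Nat.eq_one_of_dvd_coprimes
        (Nat.coprime_two_right.2 (DihSylow.mem_oddPart.1 ha3).2) dvd_rfl (orderOf_dvd_of_pow_eq_one hzz))
      exact hne (mul_inv_eq_one.1 (hz ▸ hz1))
    refine ⟨Finset.mem_erase.2 ⟨fun e => hne ?_, DihSylow.mem_invCoset.2 ⟨?_, fun e => ha1 ?_, ?_⟩⟩,
      hmove, hback⟩
    · rw [← hback, e, hx2, one_mul]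
    · rw [show x * a * x * (x * a * x) = x * a * (x * x) * (a * x) by group, hx2, mul_one, ← mul_assoc,
        mul_assoc x a a, ha2, mul_one, hx2]
    · rw [← hback, e, mul_one, hx2]
    · rw [hzx]; exact hinv z ha3
  have key : ∀ w ∈ fixSub D x, ∀ a ∈ DihSylow.invCoset σ h x, Commute w a := by
    intro w hw a ha
    obtain ⟨hwO, hwx⟩ := (mem_fixSub D).1 hw
    have hwJ : Commute w (σ ^ h) := (DihSylow.mem_oddPart.1 hwO).1
    have hwodd : Odd (orderOf w) := (DihSylow.mem_oddPart.1 hwO).2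
    by_cases hax : a = x
    · rw [hax]; exact hwx
    have hf : ∀ b ∈ S, w * b * w⁻¹ ∈ S ∧ x * (w * b * w⁻¹) * x = w * (x * b * x) * w⁻¹ := by
      intro b hb
      obtain ⟨hne, hb'⟩ := Finset.mem_erase.1 hb
      obtain ⟨hb2, hb1, hb3⟩ := DihSylow.mem_invCoset.1 hb'
      refine ⟨Finset.mem_erase.2 ⟨fun e => hne ?_, DihSylow.mem_invCoset.2 ⟨?_, fun e => hb1
        (conj_eq_one_iff.1 e), ?_⟩⟩, ?_⟩
      · rw [show b = w⁻¹ * (w * b * w⁻¹) * w by group, e, mul_assoc, ← hwx.eq, inv_mul_cancel_left]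
      · rw [show w * b * w⁻¹ * (w * b * w⁻¹) = w * (b * b) * w⁻¹ by group, hb2, mul_one, mul_inv_cancel]
      · rw [show w * b * w⁻¹ * x⁻¹ = w * (b * x⁻¹) * w⁻¹ * (w * x * w⁻¹) * x⁻¹ by group, hwx.eq,
          mul_inv_cancel_right, mul_inv_cancel_right]
        exact hconj w hwJ _ hb3
      · calc x * (w * b * w⁻¹) * x = (x * w) * b * (w⁻¹ * x) := by group
          _ = w * (x * b * x) * w⁻¹ := by rw [← hwx.eq, hwx.inv_left.eq]; group
    -- the square of `w` fixes every pair
    have hpair : ∀ b ∈ S, w * (w * b * w⁻¹) * w⁻¹ = b ∨ w * (w * b * w⁻¹) * w⁻¹ = x * b * x := by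
      intro b hb
      obtain ⟨hb1, hι1⟩ := hf b hb
      obtain ⟨hb2, hι2⟩ := hf _ hb1
      by_contra hno
      push Not at hno
      obtain ⟨hn1, hn2⟩ := hno
      have hinj : ∀ p q : G, w * p * w⁻¹ = w * q * w⁻¹ → p = q := fun p q e => by
        simpa using e
      have d1 : w * b * w⁻¹ ≠ b := fun e => hn1 (by rw [e, e])
      have d2 : w * b * w⁻¹ ≠ x * b * x := fun e => hn1 (by
        rw [e, ← (hf b hb).2, e, (hι b hb).2.2])
      have d3 : x * (w * b * w⁻¹) * x ≠ b := fun e => d2 (by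
        rw [← (hι _ hb1).2.2, e])
      have d4 : x * (w * b * w⁻¹) * x ≠ x * b * x := fun e => d1 (by
        rw [← (hι _ hb1).2.2, e, (hι b hb).2.2])
      have d5 : w * (w * b * w⁻¹) * w⁻¹ ≠ w * b * w⁻¹ := fun e => d1 (hinj _ _ e)
      have d6 : w * (w * b * w⁻¹) * w⁻¹ ≠ x * (w * b * w⁻¹) * x := fun e => d2 (hinj _ _ (by
        rw [e, hι1]))
      have hsub : ({b, x * b * x, w * b * w⁻¹, x * (w * b * w⁻¹) * x, w * (w * b * w⁻¹) * w⁻¹} :
          Finset G) ⊆ S := by
        intro y hy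
        simp only [Finset.mem_insert, Finset.mem_singleton] at hy
        rcases hy with rfl | rfl | rfl | rfl | rfl
        exacts [hb, (hι _ hb).1, hb1, (hι _ hb1).1, hb2]
      have h5' := Finset.card_le_card hsub
      rw [Finset.card_insert_of_notMem (by simp [(hι b hb).2.1.symm, d1.symm, d3.symm, hn1.symm]),
        Finset.card_insert_of_notMem (by simp [d2.symm, d4.symm, hn2.symm]),
        Finset.card_insert_of_notMem (by simp [(hι _ hb1).2.1.symm, d5.symm]),
        Finset.card_insert_of_notMem (by simp [d6.symm]), Finset.card_singleton] at h5'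
      omega
    have haS : a ∈ S := Finset.mem_erase.2 ⟨hax, ha⟩
    have hw2odd : Odd (orderOf (w * w)) := hwodd.of_dvd_nat (orderOf_dvd_of_pow_eq_one (by
      rw [(Commute.refl w).mul_pow, pow_orderOf_eq_one, one_mul]))
    refine InvAct.commute_of_sq hwodd (InvAct.commute_of_sq hw2odd ?_)
    refine mul_inv_eq_iff_eq_mul.1 ?_
    set f := fun b : G => w * (w * b * w⁻¹) * w⁻¹ with hfdef
    have e4 : w * w * (w * w) * a * (w * w * (w * w))⁻¹ = f (f a) := by simp only [hfdef]; group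
    rw [e4]
    rcases hpair a haS with e | e
    · simp only [hfdef, e]
    · simp only [hfdef, e]
      rw [← (hf a haS).2, ← (hf _ (hf a haS).1).2, e, (hι a haS).2.2]
  refine mem_normalizer_fintype fun w hw => ?_
  obtain ⟨hwO, -⟩ := (mem_fixSub D).1 hw
  have huJ : Commute u (σ ^ h) := (DihSylow.mem_oddPart.1 hu).1
  refine (mem_fixSub D).2 ⟨hconj u huJ w hwO, ?_⟩
  have ha : u⁻¹ * x * u ∈ DihSylow.invCoset σ h x := by
    refine DihSylow.mem_invCoset.2 ⟨?_, fun e => hx1 ?_, ?_⟩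
    · rw [show u⁻¹ * x * u * (u⁻¹ * x * u) = u⁻¹ * (x * x) * u by group, hx2, mul_one, inv_mul_cancel]
    · calc x = u * (u⁻¹ * x * u) * u⁻¹ := by group
        _ = 1 := by rw [e, mul_one, mul_inv_cancel]
    · rw [show u⁻¹ * x * u * x⁻¹ = u⁻¹ * (x * u * x⁻¹) by group]
      exact hmul _ (hinv u hu) _ (hconj x hxJ u hu)
  have hc := (key w hw _ ha).map (MulAut.conj u).toMonoidHom
  simpa only [MulEquiv.coe_toMonoidHom, MulAut.conj_apply,
    show u * (u⁻¹ * x * u) * u⁻¹ = x by group] using hc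

/-- With `U = W` and `h = 2`, `C_U(στ)` is normalized by `C(J)`. -/
theorem centralizer_le_normalizer_fixSub (g : Gens (P : Subgroup G) n σ τ) (D : DihSylow P σ τ h)
    (hh2 : h = 2) (h5 : (DihSylow.invCoset σ h (σ * τ)).card ≤ 5) :
    centralizer ({σ ^ h} : Set G) ≤ normalizer (fixSub D (σ * τ) : Set G) := by
  obtain ⟨hJ2, -, hJc⟩ := D.central_involution
  have hστn : σ * τ ∉ zpowers σ := fun hm => g.τ_notMem (by
    have := mul_mem (inv_mem (mem_zpowers σ)) hm
    rwa [inv_mul_cancel_left] at this)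
  have hone : ∀ x ∈ (P : Subgroup G), x * (σ * τ) * x⁻¹ = σ ^ h * (σ * τ) →
      x ∈ normalizer (fixSub D (σ * τ) : Set G) := by
    intro x hx he
    refine mem_normalizer_fintype fun y hy => ?_
    obtain ⟨hyO, hyx⟩ := (mem_fixSub D).1 hy
    refine (mem_fixSub D).2 ⟨D.oddPart_spec.2.2.2.1 x (hJc x hx) y hyO, ?_⟩
    have hc := ((DihSylow.mem_oddPart.1 hyO).1.mul_right hyx).map (MulAut.conj x).toMonoidHom
    simp only [MulEquiv.coe_toMonoidHom, MulAut.conj_apply] at hc
    rwa [show x * (σ ^ h * (σ * τ)) * x⁻¹ = (x * σ ^ h * x⁻¹) * (x * (σ * τ) * x⁻¹) by group, he,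
      (hJc x hx).eq, mul_inv_cancel_right, ← mul_assoc, hJ2, one_mul] at hc
  have hσ4 : σ ^ 4 = 1 := by rw [show 4 = orderOf σ by rw [D.orderσ, hh2], pow_orderOf_eq_one]
  have hP : (P : Subgroup G) ≤ normalizer (fixSub D (σ * τ) : Set G) := by
    rw [← g.gen, closure_le]
    rintro x (rfl | rfl)
    · refine hone _ g.σ_mem ?_
      calc x * (x * τ) * x⁻¹ = x * x * (τ * x⁻¹ * τ⁻¹) * τ := by group
        _ = x ^ h * (x * τ) := by rw [D.τ_conj (inv_mem (mem_zpowers x)), inv_inv, hh2, pow_two]; group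
    · refine hone _ g.τ_mem ?_
      calc x * (σ * x) * x⁻¹ = x * σ * x⁻¹ * x := by group
        _ = σ ^ h * (σ * x) := by
          rw [g.rel, hh2, ← mul_assoc, ← pow_succ, show σ⁻¹ = σ ^ 3 from
            inv_eq_of_mul_eq_one_right (by rw [← pow_succ']; exact hσ4)]
  intro z hz
  obtain ⟨x, hx, hzx⟩ := D.oddPart_spec.2.2.2.2.1 z (mem_centralizer_singleton_iff.1 hz)
  have h1 := fixSub_normalized D (mul_mem g.σ_mem g.τ_mem) hστn h5 hzx
  have := mul_mem h1 (hP hx)
  rwa [inv_mul_cancel_right] at this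

variable [Fact (Nat.Prime 2)] {M : Ideal AlgInt}

/-- Four of the five possibilities for a fused maximal overgroup. -/
theorem kill_rows (hG : GWMin G) (h8 : 8 ∣ Nat.card G) (hA : NoOddMax G) (hV : ¬ KleinSelfCentralizing G)
    (g : Gens (P : Subgroup G) n σ τ) (hh : h = 2 ^ (n - 2)) {H : Subgroup G} (hH : IsCoatom H)
    (hC : centralizer ({σ ^ h} : Set G) ≤ H) (hconj : ∃ x ∈ H, x * σ ^ h * x⁻¹ = τ)
    (hM : IsPModular 2 M) (co : Companion M P σ τ h) {W W' : ℕ}
    (hW : W = (DihSylow.oddFix σ h τ).card) (hW' : W' = (DihSylow.oddFix σ h (σ * τ)).card)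
    (hrow : (co.X = 9 ∧ W = W' ∧ H.index = 15) ∨ (co.X = -7 ∧ W = W' ∧ H.index = 7) ∨
      (co.X = -7 ∧ W = 5 * W' ∧ H.index = 63) ∨ (co.X = -15 ∧ W = 3 * W' ∧ H.index = 35)) :
    IsGW G := by
  classical
  have D : DihSylow P σ τ h := hh ▸ g.toDihSylow
  have hJo : orderOf (σ ^ h) = 2 := hh ▸ g.orderOf_center
  haveI := hG.isSimple
  set U := (DihSylow.oddPart σ h).card with hU
  have hW'pos : 0 < W' := by
    rw [hW', ← card_fixSub D]
    exact Nat.card_pos
  have hWpos : 0 < W := by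
    rw [hW, ← card_fixSub D]
    exact Nat.card_pos
  -- the equation
  have heq : Nat.card H * W ^ 2 = 3 * h ^ 3 * U ^ 3 := by
    have hof := co.order_formula D
    rw [← hW, ← hW', ← H.index_mul_card] at hof
    rw [← hU] at hof
    apply Nat.cast_injective (R := ℚ)
    have hq : (W' : ℚ) ≠ 0 := Nat.cast_ne_zero.2 hW'pos.ne'
    rcases hrow with ⟨e1, e2, e3⟩ | ⟨e1, e2, e3⟩ | ⟨e1, e2, e3⟩ | ⟨e1, e2, e3⟩ <;>
    · rw [e1, e2, e3] at hof
      rw [e2]
      push_cast at hof ⊢
      field_simp at hof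
      linarith
  obtain ⟨hh2, hUW, hmv⟩ := fused_local hG h8 hA g hh hH hC hconj (hW ▸ heq)
  have hUW' : W = U := by
    rw [hW, hU]
    congr 1
    ext y
    exact ⟨fun hy => (DihSylow.mem_oddFix.1 hy).1, fun hy => DihSylow.mem_oddFix.2 ⟨hy, hUW y hy⟩⟩
  have hστn : σ * τ ∉ zpowers σ := fun hm => g.τ_notMem (by
    have := mul_mem (inv_mem (mem_zpowers σ)) hm
    rwa [inv_mul_cancel_left] at this)
  have hpc := (D.card_invCoset_mul (mul_mem g.σ_mem g.τ_mem) hστn).1
  rw [← hW', ← hU, ← hUW'] at hpc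
  have h5 : (DihSylow.invCoset σ h (σ * τ)).card ≤ 5 := by
    rcases hrow with ⟨-, e, -⟩ | ⟨-, e, -⟩ | ⟨-, e, -⟩ | ⟨-, e, -⟩ <;>
    · rw [e] at hpc
      refine Nat.le_of_mul_le_mul_right ?_ hW'pos
      omega
  -- the fixed points of `σ τ` are trivial
  set K := fixSub D (σ * τ) with hKdef
  have hK : K = ⊥ := by
    by_contra hK1
    have hCN := centralizer_le_normalizer_fixSub g D hh2 h5
    rw [← hKdef] at hCN
    have hστo : orderOf (σ * τ) = 2 := g.orderOf_mul
    have hne : σ * τ ≠ σ ^ h := fun e => hστn (e ▸ pow_mem (mem_zpowers σ) h)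
    obtain ⟨m, d, hf⟩ := hG.exists_frame h8 hJo hστo hne
      (D.central_involution.2.2 _ (mul_mem g.σ_mem g.τ_mem))
    have hm : m ∈ normalizer (K : Set G) := mem_normalizer_fintype fun y hy => by
      obtain ⟨hyO, hyx⟩ := (mem_fixSub D).1 hy
      have c1 := (DihSylow.mem_oddPart.1 hyO).1.map (MulAut.conj m).toMonoidHom
      have c2 := hyx.map (MulAut.conj m).toMonoidHom
      simp only [MulEquiv.coe_toMonoidHom, MulAut.conj_apply, hf.g1, hf.g2] at c1 c2
      have c3 := c1.inv_right.mul_right c2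
      rw [inv_mul_cancel_left] at c3
      refine (mem_fixSub D).2 ⟨DihSylow.mem_oddPart.2 ⟨c3, ?_⟩, c1⟩
      rw [Cfsg.Lib.Invol.orderOf_conj_eq]
      exact (DihSylow.mem_oddPart.1 hyO).2
    have hNtop : normalizer (K : Set G) ≠ ⊤ := by
      intro e
      haveI : K.Normal := normalizer_eq_top_iff.1 e
      rcases IsSimpleGroup.eq_bot_or_eq_top_of_normal K inferInstance with e' | e'
      · exact hK1 e'
      · have hJK : σ ^ h ∈ K := e' ▸ mem_top _
        have := (DihSylow.mem_oddPart.1 ((mem_fixSub D).1 hJK).1).2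
        rw [hJo] at this
        exact absurd this (by decide)
    have hle : ∀ e : W = W', False := by
      intro e
      have hKU : ∀ y ∈ DihSylow.oddPart σ h, y ∈ K := by
        intro y hy
        have hs : DihSylow.oddFix σ h (σ * τ) = DihSylow.oddPart σ h :=
          Finset.eq_of_subset_of_card_le (fun z hz => (DihSylow.mem_oddFix.1 hz).1)
            (by rw [← hW', ← e, hUW', hU])
        exact (mem_fixSub D).2 (DihSylow.mem_oddFix.1 (hs.symm ▸ hy))
      have hHN : H ≤ normalizer (K : Set G) := fun a ha => mem_normalizer_fintype fun y hy => by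
        obtain ⟨hyO, -⟩ := (mem_fixSub D).1 hy
        obtain ⟨hyJ, hyodd⟩ := DihSylow.mem_oddPart.1 hyO
        refine hKU _ (DihSylow.mem_oddPart.2 ⟨?_, by rw [Cfsg.Lib.Invol.orderOf_conj_eq]; exact hyodd⟩)
        have hc : Commute y (a⁻¹ * σ ^ h * a) := by
          have := hmv a⁻¹ (inv_mem ha)
          rw [inv_inv] at this
          rcases this with e' | e' | e' <;> rw [e']
          exacts [hyJ, hUW y hyO, hyJ.mul_right (hUW y hyO)]
        have := hc.map (MulAut.conj a).toMonoidHom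
        simpa only [MulEquiv.coe_toMonoidHom, MulAut.conj_apply,
          show a * (a⁻¹ * σ ^ h * a) * a⁻¹ = σ ^ h by group] using this
      have hHe : normalizer (K : Set G) = H := by
        rcases hHN.lt_or_eq with h' | h'
        · exact absurd (hH.2 _ h') hNtop
        · exact h'.symm
      exact unfused hG h8 g hh hH.1 hC hconj m (hHe ▸ hm) hf.g1
    rcases hrow with ⟨-, e, -⟩ | ⟨-, e, -⟩ | hrest
    · exact hle e
    · exact hle e
    -- the roles of `τ` and `σ τ` interchanged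
    have g' : Gens (P : Subgroup G) n σ (σ * τ) := by
      refine ⟨g.three_le, g.σ_mem, mul_mem g.σ_mem g.τ_mem, g.orderOf_σ, hστo, ?_, ?_⟩
      · rw [show σ * τ * σ * (σ * τ)⁻¹ = σ * (τ * σ * τ⁻¹) * σ⁻¹ by group, g.rel, mul_inv_cancel, one_mul]
      · refine le_antisymm ((closure_le _).2 ?_) ?_
        · rintro y (rfl | rfl)
          exacts [g.σ_mem, mul_mem g.σ_mem g.τ_mem]
        · rw [← g.gen, closure_le]
          rintro y (rfl | rfl)
          · exact subset_closure (by simp)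
          · have := mul_mem (inv_mem (subset_closure (show σ ∈ ({σ, σ * y} : Set G) by simp)))
              (subset_closure (show σ * y ∈ ({σ, σ * y} : Set G) by simp))
            rwa [inv_mul_cancel_left] at this
    have D' : DihSylow P σ (σ * τ) h := hh ▸ g'.toDihSylow
    obtain ⟨co'⟩ := exists_companion hM D' (fun a ha ha1 => hG.oneClass _ _ hJo
      (orderOf_eq_prime (by rw [pow_two, ha]) ha1))
    have hfix : DihSylow.oddFix σ h (σ * (σ * τ)) = DihSylow.oddFix σ h τ := by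
      have he : σ * (σ * τ) = σ ^ h * τ := by rw [hh2, pow_two, mul_assoc]
      ext y
      simp only [DihSylow.mem_oddFix, he]
      refine and_congr_right fun hy => ⟨fun hc => ?_, fun hc => ?_⟩
      · have := (DihSylow.mem_oddPart.1 hy).1.inv_right.mul_right hc
        rwa [inv_mul_cancel_left] at this
      · exact (DihSylow.mem_oddPart.1 hy).1.mul_right hc
    obtain ⟨-, hcases⟩ := fused_cases hG h8 g' hh hNtop hCN ⟨m, hm, hf.g1⟩ hM co' hW' (hfix.symm ▸ hW)
    rcases hrest with ⟨-, e, -⟩ | ⟨-, e, -⟩ <;>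
      rcases hcases with ⟨-, e', -⟩ | ⟨-, e', -⟩ | ⟨-, e', -⟩ | ⟨-, e', -⟩ | ⟨-, e', -⟩ <;> omega
  have hW'1 : W' = 1 := by
    rw [hW', ← card_fixSub D, ← hKdef, hK, card_bot]
  have hU1 : (W = W' → False) := fun e => by
    apply hV
    by_contra hnV
    obtain ⟨V, hVK, w, hw, hw1, hwodd⟩ := exists_odd_centralizing hG.twoCycDih hnV
    haveI := hVK
    haveI : Finite V := IsKleinFour.instFinite
    obtain ⟨v, hv, hv1⟩ : ∃ v ∈ V, v ≠ 1 := (bot_or_exists_ne_one V).resolve_left fun e' => by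
      have := hVK.card_four
      rw [e', card_bot] at this
      omega
    obtain ⟨m, hm⟩ := isConj_iff.1 (hG.oneClass v _
      (orderOf_eq_prime (by rw [pow_two]; exact Cfsg.Lib.Invol.klein_mul_self hv) hv1) hJo)
    have hmem : m * w * m⁻¹ ∈ DihSylow.oddPart σ h := DihSylow.mem_oddPart.2
      ⟨by
        have := (show Commute w v from (mem_centralizer_iff.1 hw v hv).symm).map (MulAut.conj m).toMonoidHom
        simpa only [MulEquiv.coe_toMonoidHom, MulAut.conj_apply, hm] using this,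
        by rw [Cfsg.Lib.Invol.orderOf_conj_eq]; exact hwodd⟩
    have hc1 : (DihSylow.oddPart σ h).card ≤ 1 := by rw [← hU, ← hUW', e, hW'1]
    exact hw1 (conj_eq_one_iff.1 (Finset.card_le_one.1 hc1 _ hmem _ D.oddPart_spec.1))
  rcases hrow with ⟨-, e, -⟩ | ⟨-, e, -⟩ | ⟨-, e, e3⟩ | ⟨-, e, e3⟩
  · exact (hU1 e).elim
  · exact (hU1 e).elim
  · -- index 63
    exfalso
    rw [← hUW', e, hW'1, hh2] at heq
    norm_num [-Nat.card_eq_fintype_card] at heq
    have hcardH : Nat.card H = 120 := by omega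
    let Q : Subgroup G := fixSub D τ
    have hQ : Nat.card Q = 5 := by rw [card_fixSub, ← hW, e, hW'1]
    haveI : Fact (Nat.Prime 5) := ⟨by norm_num⟩
    have hGc : Nat.card G = 7560 := by rw [← H.index_mul_card, e3, hcardH]
    have hQi : ¬ 5 ∣ Q.index := by
      have := Q.card_mul_index
      rw [hQ, hGc] at this
      rw [show Q.index = 1512 by omega]
      norm_num
    have hQp : IsPGroup 5 Q := IsPGroup.of_card (n := 1) (by rw [hQ, pow_one])
    have hHN : H ≤ normalizer (Q : Set G) := fun a ha => mem_normalizer_fintype fun y hy => by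
      obtain ⟨hyO, -⟩ := (mem_fixSub D).1 hy
      obtain ⟨hyJ, hyodd⟩ := DihSylow.mem_oddPart.1 hyO
      have hc : Commute y (a⁻¹ * σ ^ h * a) := by
        have := hmv a⁻¹ (inv_mem ha)
        rw [inv_inv] at this
        rcases this with e' | e' | e' <;> rw [e']
        exacts [hyJ, hUW y hyO, hyJ.mul_right (hUW y hyO)]
      have hc' := hc.map (MulAut.conj a).toMonoidHom
      simp only [MulEquiv.coe_toMonoidHom, MulAut.conj_apply,
        show a * (a⁻¹ * σ ^ h * a) * a⁻¹ = σ ^ h by group] at hc'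
      have hmem : a * y * a⁻¹ ∈ DihSylow.oddPart σ h := DihSylow.mem_oddPart.2
        ⟨hc', by rw [Cfsg.Lib.Invol.orderOf_conj_eq]; exact hyodd⟩
      exact (mem_fixSub D).2 ⟨hmem, hUW _ hmem⟩
    have hNt : normalizer (Q : Set G) ≠ ⊤ := fun e' => by
      haveI : Q.Normal := normalizer_eq_top_iff.1 e'
      rcases IsSimpleGroup.eq_bot_or_eq_top_of_normal Q inferInstance with h' | h'
      · rw [h', card_bot] at hQ; omega
      · rw [h', card_top, hGc] at hQ; omega
    have hNH : normalizer (Q : Set G) = H := by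
      rcases hHN.lt_or_eq with h' | h'
      · exact absurd (hH.2 _ h') hNt
      · exact h'.symm
    have h1 := card_sylow_modEq_one 5 G
    rw [Sylow.card_eq_index_normalizer (hQp.toSylow hQi), (show ((hQp.toSylow hQi : Sylow 5 G) : Set G) = (Q : Set G) from Set.ext fun _ => IsPGroup.mem_toSylow _ _), hNH, e3] at h1
    exact absurd h1 (by decide)
  · rw [← hUW', e, hW'1, hh2] at heq
    norm_num [-Nat.card_eq_fintype_card] at heq
    have hcardH : Nat.card H = 72 := by omega
    exact Or.inr (Cfsg.Agent.S0984.result (by rw [← H.index_mul_card, e3, hcardH]))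

end Cfsg.Lib.GW.Fused
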