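import Cfsg.Agent.Lib.GW.Min
import Cfsg.Agent.Lib.GW.InvAct

/-!
# Gorenstein–Walter: maximal overgroups of the centralizer of an involution

`OddMax t M`: `M` is maximal, contains `C(t)` and has no component and an odd Fitting subgroup.
`Unfused t u M`: `u` is an involution commuting with `t` and not conjugate to it in `M`.
`Frame t u g d`: `g` and `d` induce all permutations of the four group generated by `t` and `u`.
-/

set_option autoImplicit false
set_option linter.style.haveILetI false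

namespace Cfsg.Lib.GW

open Subgroup

universe u

variable {G : Type u} [Group G] [Finite G]

/-- A maximal overgroup of `C(t)` without components and with Fitting subgroup of odd order. -/
structure OddMax (t : G) (M : Subgroup G) : Prop where
  ht : orderOf t = 2
  hM : IsCoatom M
  hC : centralizer ({t} : Set G) ≤ M
  layer : Cfsg.layer M = ⊥
  odd : Odd (Nat.card (Cfsg.fittingSubgroup M))

/-- An involution commuting with `t` and not conjugate to it in `M`. -/
def Unfused (t u : G) (M : Subgroup G) : Prop :=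
  orderOf u = 2 ∧ Commute u t ∧ ∀ m ∈ M, m * t * m⁻¹ ≠ u

/-- `g` cycles `t`, `u`, `u * t` and `d` fixes `t` and interchanges the other two. -/
structure Frame (t u g d : G) : Prop where
  g1 : g * t * g⁻¹ = u
  g2 : g * u * g⁻¹ = u * t
  d1 : Commute d t
  d2 : d * u * d⁻¹ = u * t

omit [Finite G] in
theorem mem_of_commute {t x : G} {M : Subgroup G} (hC : centralizer ({t} : Set G) ≤ M) (h : Commute x t) :
    x ∈ M := hC (mem_centralizer_singleton_iff.2 h.eq)

omit [Finite G] in
theorem Unfused.ne {t u : G} {M : Subgroup G} (h : Unfused t u M) : u ≠ t := fun e =>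
  h.2.2 1 (one_mem M) (by simp [e])

omit [Finite G] in
theorem Frame.g3 {t u g d : G} (h : Frame t u g d) (hc : Commute u t) (hu : u * u = 1) :
    g * (u * t) * g⁻¹ = t := by
  rw [show g * (u * t) * g⁻¹ = (g * u * g⁻¹) * (g * t * g⁻¹) by group, h.g2, h.g1, hc.eq, mul_assoc, hu,
    mul_one]

omit [Finite G] in
theorem Frame.d3 {t u g d : G} (h : Frame t u g d) (ht : t * t = 1) :
    d * (u * t) * d⁻¹ = u := by
  rw [show d * (u * t) * d⁻¹ = (d * u * d⁻¹) * (d * t * d⁻¹) by group, h.d2, h.d1.eq,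
    mul_inv_cancel_right, mul_assoc, ht, mul_one]

omit [Finite G] in
theorem Frame.g_notMem {t u g d : G} {M : Subgroup G} (h : Frame t u g d) (hu : Unfused t u M) : g ∉ M :=
  fun hg => hu.2.2 g hg h.g1

omit [Finite G] in
/-- The conjugate of an overgroup of `C(t)` depends only on the conjugate of `t`. -/
theorem map_conj_eq_of_conj_eq {t h k : G} {M : Subgroup G} (hC : centralizer ({t} : Set G) ≤ M)
    (he : h * t * h⁻¹ = k * t * k⁻¹) :
    M.map (MulAut.conj h).toMonoidHom = M.map (MulAut.conj k).toMonoidHom := by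
  have hc : k⁻¹ * h ∈ M := by
    refine mem_of_commute hC ?_
    show k⁻¹ * h * t = t * (k⁻¹ * h)
    calc k⁻¹ * h * t = k⁻¹ * (h * t * h⁻¹) * h := by group
      _ = k⁻¹ * (k * t * k⁻¹) * h := by rw [he]
      _ = _ := by group
  ext x
  simp only [mem_map, MulEquiv.coe_toMonoidHom, MulAut.conj_apply]
  constructor
  · rintro ⟨m, hm, rfl⟩
    exact ⟨k⁻¹ * h * m * (k⁻¹ * h)⁻¹, mul_mem (mul_mem hc hm) (inv_mem hc), by group⟩
  · rintro ⟨m, hm, rfl⟩
    exact ⟨(k⁻¹ * h)⁻¹ * m * (k⁻¹ * h), mul_mem (mul_mem (inv_mem hc) hm) hc, by group⟩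

omit [Finite G] in
theorem centralizer_le_map_conj {t v h : G} {M : Subgroup G} (hC : centralizer ({t} : Set G) ≤ M)
    (hv : h * t * h⁻¹ = v) : centralizer ({v} : Set G) ≤ M.map (MulAut.conj h).toMonoidHom := by
  intro x hx
  refine ⟨h⁻¹ * x * h, mem_of_commute hC ?_, by simp [mul_assoc]⟩
  have h1 := mem_centralizer_singleton_iff.1 hx
  rw [← hv] at h1
  show h⁻¹ * x * h * t = t * (h⁻¹ * x * h)
  calc h⁻¹ * x * h * t = h⁻¹ * (x * (h * t * h⁻¹)) * h := by group
    _ = h⁻¹ * (h * t * h⁻¹ * x) * h := by rw [h1]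
    _ = _ := by group

/-- A 2-element centralizing a four group lies in it. -/
theorem mem_klein_of_centralizes (hD : TwoCycDih G) {V : Subgroup G} (hV : IsKleinFour V) {s : G}
    (hs : s ∈ centralizer (V : Set G)) {k : ℕ} (hk : s ^ 2 ^ k = 1) : s ∈ V := by
  haveI : Fact (Nat.Prime 2) := ⟨Nat.prime_two⟩
  set C := centralizer (V : Set G)
  have hp : IsPGroup 2 (zpowers (⟨s, hs⟩ : C)) := by
    rintro ⟨x, j, rfl⟩
    refine ⟨k, Subtype.ext (Subtype.ext ?_)⟩
    simp only [SubmonoidClass.coe_pow, SubgroupClass.coe_zpow, OneMemClass.coe_one]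
    rw [← zpow_natCast, zpow_comm, zpow_natCast, hk, one_zpow]
  obtain ⟨P, hP⟩ := hp.exists_le_sylow
  rw [← klein_sylow_centralizer hD V hV P]
  exact ⟨⟨s, hs⟩, hP (mem_zpowers _), rfl⟩

namespace GWMin

variable (hG : GWMin G)
include hG

/-- A four group and a Sylow 2-subgroup containing it in which a given involution of it is central. -/
theorem exists_sylow_pair' {t u : G} (ht : orderOf t = 2) (hu : orderOf u = 2) (hc : Commute u t) :
    ∃ T : Sylow 2 G, u ∈ (T : Subgroup G) ∧ t ∈ (T : Subgroup G) ∧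
      ∀ x ∈ (T : Subgroup G), x * t = t * x := by
  haveI : Fact (Nat.Prime 2) := ⟨Nat.prime_two⟩
  set C := centralizer ({t} : Set G) with hC
  obtain ⟨S, htS, htZ⟩ := hG.exists_sylow_central ht
  have hSC : (S : Subgroup G) ≤ C := fun x hx => mem_centralizer_singleton_iff.2 (htZ x hx)
  let uC : C := ⟨u, mem_centralizer_singleton_iff.2 hc.eq⟩
  have hp : IsPGroup 2 (zpowers uC) := IsPGroup.of_card (n := 1)
    (by rw [Nat.card_zpowers, pow_one, ← orderOf_coe]; exact hu)
  obtain ⟨T₀, hT₀⟩ := hp.exists_le_sylow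
  obtain ⟨c, hc'⟩ := MulAction.exists_smul_eq C (S.subtype hSC) T₀
  refine ⟨(c : G) • S, ?_, ?_, fun x hx => ?_⟩
  · have h1 : uC ∈ (T₀ : Subgroup C) := hT₀ (mem_zpowers uC)
    rw [← hc', Sylow.coe_subgroup_smul, Subgroup.mem_smul_pointwise_iff_exists] at h1
    obtain ⟨z, hz, hzs⟩ := h1
    rw [Sylow.coe_subgroup_smul, Subgroup.mem_smul_pointwise_iff_exists]
    exact ⟨(z : G), hz, congrArg Subtype.val hzs⟩
  · rw [Sylow.coe_subgroup_smul, Subgroup.mem_smul_pointwise_iff_exists]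
    exact ⟨t, htS, by
      show (c : G) * t * (c : G)⁻¹ = t
      rw [mem_centralizer_singleton_iff.1 c.2, mul_inv_cancel_right]⟩
  · rw [Sylow.coe_subgroup_smul, Subgroup.mem_smul_pointwise_iff_exists] at hx
    obtain ⟨z, hz, rfl⟩ := hx
    exact mem_centralizer_singleton_iff.1 (mul_mem (mul_mem c.2 (hSC hz)) (inv_mem c.2))

/-- `u` is conjugate to `u * t` in the centralizer of `t`. -/
theorem exists_swap' (h8 : 8 ∣ Nat.card G) {t u : G} (ht : orderOf t = 2) (hu : orderOf u = 2)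
    (hne : u ≠ t) (hc : Commute u t) : ∃ s : G, Commute s t ∧ s * u * s⁻¹ = u * t := by
  haveI : Fact (Nat.Prime 2) := ⟨Nat.prime_two⟩
  obtain ⟨V, hVK, huV, htV, -⟩ := Cfsg.Agent.S1255.exists_four
    (by rw [← sq, ← hu, pow_orderOf_eq_one]) (by rw [← sq, ← ht, pow_orderOf_eq_one])
    (Cfsg.Lib.Invol.ne_one hu) (Cfsg.Lib.Invol.ne_one ht) hne hc.eq
  haveI := hVK
  obtain ⟨T, huT, htT, htZ⟩ := hG.exists_sylow_pair' ht hu hc
  have cases4 : ∀ {w}, w ∈ V → w ≠ 1 → w = u ∨ w = t ∨ w = u * t := fun hw h1 =>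
    Cfsg.Lib.Invol.klein_mem_cases huV htV (Cfsg.Lib.Invol.ne_one hu) (Cfsg.Lib.Invol.ne_one ht) hne hw h1
  have hVT : V ≤ (T : Subgroup G) := by
    intro w hw
    by_cases hw1 : w = 1
    · rw [hw1]; exact one_mem _
    rcases cases4 hw hw1 with rfl | rfl | rfl
    · exact huT
    · exact htT
    · exact mul_mem huT htT
  haveI : Group.IsNilpotent (T : Subgroup G) := T.2.isNilpotent
  have hlt : V.subgroupOf (T : Subgroup G) < ⊤ := by
    refine lt_top_iff_ne_top.2 fun h => ?_
    rw [subgroupOf_eq_top] at h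
    have h2 := Nat.le_of_dvd Nat.card_pos
      ((T.pow_dvd_card_of_pow_dvd_card (n := 3) (by simpa using h8)).trans (card_dvd_of_le h))
    rw [IsKleinFour.card_four] at h2
    omega
  obtain ⟨s, hs, hsV⟩ := SetLike.exists_of_lt (Group.normalizerCondition_of_isNilpotent _ hlt)
  refine ⟨(s : G), htZ s s.2, ?_⟩
  have hsu : (s : G) * u * (s : G)⁻¹ ∈ V := (mem_normalizer_iff.1 hs ⟨u, huT⟩).1 huV
  have hne1 : (s : G) * u * (s : G)⁻¹ ≠ 1 := fun h =>
    Cfsg.Lib.Invol.ne_one hu (by simpa using conj_eq_one_iff.1 h)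
  rcases cases4 hsu hne1 with h | h | h
  · exfalso
    obtain ⟨k, hk⟩ := T.2 s
    refine hsV (mem_subgroupOf.2 (mem_klein_of_centralizes hG.twoCycDih hVK
      (mem_centralizer_iff.2 fun w hw => ?_) (k := k) (by simpa using congrArg Subtype.val hk)))
    have hsu' : Commute (s : G) u := mul_inv_eq_iff_eq_mul.1 h
    have hst : Commute (s : G) t := htZ s s.2
    by_cases hw1 : w = 1
    · simp [hw1]
    rcases cases4 hw hw1 with rfl | rfl | rfl
    · exact hsu'.symm.eq
    · exact hst.symm.eq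
    · exact (hsu'.mul_right hst).symm.eq
  · exfalso
    apply hne
    rw [mul_inv_eq_iff_eq_mul, ← (show Commute (s : G) t from htZ s s.2).eq] at h
    exact mul_left_cancel h
  · exact h

/-- All permutations of a four group are induced. -/
theorem exists_frame (h8 : 8 ∣ Nat.card G) {t u : G} (ht : orderOf t = 2) (hu : orderOf u = 2)
    (hne : u ≠ t) (hc : Commute u t) : ∃ g d : G, Frame t u g d := by
  obtain ⟨d, hd1, hd2⟩ := hG.exists_swap' h8 ht hu hne hc
  obtain ⟨e, he1, he2⟩ := hG.exists_swap' h8 hu ht hne.symm hc.symm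
  have htt : t * t = 1 := by rw [← sq, ← ht, pow_orderOf_eq_one]
  have hdt : d * t * d⁻¹ = t := by rw [hd1.eq, mul_inv_cancel_right]
  have heu : e * u * e⁻¹ = u := by rw [he1.eq, mul_inv_cancel_right]
  have hdw : d * (u * t) * d⁻¹ = u := by
    rw [show d * (u * t) * d⁻¹ = (d * u * d⁻¹) * (d * t * d⁻¹) by group, hd2, hdt, mul_assoc, htt, mul_one]
  have huu : u * u = 1 := by rw [← sq, ← hu, pow_orderOf_eq_one]
  have hew : e * (u * t) * e⁻¹ = t := by
    rw [show e * (u * t) * e⁻¹ = (e * u * e⁻¹) * (e * t * e⁻¹) by group, heu, he2, hc.symm.eq,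
      ← mul_assoc, huu, one_mul]
  refine ⟨(e * d)⁻¹, d, ⟨?_, ?_, hd1, hd2⟩⟩
  · have h : (e * d) * u * (e * d)⁻¹ = t := by
      rw [show (e * d) * u * (e * d)⁻¹ = e * (d * u * d⁻¹) * e⁻¹ by group, hd2, hew]
    rw [← h]; group
  · have h : (e * d) * (u * t) * (e * d)⁻¹ = u := by
      rw [show (e * d) * (u * t) * (e * d)⁻¹ = e * (d * (u * t) * d⁻¹) * e⁻¹ by group, hdw, heu]
    calc (e * d)⁻¹ * u * (e * d)⁻¹⁻¹ = (e * d)⁻¹ * ((e * d) * (u * t) * (e * d)⁻¹) * (e * d) := by
          rw [h]; group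
      _ = u * t := by group

end GWMin

end Cfsg.Lib.GW
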