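import Cfsg.Agent.Lib.GW.FusedOvergroup
import Cfsg.Agent.Lib.GW.FusedComponent
import Cfsg.Agent.Lib.GW.CaseTwoParts
import Cfsg.Agent.Lib.GW.OvergroupBase

/-!
# Gorenstein–Walter: the local structure of a fused maximal overgroup

When `|H| W² = 3 h³ |U|³` the overgroup `H` normalizes the four group `⟨J, τ⟩`, the Sylow 2-subgroups have
order `8` and `U` centralizes `τ`.
-/

set_option autoImplicit false
set_option linter.unusedSectionVars false
set_option linter.style.haveILetI false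
set_option maxHeartbeats 800000

namespace Cfsg.Lib.GW.Fused

open Subgroup
open Cfsg.Lib.Block

universe u

variable {G : Type u} [Group G]

/-- The second class of reflections is not fused with the central involution. -/
theorem unfused [Finite G] {P : Sylow 2 G} {n : ℕ} {σ τ : G} (hG : GWMin G) (h8 : 8 ∣ Nat.card G)
    (g : Gens (P : Subgroup G) n σ τ) {h : ℕ} (hh : h = 2 ^ (n - 2)) {H : Subgroup G} (hH : H ≠ ⊤)
    (hC : centralizer ({σ ^ h} : Set G) ≤ H) (hconj : ∃ x ∈ H, x * σ ^ h * x⁻¹ = τ) :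
    ∀ m ∈ H, m * σ ^ h * m⁻¹ ≠ σ * τ := by
  subst hh
  obtain ⟨hne, -, -⟩ := hG.index_fused h8 g hH hC
  have hPH : (P : Subgroup G) ≤ H := g.le_centralizer.trans hC
  have gH : Gens ((P.subtype hPH : Sylow 2 H) : Subgroup H) n ⟨σ, hPH g.σ_mem⟩ ⟨τ, hPH g.τ_mem⟩ := by
    rw [Sylow.coe_subtype]
    exact g.subgroupOf _ _
  obtain ⟨x, hx, hxe⟩ := hconj
  have hcH : IsConj ((⟨σ, hPH g.σ_mem⟩ : H) ^ (2 ^ (n - 2))) ⟨τ, hPH g.τ_mem⟩ :=
    isConj_iff.2 ⟨⟨x, hx⟩, Subtype.ext hxe⟩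
  obtain ⟨N, h2, hτN, -⟩ := exists_index_two_oneClass gH hcH hne
  haveI := normal_of_index_eq_two h2
  have hσN := σ_notMem_of_index_two gH h2 hτN
  intro m hm he
  have hmem : (⟨m, hm⟩ * (⟨x, hx⟩ : H)⁻¹) * ⟨τ, hPH g.τ_mem⟩ * (⟨m, hm⟩ * (⟨x, hx⟩ : H)⁻¹)⁻¹ ∈ N :=
    ‹N.Normal›.conj_mem _ hτN _
  rw [show (⟨m, hm⟩ * (⟨x, hx⟩ : H)⁻¹) * ⟨τ, hPH g.τ_mem⟩ * (⟨m, hm⟩ * (⟨x, hx⟩ : H)⁻¹)⁻¹ =
      (⟨σ, hPH g.σ_mem⟩ : H) * ⟨τ, hPH g.τ_mem⟩ from Subtype.ext (by
    show m * x⁻¹ * τ * (m * x⁻¹)⁻¹ = σ * τ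
    rw [← he, ← hxe]; group)] at hmem
  exact hσN ((Subgroup.mul_mem_cancel_right _ hτN).1 hmem)

variable [Fintype G] [Fact (Nat.Prime 2)] {P : Sylow 2 G} {n : ℕ} {σ τ : G}

/-- No component: the normal four group. -/
theorem four_of_layer_eq_bot (hG : GWMin G) (h8 : 8 ∣ Nat.card G) (hA : NoOddMax G)
    (g : Gens (P : Subgroup G) n σ τ) {h : ℕ} (hh : h = 2 ^ (n - 2)) {H : Subgroup G} (hH : IsCoatom H)
    (hC : centralizer ({σ ^ h} : Set G) ≤ H) (hconj : ∃ x ∈ H, x * σ ^ h * x⁻¹ = τ)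
    (hl : Cfsg.layer ↥H = ⊥) :
    h = 2 ∧ (∀ y ∈ DihSylow.oddPart σ h, Commute y τ) ∧
      ∀ m ∈ H, m * σ ^ h * m⁻¹ = σ ^ h ∨ m * σ ^ h * m⁻¹ = τ ∨ m * σ ^ h * m⁻¹ = σ ^ h * τ := by
  have hun := unfused hG h8 g hh hH.1 hC hconj
  have D : DihSylow P σ τ h := hh ▸ g.toDihSylow
  have hJo : orderOf (σ ^ h) = 2 := hh ▸ g.orderOf_center
  obtain ⟨hJ2, hJ1, hJc⟩ := D.central_involution
  obtain ⟨x, hx, hxe⟩ := hconj
  have hPH : (P : Subgroup G) ≤ H := D.le_centralizer_central.trans hC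
  have hστ : orderOf (σ * τ) = 2 := g.orderOf_mul
  have hστP : σ * τ ∈ (P : Subgroup G) := mul_mem g.σ_mem g.τ_mem
  have hστc : Commute (σ * τ) (σ ^ h) := hJc _ hστP
  have hne : σ * τ ≠ σ ^ h := fun e => by
    refine g.τ_notMem ?_
    have h1 := mul_mem (inv_mem (mem_zpowers σ)) (pow_mem (mem_zpowers σ) h)
    rwa [← e, inv_mul_cancel_left] at h1
  -- the normal two-subgroup is not trivial
  have hQ : Cfsg.pCore 2 H ≠ ⊥ := by
    intro hQ
    refine hA (σ ^ h) H hJo hH hC hl ?_ (σ * τ) hστ hστc hne hun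
    haveI := Cfsg.Lib.Core.fittingSubgroup_isNilpotent H
    rw [← Nat.coprime_two_left, Nat.prime_two.coprime_iff_not_dvd]
    intro h2
    obtain ⟨R⟩ : Nonempty (Sylow 2 (Cfsg.fittingSubgroup H)) := inferInstance
    have hRn : (R : Subgroup (Cfsg.fittingSubgroup H)).Normal :=
      Sylow.normal_of_normalizerCondition Group.normalizerCondition_of_isNilpotent R
    haveI := R.characteristic_of_normal hRn
    haveI := Cfsg.Lib.Core.fittingSubgroup_normal' H
    have hle := Cfsg.Lib.Core.le_pCore' (p := 2)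
      (Cfsg.Lib.Core.normal_map_char_of_normal (R : Subgroup (Cfsg.fittingSubgroup H))) (R.2.map _)
    rw [hQ, le_bot_iff, map_eq_bot_iff_of_injective _ (Cfsg.fittingSubgroup H).subtype_injective] at hle
    exact R.ne_bot_of_dvd_card h2 hle
  set Q : Subgroup G := (Cfsg.pCore 2 H).map H.subtype with hQdef
  have hQH : Q ≤ H := map_subtype_le _
  have hQP : Q ≤ (P : Subgroup G) := by
    rintro _ ⟨q, hq, rfl⟩
    exact Cfsg.Lib.Core.pCore_le_sylow (P.subtype hPH) hq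
  have hQc : ∀ m ∈ H, ∀ q ∈ Q, m * q * m⁻¹ ∈ Q := by
    rintro m hm _ ⟨q, hq, rfl⟩
    exact ⟨⟨m, hm⟩ * q * ⟨m, hm⟩⁻¹, Subgroup.Normal.conj_mem inferInstance _ hq _, rfl⟩
  -- the central involution
  have hJQ : σ ^ h ∈ Q := by
    set R : Subgroup (P : Subgroup G) := Q.subgroupOf (P : Subgroup G)
    haveI hRn : R.Normal := ⟨fun q hq s => mem_subgroupOf.2 (by
      simpa using hQc s (hPH s.2) _ (mem_subgroupOf.1 hq))⟩
    have hR1 : R ≠ ⊥ := fun e => hQ ((map_eq_bot_iff_of_injective _ H.subtype_injective).1 (by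
      rw [← hQdef, eq_bot_iff]
      intro q hq
      have hm : (⟨q, hQP hq⟩ : (P : Subgroup G)) ∈ R := mem_subgroupOf.2 hq
      rw [e, mem_bot] at hm
      exact mem_bot.2 (congrArg Subtype.val hm)))
    obtain ⟨⟨z, hzP⟩, hz, hz1⟩ := (bot_or_exists_ne_one _).resolve_left
      (Cfsg.Lib.PGroup.inf_center_ne_bot P.isPGroup' (N := R) hR1)
    have hzJ : z = σ ^ h := hG.central_unique h8 P hzP (fun e => hz1 (Subtype.ext e))
      (fun y hy => congrArg Subtype.val (mem_center_iff.1 hz.2 ⟨y, hy⟩)) (pow_mem g.σ_mem h) hJ1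
      (fun y hy => (hJc y hy).eq)
    exact hzJ ▸ mem_subgroupOf.1 hz.1
  have hτQ : τ ∈ Q := hxe ▸ hQc x hx _ hJQ
  -- elements of larger order are in the cyclic part, which is not normalized
  have hout : ∀ q ∈ Q, q ∈ zpowers σ → ∀ i : ℕ, q ^ i = σ ^ h → q * q = 1 := by
    intro q hq hqσ i hi
    by_contra hqq
    have hq' : x * q * x⁻¹ ∈ (P : Subgroup G) := hQP (hQc x hx q hq)
    by_cases hz : x * q * x⁻¹ ∈ zpowers σ
    · refine g.τ_notMem ?_
      rw [← hxe, ← hi, ← conj_pow]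
      exact pow_mem hz i
    · refine hqq ?_
      have h1 := D.sq_outside hq' hz
      rw [show x * q * x⁻¹ * (x * q * x⁻¹) = x * (q * q) * x⁻¹ by group] at h1
      exact conj_eq_one_iff.1 h1
  have hσ2 : σ ^ 2 ∈ Q := by
    have h1 : σ * τ * σ⁻¹ * τ⁻¹ ∈ Q := mul_mem (hQc σ (hPH g.σ_mem) τ hτQ) (inv_mem hτQ)
    rwa [show σ * τ * σ⁻¹ * τ⁻¹ = σ * (τ * σ⁻¹ * τ⁻¹) by group, D.τ_conj (inv_mem (mem_zpowers σ)),
      inv_inv, ← pow_two] at h1
  have hev := D.even
  have hh2 : h = 2 := by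
    by_contra hne2
    obtain ⟨i, hi⟩ := hev
    have h1 := hout _ hσ2 (pow_mem (mem_zpowers σ) 2) i (by rw [← pow_mul]; congr 1; omega)
    rw [← pow_add] at h1
    have h2 := Nat.le_of_dvd (by norm_num) (orderOf_dvd_of_pow_eq_one h1)
    rw [D.orderσ] at h2
    have := D.two_le
    omega
  have hσQ : σ ∉ Q := fun hm => by
    have h1 := hout σ hm (mem_zpowers σ) h rfl
    rw [← pow_two] at h1
    have h2 := Nat.le_of_dvd (by norm_num) (orderOf_dvd_of_pow_eq_one h1)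
    rw [D.orderσ] at h2
    omega
  have hQinv : ∀ q ∈ Q, orderOf q = 2 → q = σ ^ h ∨ q = τ ∨ q = σ ^ h * τ := by
    intro q hq hqo
    rcases involution_cases g (hQP hq) hqo with e | ⟨i, e⟩
    · exact Or.inl (hh ▸ e)
    · have hi : σ ^ i ∈ Q := by
        have := mul_mem hq (inv_mem hτQ)
        rwa [e, mul_inv_cancel_right] at this
      rcases Int.even_or_odd' i with ⟨k, rfl | rfl⟩
      · rw [zpow_mul] at e hi
        rw [hh2]
        have h4 : (σ ^ (2 : ℤ)) ^ 2 = 1 := by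
          rw [zpow_two, ← pow_two, ← pow_mul, show 2 * 2 = orderOf σ by rw [D.orderσ, hh2],
            pow_orderOf_eq_one]
        rcases Int.even_or_odd' k with ⟨l, rfl | rfl⟩
        · right; left
          rw [e, zpow_mul, show ((σ ^ (2 : ℤ)) ^ (2 : ℤ)) = 1 by exact_mod_cast h4, one_zpow, one_mul]
        · right; right
          rw [e, zpow_add, zpow_mul, show ((σ ^ (2 : ℤ)) ^ (2 : ℤ)) = 1 by exact_mod_cast h4, one_zpow,
            one_mul, zpow_one, zpow_two, ← pow_two]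
      · exfalso
        refine hσQ ?_
        rw [zpow_add, zpow_one, zpow_mul] at hi
        refine (Q.mul_mem_cancel_left ?_).1 hi
        exact zpow_mem (by rw [zpow_two, ← pow_two]; exact hσ2) k
  refine ⟨hh2, fun y hy => ?_, fun m hm => ?_⟩
  · obtain ⟨hyJ, hyodd⟩ := DihSylow.mem_oddPart.1 hy
    have hyH : y ∈ H := hC (mem_centralizer_singleton_iff.2 hyJ.eq)
    have hmove : ∀ z ∈ Q, orderOf z = 2 → z ≠ σ ^ h → y * z * y⁻¹ = τ ∨ y * z * y⁻¹ = σ ^ h * τ := by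
      intro z hz hzo hzne
      refine (hQinv _ (hQc y hyH z hz) ((Cfsg.Lib.Invol.orderOf_conj_eq y z).trans hzo)).resolve_left
        fun e => hzne ?_
      calc z = y⁻¹ * (y * z * y⁻¹) * y := by group
        _ = σ ^ h := by rw [e, mul_assoc, ← hyJ.eq, inv_mul_cancel_left]
    refine InvAct.commute_of_sq hyodd ?_
    show y * y * τ = τ * (y * y)
    have hτne : τ ≠ σ ^ h := fun e => g.τ_notMem (e ▸ pow_mem (mem_zpowers σ) h)
    rcases hmove τ hτQ g.orderOf_τ hτne with e | e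
    · exact ((show Commute y τ from mul_inv_eq_iff_eq_mul.1 e).mul_left
        (mul_inv_eq_iff_eq_mul.1 e)).eq
    · refine mul_inv_eq_iff_eq_mul.1 ?_
      calc y * y * τ * (y * y)⁻¹ = y * (y * τ * y⁻¹) * y⁻¹ := by group
        _ = y * (σ ^ h * τ) * y⁻¹ := by rw [e]
        _ = (y * σ ^ h * y⁻¹) * (y * τ * y⁻¹) := by group
        _ = σ ^ h * (σ ^ h * τ) := by rw [e, hyJ.eq, mul_inv_cancel_right]
        _ = τ := by rw [← mul_assoc, hJ2, one_mul]
  · exact hQinv _ (hQc m hm _ hJQ) ((Cfsg.Lib.Invol.orderOf_conj_eq m _).trans hJo)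

/-- With a component the equation fails. -/
theorem false_of_layer (hG : GWMin G) (g : Gens (P : Subgroup G) n σ τ) {h : ℕ} (hh : h = 2 ^ (n - 2))
    {H : Subgroup G} (hH : H ≠ ⊤) (hC : centralizer ({σ ^ h} : Set G) ≤ H)
    (hconj : ∃ x ∈ H, x * σ ^ h * x⁻¹ = τ)
    (heq : Nat.card H * (DihSylow.oddFix σ h τ).card ^ 2 = 3 * h ^ 3 * (DihSylow.oddPart σ h).card ^ 3)
    (hl : Cfsg.layer ↥H ≠ ⊥) : False := by
  have D : DihSylow P σ τ h := hh ▸ g.toDihSylow
  have hJo : orderOf (σ ^ h) = 2 := hh ▸ g.orderOf_center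
  obtain ⟨hJ2, hJ1, hJc⟩ := D.central_involution
  have hPH : (P : Subgroup G) ≤ H := D.le_centralizer_central.trans hC
  obtain ⟨x, hx, hxe⟩ := hconj
  let J : H := ⟨σ ^ h, hPH (pow_mem g.σ_mem h)⟩
  let T : H := ⟨τ, hPH g.τ_mem⟩
  have hJoH : orderOf J = 2 := by rw [← orderOf_coe]; exact hJo
  have hToH : orderOf T = 2 := by rw [← orderOf_coe]; exact g.orderOf_τ
  have hTJ : Commute T J := Subtype.ext (hJc τ g.τ_mem).eq
  have hTne : T ≠ J := fun e => g.τ_notMem (by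
    rw [show τ = σ ^ h from congrArg Subtype.val e]; exact pow_mem (mem_zpowers σ) h)
  have hJT : (⟨x, hx⟩ : H) * J * (⟨x, hx⟩ : H)⁻¹ = T := Subtype.ext hxe
  obtain ⟨L, hLc⟩ : ∃ L : Subgroup ↥H, Cfsg.IsComponent L := by
    by_contra h'
    push Not at h'
    exact hl (Cfsg.Lib.Core.layer_eq_bot_iff.2 h')
  set O := Cfsg.oddCore ↥H with hOdef
  have hOodd : Odd (Nat.card O) := Cfsg.Lib.ZStar.odd_card_oddCore
  have hOs : Group.IsSolvable ↥O := Cfsg.Agent.S0205.result hOodd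
  have hns : ¬ Group.IsSolvable ↥H := fun h' =>
    haveI := h'
    Cfsg.Lib.Core.component_not_le_solvable hLc (H := ⊤) inferInstance le_top
  have hDH : TwoCycDih ↥H := hG.twoCycDih.subgroup H
  have hlt : Nat.card (↥H ⧸ O) < Nat.card G :=
    lt_of_le_of_lt (Nat.card_le_card_of_surjective _ (QuotientGroup.mk_surjective (s := O)))
      (Cfsg.Lib.Core.lt_card_of_ne_top hH)
  have hsolv : Group.IsSolvable (↥H ⧸ O) → False := fun h' => by
    haveI := h'
    haveI := hOs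
    exact hns (Group.isSolvable_of_ker_le_range O.subtype (QuotientGroup.mk' O) (by simp))
  rcases shape (hDH.quotient O) (gwSections_of_below hG.below (hDH.quotient O) hlt)
    (Cfsg.Lib.Core.pPrimeCore_quotient_eq_bot (p := 2)) with
    h2 | ⟨W, -, -, -, hc⟩ | ⟨E, hEn, -, -, hgw, -, -, hmin, hidx⟩
  · haveI := h2.isNilpotent
    exact hsolv inferInstance
  · exact hsolv (Cfsg.Lib.Recog.Icosa.solvable_of_lt_sixty _ _ rfl (by rcases hc with h' | h' <;> omega))
  haveI := hEn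
  set φ := QuotientGroup.mk' O with hφ
  have hJE : φ J ∈ E := by
    obtain ⟨i, hi⟩ := D.even
    have hσH : σ ∈ H := hPH g.σ_mem
    have hJe : J = (⟨σ, hσH⟩ : H) ^ i * (⟨σ, hσH⟩ : H) ^ i := Subtype.ext (by
      show σ ^ h = σ ^ i * σ ^ i
      rw [← pow_add, hi])
    set y : (↥H ⧸ O) ⧸ E := QuotientGroup.mk' E (φ ((⟨σ, hσH⟩ : H) ^ i)) with hy
    refine (QuotientGroup.eq_one_iff _).1 ?_
    show QuotientGroup.mk' E (φ J) = 1
    rw [hJe, map_mul, map_mul, ← hy, ← pow_two]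
    have hd2 : orderOf y ∣ 4 := by
      refine orderOf_dvd_of_pow_eq_one ?_
      rw [hy, ← map_pow, ← map_pow, show ((⟨σ, hσH⟩ : H) ^ i) ^ 4 = 1 from Subtype.ext (by
        show (σ ^ i) ^ 4 = 1
        rw [← pow_mul, show i * 4 = orderOf σ by rw [D.orderσ]; omega, pow_orderOf_eq_one]), map_one,
        map_one]
    obtain ⟨k, hk, hke⟩ := (Nat.dvd_prime_pow Nat.prime_two).1 (show orderOf y ∣ 2 ^ 2 by simpa using hd2)
    refine orderOf_dvd_iff_pow_eq_one.1 ?_
    rw [hke]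
    refine (pow_dvd_pow 2 ?_).trans (pow_one 2).dvd
    by_contra hk1
    refine hidx ((show 4 ∣ orderOf y from ?_).trans (orderOf_dvd_natCard y))
    rw [hke]
    exact (show (4 : ℕ) = 2 ^ 2 by norm_num) ▸ pow_dvd_pow 2 (by omega)
  have hTE : φ T ∈ E := by
    rw [← hJT, map_mul, map_mul, map_inv]
    exact hEn.conj_mem _ hJE _
  -- the odd core centralizes both involutions
  haveI hLn : L.Normal := Cfsg.Lib.Core.normal_iff_map_conj.2 fun y =>
    component_unique hDH (Cfsg.Lib.Core.IsComponent.map_conj hLc y) hLc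
  have hLO : ⁅L, O⁆ = ⊥ := Cfsg.Lib.Core.component_commute_solvable hLc hOs le_normalizer_of_normal
  have hcomm : ∀ l ∈ L, ∀ o ∈ O, Commute l o := fun l hl' o ho =>
    (mem_centralizer_iff.1 (commutator_eq_bot_iff_le_centralizer.1 hLO hl') o ho).symm
  have hEL : E ≤ L.map φ := by
    refine hmin _ (Subgroup.Normal.map hLn _ (QuotientGroup.mk'_surjective O)) fun h' => ?_
    rw [Subgroup.map_eq_bot_iff, QuotientGroup.ker_mk'] at h'
    exact Cfsg.Lib.Core.component_not_le_solvable hLc hOs h'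
  have hOJ : ∀ o ∈ O, Commute J o := by
    obtain ⟨l, hl', hle⟩ := hEL hJE
    have ho : l⁻¹ * J ∈ O := QuotientGroup.eq.1 hle
    intro o ho'
    have hJJ : J * J = 1 := Cfsg.Lib.Invol.inv_mul_self hJoH
    have e : J = l * (l⁻¹ * J) := (mul_inv_cancel_left l J).symm
    obtain ⟨o₀, ho₀⟩ : ∃ o₀, o₀ = l⁻¹ * J := ⟨_, rfl⟩
    rw [← ho₀] at e ho
    have hlo := hcomm l hl' o₀ ho
    have hsq : Commute (o₀ * o₀) o := by
      have h1 : o₀ * o₀ = (l * l)⁻¹ := by
        refine eq_inv_of_mul_eq_one_right ?_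
        calc l * l * (o₀ * o₀) = l * (l * o₀) * o₀ := by group
          _ = l * (o₀ * l) * o₀ := by rw [hlo.eq]
          _ = (l * o₀) * (l * o₀) := by group
          _ = 1 := by rw [← e, hJJ]
      rw [h1]
      exact ((hcomm l hl' o ho').mul_left (hcomm l hl' o ho')).inv_left
    rw [e]
    exact (hcomm l hl' o ho').mul_left
      (InvAct.commute_of_sq (Cfsg.Lib.ZStar.odd_orderOf_oddCore ho) hsq)
  have hOT : ∀ o ∈ O, Commute T o := by
    intro o ho
    have h1 := hOJ _ ((show O.Normal from inferInstance).conj_mem o ho (⟨x, hx⟩ : H)⁻¹)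
    have h2 := h1.map (MulAut.conj (⟨x, hx⟩ : H)).toMonoidHom
    simpa only [MulEquiv.coe_toMonoidHom, MulAut.conj_apply, hJT, inv_inv,
      show (⟨x, hx⟩ : H) * ((⟨x, hx⟩ : H)⁻¹ * o * ⟨x, hx⟩) * (⟨x, hx⟩ : H)⁻¹ = o by group] using h2
  -- the centralizers modulo the odd core
  set CJ := centralizer ({J} : Set H) with hCJ
  set CT := centralizer ({T} : Set H) with hCT
  have hkJ : O ≤ CJ := fun o ho => mem_centralizer_singleton_iff.2 (hOJ o ho).symm.eq
  have hkT : O ≤ CT := fun o ho => mem_centralizer_singleton_iff.2 (hOT o ho).symm.eq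
  have hcard : ∀ K : Subgroup H, O ≤ K → Nat.card K = Nat.card (K.map φ) * Nat.card O := by
    intro K hK
    have hi : (K.map φ).index = K.index :=
      index_map_eq K (QuotientGroup.mk'_surjective O) (by rw [QuotientGroup.ker_mk']; exact hK)
    refine Nat.eq_of_mul_eq_mul_right (Nat.pos_of_ne_zero (index_ne_zero_of_finite (H := K))) ?_
    rw [card_mul_index, mul_right_comm, ← hi, card_mul_index]
    exact card_eq_card_quotient_mul_card_subgroup O
  have hpair : centralizer ({φ J, φ T} : Set (↥H ⧸ O)) = (CJ ⊓ CT).map φ := by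
    have hj := DGroup.centralizer_lift O hOodd hJoH
    have ht := DGroup.centralizer_lift O hOodd hToH
    refine le_antisymm (fun y hy => ?_) ?_
    · have h1 : y ∈ centralizer ({φ J} : Set (↥H ⧸ O)) := centralizer_le (by simp) hy
      have h2 : y ∈ centralizer ({φ T} : Set (↥H ⧸ O)) := centralizer_le (by simp) hy
      rw [hj] at h1
      rw [ht] at h2
      obtain ⟨a, ha, rfl⟩ := h1
      obtain ⟨b, hb, hab⟩ := h2
      refine ⟨b, ⟨?_, hb⟩, hab⟩
      have := mul_mem ha (hkJ (QuotientGroup.eq.1 hab.symm))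
      rwa [mul_inv_cancel_left] at this
    · rintro _ ⟨a, ⟨ha, hb⟩, rfl⟩
      refine mem_centralizer_iff.2 ?_
      rintro y (rfl | rfl)
      · exact ((show Commute a J from mem_centralizer_singleton_iff.1 ha).map φ).symm.eq
      · exact ((show Commute a T from mem_centralizer_singleton_iff.1 hb).map φ).symm.eq
  have hpairH : centralizer ({J, T} : Set H) = CJ ⊓ CT := by
    ext a
    simp only [mem_inf, hCJ, hCT, mem_centralizer_singleton_iff, mem_centralizer_iff, Set.mem_insert_iff,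
      Set.mem_singleton_iff, forall_eq_or_imp, forall_eq, eq_comm]
  have e1 : Nat.card CJ = 4 * h * (DihSylow.oddPart σ h).card := by
    rw [hCJ, card_centralizer_singleton J (by exact hC)]
    exact D.oddPart_spec.2.2.2.2.2.2
  have e2 : Nat.card ((CJ ⊓ CT : Subgroup H)) = 4 * (DihSylow.oddFix σ h τ).card := by
    have e := card_centralizer_image (H := H) ({J, T} : Set H)
      (by rw [Set.image_pair]; exact (hh ▸ centralizer_pair_le g τ).trans hC)
    rw [Set.image_pair] at e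
    rw [← hpairH, e]
    exact (D.card_invCoset_mul g.τ_mem g.τ_notMem).2
  have hoφ : ∀ z : H, orderOf z = 2 → orderOf (φ z) = 2 := fun z hz => Cfsg.Lib.Invol.orderOf_eq_two_of
    (fun h' => Cfsg.Lib.ZStar.notMem_oddCore hz ((QuotientGroup.eq_one_iff z).1 h'))
    (by rw [← map_mul, Cfsg.Lib.Invol.inv_mul_self hz, map_one])
  refine component_equation_false E hgw hJE hTE (hoφ J hJoH) (hoφ T hToH) (fun e => hTne ?_)
    (hTJ.map φ) ?_
  · refine mul_inv_eq_one.1 (orderOf_eq_one_iff.1 ?_)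
    have hm : T * J⁻¹ ∈ O := (QuotientGroup.eq_one_iff _).1 (by
      show φ (T * J⁻¹) = 1
      rw [map_mul, map_inv, e, mul_inv_cancel])
    have h2 : (T * J⁻¹) ^ 2 = 1 := by
      rw [hTJ.inv_right.mul_pow, inv_pow, show T ^ 2 = 1 from hToH ▸ pow_orderOf_eq_one T,
        show J ^ 2 = 1 from hJoH ▸ pow_orderOf_eq_one J, inv_one, one_mul]
    exact Nat.eq_one_of_dvd_coprimes (Nat.coprime_two_right.2 (Cfsg.Lib.ZStar.odd_orderOf_oddCore hm))
      dvd_rfl (orderOf_dvd_of_pow_eq_one h2)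
  · rw [hpair, DGroup.centralizer_lift O hOodd hJoH]
    refine Nat.eq_of_mul_eq_mul_right (pow_pos (Nat.card_pos (α := O)) 3) ?_
    calc 4 * Nat.card (↥H ⧸ O) * Nat.card ↥((CJ ⊓ CT).map φ) ^ 2 * Nat.card O ^ 3
        = 4 * (Nat.card (↥H ⧸ O) * Nat.card O) * (Nat.card ↥((CJ ⊓ CT).map φ) * Nat.card O) ^ 2 := by ring
      _ = 4 * Nat.card H * (4 * (DihSylow.oddFix σ h τ).card) ^ 2 := by
        rw [← card_eq_card_quotient_mul_card_subgroup, ← hcard _ (le_inf hkJ hkT), e2]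
      _ = 3 * (Nat.card CJ) ^ 3 := by rw [e1]; linear_combination 64 * heq
      _ = _ := by rw [hcard _ hkJ]; ring

/-- The structure of a fused maximal overgroup satisfying the equation. -/
theorem fused_local (hG : GWMin G) (h8 : 8 ∣ Nat.card G) (hA : NoOddMax G)
    (g : Gens (P : Subgroup G) n σ τ) {h : ℕ} (hh : h = 2 ^ (n - 2)) {H : Subgroup G} (hH : IsCoatom H)
    (hC : centralizer ({σ ^ h} : Set G) ≤ H) (hconj : ∃ x ∈ H, x * σ ^ h * x⁻¹ = τ)
    (heq : Nat.card H * (DihSylow.oddFix σ h τ).card ^ 2 = 3 * h ^ 3 * (DihSylow.oddPart σ h).card ^ 3) :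
    h = 2 ∧ (∀ y ∈ DihSylow.oddPart σ h, Commute y τ) ∧
      ∀ m ∈ H, m * σ ^ h * m⁻¹ = σ ^ h ∨ m * σ ^ h * m⁻¹ = τ ∨ m * σ ^ h * m⁻¹ = σ ^ h * τ := by
  by_cases hl : Cfsg.layer ↥H = ⊥
  · exact four_of_layer_eq_bot hG h8 hA g hh hH hC hconj hl
  · exact (false_of_layer hG g hh hH.1 hC hconj heq hl).elim

end Cfsg.Lib.GW.Fused
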