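import Cfsg.Agent.Lib.GW.FusedHalf
import Cfsg.Agent.Lib.GW.FusedArith
import Cfsg.Agent.Lib.GW.FusedDegrees
import Cfsg.Agent.Lib.GW.OrderBound
import Cfsg.Agent.Lib.GW.Min

/-!
# The five possibilities for a fused overgroup
-/

set_option autoImplicit false
set_option linter.unusedSectionVars false
set_option linter.style.haveILetI false
set_option maxHeartbeats 800000

namespace Cfsg.Lib.GW

open Cfsg Cfsg.Lib.Block Cfsg.Lib.Char

universe u

variable {G : Type u} [Group G]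

theorem GWMin.commutator_eq_top [Finite G] (hG : GWMin G) : commutator G = ⊤ := by
  haveI := hG.isSimple
  refine (IsSimpleGroup.eq_bot_or_eq_top_of_normal (commutator G) inferInstance).resolve_left fun h => ?_
  refine hG.nonab ⟨⟨fun a b => ?_⟩⟩
  have := Subgroup.commutator_mem_commutator (Subgroup.mem_top a) (Subgroup.mem_top b)
  rw [← commutator_def, h, Subgroup.mem_bot] at this
  exact commutatorElement_eq_one_iff_mul_comm.1 this

theorem GWMin.not_isCyclic [Finite G] (hG : GWMin G) : ¬ IsCyclic G := fun h =>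
  hG.nonab h.isMulCommutative

/-- An overgroup of the centralizer has odd index at least seven. -/
theorem GWMin.index_fused [Finite G] (hG : GWMin G) (h8 : 8 ∣ Nat.card G) {P : Sylow 2 G} {n : ℕ}
    {σ τ : G} (g : Gens (P : Subgroup G) n σ τ) {H : Subgroup G} (hH : H ≠ ⊤)
    (hC : Subgroup.centralizer ({σ ^ (2 ^ (n - 2))} : Set G) ≤ H) :
    ¬ OneClass H ∧ 7 ≤ H.index ∧ H.index % 2 = 1 := by
  haveI : Fact (Nat.Prime 2) := ⟨Nat.prime_two⟩
  haveI := hG.isSimple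
  have hsmall : ¬ H.index ≤ 5 := fun h5 => by
    have := card_eq_sixty_of_index_le_five hG.not_isCyclic hH h5
    omega
  have hodd : H.index % 2 = 1 := by
    by_contra hev
    exact P.not_dvd_index ((Nat.dvd_of_mod_eq_zero (by omega)).trans
      (Subgroup.index_dvd_of_le (g.le_centralizer.trans hC)))
  exact ⟨fun h1 => hsmall (index_le_five g hG.oneClass H hC h1), by omega, hodd⟩

variable [Fintype G] [Fact (Nat.Prime 2)] {M : Ideal AlgInt} {P : Sylow 2 G} {n : ℕ} {σ τ : G}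

/-- The numerical possibilities of a fused overgroup. -/
theorem fused_cases (hG : GWMin G) (h8 : 8 ∣ Nat.card G) (g : Gens (P : Subgroup G) n σ τ)
    {h : ℕ} (hh : h = 2 ^ (n - 2))
    {H : Subgroup G} (hH : H ≠ ⊤) (hC : Subgroup.centralizer ({σ ^ h} : Set G) ≤ H)
    (hconj : ∃ x ∈ H, x * σ ^ h * x⁻¹ = τ) (hM : IsPModular 2 M)
    (co : Companion M P σ τ h) {W W' : ℕ}
    (hW : W = (DihSylow.oddFix σ h τ).card)
    (hW' : W' = (DihSylow.oddFix σ h (σ * τ)).card) :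
    (((4 * h : ℕ) : ℤ) ∣ co.X - 1 ∧
      ∃ N : Subgroup H, N.index = 2 ∧ (∃ hτ : τ ∈ H, (⟨τ, hτ⟩ : H) ∈ N) ∧ OneClass N ∧
        (H.index ≠ 7 → n = 3 → ∃ φ : IrrCharacter N, (φ : N → ℂ) 1 = 1 ∧
          (φ : N → ℂ) ≠ (fun _ => 1) ∧ ∀ x : N, ¬ IsPRegular 2 x → (φ : N → ℂ) x = 1)) ∧
      ((co.X = 9 ∧ W = W' ∧ H.index = 15) ∨ (co.X = -7 ∧ W = W' ∧ H.index = 7) ∨
        (co.X = -7 ∧ W = 5 * W' ∧ H.index = 63) ∨ (co.X = -15 ∧ W = 3 * W' ∧ H.index = 7) ∨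
        (co.X = -15 ∧ W = 3 * W' ∧ H.index = 35)) := by
  classical
  have D : DihSylow P σ τ h := hh ▸ g.toDihSylow
  have hJo : orderOf (σ ^ h) = 2 := hh ▸ g.orderOf_center
  obtain ⟨hne, h7, hodd⟩ := hG.index_fused h8 g hH (hh ▸ hC)
  have hone : ∀ a : G, a * a = 1 → a ≠ 1 → IsConj (σ ^ h) a := fun a ha ha1 =>
    hG.oneClass _ _ hJo (orderOf_eq_prime (by rw [pow_two, ha]) ha1)
  have hPH : (P : Subgroup G) ≤ H := g.le_centralizer.trans (hh ▸ hC)
  have gH : Gens ((P.subtype hPH : Sylow 2 H) : Subgroup H) n ⟨σ, hPH g.σ_mem⟩ ⟨τ, hPH g.τ_mem⟩ := by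
    rw [Sylow.coe_subtype]
    exact g.subgroupOf _ _
  obtain ⟨x, hx, hxe⟩ := hconj
  have hcH : IsConj ((⟨σ, hPH g.σ_mem⟩ : H) ^ (2 ^ (n - 2))) ⟨τ, hPH g.τ_mem⟩ :=
    isConj_iff.2 ⟨⟨x, hx⟩, Subtype.ext (hh ▸ hxe :)⟩
  obtain ⟨N, h2, hτN, h1⟩ := exists_index_two_oneClass gH hcH hne
  obtain ⟨X₀, hX₀1, hX₀b, hφ, hf⟩ := half_formula gH N h2 hτN h1
  rw [← hh] at hf
  -- the orders of the centralizers
  have e1 : Nat.card (Subgroup.centralizer ({(⟨σ, hPH g.σ_mem⟩ : H) ^ h} : Set H)) =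
      4 * h * (DihSylow.oddPart σ h).card := by
    rw [card_centralizer_singleton _ (by exact hC)]
    exact D.oddPart_spec.2.2.2.2.2.2
  have e2 : Nat.card (Subgroup.centralizer
      ({(⟨σ, hPH g.σ_mem⟩ : H) ^ h, ⟨τ, hPH g.τ_mem⟩} : Set H)) = 4 * W := by
    have e := card_centralizer_image (H := H)
      ({(⟨σ, hPH g.σ_mem⟩ : H) ^ h, ⟨τ, hPH g.τ_mem⟩} : Set H)
      (by rw [Set.image_pair]; exact (hh ▸ centralizer_pair_le g τ).trans hC)
    rw [Set.image_pair] at e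
    rw [e, hW]
    exact (D.card_invCoset_mul g.τ_mem g.τ_notMem).2
  rw [e1, e2] at hf
  have hof := co.order_formula D
  rw [← hW, ← hW'] at hof
  have hWpos : 0 < W := hW ▸ Finset.card_pos.2
    ⟨1, DihSylow.mem_oddFix.2 ⟨D.oddPart_spec.1, Commute.one_left _⟩⟩
  have hW'pos : 0 < W' := hW' ▸ Finset.card_pos.2
    ⟨1, DihSylow.mem_oddFix.2 ⟨D.oddPart_spec.1, Commute.one_left _⟩⟩
  -- the index equation
  have hidx : (H.index : ℤ) * X₀ * (X₀ + 1) * (co.X - 1) ^ 2 * (W' : ℤ) ^ 2 =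
      co.X * (co.X + 1) * ((W : ℤ) + W') ^ 2 * (X₀ - 1) ^ 2 := by
    have hHq : (Nat.card H : ℚ) ≠ 0 := Nat.cast_ne_zero.2 Nat.card_pos.ne'
    have hWq : (W : ℚ) ≠ 0 := Nat.cast_ne_zero.2 hWpos.ne'
    have hW'q : (W' : ℚ) ≠ 0 := Nat.cast_ne_zero.2 hW'pos.ne'
    have hGq : (Nat.card G : ℚ) = H.index * Nat.card H := by
      rw [← H.index_mul_card, Nat.cast_mul]
    rw [hGq] at hof
    field_simp at hof
    push_cast at hf
    apply Int.cast_injective (α := ℚ)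
    push_cast
    refine mul_left_cancel₀ (mul_ne_zero hHq (pow_ne_zero 2 hWq)) ?_
    linear_combination ((X₀ : ℚ) * ((X₀ : ℚ) + 1)) * hof -
      ((co.X : ℚ) * ((co.X : ℚ) + 1) * ((W : ℚ) + W') ^ 2 / 16) * hf
  -- the bounds
  obtain ⟨B, hB1, hB2, hB3, hBδ⟩ := exists_blockData D co
  have hxH : ∃ y : G, y ∉ H ∧ y⁻¹ * σ ^ h * y ∈ H := by
    have hστ : orderOf (σ * τ) = 2 := by
      have := D.sq_outside (mul_mem g.σ_mem g.τ_mem) (fun hm => g.τ_notMem (by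
        have := mul_mem (inv_mem (Subgroup.mem_zpowers σ)) hm
        rwa [inv_mul_cancel_left] at this))
      refine orderOf_eq_prime (by rw [pow_two, this]) fun e => g.τ_notMem ?_
      rw [eq_inv_of_mul_eq_one_right e]
      exact inv_mem (Subgroup.mem_zpowers σ)
    obtain ⟨y, hy⟩ := isConj_iff.1 (hG.oneClass _ _ hJo hστ)
    refine ⟨y⁻¹, fun hyH => ?_, ?_⟩
    · haveI := Subgroup.normal_of_index_eq_two h2
      have hσN := σ_notMem_of_index_two gH h2 hτN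
      have hJN : (⟨σ, hPH g.σ_mem⟩ : H) ^ h ∈ N := by
        have hm := ‹N.Normal›.conj_mem _ hτN ⟨x, hx⟩⁻¹
        have ee : (⟨x, hx⟩ : H)⁻¹ * ⟨τ, hPH g.τ_mem⟩ * (⟨x, hx⟩ : H)⁻¹⁻¹ =
            (⟨σ, hPH g.σ_mem⟩ : H) ^ h := Subtype.ext (by
          show x⁻¹ * τ * x⁻¹⁻¹ = σ ^ h
          rw [← hxe]; group)
        rwa [ee] at hm
      have hm := ‹N.Normal›.conj_mem _ hJN ⟨y, by simpa using inv_mem hyH⟩
      have ee : (⟨y, by simpa using inv_mem hyH⟩ : H) * (⟨σ, hPH g.σ_mem⟩ : H) ^ h *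
          (⟨y, by simpa using inv_mem hyH⟩ : H)⁻¹ =
          (⟨σ, hPH g.σ_mem⟩ : H) * ⟨τ, hPH g.τ_mem⟩ := Subtype.ext hy
      rw [ee] at hm
      exact hσN ((Subgroup.mul_mem_cancel_right _ hτN).1 hm)
    · rw [inv_inv, hy]
      exact mul_mem (hPH g.σ_mem) (hPH g.τ_mem)
  obtain ⟨hb1, hb2⟩ := degree_le_index B hM D hone H hC hxH
  have hpsi : ∀ χ : IrrCharacter G,
      (∀ ρ : G, IsPRegular 2 ρ → 1 + (B.δ : ℂ) * (B.χ₁ : G → ℂ) ρ - B.δ * (χ : G → ℂ) ρ = 0) →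
      B.δ = -1 → (charDegree (χ : G → ℂ) : ℤ) = charDegree (co.χ₁ : G → ℂ) - 1 := by
    intro χ hrel hneg
    have e := hrel 1 (by simp [IsPRegular])
    rw [hneg, apply_one_eq_charDegree, apply_one_eq_charDegree, hB1] at e
    apply Int.cast_injective (α := ℂ)
    push_cast at e ⊢
    linear_combination e
  have hpos : 0 < co.X → co.X ≤ H.index := by
    intro hp
    rw [co.degX] at hp ⊢
    rcases co.hδ₁ with e | e
    · have := hb1 (hBδ.trans e)
      rw [hB1] at this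
      rw [e, one_mul]
      exact_mod_cast this
    · rw [e] at hp; omega
  have hnegδ : co.X < 0 → B.δ = -1 := by
    intro hn
    rw [co.degX] at hn
    rcases co.hδ₁ with e | e
    · rw [e] at hn; omega
    · exact hBδ.trans e
  have hneg : co.X < 0 → -co.X - 1 ≤ H.index := by
    intro hn
    have hd := hnegδ hn
    have := hb2 hd
    have e := hpsi B.ψ (fun ρ hρ => (B.rel ρ hρ).1) hd
    rw [co.degX, show co.δ₁ = -1 from hBδ ▸ hd]
    omega
  have hdeg : co.X < 0 → |co.a| ≤ co.X * (co.X + 1) ∨ |co.b| ≤ co.X * (co.X + 1) := by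
    intro hn
    have hd := hnegδ hn
    have e := hpsi B.ψ' (fun ρ hρ => (B.rel ρ hρ).2.1) hd
    have hXe : co.X * (co.X + 1) =
        ((charDegree (B.χ₁ : G → ℂ) * charDegree (B.ψ' : G → ℂ) : ℕ) : ℤ) := by
      rw [Nat.cast_mul, e, hB1, co.degX, show co.δ₁ = -1 from hBδ ▸ hd]
      ring
    rw [hXe, co.dega, co.degb, abs_mul, abs_mul, Nat.abs_cast, Nat.abs_cast,
      show |co.δ₂| = 1 by rcases co.hδ₂ with e | e <;> rw [e] <;> rfl,
      show |co.δ₃| = 1 by rcases co.hδ₃ with e | e <;> rw [e] <;> rfl, one_mul, one_mul, ← hB2, ← hB3]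
    rcases degree_le_product B hM D hone hd with h | h
    · exact Or.inl (Int.ofNat_le.2 h)
    · exact Or.inr (Int.ofNat_le.2 h)
  obtain ⟨⟨ha, ha1⟩, hb, hb1⟩ := degree_two_three D hone co hG.commutator_eq_top
  have hprod := co.product D
  rw [← hW, ← hW'] at hprod
  have hcases := FusedArith.fused_arith (eight_dvd D hone co hM) (co.X_ne_one D) ha ha1 hb hb1
    co.sum_eq (Int.natCast_pos.2 hWpos) (Int.natCast_pos.2 hW'pos) hprod hX₀b hX₀1 hidx h7 hodd hpos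
    hneg hdeg
  refine ⟨⟨?_, N, h2, ⟨hPH g.τ_mem, hτN⟩, h1, ?_⟩, ?_⟩
  · obtain ⟨k, hk⟩ := sylow_congr D hone co.χ₁ hM co.mem_block (d := co.δ₁)
      fun l h0 hl => co.value l h0 hl
    rcases co.hδ₁ with e | e
    · refine ⟨k, ?_⟩
      rw [e] at hk
      rw [co.degX, e]
      linear_combination hk
    · refine ⟨-k, ?_⟩
      rw [e] at hk
      rw [co.degX, e]
      linear_combination -hk
  · intro hi h3
    refine hφ ?_ h3
    rcases hcases
      with ⟨-, -, c, d⟩ | ⟨-, -, c, d⟩ | ⟨-, -, c, d⟩ | ⟨-, -, c, d⟩ | ⟨-, -, c, d⟩ <;>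
      first | exact d | omega
  rcases hcases
    with ⟨a, b, c, -⟩ | ⟨a, b, c, -⟩ | ⟨a, b, c, -⟩ | ⟨a, b, c, -⟩ | ⟨a, b, c, -⟩
  · exact Or.inl ⟨a, by omega, by omega⟩
  · exact Or.inr (Or.inl ⟨a, by omega, by omega⟩)
  · exact Or.inr (Or.inr (Or.inl ⟨a, by omega, by omega⟩))
  · exact Or.inr (Or.inr (Or.inr (Or.inl ⟨a, by omega, by omega⟩)))
  · exact Or.inr (Or.inr (Or.inr (Or.inr ⟨a, by omega, by omega⟩)))

end Cfsg.Lib.GW
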