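import Cfsg.Agent.Lib.Char.Clifford
import Cfsg.Agent.Lib.Char.Constituents
import Cfsg.Agent.Lib.Char.IcosaThree
import Cfsg.Agent.Lib.Block.Basic

/-!
# A character constant outside a normal subgroup

If a character of `K` takes the value `δ` outside the normal subgroup `A`, its inner products over
`A`, corrected by `δ`, are divisible by the index.
-/

set_option autoImplicit false
set_option linter.unusedSectionVars false
set_option maxHeartbeats 800000

namespace Cfsg.Lib.GW

open Cfsg Cfsg.Lib.Block Cfsg.Lib.Char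
open scoped ComplexConjugate

universe u v

variable {K : Type u} [Group K] [Fintype K] (A : Subgroup K) [Fintype A]
variable {χ : K → ℂ} {δ : ℤ}

/-- The fundamental pairing. -/
theorem units_pairing (hconst : ∀ x : K, x ∉ A → χ x = δ) (θ : K → ℂ) :
    (A.index : ℂ) * (classInner χ θ - δ * classInner (fun _ => (1 : ℂ)) θ) =
      classInner (fun a : A => χ a) (fun a : A => θ a) -
        δ * classInner (fun _ : A => (1 : ℂ)) (fun a : A => θ a) := by
  classical
  have e1 : classInner χ θ - δ * classInner (fun _ => (1 : ℂ)) θ =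
      (Nat.card K : ℂ)⁻¹ * ∑ x : K, (χ x - δ) * conj (θ x) := by
    simp only [classInner, sub_mul, Finset.sum_sub_distrib, one_mul, Finset.mul_sum, mul_sub]
    congr 1
    exact Finset.sum_congr rfl fun x _ => by ring
  have e2 : classInner (fun a : A => χ a) (fun a : A => θ a) -
      δ * classInner (fun _ : A => (1 : ℂ)) (fun a : A => θ a) =
      (Nat.card A : ℂ)⁻¹ * ∑ a : A, (χ a - δ) * conj (θ a) := by
    simp only [classInner, sub_mul, Finset.sum_sub_distrib, one_mul, Finset.mul_sum, mul_sub]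
    congr 1
    exact Finset.sum_congr rfl fun x _ => by ring
  have e3 : ∑ x : K, (χ x - δ) * conj (θ x) = ∑ a : A, (χ a - δ) * conj (θ a) := by
    rw [← Finset.sum_subset (Finset.subset_univ (Finset.univ.filter (· ∈ A))) (fun x _ hx => by
      rw [hconst x (by simpa using hx), sub_self, zero_mul])]
    exact Finset.sum_subtype _ (by simp) _
  rw [e1, e2, e3, ← A.card_mul_index, Nat.cast_mul]
  have hA : (Nat.card A : ℂ) ≠ 0 := Char.card_cast_ne_zero
  have hi : (A.index : ℂ) ≠ 0 := Nat.cast_ne_zero.2 A.index_ne_zero_of_finite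
  field_simp

/-- The inner products with the orbit and the trivial character, weighted by the degrees, are at
most the degree. -/
theorem degree_sum_le {H : Type v} [Group H] [Fintype H] {ψ : H → ℂ} (hψ : IsCharacter H ψ)
    (s : Finset (H → ℂ)) (hs : ∀ φ ∈ s, IsIrrCharacter H φ) :
    (∑ φ ∈ s, classInner ψ φ * φ 1).re ≤ (ψ 1).re := by
  classical
  have e : ψ 1 = ∑ φ : IrrCharacter H, classInner ψ (φ : H → ℂ) * (φ : H → ℂ) 1 := by
    conv_lhs => rw [eq_sum_classInner hψ.isClassFunction]
    simp [Finset.sum_apply]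
  have e2 : ∑ φ ∈ s, classInner ψ φ * φ 1 =
      ∑ φ ∈ (Finset.univ : Finset (IrrCharacter H)).filter
          (fun φ : IrrCharacter H => (φ : H → ℂ) ∈ s),
        classInner ψ (φ : H → ℂ) * (φ : H → ℂ) 1 :=
    Finset.sum_bij' (fun φ hφ => (⟨φ, hs φ hφ⟩ : IrrCharacter H))
      (fun (φ : IrrCharacter H) _ => (φ : H → ℂ)) (fun φ hφ => by simpa using hφ)
      (fun φ hφ => (Finset.mem_filter.1 hφ).2) (fun _ _ => rfl) (fun _ _ => rfl) (fun _ _ => rfl)
  rw [e2, e, Complex.re_sum, Complex.re_sum]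
  refine Finset.sum_le_sum_of_subset_of_nonneg (Finset.subset_univ _) fun φ _ _ => ?_
  obtain ⟨k, hk⟩ := hψ.exists_nat_classInner φ.2.isCharacter
  rw [hk, apply_one_eq_charDegree, ← Nat.cast_mul, Complex.natCast_re]
  exact Nat.cast_nonneg _

/-- The multiplicity of the trivial character. -/
theorem units_fixed [A.Normal] (hχ : IsCharacter K χ) (hconst : ∀ x : K, x ∉ A → χ x = δ) {d : ℕ}
    (hd : χ 1 = d) :
    ∃ c : ℕ, classInner (fun a : A => χ a) (fun _ => 1) = c ∧ c ≤ d ∧
      (A.index : ℤ) ∣ (c : ℤ) - δ := by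
  have hres : IsCharacter A (fun a : A => χ a) := hχ.comp A.subtype
  obtain ⟨c, hc⟩ := hres.exists_nat_classInner (isCharacter_one (G := A))
  obtain ⟨j, hj⟩ := hχ.exists_nat_classInner (isCharacter_one (G := K))
  have h := units_pairing A hconst (fun _ => 1)
  rw [hj, hc, classInner_irr_self isIrrCharacter_one, classInner_irr_self isIrrCharacter_one,
    mul_one] at h
  have hle := degree_sum_le hres {fun _ => 1} (by simpa using isIrrCharacter_one)
  rw [Finset.sum_singleton, hc, mul_one, Complex.natCast_re, OneMemClass.coe_one, hd,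
    Complex.natCast_re] at hle
  refine ⟨c, hc, by exact_mod_cast hle, (j : ℤ) - δ, ?_⟩
  apply Int.cast_injective (α := ℂ)
  push_cast
  exact h.symm

/-- A small degree and negative `δ`: the subgroup is in the kernel. -/
theorem units_kernel [A.Normal] (hχ : IsCharacter K χ) (hconst : ∀ x : K, x ∉ A → χ x = (-1 : ℤ))
    {d : ℕ} (hd : χ 1 = d) (hle : d + 1 ≤ A.index) (a : A) : χ a = χ 1 := by
  classical
  obtain ⟨c, hc, hcd, j, hj⟩ := units_fixed A hχ hconst hd
  have hcd' : c = d := by
    have h1 : 1 ≤ j := by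
      by_contra hlt
      nlinarith [mul_nonneg (Int.natCast_nonneg A.index) (show 0 ≤ -j by omega)]
    nlinarith [mul_le_mul_of_nonneg_left h1 (Int.natCast_nonneg A.index)]
  have hA : (Nat.card A : ℂ) ≠ 0 := Char.card_cast_ne_zero
  rw [classInner, hcd', inv_mul_eq_iff_eq_mul₀ hA] at hc
  simp only [map_one, mul_one] at hc
  have hre : ∀ b : A, (χ b).re ≤ (d : ℝ) := fun b => by
    have := hχ.norm_le (b : K)
    rw [hd, Complex.natCast_re] at this
    exact (Complex.re_le_norm _).trans this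
  have hsum : ∑ b : A, ((d : ℝ) - (χ b).re) = 0 := by
    rw [Finset.sum_sub_distrib, ← Complex.re_sum, hc, Finset.sum_const, Finset.card_univ,
      ← Nat.card_eq_fintype_card, nsmul_eq_mul, ← Nat.cast_mul, ← Nat.cast_mul, Complex.natCast_re,
      sub_self]
  have heq := (Finset.sum_eq_zero_iff_of_nonneg (fun b _ => sub_nonneg.2 (hre b))).1 hsum a
    (Finset.mem_univ _)
  rw [sub_eq_zero] at heq
  have hn := hχ.norm_le (a : K)
  rw [hd, Complex.natCast_re] at hn
  rw [hd]
  refine Complex.ext (by rw [Complex.natCast_re]; exact heq.symm) ?_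
  rw [Complex.natCast_im]
  have h2 : Complex.normSq (χ a) ≤ (d : ℝ) ^ 2 := by
    rw [Complex.normSq_eq_norm_sq]
    exact pow_le_pow_left₀ (norm_nonneg _) hn 2
  rw [Complex.normSq_apply, ← heq] at h2
  nlinarith [sq_nonneg (χ a).im]

/-- Index eight and at most eight beside the trivial constituent. -/
theorem units_small [A.Normal] (hχ : IsCharacter K χ) (hconst : ∀ x : K, x ∉ A → χ x = δ) {d : ℕ}
    (hd : χ 1 = d) (h8 : A.index = 8) (hsm : δ = 1 ∧ d = 9 ∨ δ = -1 ∧ d = 15) :
    ∃ c : ℕ, classInner (fun a : A => χ a) (fun _ => 1) = c ∧ c ≤ d ∧ d ≤ c + 8 := by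
  obtain ⟨c, hc, hcd, j, hj⟩ := units_fixed A hχ hconst hd
  refine ⟨c, hc, hcd, ?_⟩
  rw [h8] at hj
  rcases hsm with ⟨rfl, rfl⟩ | ⟨rfl, rfl⟩ <;> omega

/-- Then the commutators of `A` are in the kernel. -/
theorem units_commutator [A.Normal] (hχ : IsCharacter K χ) (hconst : ∀ x : K, x ∉ A → χ x = δ)
    {d : ℕ} (hd : χ 1 = d) (h8 : A.index = 8) (hsm : δ = 1 ∧ d = 9 ∨ δ = -1 ∧ d = 15)
    (hodd : Odd (Nat.card A)) (a b : A) : χ ((a * b * a⁻¹ * b⁻¹ : A) : K) = χ 1 := by
  classical
  have hres : IsCharacter A (fun a : A => χ a) := hχ.comp A.subtype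
  refine hres.commutator_mem_ker (fun φ => or_iff_not_imp_left.2 fun hφ1 => ?_) a b
  intro instF
  suffices hz : @classInner A _ ‹Fintype A› (fun a : A => χ a) (φ : A → ℂ) = 0 by
    convert hz
  by_contra hm0
  obtain ⟨m, hm⟩ := hres.exists_nat_classInner φ.2.isCharacter
  obtain ⟨c, hc, -, hd8⟩ := units_small A hχ hconst hd h8 hsm
  have hmpos : 0 < m := Nat.pos_of_ne_zero fun h => hm0 (by rw [hm, h, Nat.cast_zero])
  have hdeg : 3 ≤ charDegree (φ : A → ℂ) := by
    have h1 : charDegree (φ : A → ℂ) ≠ 1 := fun h => hφ1 (by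
      rw [apply_one_eq_charDegree, h, Nat.cast_one])
    have h2 := charDegree_pos φ
    obtain ⟨k, hk⟩ := hodd.of_dvd_nat (charDegree_dvd_card φ)
    omega
  -- the orbit
  set O := twistOrbit A (φ : A → ℂ) with hO
  have hirr : ∀ f ∈ O, IsIrrCharacter A f := fun f hf =>
    isIrrCharacter_of_mem_twistOrbit A φ.2 hf
  have h1O : (fun _ => (1 : ℂ)) ∉ O := by
    intro h
    obtain ⟨x, hx⟩ := (mem_twistOrbit A).1 h
    exact hφ1 (by rw [← conjTwist_apply_one A (φ : A → ℂ) x, hx])
  have hmulO : ∀ ψ : K → ℂ, IsClassFunction K ψ → ∀ f ∈ O,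
      classInner (fun a : A => ψ a) f = classInner (fun a : A => ψ a) (φ : A → ℂ) := by
    intro ψ hψ f hf
    obtain ⟨x, rfl⟩ := (mem_twistOrbit A).1 hf
    conv_lhs => rw [← conjTwist_res A hψ x]
    exact classInner_conjTwist A _ _ x
  have hone : ∀ f ∈ O, f 1 = (charDegree (φ : A → ℂ) : ℂ) := by
    intro f hf
    obtain ⟨x, rfl⟩ := (mem_twistOrbit A).1 hf
    rw [conjTwist_apply_one, apply_one_eq_charDegree]
  -- its degree
  have hbound : O.card * m * charDegree (φ : A → ℂ) ≤ 8 := by
    have h := degree_sum_le hres (insert (fun _ => 1) O) (fun f hf => by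
      rcases Finset.mem_insert.1 hf with rfl | hf
      exacts [isIrrCharacter_one, hirr f hf])
    rw [Finset.sum_insert h1O, hc, mul_one, Finset.sum_congr rfl (g := fun _ =>
      (m : ℂ) * (charDegree (φ : A → ℂ) : ℂ)) (fun f hf => by
        rw [hmulO χ hχ.isClassFunction f hf, hm, hone f hf]),
      Finset.sum_const, nsmul_eq_mul, OneMemClass.coe_one, hd, ← Nat.cast_mul, ← Nat.cast_mul,
      ← Nat.cast_add, Complex.natCast_re, Complex.natCast_re, Nat.cast_le, ← mul_assoc] at h
    omega
  -- a character of `K` above it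
  obtain ⟨θ, hθ⟩ := exists_constituent (isCharacter_indFun A φ.2.isCharacter) (by
    rw [indFun_apply_one]
    exact mul_ne_zero (Nat.cast_ne_zero.2 A.index_ne_zero_of_finite) φ.2.apply_one_ne_zero)
  rw [classInner_indFun A _ θ.2.isClassFunction, ← classInner_conj_symm, map_ne_zero] at hθ
  have hθres : IsCharacter A (fun a : A => (θ : K → ℂ) a) := θ.2.isCharacter.comp A.subtype
  obtain ⟨e, he⟩ := hθres.exists_nat_classInner φ.2.isCharacter
  have hepos : 0 < e := Nat.pos_of_ne_zero fun h => hθ (by rw [he, h, Nat.cast_zero])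
  have hcl := clifford_res A θ.2 φ.2 hθ
  rw [he] at hcl
  have hinner : ∀ ψ : K → ℂ, IsClassFunction K ψ →
      classInner (fun a : A => ψ a) (fun a : A => (θ : K → ℂ) a) =
        (e : ℂ) * O.card * classInner (fun a : A => ψ a) (φ : A → ℂ) := by
    intro ψ hψ
    rw [hcl, classInner_smul_right, Complex.conj_natCast, classInner_sum_right,
      Finset.sum_congr rfl (hmulO ψ hψ), Finset.sum_const, nsmul_eq_mul, mul_assoc]
  have hnorm : e ^ 2 * O.card ≤ 8 := by
    have h := hinner θ θ.2.isClassFunction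
    rw [he, classInner, inv_mul_eq_iff_eq_mul₀ Char.card_cast_ne_zero] at h
    have h1 := classInner_irr_self θ.2
    rw [classInner, inv_mul_eq_iff_eq_mul₀ Char.card_cast_ne_zero, mul_one] at h1
    have hle : (∑ x : A, (θ : K → ℂ) x * conj ((θ : K → ℂ) x)).re ≤
        (∑ x : K, (θ : K → ℂ) x * conj ((θ : K → ℂ) x)).re := by
      rw [Complex.re_sum, Complex.re_sum, ← Finset.sum_subtype (Finset.univ.filter (· ∈ A))
        (by simp) (fun x : K => ((θ : K → ℂ) x * conj ((θ : K → ℂ) x)).re)]
      refine Finset.sum_le_sum_of_subset_of_nonneg (Finset.subset_univ _) fun x _ _ => ?_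
      rw [Complex.mul_conj, Complex.ofReal_re]
      exact Complex.normSq_nonneg _
    rw [h, h1, ← A.card_mul_index, h8] at hle
    simp only [← Nat.cast_mul, Complex.natCast_re, Nat.cast_le] at hle
    refine Nat.le_of_mul_le_mul_left ?_ (Nat.card_pos (α := A))
    calc Nat.card A * (e ^ 2 * O.card) = Nat.card A * (e * O.card * e) := by ring
      _ ≤ _ := hle
  have hdiv : 8 ≤ e * O.card * m := by
    have h := units_pairing A hconst (θ : K → ℂ)
    obtain ⟨j, hj⟩ := hχ.exists_nat_classInner θ.2.isCharacter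
    obtain ⟨i, hi⟩ := (isCharacter_one (G := K)).exists_nat_classInner θ.2.isCharacter
    rw [hj, hi, h8, hinner χ hχ.isClassFunction, hm,
      hinner (fun _ => 1) (fun _ _ => rfl), classInner_irr_ne isIrrCharacter_one φ.2
        (fun h => hφ1 (by rw [← h])), mul_zero, mul_zero, sub_zero] at h
    have hdvd : (8 : ℤ) ∣ ((e * O.card * m : ℕ) : ℤ) := ⟨(j : ℤ) - δ * i, by
      apply Int.cast_injective (α := ℂ)
      push_cast
      exact h.symm⟩
    exact Nat.le_of_dvd (Nat.mul_pos (Nat.mul_pos hepos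
      (Finset.card_pos.2 ⟨_, self_mem_twistOrbit A _⟩)) hmpos) (Int.natCast_dvd_natCast.1 hdvd)
  have hOm : O.card * m ≤ 2 := by nlinarith
  have h64 := Nat.mul_le_mul hdiv hdiv
  have : e * O.card * m * (e * O.card * m) = e ^ 2 * O.card * (O.card * m * m) := by ring
  have hOm2 : O.card * m * m ≤ 4 := by
    have : m ≤ 2 := le_trans (Nat.le_mul_of_pos_left m (Finset.card_pos.2 ⟨_, self_mem_twistOrbit A _⟩)) hOm
    calc O.card * m * m ≤ 2 * 2 := Nat.mul_le_mul hOm this
      _ = 4 := rfl
  nlinarith [Nat.mul_le_mul hnorm hOm2]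

/-- A centralized cyclic subgroup of odd prime order: the multiplicities. -/
theorem units_central {H : Type v} [Group H] [Fintype H]
    {χ : K × H → ℂ} (hχ : IsCharacter (K × H) χ)
    (hconst : ∀ x : K × H, x.2 ≠ 1 → χ x = δ) (l : K →* ℂˣ) (hl : l ≠ 1) {m : ℕ}
    (hm : classInner (fun a : K => χ (a, 1)) (fun a => (l a : ℂ)) = m) :
    Nat.card H ∣ m := by
  classical
  set θ : K × H → ℂ := fun x => (l x.1 : ℂ) with hθ
  have hθc : IsCharacter (K × H) θ :=
    (isIrrCharacter_linear (l.comp (MonoidHom.fst K H))).isCharacter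
  obtain ⟨j, hj⟩ := hχ.exists_nat_classInner hθc
  obtain ⟨i, hi⟩ := (isCharacter_one (G := K × H)).exists_nat_classInner hθc
  set B := (MonoidHom.snd K H).ker with hB
  let e : K ≃ B := ⟨fun a => ⟨(a, 1), rfl⟩, fun x => x.1.1, fun _ => rfl,
    fun x => Subtype.ext (Prod.ext rfl x.2.symm)⟩
  have hKB : ∀ f g : K × H → ℂ, classInner (fun x : B => f x) (fun x : B => g x) =
      classInner (fun a : K => f (a, 1)) (fun a : K => g (a, 1)) := by
    intro f g
    simp only [classInner, Nat.card_congr e]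
    congr 1
    exact (Fintype.sum_equiv e _ _ fun a => rfl).symm
  have hidx : B.index = Nat.card H := by
    rw [hB, Subgroup.index_ker, MonoidHom.range_eq_top.2 Prod.snd_surjective]
    exact Nat.card_congr Subgroup.topEquiv.toEquiv
  have h := units_pairing B (χ := χ) (fun x hx => hconst x (fun e => hx e)) θ
  rw [hj, hi, hidx, hKB, hKB (fun _ => 1) θ, hm,
    classInner_irr_ne isIrrCharacter_one (isIrrCharacter_linear l) (fun e => hl (MonoidHom.ext
      fun a => Units.ext (congrFun e a).symm)), mul_zero, sub_zero] at h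
  refine Int.natCast_dvd_natCast.1 ⟨(j : ℤ) - δ * i, ?_⟩
  apply Int.cast_injective (α := ℂ)
  push_cast
  exact h.symm

end Cfsg.Lib.GW
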