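import Mathlib.GroupTheory.SpecificGroups.Dihedral
import Mathlib.GroupTheory.Sylow
import Mathlib.GroupTheory.Index
import Mathlib.Tactic

/-!
# Generators of a dihedral 2-subgroup
-/

set_option autoImplicit false

namespace Cfsg.Lib.GW

universe u

variable {X : Type u} [Group X]

/-- `σ`, `τ` generate `P` as a dihedral group of order `2 ^ n`. -/
structure Gens (P : Subgroup X) (n : ℕ) (σ τ : X) : Prop where
  three_le : 3 ≤ n
  σ_mem : σ ∈ P
  τ_mem : τ ∈ P
  orderOf_σ : orderOf σ = 2 ^ (n - 1)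
  orderOf_τ : orderOf τ = 2
  rel : τ * σ * τ⁻¹ = σ⁻¹
  gen : Subgroup.closure ({σ, τ} : Set X) = P

theorem exists_gens {P : Subgroup X} {n : ℕ} (hn : 3 ≤ n)
    (h : Nonempty (P ≃* DihedralGroup (2 ^ (n - 1)))) : ∃ σ τ : X, Gens P n σ τ := by
  obtain ⟨e⟩ := h
  set f : DihedralGroup (2 ^ (n - 1)) →* X := P.subtype.comp e.symm.toMonoidHom with hf
  have hinj : Function.Injective f := P.subtype_injective.comp e.symm.injective
  have hrange : f.range = P := by
    rw [hf, MonoidHom.range_comp, MonoidHom.range_eq_top.2 e.symm.surjective,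
      ← MonoidHom.range_eq_map, Subgroup.range_subtype]
  refine ⟨f (DihedralGroup.r 1), f (DihedralGroup.sr 0), hn, (e.symm _).2, (e.symm _).2, ?_, ?_, ?_,
    ?_⟩
  · rw [orderOf_injective f hinj, DihedralGroup.orderOf_r_one]
  · rw [orderOf_injective f hinj, DihedralGroup.orderOf_sr]
  · rw [← map_inv, ← map_mul, ← map_mul, ← map_inv]
    refine congrArg f ?_
    rw [DihedralGroup.inv_r, DihedralGroup.inv_sr, DihedralGroup.sr_mul_r, DihedralGroup.sr_mul_sr]
    congr 1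
    ring
  · have hgen : Subgroup.closure ({DihedralGroup.r 1, DihedralGroup.sr 0} :
        Set (DihedralGroup (2 ^ (n - 1)))) = ⊤ := by
      refine eq_top_iff.2 fun x _ => ?_
      set K := Subgroup.closure ({DihedralGroup.r 1, DihedralGroup.sr 0} :
        Set (DihedralGroup (2 ^ (n - 1))))
      have hr : ∀ i : ZMod (2 ^ (n - 1)), DihedralGroup.r i ∈ K := fun i => by
        haveI : NeZero (2 ^ (n - 1)) := ⟨pow_ne_zero _ two_ne_zero⟩
        rw [← ZMod.natCast_zmod_val i, ← DihedralGroup.r_one_pow]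
        exact pow_mem (Subgroup.subset_closure (Set.mem_insert _ _)) _
      have hs : DihedralGroup.sr 0 ∈ K :=
        Subgroup.subset_closure (Set.mem_insert_of_mem _ rfl)
      cases x with
      | r i => exact hr i
      | sr i =>
        have := mul_mem hs (hr i)
        rwa [DihedralGroup.sr_mul_r, zero_add] at this
    have := congrArg (Subgroup.map f) hgen
    rwa [MonoidHom.map_closure, ← MonoidHom.range_eq_map, hrange, Set.image_pair] at this

namespace Gens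

variable {P : Subgroup X} {n : ℕ} {σ τ : X} (g : Gens P n σ τ)

include g

theorem orderOf_center : orderOf (σ ^ (2 ^ (n - 2))) = 2 := by
  have hn := g.three_le
  rw [orderOf_pow_of_dvd (pow_ne_zero _ two_ne_zero)
    (g.orderOf_σ ▸ pow_dvd_pow 2 (by omega)), g.orderOf_σ, Nat.pow_div (by omega) two_pos]
  rw [show n - 1 - (n - 2) = 1 by omega, pow_one]

theorem center_mem : σ ^ (2 ^ (n - 2)) ∈ P := pow_mem g.σ_mem _

theorem center_inv : (σ ^ (2 ^ (n - 2)))⁻¹ = σ ^ (2 ^ (n - 2)) := by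
  refine inv_eq_of_mul_eq_one_right ?_
  exact (pow_two _).symm.trans (orderOf_dvd_iff_pow_eq_one.1 g.orderOf_center.dvd)

theorem conj_τ_pow (k : ℕ) : τ * σ ^ k * τ⁻¹ = (σ ^ k)⁻¹ := by
  rw [← conj_pow, g.rel, inv_pow]

theorem center_commute_τ : τ * σ ^ (2 ^ (n - 2)) = σ ^ (2 ^ (n - 2)) * τ := by
  have h := g.conj_τ_pow (2 ^ (n - 2))
  rw [g.center_inv] at h
  exact mul_inv_eq_iff_eq_mul.1 h

theorem le_centralizer : P ≤ Subgroup.centralizer ({σ ^ (2 ^ (n - 2))} : Set X) := by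
  rw [← g.gen, Subgroup.closure_le]
  rintro x (rfl | rfl)
  · exact Subgroup.mem_centralizer_singleton_iff.2 ((Commute.refl x).pow_right _).eq
  · exact Subgroup.mem_centralizer_singleton_iff.2 g.center_commute_τ

/-- The normal form of the elements. -/
theorem exists_eq {x : X} (hx : x ∈ P) : ∃ (i : ℤ) (j : ℕ), x = σ ^ i * τ ^ j := by
  have hτn : Subgroup.zpowers τ ≤ Subgroup.normalizer ((Subgroup.zpowers σ : Subgroup X) : Set X) := by
    refine Subgroup.zpowers_le.2 (Subgroup.mem_normalizer_iff.2 fun y => ?_)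
    have key : ∀ y ∈ Subgroup.zpowers σ, τ * y * τ⁻¹ ∈ Subgroup.zpowers σ := by
      rintro _ ⟨k, rfl⟩
      show τ * σ ^ k * τ⁻¹ ∈ _
      rw [← conj_zpow, g.rel]
      exact Subgroup.zpow_mem _ (inv_mem (Subgroup.mem_zpowers σ)) k
    have hτ2 : τ * τ = 1 := by rw [← pow_two, ← g.orderOf_τ, pow_orderOf_eq_one]
    refine ⟨key y, fun h => ?_⟩
    have h2 := key _ h
    rwa [show τ * (τ * y * τ⁻¹) * τ⁻¹ = τ * τ * y * (τ * τ)⁻¹ by group, hτ2, one_mul, inv_one,
      mul_one] at h2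
  have hx' : x ∈ Subgroup.zpowers σ ⊔ Subgroup.zpowers τ := by
    rw [← g.gen, Set.insert_eq, Subgroup.closure_union, ← Subgroup.zpowers_eq_closure,
      ← Subgroup.zpowers_eq_closure] at hx
    exact hx
  rw [← SetLike.mem_coe, Subgroup.coe_mul_of_right_le_normalizer_left _ _ hτn] at hx'
  obtain ⟨a, ha, b, hb, rfl⟩ := hx'
  obtain ⟨i, rfl⟩ := Subgroup.mem_zpowers_iff.1 ha
  obtain ⟨j, rfl⟩ := (isOfFinOrder_iff_pow_eq_one.2
    ⟨2, two_pos, g.orderOf_τ ▸ pow_orderOf_eq_one τ⟩).mem_powers_iff_mem_zpowers.2 hb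
  exact ⟨i, j, rfl⟩

theorem subgroupOf {H : Subgroup X} (hσ : σ ∈ H) (hτ : τ ∈ H) :
    Gens (P.subgroupOf H) n (⟨σ, hσ⟩ : H) ⟨τ, hτ⟩ := by
  refine ⟨g.three_le, g.σ_mem, g.τ_mem, ?_, ?_, Subtype.ext g.rel, ?_⟩
  · rw [Subgroup.orderOf_mk, g.orderOf_σ]
  · rw [Subgroup.orderOf_mk, g.orderOf_τ]
  · have hle : P ≤ H := by
      rw [← g.gen, Subgroup.closure_le]
      rintro x (rfl | rfl) <;> assumption
    apply Subgroup.map_injective H.subtype_injective
    rw [MonoidHom.map_closure, Set.image_pair, Subgroup.subgroupOf_map_subtype,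
      inf_of_le_left hle]
    exact g.gen

/-- The intersection with a subgroup of index two containing `τ` but not `σ`. -/
theorem inf_index_two {H₀ : Subgroup X} (h2 : H₀.index = 2) (hτ : τ ∈ H₀) (hσ : σ ∉ H₀) :
    Subgroup.closure ({σ ^ 2, τ} : Set X) = P ⊓ H₀ := by
  have hsq : σ ^ 2 ∈ H₀ := by
    rw [pow_two]
    exact Subgroup.mul_self_mem_of_index_two h2 σ
  refine le_antisymm ?_ ?_
  · rw [Subgroup.closure_le]
    rintro x (rfl | rfl)
    · exact ⟨pow_mem g.σ_mem 2, hsq⟩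
    · exact ⟨g.τ_mem, hτ⟩
  · have hKσ : σ ^ 2 ∈ Subgroup.closure ({σ ^ 2, τ} : Set X) :=
      Subgroup.subset_closure (Set.mem_insert _ _)
    have hKτ : τ ∈ Subgroup.closure ({σ ^ 2, τ} : Set X) :=
      Subgroup.subset_closure (Set.mem_insert_of_mem _ rfl)
    generalize Subgroup.closure ({σ ^ 2, τ} : Set X) = K at hKσ hKτ ⊢
    rintro x ⟨hxP, hxH⟩
    obtain ⟨i, j, rfl⟩ := g.exists_eq hxP
    have hi : σ ^ i ∈ H₀ := by
      have := H₀.mul_mem hxH (H₀.inv_mem (H₀.pow_mem hτ j))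
      rwa [mul_inv_cancel_right] at this
    have key : ∀ k : ℤ, σ ^ (2 * k) = (σ ^ 2) ^ k := fun k => by
      rw [zpow_mul, zpow_two, pow_two]
    obtain ⟨k, hk⟩ | ⟨k, hk⟩ := Int.even_or_odd i
    · have h1 : σ ^ i ∈ K := by
        rw [hk, ← two_mul, key]
        exact K.zpow_mem hKσ k
      exact K.mul_mem h1 (K.pow_mem hKτ j)
    · exfalso
      apply hσ
      have h3 : σ ^ (2 * k) ∈ H₀ := by
        rw [key]
        exact Subgroup.zpow_mem _ hsq k
      rw [hk, zpow_add, zpow_one] at hi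
      exact (Subgroup.mul_mem_cancel_left _ h3).1 hi

theorem index_two {H₀ : Subgroup X} (hn : 4 ≤ n) (h2 : H₀.index = 2) (hτ : τ ∈ H₀)
    (hσ : σ ∉ H₀) : Gens (P ⊓ H₀) (n - 1) (σ ^ 2) τ := by
  have hsq : σ ^ 2 ∈ H₀ := by
    rw [pow_two]
    exact Subgroup.mul_self_mem_of_index_two h2 σ
  refine ⟨by omega, ⟨pow_mem g.σ_mem 2, hsq⟩, ⟨g.τ_mem, hτ⟩, ?_, g.orderOf_τ, g.conj_τ_pow 2,
    g.inf_index_two h2 hτ hσ⟩
  rw [orderOf_pow_of_dvd two_ne_zero (g.orderOf_σ ▸ dvd_pow_self 2 (by omega)), g.orderOf_σ]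
  conv_lhs => rw [show n - 1 = n - 1 - 1 + 1 by omega, pow_succ, Nat.mul_div_cancel _ two_pos]

end Gens

end Cfsg.Lib.GW
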