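import Cfsg.Agent.Lib.GW.OddMaxBase

/-!
# Gorenstein–Walter, Theorem A: Bender's method at a maximal overgroup with odd Fitting subgroup

`Ctx t u h d M`: `M` is a maximal overgroup of `C(t)` with `F*(M) = F(M)` of odd order, `h` interchanges
the commuting involutions `t`, `u` and is not in `M`, `d ∈ C(t)` interchanges `u` and `t * u`.
A prime `r` is an anchor if `t` inverts a nontrivial element of `O_r(M)` and the centralizer of these
elements is in `M`. Then the normalizers of the four-group-invariant subgroups of the other parts of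
`F(M)` are in `M`.
-/

set_option autoImplicit false
set_option linter.style.haveILetI false
set_option linter.unusedSectionVars false

namespace Cfsg.Lib.GW.OddMax

open Subgroup
open Cfsg.Agent.S1312 (Op op_le op_isPGroup le_normalizer_op op_commute normalizer_eq_max)
open Cfsg.Lib.Sig.BenderPair (mem_op_of_fitting op_le_fitting dvd_card_fitting_iff inf_eq_bot op_le_left)

universe u

variable {G : Type u} [Group G] [Finite G]

/-- The setting. -/
structure Ctx (t u h d : G) (M : Subgroup G) : Prop where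
  hG : GWMin G
  ht : orderOf t = 2
  hu : orderOf u = 2
  hne : u ≠ t
  hc : Commute t u
  max : IsCoatom M
  le : centralizer ({t} : Set G) ≤ M
  layer : Cfsg.layer ↥M = ⊥
  odd : Odd (Nat.card ↥(Cfsg.fittingSubgroup ↥M))
  hh : h * t * h⁻¹ = u
  hh' : h * u * h⁻¹ = t
  hd : Commute d t
  hdu : d * u * d⁻¹ = t * u
  hM : h ∉ M

/-- The elements of `O_r(M)` inverted by `t`. -/
def invertedIn (t : G) (M : Subgroup G) (r : ℕ) : Set G :=
  {x | x ∈ Op r M ∧ t * x * t = x⁻¹}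

/-- `t` inverts a nontrivial element of `O_r(M)`, and the centralizer of these elements is in `M`. -/
structure Anchor (t : G) (M : Subgroup G) (r : ℕ) : Prop where
  prime : r.Prime
  moved : ∃ x ∈ invertedIn t M r, x ≠ 1
  le : centralizer (invertedIn t M r) ≤ M

/-- Elements of `M` centralizing all parts of `F*(M) = F(M)` are in it. -/
theorem mem_fitting_of_commute {M : Subgroup G} (hl : Cfsg.layer ↥M = ⊥) {z : G} (hz : z ∈ M)
    (h : ∀ r, r.Prime → ∀ m ∈ Op r M, Commute z m) : z ∈ (Cfsg.fittingSubgroup ↥M).map M.subtype := by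
  have hgf := Cfsg.Lib.Core.generalizedFitting_eq_fitting_of_layer_eq_bot hl
  have hle : Cfsg.fittingSubgroup ↥M ≤ centralizer ({⟨z, hz⟩} : Set ↥M) := by
    rw [Cfsg.Lib.Core.fittingSubgroup_eq_iSup_pCore]
    refine iSup_le fun r m hm => mem_centralizer_singleton_iff.2 (Subtype.ext ?_)
    exact (h r r.2 _ (mem_map_of_mem M.subtype hm)).symm.eq
  have hc : (⟨z, hz⟩ : ↥M) ∈ centralizer (Cfsg.generalizedFittingSubgroup ↥M : Set ↥M) := by
    rw [hgf]
    exact mem_centralizer_iff.2 fun m hm => mem_centralizer_singleton_iff.1 (hle hm)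
  have := Cfsg.Lib.Core.centralizer_generalizedFitting_le hc
  rw [hgf] at this
  exact mem_map_of_mem M.subtype this

/-- An element commuting with `t` normalizes the subgroup generated by inverted elements. -/
theorem conj_mem_invertedIn {t c x : G} {M : Subgroup G} {r : ℕ} (hc : c ∈ M) (hct : Commute c t)
    (hx : x ∈ invertedIn t M r) : c * x * c⁻¹ ∈ invertedIn t M r := by
  refine ⟨conj_mem_op hc hx.1, ?_⟩
  calc t * (c * x * c⁻¹) * t = (t * c) * x * (c⁻¹ * t) := by group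
    _ = (c * t) * x * (t * c⁻¹) := by rw [hct.symm.eq, hct.inv_left.eq]
    _ = c * (t * x * t) * c⁻¹ := by group
    _ = _ := by rw [hx.2]; group

variable {t u h d : G} {M : Subgroup G} (C : Ctx t u h d M)

namespace Ctx

include C

theorem tt : t * t = 1 := Cfsg.Lib.Invol.inv_mul_self C.ht

theorem uu : u * u = 1 := Cfsg.Lib.Invol.inv_mul_self C.hu

theorem ww : t * u * (t * u) = 1 := by
  rw [mul_assoc, ← mul_assoc u t, ← C.hc.eq, mul_assoc, C.uu, mul_one, C.tt]

theorem mem_of_commute {x : G} (hx : Commute t x) : x ∈ M :=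
  C.le (mem_centralizer_singleton_iff.2 hx.symm.eq)

theorem t_mem : t ∈ M := C.mem_of_commute (Commute.refl t)

theorem u_mem : u ∈ M := C.mem_of_commute C.hc

theorem d_mem : d ∈ M := C.mem_of_commute C.hd.symm

theorem kproper : Cfsg.IsKProper G := isKProper_of_below C.hG.below C.hG.twoCycDih

theorem ne_top : M ≠ ⊤ := C.max.1

theorem op_two : Op 2 M = ⊥ := by
  haveI : Fact (Nat.Prime 2) := ⟨Nat.prime_two⟩
  by_contra hne
  exact (Nat.not_even_iff_odd.2 C.odd) (even_iff_two_dvd.2 ((dvd_card_fitting_iff M 2).2 hne))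

theorem op_odd {r : ℕ} [Fact r.Prime] {x : G} (hx : x ∈ Op r M) : Odd (orderOf x) := by
  by_cases hr : r = 2
  · subst hr
    rw [C.op_two, mem_bot] at hx
    simp [hx]
  · exact conj_odd hr (op_isPGroup r M) hx

theorem ne_two {r : ℕ} {x : G} (hx : x ∈ Op r M) (hx1 : x ≠ 1) : r ≠ 2 := fun hr => by
  rw [hr, C.op_two, mem_bot] at hx
  exact hx1 hx

theorem fix_t {r : ℕ} {x : G} (hx : x ∈ Op r M) : t * x * t ∈ Op r M := by
  simpa [inv_eq_of_mul_eq_one_right C.tt] using conj_mem_op C.t_mem hx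

theorem fix_u {r : ℕ} {x : G} (hx : x ∈ Op r M) : u * x * u ∈ Op r M := by
  simpa [inv_eq_of_mul_eq_one_right C.uu] using conj_mem_op C.u_mem hx

theorem centralizer_u_le : centralizer ({u} : Set G) ≤ M.map (MulAut.conj h).toMonoidHom := by
  intro x hx
  refine ⟨h⁻¹ * x * h, C.mem_of_commute ?_, by simp [mul_assoc]⟩
  have hxu : Commute x u := mem_centralizer_singleton_iff.1 hx
  have h1 := hxu.symm.map (MulAut.conj h⁻¹).toMonoidHom
  simp only [MulEquiv.coe_toMonoidHom, MulAut.conj_apply, inv_inv] at h1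
  rwa [show h⁻¹ * u * h = t by rw [← C.hh]; group] at h1

theorem mem_conj_of_commute {x : G} (hx : Commute u x) : x ∈ M.map (MulAut.conj h).toMonoidHom :=
  C.centralizer_u_le (mem_centralizer_singleton_iff.2 hx.symm.eq)

theorem hh_mem : h * h ∈ M := by
  refine C.mem_of_commute (mul_inv_eq_iff_eq_mul.1 ?_).symm
  calc h * h * t * (h * h)⁻¹ = h * (h * t * h⁻¹) * h⁻¹ := by group
    _ = t := by rw [C.hh, C.hh']

/-- `h` interchanges `M` and its conjugate. -/
theorem conj_back {x : G} (hx : x ∈ M.map (MulAut.conj h).toMonoidHom) : h * x * h⁻¹ ∈ M := by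
  obtain ⟨m, hm, rfl⟩ := hx
  show h * (h * m * h⁻¹) * h⁻¹ ∈ M
  rw [show h * (h * m * h⁻¹) * h⁻¹ = (h * h) * m * (h * h)⁻¹ by group]
  exact mul_mem (mul_mem C.hh_mem hm) (inv_mem C.hh_mem)

theorem mem_op_conj {r : ℕ} [Fact r.Prime] {x : G} (hx : x ∈ Op r M) :
    h * x * h⁻¹ ∈ Op r (M.map (MulAut.conj h).toMonoidHom) := by
  rw [op_map_conj]
  exact ⟨x, hx, rfl⟩

theorem op_conj_back {r : ℕ} [Fact r.Prime] {x : G} (hx : x ∈ Op r (M.map (MulAut.conj h).toMonoidHom)) :
    h * x * h⁻¹ ∈ Op r M := by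
  rw [op_map_conj] at hx
  obtain ⟨m, hm, rfl⟩ := hx
  show h * (h * m * h⁻¹) * h⁻¹ ∈ _
  rw [show h * (h * m * h⁻¹) * h⁻¹ = (h * h) * m * (h * h)⁻¹ by group]
  exact conj_mem_op C.hh_mem hm

theorem op_conj_odd {r : ℕ} [Fact r.Prime] {x : G} (hx : x ∈ Op r (M.map (MulAut.conj h).toMonoidHom)) :
    Odd (orderOf x) := by
  rw [← Cfsg.Lib.Invol.orderOf_conj_eq h x]
  exact C.op_odd (C.op_conj_back hx)

/-- The frame with `u` and `t * u` interchanged. -/
theorem swap : Ctx t (t * u) (d * h * d⁻¹) d⁻¹ M where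
  hG := C.hG
  ht := C.ht
  hu := Cfsg.Lib.Invol.orderOf_eq_two_of (fun e => C.hne (by
    rw [eq_inv_of_mul_eq_one_right e, inv_eq_of_mul_eq_one_right C.tt])) C.ww
  hne := fun e => Cfsg.Lib.Invol.ne_one C.hu (mul_eq_left.1 e)
  hc := (Commute.refl t).mul_right C.hc
  max := C.max
  le := C.le
  layer := C.layer
  odd := C.odd
  hh := by
    calc d * h * d⁻¹ * t * (d * h * d⁻¹)⁻¹ = d * (h * (d⁻¹ * t * d) * h⁻¹) * d⁻¹ := by group
      _ = _ := by rw [mul_assoc d⁻¹ t d, ← C.hd.eq, inv_mul_cancel_left, C.hh, C.hdu]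
  hh' := by
    calc d * h * d⁻¹ * (t * u) * (d * h * d⁻¹)⁻¹ = d * (h * (d⁻¹ * (t * u) * d) * h⁻¹) * d⁻¹ := by group
      _ = _ := by
        rw [show d⁻¹ * (t * u) * d = u by rw [← C.hdu]; group, C.hh', C.hd.eq, mul_inv_cancel_right]
  hd := C.hd.inv_left
  hdu := by
    rw [inv_inv, show d⁻¹ * (t * u) * d = u by rw [← C.hdu]; group, ← mul_assoc, C.tt, one_mul]
  hM := fun hm => C.hM (by
    have := mul_mem (mul_mem (inv_mem C.d_mem) hm) C.d_mem
    simpa [mul_assoc] using this)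

theorem exists_moved : ∃ r, r.Prime ∧ ∃ x ∈ Op r M, ¬ Commute t x := by
  by_contra hall
  push Not at hall
  obtain ⟨m, hm, hmt⟩ := mem_fitting_of_commute C.layer C.t_mem hall
  have h1 := C.odd.of_dvd_nat (Subgroup.orderOf_dvd_natCard _ hm)
  rw [show orderOf m = 2 by rw [← orderOf_coe, show (m : G) = t from hmt, C.ht]] at h1
  exact absurd h1 (by decide)

/-- A moved part has an element fixed by `u` and inverted by `t`. -/
theorem exists_side {r : ℕ} [Fact r.Prime] (hmv : ∃ x ∈ Op r M, ¬ Commute t x) :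
    ∃ z ∈ Op r M, z ≠ 1 ∧ Commute u z ∧ t * z * t = z⁻¹ := by
  obtain ⟨x, hx, hxt⟩ := hmv
  obtain ⟨c, hc, hcu, hct⟩ : ∃ c ∈ Op r M, Commute u c ∧ ¬ Commute t c := by
    by_contra hall
    push Not at hall
    refine hxt ?_
    obtain ⟨V, hVK, huV, htV, -⟩ := Cfsg.Agent.S1255.exists_four C.uu C.tt
      (Cfsg.Lib.Invol.ne_one C.hu) (Cfsg.Lib.Invol.ne_one C.ht) C.hne C.hc.symm.eq
    haveI := hVK
    haveI : IsMulCommutative V := ⟨⟨fun a b => Subtype.ext (Cfsg.Lib.Invol.klein_comm a.2 b.2)⟩⟩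
    have hle : Op r M ≤ centralizer ({t} : Set G) := by
      refine (Cfsg.Lib.Coprime.le_iSup_centralizer_of_not_isCyclic (A := V) (G := Op r M)
        IsKleinFour.not_isCyclic ?_ ?_).trans (iSup_le fun a => ?_)
      · intro w hw
        by_cases hw1 : w = 1
        · rw [hw1]; exact one_mem _
        rcases Cfsg.Lib.Invol.klein_mem_cases huV htV (Cfsg.Lib.Invol.ne_one C.hu)
          (Cfsg.Lib.Invol.ne_one C.ht) C.hne hw hw1 with rfl | rfl | rfl
        · exact le_normalizer_op r M C.u_mem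
        · exact le_normalizer_op r M C.t_mem
        · exact le_normalizer_op r M (mul_mem C.u_mem C.t_mem)
      · rw [IsKleinFour.card_four, show (4 : ℕ) = 2 ^ 2 by norm_num]
        refine (Nat.coprime_two_left.2 ?_).pow_left 2
        rw [← Nat.not_even_iff_odd, even_iff_two_dvd]
        intro h2
        haveI : Fact (Nat.Prime 2) := ⟨Nat.prime_two⟩
        obtain ⟨y, hy⟩ := exists_prime_orderOf_dvd_card' 2 h2
        have := C.op_odd y.2
        rw [orderOf_coe, hy] at this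
        exact absurd this (by decide)
      · obtain ⟨a, ha, ha1⟩ := a
        rintro y ⟨hy, hya⟩
        have hya' : Commute y a := mem_centralizer_singleton_iff.1 hya
        refine mem_centralizer_singleton_iff.2 ?_
        rcases Cfsg.Lib.Invol.klein_mem_cases huV htV (Cfsg.Lib.Invol.ne_one C.hu)
          (Cfsg.Lib.Invol.ne_one C.ht) C.hne ha ha1 with rfl | rfl | rfl
        · exact (hall y hy hya'.symm).symm.eq
        · exact hya'.eq
        · have h1 := hya'.symm.map (MulAut.conj d).toMonoidHom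
          simp only [MulEquiv.coe_toMonoidHom, MulAut.conj_apply] at h1
          rw [show d * (u * t) * d⁻¹ = u by
            rw [show d * (u * t) * d⁻¹ = (d * u * d⁻¹) * (d * t * d⁻¹) by group, C.hdu, C.hd.eq,
              mul_inv_cancel_right, C.hc.eq, mul_assoc, C.tt, mul_one]] at h1
          have h2 := (hall _ (conj_mem_op C.d_mem hy) h1).map (MulAut.conj d⁻¹).toMonoidHom
          simp only [MulEquiv.coe_toMonoidHom, MulAut.conj_apply, inv_inv] at h2
          rw [show d⁻¹ * t * d = t by rw [mul_assoc, ← C.hd.eq, inv_mul_cancel_left],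
            show d⁻¹ * (d * y * d⁻¹) * d = y by group] at h2
          exact h2.symm.eq
    exact (mem_centralizer_singleton_iff.1 (hle hx)).symm
  refine ⟨c⁻¹ * (t * c * t), mul_mem (inv_mem hc) (C.fix_t hc), fun e => hct ?_, ?_, ?_⟩
  · exact commute_of_conj_self C.tt (inv_mul_eq_one.1 e).symm
  · exact hcu.inv_right.mul_right ((C.hc.symm.mul_right hcu).mul_right C.hc.symm)
  · rw [mul_inv_rev, inv_inv, mul_inv_rev, mul_inv_rev, inv_eq_of_mul_eq_one_right C.tt]
    calc t * (c⁻¹ * (t * c * t)) * t = t * c⁻¹ * t * c * (t * t) := by group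
      _ = _ := by rw [C.tt, mul_one]; group

/-- In its conjugate it is fixed by `t` and inverted by `u`. -/
theorem exists_side_conj {r : ℕ} [Fact r.Prime] (hmv : ∃ x ∈ Op r M, ¬ Commute t x) :
    ∃ y ∈ Op r (M.map (MulAut.conj h).toMonoidHom), y ≠ 1 ∧ Commute t y ∧ u * y * u = y⁻¹ := by
  obtain ⟨z, hz, hz1, hzu, hzt⟩ := C.exists_side hmv
  refine ⟨_, C.mem_op_conj hz, fun e => hz1 (conj_eq_one_iff.1 e), ?_, ?_⟩
  · have := fixed_conj (h := h) hzu
    rwa [C.hh'] at this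
  · have := inverted_conj (h := h) hzt
    rwa [C.hh] at this

/-- Elements of `O_s(M')` fixed by `t` and inverted by `u` centralize `O_r(M)`. -/
theorem commute_op {s r : ℕ} [Fact s.Prime] [Fact r.Prime] (hsr : r ≠ s) {y : G}
    (hy : y ∈ Op s (M.map (MulAut.conj h).toMonoidHom)) (hyt : Commute t y) (hyu : u * y * u = y⁻¹)
    {x : G} (hx : x ∈ Op r M) : Commute y x := by
  by_cases hx1 : x = 1
  · rw [hx1]; exact Commute.one_right y
  have hyM : y ∈ M := C.mem_of_commute hyt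
  refine commute_of_fixed_commute (C.ne_two hx hx1) (op_isPGroup r M) C.uu (fun a ha => C.fix_u ha)
    (le_normalizer_op r M hyM) hyu (C.op_conj_odd hy) ?_ ?_ x hx
  · obtain ⟨k, hk⟩ := IsPGroup.iff_orderOf.1 (op_isPGroup s _) ⟨y, hy⟩
    rw [← orderOf_coe] at hk
    rw [hk]
    exact ((Nat.coprime_primes Fact.out Fact.out).2 (Ne.symm hsr)).pow_left k
  · intro a ha hau
    have h1 : y * a * y⁻¹ * a⁻¹ ∈ Op r M := mul_mem (conj_mem_op hyM ha) (inv_mem ha)
    have h2 : y * a * y⁻¹ * a⁻¹ ∈ Op s (M.map (MulAut.conj h).toMonoidHom) := by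
      rw [show y * a * y⁻¹ * a⁻¹ = y * (a * y⁻¹ * a⁻¹) by group]
      exact mul_mem hy (conj_mem_op (C.mem_conj_of_commute hau) (inv_mem hy))
    have h3 := eq_one_of_two_primes hsr (op_isPGroup r M) (op_isPGroup s _) h1 h2
    exact mul_inv_eq_iff_eq_mul.1 (mul_inv_eq_one.1 h3)

/-- A subgroup with a component leaves one of the three involutions without witness. -/
theorem layer_eq_bot_of_witnesses {N : Subgroup G} (hN : N ≠ ⊤) (htN : t ∈ N) (huN : u ∈ N)
    {r r' r'' : ℕ} [Fact r.Prime] [Fact r'.Prime] [Fact r''.Prime] {x y z : G}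
    (hx : x ∈ Op r M) (hxN : x ∈ N) (hx1 : x ≠ 1) (hxt : t * x * t = x⁻¹)
    (hy : y ∈ Op r' (M.map (MulAut.conj h).toMonoidHom)) (hyN : y ∈ N) (hy1 : y ≠ 1) (hyu : u * y * u = y⁻¹)
    (hz : z ∈ Op r'' (M.map (MulAut.conj (d * h * d⁻¹)).toMonoidHom)) (hzN : z ∈ N) (hz1 : z ≠ 1)
    (hzw : t * u * z * (t * u) = z⁻¹) : Cfsg.layer ↥N = ⊥ := by
  by_contra hL
  obtain ⟨v, hv, -, hP⟩ := exists_inner C.hG C.ht C.hu C.hne C.hc N hN htN huN hL
  have key : ∀ (K : Subgroup G) (s : ℕ) [Fact s.Prime], centralizer ({v} : Set G) ≤ K →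
      (∀ a ∈ Op s K, Odd (orderOf a)) → ∀ a ∈ Op s K, a ∈ N → v * a * v = a⁻¹ → a = 1 := by
    intro K s _ hK ho a ha haN hav
    refine hP (Op s K ⊓ N) inf_le_right ?_ ((op_isPGroup s K).to_le inf_le_left).isNilpotent ?_ a ⟨ha, haN⟩ hav
    · rw [← Nat.not_even_iff_odd, even_iff_two_dvd]
      intro h2
      haveI : Fact (Nat.Prime 2) := ⟨Nat.prime_two⟩
      obtain ⟨b, hb⟩ := exists_prime_orderOf_dvd_card' 2 h2
      have := ho _ b.2.1
      rw [orderOf_coe, hb] at this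
      exact absurd this (by decide)
    · intro c hc
      refine mem_normalizer_fintype fun b hb => ⟨conj_mem_op (hK hc.2) hb.1, ?_⟩
      show c * b * c⁻¹ ∈ N
      exact mul_mem (mul_mem hc.1 hb.2) (inv_mem hc.1)
  rcases hv with rfl | rfl | rfl
  · exact hx1 (key M r C.le (fun a => C.op_odd) x hx hxN hxt)
  · exact hy1 (key _ r' C.centralizer_u_le (fun a => C.op_conj_odd) y hy hyN hyu)
  · exact hz1 (key _ r'' C.swap.centralizer_u_le (fun a => C.swap.op_conj_odd) z hz hzN hzw)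

/-- The parts of `F(N)` outside `π(F(M))` are inverted by `t` and meet `M` trivially. -/
theorem op_facts {N Q : Subgroup G} (htN : t ∈ N) (hQF : Q ≤ (Cfsg.fittingSubgroup ↥M).map M.subtype)
    (hQN : (Cfsg.generalizedFittingSubgroup ↥M).map M.subtype ⊓ normalizer (Q : Set G) ≤ N)
    (q : ℕ) [Fact q.Prime] (hqM : Op q M = ⊥) :
    Op q N ⊓ M = ⊥ ∧ (∀ b ∈ Op q N, t * b * t = b⁻¹) ∧ (∀ b ∈ Op q N, Odd (orderOf b)) := by
  have hinf := inf_eq_bot hQF hQN q hqM
  have hfix : ∀ b ∈ Op q N, Commute t b → b = 1 := fun b hb hbt => by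
    have hm : b ∈ Op q N ⊓ M := ⟨hb, C.mem_of_commute hbt⟩
    rwa [hinf, mem_bot] at hm
  have hinv : ∀ b ∈ Op q N, t * b * t = b⁻¹ := fun b hb =>
    inverts_of_fixed_trivial C.tt (fun x hx => by
      simpa [inv_eq_of_mul_eq_one_right C.tt] using conj_mem_op htN hx) hfix hb
  refine ⟨hinf, hinv, fun b hb => ?_⟩
  by_cases hq : q = 2
  · subst hq
    suffices hbot : Op 2 N = ⊥ by rw [hbot, mem_bot] at hb; simp [hb]
    by_contra hne
    obtain ⟨r, hr⟩ := exists_prime_orderOf_dvd_card' (G := ↥(Op 2 N)) 2 (by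
      obtain ⟨k, hk⟩ := (op_isPGroup 2 N).exists_card_eq
      rw [hk]
      exact dvd_pow_self 2 fun h0 => hne (card_eq_one.1 (by rw [hk, h0, pow_zero])))
    rw [← orderOf_coe] at hr
    refine Cfsg.Lib.Invol.ne_one hr (hfix _ r.2 (commute_of_conj_self C.tt ?_))
    rw [hinv _ r.2, Cfsg.Lib.Invol.inv_eq_self hr]
  · exact conj_odd hq (op_isPGroup q N) hb

/-- Bender: `F(N) ≤ M` as soon as its parts outside `π(F(M))` vanish. -/
theorem op_le (h2 : TwoPrimes M) {N Q : Subgroup G}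
    (hQF : Q ≤ (Cfsg.fittingSubgroup ↥M).map M.subtype)
    (hQN : (Cfsg.generalizedFittingSubgroup ↥M).map M.subtype ⊓ normalizer (Q : Set G) ≤ N)
    (q : ℕ) [Fact q.Prime] (hqM : Op q M ≠ ⊥) : Op q N ≤ M := by
  haveI := C.hG.isSimple
  obtain ⟨r, hr, hrq, hrM⟩ := h2 q
  haveI : Fact r.Prime := ⟨hr⟩
  exact op_le_left C.max hQF hQN hrq.symm hqM hrM

theorem fitting_ne_bot (h2 : TwoPrimes M) : (Cfsg.fittingSubgroup ↥M).map M.subtype ≠ ⊥ := by
  obtain ⟨q, hq, -, hne⟩ := h2 0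
  haveI : Fact q.Prime := ⟨hq⟩
  exact fun h => hne (eq_bot_iff.2 ((op_le_fitting M q).trans h.le))

/-- In a symmetrical situation two maximal subgroups coincide. -/
theorem eq_of_leadsTo (h2 : TwoPrimes M) {N : Subgroup G} (hN : IsCoatom N) (hMN : Cfsg.leadsTo M N)
    (hNM : Cfsg.leadsTo N M) : M = N := by
  haveI := C.hG.isSimple
  rcases Cfsg.Agent.S1857.result C.hG.nonab C.kproper M N C.max hN hMN hNM with h | ⟨p, hp, hMp, -⟩
  · exact h
  exfalso
  haveI : Fact p.Prime := ⟨hp⟩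
  obtain ⟨q, hq, hqp, hqM⟩ := h2 p
  haveI : Fact q.Prime := ⟨hq⟩
  rw [Cfsg.Lib.Core.generalizedFitting_eq_fitting_of_layer_eq_bot C.layer] at hMp
  refine hqM (eq_bot_iff.2 fun x hx => mem_bot.2 ?_)
  exact eq_one_of_two_primes hqp (op_isPGroup q M) (hMp.map M.subtype) hx (op_le_fitting M q hx)

/-- A maximal subgroup met in `F(N) ≤ M` is `M`. -/
theorem eq_of_fitting_le (h2 : TwoPrimes M) {N : Subgroup G} (hN : IsCoatom N) (htN : t ∈ N)
    (hl : Cfsg.layer ↥N = ⊥) (hMN : Cfsg.leadsTo M N) (hle : ∀ q, q.Prime → Op q N ≤ M) : M = N := by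
  haveI : Nontrivial ↥N :=
    ⟨⟨⟨t, htN⟩, 1, fun e => Cfsg.Lib.Invol.ne_one C.ht (congrArg Subtype.val e)⟩⟩
  refine C.eq_of_leadsTo h2 hN hMN (leadsTo_fitting hl (fun h => ?_) (fitting_le_iff.2 hle))
  refine Cfsg.Lib.Core.generalizedFitting_ne_bot (G := ↥N) ?_
  rw [Cfsg.Lib.Core.generalizedFitting_eq_fitting_of_layer_eq_bot hl]
  exact (map_eq_bot_iff_of_injective _ N.subtype_injective).1 h

/-- A maximal subgroup containing the inverted elements of an anchor is `M`. -/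
theorem eq_of_anchor (h2 : TwoPrimes M) {r : ℕ} (hA : Anchor t M r) {N : Subgroup G} (hN : IsCoatom N)
    (htN : t ∈ N) (hl : Cfsg.layer ↥N = ⊥) {Q : Subgroup G} (hQ : Q ≠ ⊥)
    (hQF : Q ≤ (Cfsg.fittingSubgroup ↥M).map M.subtype) (hQN : normalizer (Q : Set G) ≤ N)
    (hsub : ∀ x ∈ invertedIn t M r, x ∈ N) : M = N := by
  haveI : Fact r.Prime := ⟨hA.prime⟩
  have hQN' : (Cfsg.generalizedFittingSubgroup ↥M).map M.subtype ⊓ normalizer (Q : Set G) ≤ N :=
    inf_le_right.trans hQN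
  refine C.eq_of_fitting_le h2 hN htN hl ⟨Q, hQ, hQF, hQN'⟩ fun q hq => ?_
  haveI : Fact q.Prime := ⟨hq⟩
  by_cases hqM : Op q M = ⊥
  · obtain ⟨-, hinv, hodd⟩ := C.op_facts htN hQF hQN' q hqM
    refine le_trans (fun b hb => mem_centralizer_iff.2 fun x hx => ?_) hA.le
    exact commute_of_inverted_inverted C.tt hx.2 (hinv b hb) (hinv _ (conj_mem_op (hsub x hx) hb))
      (C.op_odd hx.1)
  · exact C.op_le h2 hQF hQN' q hqM

theorem exists_max {Q : Subgroup G} (hQ : Q ≠ ⊥) (hQM : Q ≤ M) :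
    ∃ N : Subgroup G, IsCoatom N ∧ normalizer (Q : Set G) ≤ N := by
  haveI := C.hG.isSimple
  refine (eq_top_or_exists_le_coatom _).resolve_left fun e => ?_
  rcases IsSimpleGroup.eq_bot_or_eq_top_of_normal Q (normalizer_eq_top_iff.1 e) with h' | h'
  · exact hQ h'
  · exact C.ne_top (top_le_iff.1 (h' ▸ hQM))

/-- Away from an anchor the normalizers of the invariant subgroups of `F(M)` are in `M`. -/
theorem normalizer_le (h2 : TwoPrimes M) {r : ℕ} (hA : Anchor t M r) {l : ℕ} [Fact l.Prime] (hlr : l ≠ r)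
    {Q : Subgroup G} (hQ : Q ≠ ⊥) (hQl : Q ≤ Op l M) (htQ : t ∈ normalizer (Q : Set G))
    (huQ : u ∈ normalizer (Q : Set G)) : normalizer (Q : Set G) ≤ M := by
  haveI : Fact r.Prime := ⟨hA.prime⟩
  obtain ⟨N, hN, hQN⟩ := C.exists_max hQ (hQl.trans (Cfsg.Agent.S1312.op_le l M))
  have hcen : ∀ x, (∀ a ∈ Op l M, Commute x a) → x ∈ N := fun x hx =>
    hQN (centralizer_le_normalizer _ (mem_centralizer_iff.2 fun a ha => (hx a (hQl ha)).symm.eq))
  have hsub : ∀ x ∈ invertedIn t M r, x ∈ N := fun x hx =>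
    hcen x fun a ha => op_commute (Ne.symm hlr) M hx.1 ha
  obtain ⟨x, hx, hx1⟩ := hA.moved
  have hmv : ∃ a ∈ Op r M, ¬ Commute t a := ⟨x, hx.1, fun hc =>
    hx1 (eq_one_of_fixed_inverted C.tt hc hx.2 (C.op_odd hx.1))⟩
  obtain ⟨y, hy, hy1, hyt, hyu⟩ := C.exists_side_conj hmv
  obtain ⟨z, hz, hz1, hzt, hzw⟩ := C.swap.exists_side_conj hmv
  have hl : Cfsg.layer ↥N = ⊥ := C.layer_eq_bot_of_witnesses hN.1 (hQN htQ) (hQN huQ) hx.1 (hsub x hx) hx1 hx.2
    hy (hcen y fun a ha => C.commute_op hlr hy hyt hyu ha) hy1 hyu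
    hz (hcen z fun a ha => C.swap.commute_op hlr hz hzt hzw ha) hz1 hzw
  rw [C.eq_of_anchor h2 hA hN (hQN htQ) hl hQ (hQl.trans (op_le_fitting M l)) hQN hsub]
  exact hQN

theorem le_normalizer_closure {c : G} (hc : c ∈ M) (hct : Commute c t) (r : ℕ) :
    c ∈ normalizer (closure (invertedIn t M r) : Set G) := by
  refine mem_normalizer_fintype fun x hx => ?_
  have : closure (invertedIn t M r) ≤ (closure (invertedIn t M r)).comap (MulAut.conj c).toMonoidHom :=
    (closure_le _).2 fun a ha => subset_closure (conj_mem_invertedIn hc hct ha)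
  exact this hx

/-- All moved parts are anchors. -/
theorem anchor_all (h2 : TwoPrimes M) {r : ℕ} (hA : Anchor t M r) {l : ℕ} [Fact l.Prime]
    (hmv : ∃ x ∈ invertedIn t M l, x ≠ 1) : Anchor t M l := by
  by_cases hlr : l = r
  · exact hlr ▸ hA
  refine ⟨Fact.out, hmv, ?_⟩
  obtain ⟨x, hx, hx1⟩ := hmv
  rw [← centralizer_closure]
  refine (centralizer_le_normalizer _).trans (C.normalizer_le h2 hA hlr
    (fun e => hx1 (mem_bot.1 (e ▸ subset_closure hx))) ((closure_le _).2 fun a ha => ha.1)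
    (C.le_normalizer_closure C.t_mem (Commute.refl t) l) (C.le_normalizer_closure C.u_mem C.hc.symm l))

end Ctx

end Cfsg.Lib.GW.OddMax
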