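import Cfsg.Agent.Lib.GW.Twist.Arith
import Cfsg.Agent.Lib.GW.Twist.Rows
import Cfsg.Agent.Lib.GW.Twist.Induced
import Cfsg.Agent.Lib.GW.Twist.Section
import Cfsg.Agent.Lib.Char.Linear

/-!
# The centralizer of an involution has no nontrivial twist

Let `G` be a nonabelian simple group with dihedral Sylow two-subgroups and one class of
involutions, `J` the central involution of `P`.  A linear character of `C(J)` which is trivial on
`P` and constant on each intersection of a class of `J U` with `C(J)` is trivial.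
-/

set_option autoImplicit false
set_option linter.unusedSectionVars false
set_option maxHeartbeats 1600000

namespace Cfsg.Lib.GW.Twist

open Cfsg Cfsg.Lib.Block Cfsg.Lib.Char
open Cfsg.Lib.Block.DihSylow (oddPart mem_oddPart oddFix mem_oddFix invCoset mem_invCoset)
open scoped ComplexConjugate

universe u

noncomputable local instance (priority := high) fintypeSubgroupTwistMain {A : Type u}
    [Group A] [Fintype A] (H : Subgroup A) : Fintype H := Fintype.ofFinite H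

variable {G : Type u} [Group G] [Fintype G] [Fact (Nat.Prime 2)] {P : Sylow 2 G} {σ τ : G} {h : ℕ}

theorem eq_trivChar_of_degree_one [IsSimpleGroup G] (hna : ¬∀ a b : G, a * b = b * a)
    (χ : IrrCharacter G) (h1 : charDegree (χ : G → ℂ) = 1) : χ = trivChar G := by
  obtain ⟨φ, hφ⟩ := Char.exists_hom_of_degree_one χ.2.isCharacter
    (by rw [Block.apply_one_eq_charDegree, h1, Nat.cast_one])
  rcases IsSimpleGroup.eq_bot_or_eq_top_of_normal φ.ker inferInstance with e | e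
  · exact absurd (fun a b => (φ.ker_eq_bot_iff.1 e) (by rw [map_mul, map_mul, mul_comm])) hna
  · refine Subtype.ext ?_
    rw [hφ, trivChar_coe]
    funext g
    rw [MonoidHom.mem_ker.1 (e ▸ Subgroup.mem_top g : g ∈ φ.ker), Units.val_one]

variable (D : DihSylow P σ τ h)

include D

theorem four_mem {x : G} (hx : x ∈ ({τ, τ * σ ^ h} : Set G)) :
    x * x = 1 ∧ x ≠ 1 ∧ x ∈ (P : Subgroup G) := by
  obtain ⟨hJ2, hJ1, hJc⟩ := D.central_involution
  have hrefl := (D.reflection_iff (x := τ)).2 ⟨0, by have := D.two_le; omega, by simp⟩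
  have hτJ : τ * σ ^ h ∉ Subgroup.zpowers σ := fun e =>
    hrefl.2 (by simpa using mul_mem e (inv_mem (D.mem_pow h)))
  simp only [Set.mem_insert_iff, Set.mem_singleton_iff] at hx
  rcases hx with rfl | rfl
  · exact ⟨D.sqτ, fun e => hrefl.2 (e ▸ one_mem _), D.memτ⟩
  · exact ⟨D.sq_outside (mul_mem D.memτ (pow_mem D.memσ h)) hτJ,
      fun e => hτJ (e ▸ one_mem _), mul_mem D.memτ (pow_mem D.memσ h)⟩

/-- The value at the involution is congruent to the degree modulo four. -/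
theorem four_dvd (hconjJ : ∀ a : G, a * a = 1 → a ≠ 1 → IsConj (σ ^ h) a) (χ : IrrCharacter G)
    {k : ℤ} (hk : (χ : G → ℂ) (σ ^ h) = k) :
    (4 : ℤ) ∣ (charDegree (χ : G → ℂ) : ℤ) + 3 * k := by
  classical
  obtain ⟨hJ2, hJ1, hJc⟩ := D.central_involution
  have hτJ : Commute τ (σ ^ h) := hJc τ D.memτ
  let V : Subgroup G :=
    { carrier := {x | x = 1 ∨ x = σ ^ h ∨ x = τ ∨ x = τ * σ ^ h}
      one_mem' := Or.inl rfl
      mul_mem' := by
        have e1 : σ ^ h * τ = τ * σ ^ h := hτJ.eq.symm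
        have e2 : τ * (τ * σ ^ h) = σ ^ h := by rw [← mul_assoc, D.sqτ, one_mul]
        have e3 : τ * σ ^ h * σ ^ h = τ := by rw [mul_assoc, hJ2, mul_one]
        have e4 : τ * σ ^ h * τ = σ ^ h := by rw [mul_assoc, e1, e2]
        have e5 : σ ^ h * (τ * σ ^ h) = τ := by rw [← mul_assoc, e1, e3]
        have e6 : τ * σ ^ h * (τ * σ ^ h) = 1 := by rw [mul_assoc, e5, D.sqτ]
        rintro a b (rfl | rfl | rfl | rfl) (rfl | rfl | rfl | rfl) <;>
          simp [hJ2, D.sqτ, e1, e2, e3, e4, e5, e6]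
      inv_mem' := by
        have h6 : (τ * σ ^ h)⁻¹ = τ * σ ^ h := inv_eq_of_mul_eq_one_right
          (four_mem D (x := τ * σ ^ h) (by simp)).1
        rintro a (rfl | rfl | rfl | rfl) <;> simp [inv_eq_of_mul_eq_one_right hJ2, D.τ_inv, h6] }
  have hmem : ∀ x, x ∈ V ↔ x = 1 ∨ x = σ ^ h ∨ x = τ ∨ x = τ * σ ^ h := fun x => Iff.rfl
  obtain ⟨p1, p2, -⟩ := four_mem D (x := τ) (by simp)
  obtain ⟨q1, q2, -⟩ := four_mem D (x := τ * σ ^ h) (by simp)
  have n1 : τ ≠ σ ^ h := fun e =>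
    ((D.reflection_iff (x := τ)).2 ⟨0, by have := D.two_le; omega, by simp⟩).2 (e ▸ D.mem_pow h)
  have n2 : τ * σ ^ h ≠ σ ^ h := fun e => p2 (mul_eq_right.1 e)
  have n3 : τ * σ ^ h ≠ τ := fun e => hJ1 (mul_eq_left.1 e)
  have hset : (Finset.univ.filter fun x => x ∈ V) = {1, σ ^ h, τ, τ * σ ^ h} := by
    ext x; simp [hmem]
  have hsum : ∀ f : G → ℂ, ∑ x : V, f x = f 1 + (f (σ ^ h) + (f τ + f (τ * σ ^ h))) := fun f => by
    rw [← Finset.sum_subtype (Finset.univ.filter fun x => x ∈ V) (fun x => by simp) f, hset,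
      Finset.sum_insert (by simp [Ne.symm hJ1, Ne.symm p2, Ne.symm q2]),
      Finset.sum_insert (by simp [Ne.symm n1, Ne.symm n2]), Finset.sum_pair (Ne.symm n3)]
  obtain ⟨n, hn⟩ := (χ.2.isCharacter.comp V.subtype).exists_nat_classInner
    (isCharacter_one (G := V))
  have hcard : (Nat.card V : ℂ) = 4 := by
    have e := hsum fun _ => 1
    rw [Finset.sum_const, Finset.card_univ, nsmul_eq_mul, mul_one] at e
    rw [Nat.card_eq_fintype_card, e]
    norm_num
  rw [classInner, hcard] at hn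
  simp only [map_one, mul_one, Subgroup.coe_subtype] at hn
  have hval : ∀ x : G, x * x = 1 → x ≠ 1 → (χ : G → ℂ) x = k := fun x a b => by
    obtain ⟨z, hz⟩ := isConj_iff.1 (hconjJ x a b)
    rw [← hz, χ.2.isClassFunction, hk]
  rw [hsum, hval τ p1 p2, hval _ q1 q2, hk, Block.apply_one_eq_charDegree] at hn
  refine ⟨n, ?_⟩
  apply Int.cast_injective (α := ℂ)
  push_cast
  linear_combination 4 * hn

omit D in
/-- A character of degree three whose values on the section are the negatives of a twist. -/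
def HasThree (P : Sylow 2 G) (σ : G) (h : ℕ) : Prop :=
  ∃ (L : G → ℂ) (χ : IrrCharacter G), IsTwist P σ h L ∧ charDegree (χ : G → ℂ) = 3 ∧
    ∀ y ∈ oddPart σ h, (χ : G → ℂ) (σ ^ h * y) = -L y

/-- In the presence of such a character the outer involutions invert the odd part. -/
theorem oddFix_trivial [IsSimpleGroup G] (hna : ¬∀ a b : G, a * b = b * a)
    (hconjJ : ∀ a : G, a * a = 1 → a ≠ 1 → IsConj (σ ^ h) a) (h3 : HasThree P σ h) {y : G}
    (hy : y ∈ oddPart σ h) (hyτ : Commute y τ) : y = 1 := by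
  obtain ⟨L, χ, hL, hd, hval⟩ := h3
  obtain ⟨hJ2, hJ1, hJc⟩ := D.central_involution
  obtain ⟨hyJ, hyo⟩ := mem_oddPart.1 hy
  have hone : (χ : G → ℂ) 1 = 3 := by rw [Block.apply_one_eq_charDegree, hd]; norm_num
  have hJval : (χ : G → ℂ) (σ ^ h) = -1 := by
    have := hval 1 D.oddPart_spec.1
    rwa [mul_one, hL.map_one] at this
  have hother : ∀ x ∈ ({τ, τ * σ ^ h} : Set G),
      (χ : G → ℂ) x = -1 ∧ (χ : G → ℂ) (x * y) = -L y := by
    intro x hx
    obtain ⟨x2, x1, xP⟩ := four_mem D hx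
    have hxy : Commute y x := by
      simp only [Set.mem_insert_iff, Set.mem_singleton_iff] at hx
      rcases hx with rfl | rfl
      exacts [hyτ, hyτ.mul_right hyJ]
    obtain ⟨z, hz⟩ := isConj_iff.1 (hconjJ x x2 x1)
    refine ⟨by rw [← hz, χ.2.isClassFunction, hJval], ?_⟩
    obtain ⟨y', hy'⟩ : ∃ y', y' = z⁻¹ * y * z := ⟨_, rfl⟩
    have hy'U : y' ∈ oddPart σ h := by
      refine mem_oddPart.2 ⟨?_, ?_⟩
      · rw [hy', show σ ^ h = z⁻¹ * x * z by rw [← hz]; group]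
        have := hxy.map (MulAut.conj z⁻¹).toMonoidHom
        simpa using this
      · rw [hy', show z⁻¹ * y * z = MulAut.conj z⁻¹ y by simp, MulEquiv.orderOf_eq]
        exact hyo
    have e : z * (σ ^ h * y') * z⁻¹ = x * y := by rw [hy', ← hz]; group
    rw [← e, χ.2.isClassFunction, hval y' hy'U,
      ← hL.sections _ y' ((hJc x xP).mul_left hyJ) hy'U (isConj_iff.2 ⟨z, e⟩),
      hL.mul _ _ (hJc x xP) hyJ, hL.sylow x xP, one_mul]
  obtain ⟨n, ρ, hρ, hρχ⟩ := χ.2
  haveI := hρ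
  have hχρ : ∀ g, (χ : G → ℂ) g = LinearMap.trace ℂ (Fin n → ℂ) (ρ g) := fun g => by rw [← hρχ]; rfl
  obtain ⟨a, ha⟩ : ∃ a, a = ρ (σ ^ h) := ⟨_, rfl⟩
  obtain ⟨b, hb⟩ : ∃ b, b = ρ τ := ⟨_, rfl⟩
  obtain ⟨T, hT⟩ : ∃ T, T = 1 + a + b + b * a := ⟨_, rfl⟩
  have haa : a * a = 1 := by rw [ha, ← map_mul, hJ2, map_one]
  have hbb : b * b = 1 := by rw [hb, ← map_mul, D.sqτ, map_one]
  have hab : a * b = b * a := by rw [ha, hb, ← map_mul, ← map_mul, (hJc τ D.memτ).eq]
  have haT : a * T = T := by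
    rw [hT, mul_add, mul_add, mul_add, mul_one, haa, hab, ← mul_assoc a b a, hab, mul_assoc b a a,
      haa, mul_one]
    abel
  have hbT : b * T = T := by
    rw [hT, mul_add, mul_add, mul_add, mul_one, hbb, ← mul_assoc b b a, hbb, one_mul]
    abel
  have hTT : T * T = (4 : ℂ) • T := by
    nth_rw 1 [hT]
    rw [add_mul, add_mul, add_mul, one_mul, haT, hbT, mul_assoc, haT, hbT,
      show (4 : ℂ) = 1 + 1 + 1 + 1 by norm_num, add_smul, add_smul, add_smul, one_smul]
  have hT0 : T = 0 := by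
    obtain ⟨Q, hQ⟩ : ∃ Q, Q = (4 : ℂ)⁻¹ • T := ⟨_, rfl⟩
    have hQi : IsIdempotentElem Q := by
      rw [IsIdempotentElem, hQ, smul_mul_smul_comm, hTT, smul_smul]
      norm_num
    have hproj := LinearMap.IsProj.trace (LinearMap.isProj_range_iff_isIdempotentElem Q |>.2 hQi)
    have htr : LinearMap.trace ℂ _ Q = 0 := by
      rw [hQ, hT, map_smul, map_add, map_add, map_add, ha, hb, ← map_mul, ← map_one ρ, ← hχρ,
        ← hχρ, ← hχρ, ← hχρ, hone, hJval, (hother τ (by simp)).1,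
        (hother (τ * σ ^ h) (by simp)).1]
      norm_num
    rw [htr, eq_comm, Nat.cast_eq_zero, Submodule.finrank_eq_zero, LinearMap.range_eq_bot] at hproj
    rw [hQ, smul_eq_zero] at hproj
    exact hproj.resolve_left (by norm_num)
  have hy3 : (χ : G → ℂ) y = 3 * L y := by
    have e : LinearMap.trace ℂ _ (T * ρ y) = 0 := by rw [hT0, zero_mul, map_zero]
    rw [hT, add_mul, add_mul, add_mul, one_mul, ha, hb, ← map_mul, ← map_mul, ← map_mul,
      map_add, map_add, map_add, ← hχρ, ← hχρ, ← hχρ, ← map_mul, ← hχρ, hval y hy,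
      (hother τ (by simp)).2, (hother (τ * σ ^ h) (by simp)).2] at e
    linear_combination e
  have hnorm : ‖ρ.character y‖ = (Module.finrank ℂ (Fin n → ℂ) : ℝ) := by
    have h1 : ‖L y‖ = 1 :=
      Complex.norm_eq_one_of_pow_eq_one (hL.pow_orderOf hyJ) (orderOf_pos y).ne'
    have h2 : (Module.finrank ℂ (Fin n → ℂ) : ℂ) = 3 := by
      rw [← hone, ← hρχ, Representation.char_one]
    have h2' : Module.finrank ℂ (Fin n → ℂ) = 3 := by exact_mod_cast h2
    rw [show ρ.character y = (χ : G → ℂ) y from congrFun hρχ y, hy3, norm_mul, h1, h2']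
    norm_num
  obtain ⟨c, hc⟩ := (Char.norm_character_eq_iff ρ y).1 hnorm
  have hcent : ∀ g, ρ (g * y) = ρ (y * g) := fun g => by
    rw [map_mul, map_mul, hc, ← Module.End.one_eq_id, mul_smul_comm, smul_mul_assoc, mul_one,
      one_mul]
  rcases IsSimpleGroup.eq_bot_or_eq_top_of_normal (MonoidHom.ker ρ) inferInstance with e | e
  · have hmem : y ∈ Subgroup.center G := Subgroup.mem_center_iff.2 fun g =>
      ρ.ker_eq_bot_iff.1 e (hcent g)
    rcases IsSimpleGroup.eq_bot_or_eq_top_of_normal (Subgroup.center G) inferInstance with e' | e'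
    · exact Subgroup.mem_bot.1 (e' ▸ hmem)
    · refine absurd (fun u v => ?_) hna
      exact (Subgroup.mem_center_iff.1 (e' ▸ Subgroup.mem_top u : u ∈ Subgroup.center G) v).symm
  · exfalso
    have e' : ρ (σ ^ h) = 1 :=
      MonoidHom.mem_ker.1 (e ▸ Subgroup.mem_top (σ ^ h) : σ ^ h ∈ MonoidHom.ker ρ)
    rw [hχρ, e', ← map_one ρ, ← hχρ, hone] at hJval
    norm_num at hJval

open Classical in
/-- A twist is trivial on the elements inverted by `τ`. -/
theorem trivial_of_three [IsSimpleGroup G] (hna : ¬∀ a b : G, a * b = b * a)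
    (hconjJ : ∀ a : G, a * a = 1 → a ≠ 1 → IsConj (σ ^ h) a) (h3 : HasThree P σ h)
    {L : G → ℂ} (hL : IsTwist P σ h L) {y : G} (hy : y ∈ oddPart σ h) : L y = 1 := by
  obtain ⟨h1, hmul, hinv, hconj, -, -, -⟩ := D.oddPart_spec
  obtain ⟨-, -, hτP⟩ := four_mem D (x := τ) (by simp)
  have hτσ : τ ∉ Subgroup.zpowers σ :=
    ((D.reflection_iff (x := τ)).2 ⟨0, by have := D.two_le; omega, by simp⟩).2
  have hfix : oddFix σ h τ = {1} := by
    ext z
    rw [mem_oddFix, Finset.mem_singleton]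
    exact ⟨fun hz => oddFix_trivial D hna hconjJ h3 hz.1 hz.2,
      fun e => e ▸ ⟨h1, Commute.one_left _⟩⟩
  have hcard := (D.card_invCoset_mul hτP hτσ).1
  rw [hfix, Finset.card_singleton, mul_one] at hcard
  have hsub : invCoset σ h τ ⊆ (oddPart σ h).image fun y => y * τ := fun a ha => by
    refine Finset.mem_image.2 ⟨a * τ⁻¹, (mem_invCoset.1 ha).2.2, ?_⟩
    rw [inv_mul_cancel_right]
  have heq := Finset.eq_of_subset_of_card_le hsub (by rw [hcard]; exact Finset.card_image_le)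
  obtain ⟨ha2, -, -⟩ := mem_invCoset.1
    (heq ▸ Finset.mem_image.2 ⟨y, hy, rfl⟩ : y * τ ∈ invCoset σ h τ)
  have hτJ : Commute τ (σ ^ h) := D.central_involution.2.2 τ D.memτ
  have hyJ := commute_of_mem hy
  have e : τ * y * τ⁻¹ = y⁻¹ := by
    rw [D.τ_inv]
    exact eq_inv_of_mul_eq_one_right (by rw [← ha2]; group)
  have h2 := hL.conjugate hτJ hyJ
  rw [e] at h2
  have h4 := hL.map_inv_mul hyJ
  rw [h2] at h4
  exact hL.eq_one_of_sq hy h4

omit D in
/-- The weights of a twist. -/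
structure Weights (P : Sylow 2 G) (σ : G) (h : ℕ) (L : G → ℂ) (ζ : ℂ)
    (S : ℕ → ℂ) (w : ℕ → IrrCharacter G → ℤ) : Prop where
  gram : ∀ j k, 0 < j → j ≤ h → 0 < k → k ≤ h →
    ∑ x, w j x * w k x = 2 + (if j = k then 1 else 0) + if j + k = 2 * h then 1 else 0
  rel : ∀ j, 0 < j → j ≤ h → ∑ x, w j x * (charDegree (x : G → ℂ) : ℤ) = 0
  mid : ∀ χ : IrrCharacter G, ∑ y ∈ oddPart σ h, conj (L y) * (χ : G → ℂ) (σ ^ h * y) =
    ((oddPart σ h).card : ℂ) * (-(midValue h w χ) : ℤ)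
  quot : ∀ j, 0 < j → j ≤ h → ∑ x : IrrCharacter G, (w j x : ℂ) *
    ((x : G → ℂ) (σ ^ h) * (x : G → ℂ) (σ ^ h) / (x : G → ℂ) 1) = S j
  triv : ∀ j, 0 < j → j ≤ h → ((oddPart σ h).card : ℂ) * (w j (trivChar G) : ℂ) =
    ∑ y ∈ oddPart σ h, L y

theorem exists_weights (hconjJ : ∀ a : G, a * a = 1 → a ≠ 1 → IsConj (σ ^ h) a) {ζ : ℂ}
    (hζ : IsPrimitiveRoot ζ (2 * h)) {L : G → ℂ} (hL : IsTwist P σ h L) :
    ∃ w, Weights P σ h L ζ (fun j => ∑ x : IrrCharacter G,
      classInner (diffFn D (fun _ => 1) ζ j) (fun g : rotSub D => (x : G → ℂ) g) *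
        ((x : G → ℂ) (σ ^ h) * (x : G → ℂ) (σ ^ h) / (x : G → ℂ) 1)) w := by
  obtain ⟨w, hg, hr, hm, hq, hw⟩ := exists_twist_weights D hL hζ hconjJ
  refine ⟨w, hg, hr, hm, hq, fun j hj0 hj => ?_⟩
  have hh := D.two_le
  have hz : ∑ l ∈ Finset.range (2 * h), (1 - (ζ ^ l) ^ j) = ((2 * h : ℕ) : ℂ) := by
    rw [Finset.sum_sub_distrib, Finset.sum_const, Finset.card_range, nsmul_eq_mul, mul_one,
      Finset.sum_congr rfl (g := fun l : ℕ => ζ ^ ((j : ℤ) * l)) (fun l _ => by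
        rw [← Int.natCast_mul, zpow_natCast, ← pow_mul, mul_comm]),
      sum_zpow_mul_eq hζ (by omega), if_neg (fun hd => by
        have := Nat.le_of_dvd hj0 (Int.natCast_dvd_natCast.1 hd); omega), sub_zero]
  rw [hw, classInner, trivChar_coe]
  simp only [map_one, mul_one, diffFn]
  rw [sum_rotSub D fun g => L g * (1 - psi σ h ζ g ^ j), card_rotSub D,
    Finset.sum_congr rfl fun y hy => by
      rw [Finset.sum_congr rfl fun l _ => by rw [psi_eq D hζ hy,
        hL.map_sylow_mul D (pow_mem D.memσ l) hy], ← Finset.mul_sum, hz],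
    ← Finset.sum_mul]
  have hne : ((2 * h : ℕ) : ℂ) ≠ 0 := Nat.cast_ne_zero.2 (by omega)
  have hU : ((oddPart σ h).card : ℂ) ≠ 0 :=
    Nat.cast_ne_zero.2 (Finset.card_ne_zero.2 ⟨1, D.oddPart_spec.1⟩)
  field_simp

variable {L : G → ℂ} {ζ : ℂ} {S : ℕ → ℂ} {w : ℕ → IrrCharacter G → ℤ}

/-- What a member of a shape gives. -/
theorem member_facts {M : Ideal AlgInt} (hM : IsPModular 2 M)
    (hconjJ : ∀ a : G, a * a = 1 → a ≠ 1 → IsConj (σ ^ h) a) (hL : IsTwist P σ h L)
    (W : Weights P σ h L ζ S w) {x : IrrCharacter G} {e n : ℤ} (he : e = 1 ∨ e = -1)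
    (hn : Odd n) (hmid : midValue h w x = -n * e) :
    (x : G → ℂ) (σ ^ h) = ((n * e : ℤ) : ℂ) ∧ Odd (charDegree (x : G → ℂ)) ∧
      (4 : ℤ) ∣ e * (charDegree (x : G → ℂ) : ℤ) - n ∧
      ((e * (charDegree (x : G → ℂ) : ℤ) = -3 * n ∧ (n = 1 ∨ n = -1)) → HasThree P σ h) := by
  have hN : ∑ y ∈ oddPart σ h, conj (L y) * (x : G → ℂ) (σ ^ h * y) =
      ((oddPart σ h).card : ℂ) * ((n * e : ℤ) : ℂ) := by
    rw [W.mid x, hmid, neg_mul, neg_neg]
  have hodd : Odd (n * e) := hn.mul (by rcases he with a | a <;> subst a <;> decide)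
  obtain ⟨hd, hval⟩ := section_values D hL hM hconjJ x (n * e) hN (Or.inl hodd)
  have hJ : (x : G → ℂ) (σ ^ h) = ((n * e : ℤ) : ℂ) := by
    have := hval 1 D.oddPart_spec.1
    rwa [mul_one, hL.map_one, one_mul] at this
  refine ⟨hJ, hd hodd, ?_, fun ⟨h3, hn1⟩ => ⟨L, x, hL, ?_, fun y hy => ?_⟩⟩
  · obtain ⟨c, hc⟩ := four_dvd D hconjJ x hJ
    obtain ⟨r, hr⟩ := hn
    rcases he with a | a <;> subst a
    · exact ⟨c - n, by linarith⟩
    · exact ⟨-c - n, by linarith⟩
  · rcases he with a | a <;> subst a <;> rcases hn1 with a | a <;> subst a <;> omega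
  · rw [hval y hy]
    have : n * e = -1 := by
      rcases he with a | a <;> subst a <;> rcases hn1 with a | a <;> subst a <;> omega
    rw [this]; push_cast; ring

/-- The degree of the exceptional character is even, and its value at the involution. -/
theorem middle_facts {M : Ideal AlgInt} (hM : IsPModular 2 M)
    (hconjJ : ∀ a : G, a * a = 1 → a ≠ 1 → IsConj (σ ^ h) a) (hL : IsTwist P σ h L)
    (W : Weights P σ h L ζ S w) {p q r r' y : IrrCharacter G} {n : ℤ × ℤ × ℤ × ℤ}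
    (hsh : Shape h w (fun x => (charDegree (x : G → ℂ) : ℤ)) p q r r' y n) (hn1 : Odd n.1)
    (hn2 : Odd n.2.1) :
    w 1 y * (charDegree (y : G → ℂ) : ℤ) =
        -(w h p * (charDegree (p : G → ℂ) : ℤ) + w h q * (charDegree (q : G → ℂ) : ℤ)) ∧
      (y : G → ℂ) (σ ^ h) = ((2 * w 1 y : ℤ) : ℂ) := by
  have hh := D.two_le
  have e := hsh.sum_one fun x => (((charDegree (x : G → ℂ) : ℤ)) : ℂ)
  have e0 := congrArg (fun z : ℤ => (z : ℂ)) (W.rel 1 one_pos (by omega))
  push_cast at e e0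
  rw [e0] at e
  have hY : w 1 y * (charDegree (y : G → ℂ) : ℤ) =
      -(w h p * (charDegree (p : G → ℂ) : ℤ) + w h q * (charDegree (q : G → ℂ) : ℤ)) := by
    apply Int.cast_injective (α := ℂ)
    push_cast
    linear_combination -e
  refine ⟨hY, ?_⟩
  have hp := (member_facts D hM hconjJ hL W hsh.hp hn1 hsh.mid_p).2.1
  have hq := (member_facts D hM hconjJ hL W hsh.hq hn2 hsh.mid_q).2.1
  have hev : Even (charDegree (y : G → ℂ)) := by
    obtain ⟨a, ha⟩ := hp
    obtain ⟨b, hb⟩ := hq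
    rw [ha, hb] at hY
    push_cast at hY
    rw [Nat.even_iff]
    rcases hsh.hp with c | c <;> rcases hsh.hq with d | d <;> rcases hsh.hy with f | f <;>
      rw [c, d, f] at hY <;> omega
  have hN : ∑ u ∈ oddPart σ h, conj (L u) * (y : G → ℂ) (σ ^ h * u) =
      ((oddPart σ h).card : ℂ) * ((2 * w 1 y : ℤ) : ℂ) := by
    rw [W.mid y, hsh.mid_y, neg_mul, neg_neg]
  obtain ⟨-, hval⟩ := section_values D hL hM hconjJ y (2 * w 1 y) hN
    (Or.inr ⟨by rcases hsh.hy with f | f <;> rw [f] <;> norm_num, hev⟩)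
  have := hval 1 D.oddPart_spec.1
  rwa [mul_one, hL.map_one, one_mul] at this

/-- The two rows evaluated. -/
theorem row_values {M : Ideal AlgInt} (hM : IsPModular 2 M)
    (hconjJ : ∀ a : G, a * a = 1 → a ≠ 1 → IsConj (σ ^ h) a) (hL : IsTwist P σ h L)
    (W : Weights P σ h L ζ S w) {p q r r' y : IrrCharacter G} {n : ℤ × ℤ × ℤ × ℤ}
    (hsh : Shape h w (fun x => (charDegree (x : G → ℂ) : ℤ)) p q r r' y n) (hn1 : Odd n.1)
    (hn2 : Odd n.2.1) (hn3 : Odd n.2.2.1) (hn4 : Odd n.2.2.2) {A B C E : ℤ}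
    (hA : w h p * (charDegree (p : G → ℂ) : ℤ) = A) (hB : w h q * (charDegree (q : G → ℂ) : ℤ) = B)
    (hC : w h r * (charDegree (r : G → ℂ) : ℤ) = C)
    (hE : w h r' * (charDegree (r' : G → ℂ) : ℤ) = E) :
    S 1 = (((n.1 : ℚ) ^ 2 / A + (n.2.1 : ℚ) ^ 2 / B - 4 / (A + B) : ℚ) : ℂ) ∧
      S h = (((n.1 : ℚ) ^ 2 / A + (n.2.1 : ℚ) ^ 2 / B + (n.2.2.1 : ℚ) ^ 2 / C +
        (n.2.2.2 : ℚ) ^ 2 / E : ℚ) : ℂ) ∧ C + E = -(A + B) := by
  have hh := D.two_le
  have hterm : ∀ (x : IrrCharacter G) (e m : ℤ), (e = 1 ∨ e = -1) →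
      (x : G → ℂ) (σ ^ h) = ((m * e : ℤ) : ℂ) →
      (e : ℂ) * ((x : G → ℂ) (σ ^ h) * (x : G → ℂ) (σ ^ h) / (x : G → ℂ) 1) =
        (((m : ℚ) ^ 2 / ((e * (charDegree (x : G → ℂ) : ℤ) : ℤ) : ℚ) : ℚ) : ℂ) := by
    intro x e m he hv
    have hd : (charDegree (x : G → ℂ) : ℂ) ≠ 0 := Nat.cast_ne_zero.2 (charDegree_pos x).ne'
    rw [hv, Block.apply_one_eq_charDegree]
    rcases he with a | a <;> subst a <;> push_cast <;> field_simp
  obtain ⟨hY, hyv⟩ := middle_facts D hM hconjJ hL W hsh hn1 hn2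
  have tp := hterm p _ n.1 hsh.hp (member_facts D hM hconjJ hL W hsh.hp hn1 hsh.mid_p).1
  have tq := hterm q _ n.2.1 hsh.hq (member_facts D hM hconjJ hL W hsh.hq hn2 hsh.mid_q).1
  have tr := hterm r _ n.2.2.1 hsh.hr (member_facts D hM hconjJ hL W hsh.hr hn3 hsh.mid_r).1
  have tr' := hterm r' _ n.2.2.2 hsh.hr' (member_facts D hM hconjJ hL W hsh.hr' hn4 hsh.mid_r').1
  have ty := hterm y _ 2 hsh.hy hyv
  rw [hA] at tp hY
  rw [hB] at tq hY
  rw [hC] at tr
  rw [hE] at tr'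
  rw [hY] at ty
  refine ⟨?_, ?_, ?_⟩
  · rw [← W.quot 1 one_pos (by omega), hsh.sum_one, tp, tq, ty]
    push_cast
    rw [div_neg]
    ring
  · rw [← W.quot h (by omega) le_rfl, hsh.sum_mid, tp, tq, tr, tr']
    push_cast
    ring
  · have e := hsh.sum_mid fun x => (((charDegree (x : G → ℂ) : ℤ)) : ℂ)
    have e0 := congrArg (fun z : ℤ => (z : ℂ)) (W.rel h (by omega) le_rfl)
    push_cast at e e0
    rw [e0] at e
    apply Int.cast_injective (α := ℂ)
    rw [← hA, ← hB, ← hC, ← hE]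
    push_cast
    linear_combination -e

/-- **No twist.** -/
theorem twist_trivial [IsSimpleGroup G] (hna : ¬∀ a b : G, a * b = b * a)
    (hconjJ : ∀ a : G, a * a = 1 → a ≠ 1 → IsConj (σ ^ h) a) {L : G → ℂ} (hL : IsTwist P σ h L)
    (hsmall : h = 2 ∨ h = 4 ∨ 8 ≤ h) {y : G} (hy : y ∈ oddPart σ h) : L y = 1 := by
  classical
  by_contra hne
  have hno : ¬HasThree P σ h := fun h3 => hne (trivial_of_three D hna hconjJ h3 hL hy)
  obtain ⟨M, hM⟩ := Block.exists_isPModular Nat.prime_two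
  have hh := D.two_le
  obtain ⟨ζ, hζ⟩ : ∃ ζ : ℂ, IsPrimitiveRoot ζ (2 * h) :=
    ⟨_, Complex.isPrimitiveRoot_exp (2 * h) (by omega)⟩
  obtain ⟨w, W⟩ := exists_weights D hconjJ hζ hL
  obtain ⟨v, V⟩ := exists_weights D hconjJ hζ (isTwist_one P σ h)
  have hone := isTwist_one P σ h
  have hU : ((oddPart σ h).card : ℂ) ≠ 0 :=
    Nat.cast_ne_zero.2 (Finset.card_ne_zero.2 ⟨1, D.oddPart_spec.1⟩)
  -- the principal character
  have hwt : ∀ j, 0 < j → j ≤ h → w j (trivChar G) = 0 := by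
    intro j hj0 hj
    have h0 : ∑ z ∈ oddPart σ h, L z = 0 := by
      obtain ⟨-, hmul, hinv, -, -, -, -⟩ := D.oddPart_spec
      have e : ∑ z ∈ oddPart σ h, L z = L y * ∑ z ∈ oddPart σ h, L z := by
        rw [Finset.mul_sum]
        refine Finset.sum_bij' (fun z _ => y⁻¹ * z) (fun z _ => y * z)
          (fun z hz => hmul _ (hinv _ hy) _ hz) (fun z hz => hmul _ hy _ hz)
          (fun z _ => by group) (fun z _ => by group) fun z hz => ?_
        rw [← hL.mul _ _ (commute_of_mem hy) ((commute_of_mem hy).inv_left.mul_left (commute_of_mem hz)),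
          mul_inv_cancel_left]
      have : (L y - 1) * ∑ z ∈ oddPart σ h, L z = 0 := by linear_combination -e
      exact (mul_eq_zero.1 this).resolve_left (sub_ne_zero.2 hne)
    have := W.triv j hj0 hj
    rw [h0] at this
    exact_mod_cast (mul_eq_zero.1 this).resolve_left hU
  have hvt : ∀ j, 0 < j → j ≤ h → v j (trivChar G) = 1 := by
    intro j hj0 hj
    have := V.triv j hj0 hj
    rw [Finset.sum_const, nsmul_eq_mul] at this
    exact_mod_cast mul_left_cancel₀ hU this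
  have hvm : midValue h v (trivChar G) = -1 := by
    have := V.mid (trivChar G)
    simp only [trivChar_coe, map_one, mul_one, Finset.sum_const, nsmul_eq_mul] at this
    have e : ((-(midValue h v (trivChar G)) : ℤ) : ℂ) = ((1 : ℤ) : ℂ) := by
      rw [Int.cast_one]
      exact mul_left_cancel₀ hU (by rw [← this, mul_one])
    have := Int.cast_injective (α := ℂ) e
    omega
  have hd1 : ∀ x : IrrCharacter G, charDegree (x : G → ℂ) = 1 → x = trivChar G :=
    fun x hx => eq_trivChar_of_degree_one hna x hx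
  have hpos : ∀ x : IrrCharacter G, (0 : ℤ) < (charDegree (x : G → ℂ) : ℤ) := fun x => by
    exact_mod_cast charDegree_pos x
  have htd : (charDegree ((trivChar G : IrrCharacter G) : G → ℂ) : ℤ) = 1 := by
    rw [charDegree_eq_of_apply_one (n := 1) (by rw [trivChar_coe, Nat.cast_one]), Nat.cast_one]
  have habs : ∀ {x : IrrCharacter G} {e : ℤ}, (e = 1 ∨ e = -1) → ∀ {c : ℤ},
      e * (charDegree (x : G → ℂ) : ℤ) = c → (c = 1 ∨ c = -1) → x = trivChar G := by
    intro x e he c hc hc1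
    refine hd1 x ?_
    have := hpos x
    rcases he with a | a <;> subst a <;> omega
  -- the side of the principal character
  obtain ⟨X₁, a₁, b₁, g, g1, g3, ga, gb, ga1, gb1, gsum, hS1, hSh⟩ : ∃ X₁ a b : ℤ,
      X₁ % 4 = 1 ∧ X₁ ≠ 1 ∧ X₁ ≠ -3 ∧ a % 4 = 3 ∧ b % 4 = 3 ∧ a ≠ -1 ∧ b ≠ -1 ∧
      a + b = -(1 + X₁) ∧
      ∑ x : IrrCharacter G, classInner (diffFn D (fun _ => 1) ζ 1)
          (fun g : rotSub D => (x : G → ℂ) g) *
          ((x : G → ℂ) (σ ^ h) * (x : G → ℂ) (σ ^ h) / (x : G → ℂ) 1) = ((rhs X₁ : ℚ) : ℂ) ∧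
      ∑ x : IrrCharacter G, classInner (diffFn D (fun _ => 1) ζ h)
          (fun g : rotSub D => (x : G → ℂ) g) *
          ((x : G → ℂ) (σ ^ h) * (x : G → ℂ) (σ ^ h) / (x : G → ℂ) 1) =
          ((1 + 1 / (X₁ : ℚ) + 1 / (a : ℚ) + 1 / (b : ℚ) : ℚ) : ℂ) := by
    obtain ⟨p, q, r, r', z, hsh⟩ := exists_shape hh D.even hsmall v
      (fun x => (charDegree (x : G → ℂ) : ℤ)) hpos V.gram V.rel
    have ht0 : trivChar G = p ∨ trivChar G = q ∨ trivChar G = r ∨ trivChar G = r' := by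
      obtain ⟨m, sh⟩ : ∃ m, Shape h v (fun x => (charDegree (x : G → ℂ) : ℤ)) p q r r' z m := by
        rcases hsh with a | ⟨a, -⟩ | ⟨a, -⟩ <;> exact ⟨_, a⟩
      by_contra hn
      simp only [not_or] at hn
      have e := sh.sum_mid fun x => if x = trivChar G then 1 else 0
      simp only [mul_ite, mul_one, mul_zero, Finset.sum_ite_eq', Finset.mem_univ, if_true,
        if_neg (Ne.symm hn.1), if_neg (Ne.symm hn.2.1), if_neg (Ne.symm hn.2.2.1),
        if_neg (Ne.symm hn.2.2.2), add_zero] at e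
      rw [hvt h (by omega) le_rfl] at e
      norm_num at e
    have hvh := hvt h (by omega) le_rfl
    rcases hsh with sh | ⟨sh, A, eA, eB, eC, eE⟩ | ⟨sh, A, eA, eB, eC, eE⟩
    swap
    · exfalso
      rcases ht0 with e | e | e | e
      · rw [← e, hvh, htd] at eA; omega
      · rw [← e, hvh, htd] at eB
        have hr := habs sh.hr eC (Or.inl (by omega))
        have := sh.mid_r
        rw [hr, hvm, hvh] at this
        norm_num at this
      · have := sh.mid_r
        rw [← e, hvm, hvh] at this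
        norm_num at this
      · rw [← e, hvh, htd] at eE
        have hr := habs sh.hr eC (Or.inl (by omega))
        have := sh.mid_r
        rw [hr, hvm, hvh] at this
        norm_num at this
    swap
    · exfalso
      rcases ht0 with e | e | e | e
      · have := sh.mid_p; rw [← e, hvm, hvh] at this; norm_num at this
      · have := sh.mid_q; rw [← e, hvm, hvh] at this; norm_num at this
      · have := sh.mid_r; rw [← e, hvm, hvh] at this; norm_num at this
      · have := sh.mid_r'; rw [← e, hvm, hvh] at this; norm_num at this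
    have fp := member_facts D hM hconjJ hone V sh.hp odd_one sh.mid_p
    have fq := member_facts D hM hconjJ hone V sh.hq odd_one sh.mid_q
    have fr := member_facts D hM hconjJ hone V sh.hr (odd_neg_one) sh.mid_r
    have fr' := member_facts D hM hconjJ hone V sh.hr' (odd_neg_one) sh.mid_r'
    have nr : ∀ x, v h x = 1 ∨ v h x = -1 → midValue h v x = -(-1) * v h x → x ≠ trivChar G := by
      intro x _ hm e
      rw [e, hvm, hvh] at hm
      norm_num at hm
    obtain ⟨s1, sh', ss⟩ := row_values D hM hconjJ hone V sh odd_one odd_one odd_neg_one odd_neg_one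
      rfl rfl rfl rfl
    have key : ∀ X, (X = v h p * (charDegree (p : G → ℂ) : ℤ) ∨
        X = v h q * (charDegree (q : G → ℂ) : ℤ)) →
        X % 4 = 1 ∧ X ≠ -3 := by
      rintro X (rfl | rfl)
      · exact ⟨by obtain ⟨c, hc⟩ := fp.2.2.1; omega,
          fun e => hno (fp.2.2.2 ⟨by omega, Or.inl rfl⟩)⟩
      · exact ⟨by obtain ⟨c, hc⟩ := fq.2.2.1; omega,
          fun e => hno (fq.2.2.2 ⟨by omega, Or.inl rfl⟩)⟩
    have hra : (v h r * (charDegree (r : G → ℂ) : ℤ)) % 4 = 3 := by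
      obtain ⟨c, hc⟩ := fr.2.2.1; omega
    have hrb : (v h r' * (charDegree (r' : G → ℂ) : ℤ)) % 4 = 3 := by
      obtain ⟨c, hc⟩ := fr'.2.2.1; omega
    have hra1 : v h r * (charDegree (r : G → ℂ) : ℤ) ≠ -1 := fun e =>
      nr r sh.hr sh.mid_r (habs sh.hr e (Or.inr rfl))
    have hrb1 : v h r' * (charDegree (r' : G → ℂ) : ℤ) ≠ -1 := fun e =>
      nr r' sh.hr' sh.mid_r' (habs sh.hr' e (Or.inr rfl))
    rcases ht0 with e | e | e | e
    · have eX : v h p * (charDegree (p : G → ℂ) : ℤ) = 1 := by rw [← e, hvh, htd, mul_one]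
      obtain ⟨k1, k3⟩ := key _ (Or.inr rfl)
      refine ⟨_, _, _, k1, fun e' => sh.ne_pq ?_, k3, hra, hrb, hra1, hrb1, ?_, ?_, ?_⟩
      · rw [← e, habs sh.hq e' (Or.inl rfl)]
      · rw [ss, eX]
      · rw [s1, eX, rhs]; push_cast; ring
      · rw [sh', eX]; push_cast; ring
    · have eX : v h q * (charDegree (q : G → ℂ) : ℤ) = 1 := by rw [← e, hvh, htd, mul_one]
      obtain ⟨k1, k3⟩ := key _ (Or.inl rfl)
      refine ⟨_, _, _, k1, fun e' => sh.ne_pq ?_, k3, hra, hrb, hra1, hrb1, ?_, ?_, ?_⟩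
      · rw [← e, habs sh.hp e' (Or.inl rfl)]
      · rw [ss, eX, add_comm]
      · rw [s1, eX, rhs]; push_cast; ring
      · rw [sh', eX]; push_cast; ring
    · exact absurd e.symm (nr r sh.hr sh.mid_r)
    · exact absurd e.symm (nr r' sh.hr' sh.mid_r')
  -- the side of the twist
  have hw1 : ∀ {x : IrrCharacter G}, (w h x = 1 ∨ w h x = -1) → x ≠ trivChar G := by
    intro x hx e
    rw [e, hwt h (by omega) le_rfl] at hx
    norm_num at hx
  obtain ⟨p, q, r, r', z, hsh⟩ := exists_shape hh D.even hsmall w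
    (fun x => (charDegree (x : G → ℂ) : ℤ)) hpos W.gram W.rel
  have cast2 : ∀ a b : ℚ, ((a : ℚ) : ℂ) = ((b : ℚ) : ℂ) → a = b := fun a b e => Rat.cast_injective e
  rcases hsh with sh | ⟨sh, A, eA, eB, eC, eE⟩ | ⟨sh, A, eA, eB, eC, eE⟩
  · obtain ⟨-, -, ⟨cp, hcp⟩, tp⟩ := member_facts D hM hconjJ hL W sh.hp odd_one sh.mid_p
    obtain ⟨-, -, ⟨cq, hcq⟩, tq⟩ := member_facts D hM hconjJ hL W sh.hq odd_one sh.mid_q
    obtain ⟨-, -, ⟨cr, hcr⟩, tr⟩ := member_facts D hM hconjJ hL W sh.hr odd_neg_one sh.mid_r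
    obtain ⟨-, -, ⟨cs, hcs⟩, -⟩ := member_facts D hM hconjJ hL W sh.hr' odd_neg_one sh.mid_r'
    obtain ⟨s1, s2, ss⟩ := row_values D hM hconjJ hL W sh odd_one odd_one odd_neg_one odd_neg_one
      rfl rfl rfl rfl
    refine false_regular (by omega) (by omega) (fun e => hw1 sh.hp (habs sh.hp e (Or.inl rfl)))
      (fun e => hw1 sh.hq (habs sh.hq e (Or.inl rfl)))
      (fun e => hno (tp ⟨by omega, Or.inl rfl⟩)) (fun e => hno (tq ⟨by omega, Or.inl rfl⟩))
      g g1 g3 (by omega) (by omega) (fun e => hw1 sh.hr (habs sh.hr e (Or.inr rfl)))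
      (fun e => hw1 sh.hr' (habs sh.hr' e (Or.inr rfl)))
      (fun e => hno (tr ⟨by omega, Or.inr rfl⟩)) ss ga gb ga1 gb1 gsum
      (cast2 _ _ (Eq.trans ?_ hS1)) (cast2 _ _ (Eq.trans ?_ hSh))
    · refine Eq.trans ?_ s1.symm
      push_cast; ring
    · refine Eq.trans ?_ s2.symm
      push_cast; ring
  · obtain ⟨-, -, ⟨cq, hcq⟩, -⟩ := member_facts D hM hconjJ hL W sh.hq odd_one sh.mid_q
    obtain ⟨s1, s2, -⟩ := row_values D hM hconjJ hL W sh odd_one odd_one (by decide) odd_one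
      eA eB eC eE
    have hA : A % 4 = 1 := by rw [eB] at hcq; omega
    have hA0 : (A : ℂ) ≠ 0 := Int.cast_ne_zero.2 (by omega)
    refine false_star hA (fun e => hw1 sh.hq (habs sh.hq eB (Or.inl e))) g g1 g3 ga gb ga1 gb1 gsum
      (cast2 _ _ (Eq.trans ?_ hS1)) (cast2 _ _ (Eq.trans ?_ hSh))
    · refine Eq.trans ?_ s1.symm
      push_cast
      rw [show -3 * (A : ℂ) + A = -2 * A by ring]
      field_simp
      ring
    · refine Eq.trans ?_ s2.symm
      push_cast
      field_simp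
      ring
  · obtain ⟨-, -, ⟨cq, hcq⟩, tq⟩ := member_facts D hM hconjJ hL W sh.hq odd_neg_one sh.mid_q
    obtain ⟨s1, s2, -⟩ := row_values D hM hconjJ hL W sh (by decide) odd_neg_one odd_neg_one
      odd_neg_one eA eB eC eE
    have hA : A % 4 = 3 := by rw [eB] at hcq; omega
    have hA0 : (A : ℂ) ≠ 0 := Int.cast_ne_zero.2 (by omega)
    refine false_triangle hA (fun e => hno (tq ⟨by rw [eB, e]; norm_num, Or.inr rfl⟩)) g g1 g3
      ga gb ga1 gb1 gsum (cast2 _ _ (Eq.trans ?_ hS1)) (cast2 _ _ (Eq.trans ?_ hSh))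
    · refine Eq.trans ?_ s1.symm
      push_cast
      rw [show (A : ℂ) + A = 2 * A by ring]
      field_simp
      ring
    · refine Eq.trans ?_ s2.symm
      push_cast
      field_simp
      ring

end Cfsg.Lib.GW.Twist

namespace Cfsg.Lib.GW

open Cfsg Cfsg.Lib.Block Twist
open Cfsg.Lib.Block.DihSylow (oddPart)

universe u

variable {G : Type u} [Group G] [Fintype G] [Fact (Nat.Prime 2)] {P : Sylow 2 G} {σ τ : G} {h : ℕ}

/-- Half the order of the rotation is a power of two. -/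
theorem small_cases (D : DihSylow P σ τ h) : h = 2 ∨ h = 4 ∨ 8 ≤ h := by
  obtain ⟨k, hk⟩ := P.2.exists_card_eq
  rw [D.card] at hk
  have := D.two_le
  rcases k with _ | _ | _ | _ | _ | k
  · omega
  · omega
  · omega
  · omega
  · omega
  · right; right
    have : 2 ^ (k + 5) = 32 * 2 ^ k := by rw [pow_add]; ring
    have := Nat.one_le_two_pow (n := k)
    omega

/-- **Theorem T.** A linear character of the centralizer of the involution which is trivial on the
Sylow subgroup and respects the fusion of the sections `J y` is trivial. -/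
theorem linearQuotient_trivial (D : DihSylow P σ τ h) [IsSimpleGroup G]
    (hna : ¬∀ a b : G, a * b = b * a)
    (hconjJ : ∀ a : G, a * a = 1 → a ≠ 1 → IsConj (σ ^ h) a)
    (Λ : Subgroup.centralizer ({σ ^ h} : Set G) →* ℂˣ)
    (hP : ∀ z : Subgroup.centralizer ({σ ^ h} : Set G), (z : G) ∈ (P : Subgroup G) → Λ z = 1)
    (hH : ∀ g y : Subgroup.centralizer ({σ ^ h} : Set G), (y : G) ∈ oddPart σ h →
      IsConj (σ ^ h * (y : G)) (g : G) → Λ g = Λ y) : Λ = 1 := by
  classical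
  obtain ⟨L, hLdef⟩ : ∃ L : G → ℂ, L = fun z =>
      if hz : z ∈ Subgroup.centralizer ({σ ^ h} : Set G) then (Λ ⟨z, hz⟩ : ℂ) else 1 := ⟨_, rfl⟩
  have hmem : ∀ {z : G}, Commute z (σ ^ h) → z ∈ Subgroup.centralizer ({σ ^ h} : Set G) :=
    fun hz => Subgroup.mem_centralizer_singleton_iff.2 hz
  have hLv : ∀ (z : G) (hz : z ∈ Subgroup.centralizer ({σ ^ h} : Set G)),
      L z = (Λ ⟨z, hz⟩ : ℂ) := fun z hz => by simp only [hLdef, dif_pos hz]
  have hL : IsTwist P σ h L := by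
    refine ⟨fun a b ha hb => ?_, fun x hx => ?_, fun g y hg hy hc => ?_⟩
    · rw [hLv _ (hmem ha), hLv _ (hmem hb), hLv _ (hmem (ha.mul_left hb)), ← Units.val_mul,
        ← map_mul]
      rfl
    · have hx' := hmem (D.central_involution.2.2 x hx)
      rw [hLv _ hx', hP ⟨x, hx'⟩ hx, Units.val_one]
    · rw [hLv _ (hmem hg), hLv _ (hmem (commute_of_mem hy)),
        hH ⟨g, hmem hg⟩ ⟨y, hmem (commute_of_mem hy)⟩ hy hc]
  refine MonoidHom.ext fun z => Units.ext ?_
  rw [MonoidHom.one_apply, Units.val_one, ← hLv _ z.2]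
  exact hL.eq_one_of_odd D (fun y hy => twist_trivial D hna hconjJ hL (small_cases D) hy)
    (Subgroup.mem_centralizer_singleton_iff.1 z.2)

end Cfsg.Lib.GW
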