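import Cfsg.Agent.Lib.GW.StepN
import Cfsg.Agent.Lib.GW.CaseOne
import Cfsg.Agent.Lib.GW.Overgroup
import Cfsg.Agent.Lib.GW.CaseTwoParts

/-!
# The theorem of Gorenstein and Walter from its three remaining parts
-/

set_option autoImplicit false

namespace Cfsg.Lib.GW

universe u

/-- The theorem for simple groups from the maximal centralizers, the fused overgroups and the case of
Sylow 2-subgroups of order 4. -/
theorem simpleGW_of_parts
    (hC : ∀ (G : Type u) [Group G] [Finite G], GWMin G → 8 ∣ Nat.card G → NoFusedOvergroup G →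
      ¬ KleinSelfCentralizing G → NoMaxCentralizer G)
    (hF : ∀ (G : Type u) [Group G] [Finite G], GWMin G → 8 ∣ Nat.card G → NoFusedOvergroup G →
      ¬ KleinSelfCentralizing G → FusedFinish G)
    (hK : KleinCase.{u}) : SimpleGW.{u} :=
  simpleGW_of_cases stepN caseOne
    (caseTwo_of_parts (fun _ _ _ hG h8 _ => noOddMax hG h8) hC hF) hK

end Cfsg.Lib.GW
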