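import Cfsg.Agent.Lib.GW.MainParts
import Cfsg.Agent.Lib.GW.FusedFinish
import Cfsg.Agent.Lib.GW.Klein.Main
import Cfsg.Agent.Lib.GW.CMax.NoMax

/-!
# The theorem of Gorenstein and Walter from the reduction of the maximal centralizer
-/

set_option autoImplicit false

namespace Cfsg.Lib.GW

universe u

/-- The theorem for simple groups from the reduction of the maximal centralizer to a moving and
fixing reflection. -/
theorem simpleGW_of_reduction (hR : CMax.Reduction.{u}) : SimpleGW.{u} :=
  simpleGW_of_parts (fun G _ _ hG h8 _ hV => noMaxCentralizer_of_reduction hR G hG h8 hV)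
    (fun G _ _ hG h8 _ hV => by
      haveI := Fintype.ofFinite G
      exact fusedFinish hG h8 hV) kleinCase

end Cfsg.Lib.GW
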