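import Cfsg.Agent.Lib.GW.OddMaxInnerFix
import Cfsg.Agent.Lib.GW.Klein.Over
import Cfsg.Agent.S1255

/-!
# Gorenstein–Walter, Theorem A: coprime actions and the frame of a four group

An element inverted by an involution `v` which centralizes the fixed points of `v` on a `p`-group it
normalizes (coprimely) centralizes the `p`-group. The normalizer of a four group `{1, t, u, t * u}`
induces the transpositions.
-/

set_option autoImplicit false
set_option linter.style.haveILetI false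

namespace Cfsg.Lib.GW.OddMax

open Subgroup

universe u

section Elements

variable {G : Type*} [Group G]

/-- An element of an invariant subgroup of odd order is fixed times inverted. -/
theorem exists_fixed_inverted {H : Subgroup G} {v n : G} (hv : v * v = 1) (hH : ∀ x ∈ H, v * x * v ∈ H)
    (hodd : ∀ x ∈ H, Odd (orderOf x)) (hn : n ∈ H) :
    ∃ f i : G, f ∈ H ∧ i ∈ H ∧ n = f * i ∧ Commute v f ∧ v * i * v = i⁻¹ := by
  set a := n⁻¹ * (v * n * v) with ha
  have haH : a ∈ H := mul_mem (inv_mem hn) (hH n hn)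
  have hvi : v⁻¹ = v := inv_eq_of_mul_eq_one_right hv
  have hai : v * a * v = a⁻¹ := by
    rw [ha, mul_inv_rev, mul_inv_rev, mul_inv_rev, inv_inv, hvi]
    calc v * (n⁻¹ * (v * n * v)) * v = v * n⁻¹ * v * n * (v * v) := by group
      _ = _ := by rw [hv, mul_one]; group
  obtain ⟨k, hk⟩ := exists_pow_sq_eq (hodd a haH)
  set b := a ^ k with hb
  have hbb : b * b = a := by rw [hb, ← (Commute.refl a).mul_pow, hk]
  have hbi : v * b * v = b⁻¹ := by
    have h := pow_conj_inv (show v * a * v⁻¹ = a⁻¹ by rw [hvi, hai]) k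
    rwa [hvi, inv_pow, ← hb] at h
  refine ⟨n * b, b⁻¹, mul_mem hn (pow_mem haH k), inv_mem (pow_mem haH k), (mul_inv_cancel_right n b).symm,
    commute_of_conj_self hv ?_, by rw [inv_inverted hv hbi, inv_inv]⟩
  calc v * (n * b) * v = n * a * (v * b * v) := by
        rw [ha]
        calc v * (n * b) * v = v * n * (v * v) * b * v := by rw [hv]; group
          _ = _ := by group
    _ = n * b := by rw [hbi, ← hbb]; group

/-- So it lies in any subgroup containing the fixed and the inverted elements. -/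
theorem le_of_fixed_inverted {H K : Subgroup G} {v : G} (hv : v * v = 1) (hH : ∀ x ∈ H, v * x * v ∈ H)
    (hodd : ∀ x ∈ H, Odd (orderOf x)) (hf : ∀ x ∈ H, Commute v x → x ∈ K)
    (hi : ∀ x ∈ H, v * x * v = x⁻¹ → x ∈ K) : H ≤ K := by
  intro n hn
  obtain ⟨f, i, hfH, hiH, rfl, hvf, hvi⟩ := exists_fixed_inverted hv hH hodd hn
  exact mul_mem (hf f hfH hvf) (hi i hiH hvi)

/-- A coprime element which changes `m` by a fixed element fixes it. -/
theorem eq_one_of_conj_eq_mul {z m c : G} (h : z * m * z⁻¹ = m * c) (hzc : Commute z c)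
    (hco : Nat.Coprime (orderOf z) (orderOf c)) : c = 1 := by
  have hk : ∀ k : ℕ, z ^ k * m * (z ^ k)⁻¹ = m * c ^ k := by
    intro k
    induction k with
    | zero => simp
    | succ k ih =>
      calc z ^ (k + 1) * m * (z ^ (k + 1))⁻¹ = z * (z ^ k * m * (z ^ k)⁻¹) * z⁻¹ := by rw [pow_succ']; group
        _ = (z * m * z⁻¹) * (z * c ^ k * z⁻¹) := by rw [ih]; group
        _ = m * c ^ (k + 1) := by
          rw [h, (hzc.pow_right k).eq, mul_inv_cancel_right, pow_succ']; group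
  have h1 := hk (orderOf z)
  rw [pow_orderOf_eq_one, inv_one, one_mul, mul_one, left_eq_mul] at h1
  exact orderOf_eq_one_iff.1 (Nat.Coprime.eq_one_of_dvd hco.symm (orderOf_dvd_of_pow_eq_one h1))

variable [Finite G]

/-- An element inverted by `v`, acting coprimely on a `p`-group and centralizing the fixed points of `v`,
centralizes the group. -/
theorem commute_of_fixed_commute {r : ℕ} [Fact r.Prime] (hr : r ≠ 2) {P : Subgroup G} (hP : IsPGroup r P)
    {v y : G} (hv : v * v = 1) (hvP : ∀ x ∈ P, v * x * v ∈ P) (hyP : y ∈ normalizer (P : Set G))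
    (hy : v * y * v = y⁻¹) (hyodd : Odd (orderOf y)) (hco : Nat.Coprime (orderOf y) r)
    (hfix : ∀ x ∈ P, Commute v x → Commute y x) : ∀ x ∈ P, Commute y x := by
  by_contra hne
  push Not at hne
  obtain ⟨x, hx, hxy⟩ := hne
  set Y := P ⊓ centralizer ({y} : Set G) with hY
  have hodd : ∀ z ∈ P, Odd (orderOf z) := fun z hz => conj_odd hr hP hz
  have hvi : v⁻¹ = v := inv_eq_of_mul_eq_one_right hv
  haveI := hP.isNilpotent
  have hlt : Y.subgroupOf P < ⊤ := by
    refine lt_top_iff_ne_top.2 fun h => hxy ?_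
    rw [subgroupOf_eq_top] at h
    exact (mem_centralizer_singleton_iff.1 (h hx).2).symm
  obtain ⟨n₀, hn₀, hn₀Y⟩ := SetLike.exists_of_lt (Group.normalizerCondition_of_isNilpotent _ hlt)
  set N := P ⊓ normalizer (Y : Set G) with hN
  have hnN : (n₀ : G) ∈ N := by
    refine ⟨n₀.2, mem_normalizer_iff.2 fun z => ⟨fun hz => ?_, fun hz => ?_⟩⟩
    · exact (mem_normalizer_iff.1 hn₀ ⟨z, hz.1⟩).1 hz
    · have hzP : z ∈ P := by
        have := mul_mem (mul_mem (inv_mem n₀.2) hz.1) n₀.2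
        simpa [mul_assoc] using this
      exact (mem_normalizer_iff.1 hn₀ ⟨z, hzP⟩).2 hz
  have hfY : ∀ e ∈ Y, y * e * y⁻¹ = e := fun e he => by
    rw [← mem_centralizer_singleton_iff.1 he.2, mul_inv_cancel_right]
  have hvY : ∀ e ∈ Y, v * e * v ∈ Y := fun e he => by
    refine ⟨hvP e he.1, mem_centralizer_singleton_iff.2 ?_⟩
    have hc : Commute e y⁻¹ := (show Commute e y from mem_centralizer_singleton_iff.1 he.2).inv_right
    have h := (hc.map (MulAut.conj v).toMonoidHom)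
    simp only [MulEquiv.coe_toMonoidHom, MulAut.conj_apply, hvi, inv_inverted hv hy] at h
    exact h.eq
  have hvN : ∀ m ∈ N, v * m * v ∈ N := by
    refine fun m hm => ⟨hvP m hm.1, ?_⟩
    have hvn : v ∈ normalizer (Y : Set G) := mem_normalizer_fintype fun e he => by
      rw [hvi]; exact hvY e he
    exact mul_mem (mul_mem hvn hm.2) hvn
  have step : ∀ m ∈ N, m * (v * m * v) ∈ Y := by
    intro m hm
    obtain ⟨f, i, hf, hi, rfl, hvf, hiv⟩ := exists_fixed_inverted hv hvN (fun z hz => hodd z hz.1) hm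
    have hfY : f ∈ Y := ⟨hf.1, mem_centralizer_singleton_iff.2 (hfix f hf.1 hvf).symm.eq⟩
    have e : v * (f * i) * v = f * i⁻¹ := by
      rw [← hiv, show v * (f * i) * v = (v * f) * i * v by group, hvf.eq]; group
    rw [e, show f * i * (f * i⁻¹) = f * (i * f * i⁻¹) by group]
    exact mul_mem hfY ((mem_normalizer_iff.1 hi.2 f).1 hfY)
  set n : G := (n₀ : G) with hn
  have hyn : y * n * y⁻¹ ∈ N := by
    refine ⟨(mem_normalizer_iff.1 hyP n).1 n₀.2, ?_⟩
    have hyY : y ∈ normalizer (Y : Set G) := mem_normalizer_fintype fun e he => by rw [hfY e he]; exact he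
    show y * n * y⁻¹ ∈ normalizer (Y : Set G)
    exact mul_mem (mul_mem hyY hnN.2) (inv_mem hyY)
  have h0 := step n hnN
  have h1 := step _ hyn
  set e₀ := n * (v * n * v) with he₀
  set e := y * n * y⁻¹ * (v * (y * n * y⁻¹) * v) with he
  have hvy : v * y⁻¹ * v = y := inv_inverted hv hy
  have he' : e = y * n * y⁻¹ * (y⁻¹ * (v * n * v) * y) := by
    rw [he, show v * (y * n * y⁻¹) * v = v * y * (v * v) * n * (v * v) * y⁻¹ * v by rw [hv]; group,
      show v * y * (v * v) * n * (v * v) * y⁻¹ * v = (v * y * v) * (v * n * v) * (v * y⁻¹ * v) by group,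
      hy, hvy]
  -- `y * y` moves `n` by an element of `Y`
  set z := y * y with hz
  have key : z⁻¹ * n⁻¹ * z⁻¹⁻¹ = n⁻¹ * (e * e₀⁻¹) := by
    have h2 : Commute y e₀ := (mem_centralizer_singleton_iff.1 h0.2).symm
    have h3 : Commute y e := (mem_centralizer_singleton_iff.1 h1.2).symm
    have h4 : v * n * v = n⁻¹ * e₀ := by rw [he₀, inv_mul_cancel_left]
    have h5 : e = n * (z⁻¹ * (n⁻¹ * e₀) * z) := by
      calc e = y⁻¹ * e * y := by rw [mul_assoc, ← h3.eq, inv_mul_cancel_left]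
        _ = _ := by rw [he', h4, hz]; group
    have h6 : Commute z e₀ := h2.mul_left h2
    rw [h5]
    calc z⁻¹ * n⁻¹ * z⁻¹⁻¹ = z⁻¹ * n⁻¹ * (z * e₀) * e₀⁻¹ := by group
      _ = z⁻¹ * n⁻¹ * (e₀ * z) * e₀⁻¹ := by rw [h6.eq]
      _ = _ := by group
  have hcY : e * e₀⁻¹ ∈ Y := mul_mem h1 (inv_mem h0)
  have hc1 : e * e₀⁻¹ = 1 := by
    refine eq_one_of_conj_eq_mul key ?_ ?_
    · have h2 : Commute y (e * e₀⁻¹) := (mem_centralizer_singleton_iff.1 hcY.2).symm
      exact (h2.mul_left h2).inv_left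
    · obtain ⟨k, hk⟩ := IsPGroup.iff_orderOf.1 hP ⟨_, hcY.1⟩
      rw [← orderOf_coe] at hk
      rw [orderOf_inv, hk]
      refine Nat.Coprime.pow_right k (Nat.Coprime.coprime_dvd_left ?_ hco)
      rw [hz, ← pow_two]
      exact orderOf_pow_dvd 2
  rw [hc1, mul_one, inv_inv] at key
  have hzn : Commute z n := by
    have h : Commute z⁻¹ n⁻¹ := mul_inv_eq_iff_eq_mul.1 (by rwa [inv_inv])
    simpa using h.inv_inv
  exact hn₀Y (mem_subgroupOf.2 ⟨n₀.2, mem_centralizer_singleton_iff.2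
    (commute_of_sq_commute hyodd hzn).symm.eq⟩)

end Elements

section Frame

variable {G : Type u} [Group G] [Finite G]

/-- Some element of `C(t)` interchanges the two other involutions of a four group containing `t`. -/
theorem exists_swap (hG : GWMin G) (h8 : 8 ∣ Nat.card G) {t u : G} (ht : orderOf t = 2) (hu : orderOf u = 2)
    (hne : u ≠ t) (hc : Commute t u) : ∃ d : G, Commute d t ∧ d * u * d⁻¹ = t * u := by
  haveI : Fact (Nat.Prime 2) := ⟨Nat.prime_two⟩
  obtain ⟨V, hVK, huV, htV, -⟩ := Cfsg.Agent.S1255.exists_four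
    (Cfsg.Lib.Invol.inv_mul_self hu) (Cfsg.Lib.Invol.inv_mul_self ht)
    (Cfsg.Lib.Invol.ne_one hu) (Cfsg.Lib.Invol.ne_one ht) hne hc.symm.eq
  haveI := hVK
  set C := centralizer ({t} : Set G) with hC
  obtain ⟨S, htS, htZ⟩ := hG.exists_sylow_central ht
  have hSC : (S : Subgroup G) ≤ C := fun x hx => mem_centralizer_singleton_iff.2 (htZ x hx)
  have hVC : V ≤ C := fun x hx => mem_centralizer_singleton_iff.2 (Cfsg.Lib.Invol.klein_comm hx htV)
  obtain ⟨T₀, hT₀⟩ := ((IsPGroup.of_card (p := 2) (n := 2)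
    (by rw [IsKleinFour.card_four]; norm_num) : IsPGroup 2 V).of_equiv
      (subgroupOfEquivOfLe hVC).symm).exists_le_sylow
  obtain ⟨c, hc'⟩ := MulAction.exists_smul_eq C (S.subtype hSC) T₀
  set T : Sylow 2 G := (c : G) • S with hT
  have hTC : ∀ x ∈ (T : Subgroup G), Commute x t := by
    intro x hx
    rw [hT, Sylow.coe_subgroup_smul, Subgroup.mem_smul_pointwise_iff_exists] at hx
    obtain ⟨z, hz, rfl⟩ := hx
    exact mem_centralizer_singleton_iff.1 (mul_mem (mul_mem c.2 (hSC hz)) (inv_mem c.2))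
  have hVT : V ≤ (T : Subgroup G) := by
    intro x hx
    have h1 : (⟨x, hVC hx⟩ : C) ∈ (T₀ : Subgroup C) := hT₀ (mem_subgroupOf.2 hx)
    rw [← hc', Sylow.coe_subgroup_smul, Subgroup.mem_smul_pointwise_iff_exists] at h1
    obtain ⟨z, hz, hzx⟩ := h1
    rw [hT, Sylow.coe_subgroup_smul, Subgroup.mem_smul_pointwise_iff_exists]
    exact ⟨(z : G), hz, congrArg Subtype.val hzx⟩
  haveI : Group.IsNilpotent (T : Subgroup G) := T.2.isNilpotent
  have hlt : V.subgroupOf (T : Subgroup G) < ⊤ := by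
    refine lt_top_iff_ne_top.2 fun h => ?_
    rw [subgroupOf_eq_top] at h
    have h8T : 8 ∣ Nat.card (T : Subgroup G) := T.pow_dvd_card_of_pow_dvd_card (n := 3) (by simpa using h8)
    have h2 := Nat.le_of_dvd Nat.card_pos (h8T.trans (card_dvd_of_le h))
    rw [IsKleinFour.card_four] at h2
    omega
  obtain ⟨s, hs, hsV⟩ := SetLike.exists_of_lt (Group.normalizerCondition_of_isNilpotent _ hlt)
  have hst : Commute (s : G) t := hTC s s.2
  refine ⟨(s : G), hst, ?_⟩
  have hsu : (s : G) * u * (s : G)⁻¹ ∈ V := (mem_normalizer_iff.1 hs ⟨u, hVT huV⟩).1 huV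
  have hne1 : (s : G) * u * (s : G)⁻¹ ≠ 1 := fun h => Cfsg.Lib.Invol.ne_one hu (conj_eq_one_iff.1 h)
  rcases Cfsg.Lib.Invol.klein_mem_cases htV huV (Cfsg.Lib.Invol.ne_one ht) (Cfsg.Lib.Invol.ne_one hu)
    (Ne.symm hne) hsu hne1 with h | h | h
  · exfalso
    apply hne
    rw [mul_inv_eq_iff_eq_mul, ← hst.eq] at h
    exact mul_left_cancel h
  · exfalso
    refine hsV (mem_subgroupOf.2 ?_)
    have hsu' : Commute (s : G) u := mul_inv_eq_iff_eq_mul.1 h
    have hmem : (s : G) ∈ centralizer (V : Set G) := mem_centralizer_iff.2 fun w hw => by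
      by_cases hw1 : w = 1
      · simp [hw1]
      rcases Cfsg.Lib.Invol.klein_mem_cases htV huV (Cfsg.Lib.Invol.ne_one ht) (Cfsg.Lib.Invol.ne_one hu)
        (Ne.symm hne) hw hw1 with rfl | rfl | rfl
      · exact hst.symm.eq
      · exact hsu'.symm.eq
      · exact (hst.mul_right hsu').symm.eq
    obtain ⟨k, hk⟩ := IsPGroup.iff_orderOf.1 T.2 s
    rw [← orderOf_coe] at hk
    obtain ⟨P, hP⟩ := (IsPGroup.of_card (p := 2) (n := k) (by
      rw [Nat.card_zpowers, ← orderOf_coe]; exact hk) :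
        IsPGroup 2 (zpowers (⟨(s : G), hmem⟩ : centralizer (V : Set G)))).exists_le_sylow
    exact (klein_sylow_centralizer hG.twoCycDih V hVK P).le ⟨_, hP (mem_zpowers _), rfl⟩
  · exact h

/-- The transpositions of the involutions of a four group. -/
theorem exists_frame (hG : GWMin G) (h8 : 8 ∣ Nat.card G) {t u : G} (ht : orderOf t = 2) (hu : orderOf u = 2)
    (hne : u ≠ t) (hc : Commute t u) :
    ∃ h d : G, h * t * h⁻¹ = u ∧ h * u * h⁻¹ = t ∧ Commute d t ∧ d * u * d⁻¹ = t * u := by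
  obtain ⟨d, hdt, hdu⟩ := exists_swap hG h8 ht hu hne hc
  obtain ⟨s, hsu, hst⟩ := exists_swap hG h8 hu ht (Ne.symm hne) hc.symm
  have htt := Cfsg.Lib.Invol.inv_mul_self ht
  have huu := Cfsg.Lib.Invol.inv_mul_self hu
  have hdt' : d * t * d⁻¹ = t := by rw [hdt.eq, mul_inv_cancel_right]
  have hsu' : s * u * s⁻¹ = u := by rw [hsu.eq, mul_inv_cancel_right]
  have hdw : d * (t * u) * d⁻¹ = u := by
    rw [show d * (t * u) * d⁻¹ = (d * t * d⁻¹) * (d * u * d⁻¹) by group, hdt', hdu, ← mul_assoc, htt, one_mul]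
  have hsw : s * (t * u) * s⁻¹ = t := by
    rw [show s * (t * u) * s⁻¹ = (s * t * s⁻¹) * (s * u * s⁻¹) by group, hst, hsu', ← hc.eq, mul_assoc,
      huu, mul_one]
  refine ⟨d * s * d, d, ?_, ?_, hdt, hdu⟩
  · calc d * s * d * t * (d * s * d)⁻¹ = d * (s * (d * t * d⁻¹) * s⁻¹) * d⁻¹ := by group
      _ = d * (u * t) * d⁻¹ := by rw [hdt', hst]
      _ = u := by rw [← hc.eq, hdw]
  · calc d * s * d * u * (d * s * d)⁻¹ = d * (s * (d * u * d⁻¹) * s⁻¹) * d⁻¹ := by group
      _ = _ := by rw [hdu, hsw, hdt']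

end Frame

end Cfsg.Lib.GW.OddMax
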