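import Cfsg.Agent.Lib.GW.OddMaxBender

/-!
# Gorenstein–Walter, Theorem A: no maximal overgroup with two primes in its odd Fitting subgroup

If two parts of `F(M)` are moved by `t`, the centralizers of their `u`-fixed elements put `F(M)` into the
conjugate `M'` of `M`. If only `O_s(M)` is moved, this follows from the normalizer of the elements of
`O_s(M) ∩ M'` inverted by `t`. In both cases `M = M'`.
-/

set_option autoImplicit false
set_option linter.style.haveILetI false
set_option linter.unusedSectionVars false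

namespace Cfsg.Lib.GW.OddMax

open Subgroup
open Cfsg.Agent.S1312 (Op op_le op_isPGroup le_normalizer_op op_commute le_op normalizer_eq_max)
open Cfsg.Lib.Sig.BenderPair (mem_op_of_fitting op_le_fitting dvd_card_fitting_iff)

universe u

variable {G : Type u} [Group G] [Finite G]

namespace Ctx

variable {t u h d : G} {M : Subgroup G} (C : Ctx t u h d M)
include C

local notation "M'" => Subgroup.map (MulEquiv.toMonoidHom (MulAut.conj h)) M

theorem mem_conj_iff {x : G} : x ∈ M' ↔ h * x * h⁻¹ ∈ M := by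
  refine ⟨C.conj_back, fun hx => ⟨(h * h)⁻¹ * (h * x * h⁻¹) * (h * h),
    mul_mem (mul_mem (inv_mem C.hh_mem) hx) C.hh_mem, ?_⟩⟩
  show h * ((h * h)⁻¹ * (h * x * h⁻¹) * (h * h)) * h⁻¹ = x
  group

theorem mem_op_conj_iff {r : ℕ} [Fact r.Prime] {x : G} : x ∈ Op r M' ↔ h * x * h⁻¹ ∈ Op r M := by
  refine ⟨C.op_conj_back, fun hx => ?_⟩
  have h1 := C.mem_op_conj (conj_mem_op (inv_mem C.hh_mem) hx)
  rwa [show h * ((h * h)⁻¹ * (h * x * h⁻¹) * (h * h)⁻¹⁻¹) * h⁻¹ = x by group] at h1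

theorem commute_conj {x y : G} (hxy : Commute x y) : Commute (h * x * h⁻¹) (h * y * h⁻¹) :=
  hxy.map (MulAut.conj h).toMonoidHom

/-- `F(M) ≤ M'` is impossible. -/
theorem false_of_le (h2 : TwoPrimes M) (hle : ∀ q, q.Prime → Op q M ≤ M') : False := by
  haveI := C.hG.isSimple
  have hMN : Cfsg.leadsTo M M' := leadsTo_fitting C.layer (C.fitting_ne_bot h2) (fitting_le_iff.2 hle)
  have hl : Cfsg.layer ↥(M') = ⊥ := by
    rw [← Cfsg.Lib.Core.map_layer_equiv (M.equivMapOfInjective _ (MulAut.conj h).injective), C.layer,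
      Subgroup.map_bot]
  have hNM : Cfsg.leadsTo M' M := by
    refine leadsTo_fitting hl (fun e => ?_) (fitting_le_iff.2 fun q hq => ?_)
    · obtain ⟨q, hq, -, hne⟩ := h2 0
      haveI : Fact q.Prime := ⟨hq⟩
      obtain ⟨x, hx, hx1⟩ := (bot_or_exists_ne_one _).resolve_left hne
      have h1 := op_le_fitting M' q (C.mem_op_conj hx)
      rw [e, mem_bot] at h1
      exact hx1 (conj_eq_one_iff.1 h1)
    · haveI : Fact q.Prime := ⟨hq⟩
      intro x hx
      have h1 : h * x * h⁻¹ ∈ M' := hle q hq (C.op_conj_back hx)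
      obtain ⟨m, hm, hmx⟩ := h1
      have e : m = x := by
        have : h * m * h⁻¹ = h * x * h⁻¹ := hmx
        simpa using this
      exact e ▸ hm
  have heq := C.eq_of_leadsTo h2 ((OrderIso.isCoatom_iff (MulAut.conj h).mapSubgroup M).2 C.max) hMN hNM
  refine C.hM ?_
  have hn : h ∈ normalizer (M : Set G) := mem_normalizer_fintype fun x hx =>
    (heq.symm.le) (mem_map_of_mem (MulAut.conj h).toMonoidHom hx)
  have hnM : normalizer (M : Set G) = M := normalizer_eq_max C.max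
    (fun e => Cfsg.Lib.Invol.ne_one C.ht (mem_bot.1 (e ▸ C.t_mem))) le_rfl le_normalizer
  rwa [hnM] at hn

/-- `C(z) ≤ M` away from an anchor, for `z` fixed or inverted by `t` and `u`; transported to `M'`. -/
theorem centralizer_conj_le (h2 : TwoPrimes M) {r : ℕ} (hA : Anchor t M r) {l : ℕ} [Fact l.Prime]
    (hlr : l ≠ r) {y : G} (hy : y ∈ Op l M') (hy1 : y ≠ 1)
    (hyt : Commute t y ∨ t * y * t = y⁻¹) (hyu : Commute u y ∨ u * y * u = y⁻¹) :
    centralizer ({y} : Set G) ≤ M' := by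
  intro a ha
  set z := h * y * h⁻¹ with hz
  have hzpow : ∀ v : G, v * v = 1 → (Commute v z ∨ v * z * v = z⁻¹) → v ∈ normalizer (zpowers z : Set G) := by
    intro v hv hvz
    refine mem_normalizer_fintype fun x hx => ?_
    obtain ⟨i, rfl⟩ := mem_zpowers_iff.1 hx
    rw [← conj_zpow, inv_eq_of_mul_eq_one_right hv]
    rcases hvz with hc | hi
    · rw [fix_of_commute' hv hc]; exact zpow_mem (mem_zpowers z) i
    · rw [hi]; exact zpow_mem (inv_mem (mem_zpowers z)) i
  have hzu : Commute u z ∨ u * z * u = z⁻¹ := hyt.imp (fun hc => C.hh ▸ fixed_conj hc)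
    fun hi => C.hh ▸ inverted_conj hi
  have hzt : Commute t z ∨ t * z * t = z⁻¹ := hyu.imp (fun hc => C.hh' ▸ fixed_conj hc)
    fun hi => C.hh' ▸ inverted_conj hi
  have hn := C.normalizer_le h2 hA hlr (fun e => hy1 (conj_eq_one_iff.1 (zpowers_eq_bot.1 e)))
    (zpowers_le.2 (C.op_conj_back hy)) (hzpow t C.tt hzt) (hzpow u C.uu hzu)
  refine C.mem_conj_iff.2 (hn (centralizer_le_normalizer _ (mem_centralizer_iff.2 fun x hx => ?_)))
  obtain ⟨i, rfl⟩ := mem_zpowers_iff.1 hx
  exact ((C.commute_conj (mem_centralizer_singleton_iff.1 ha)).symm.zpow_left i).eq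

/-- Two moved parts. -/
theorem false_of_two_moved (h2 : TwoPrimes M) {r : ℕ} (hA : Anchor t M r) {l : ℕ} [Fact l.Prime]
    (hlr : l ≠ r) (hmv : ∃ x ∈ invertedIn t M l, x ≠ 1) : False := by
  refine C.false_of_le h2 fun q hq => ?_
  haveI : Fact q.Prime := ⟨hq⟩
  haveI : Fact r.Prime := ⟨hA.prime⟩
  obtain ⟨i, j, hij, hjp, hAi, hqj, hmj⟩ : ∃ i j : ℕ, j ≠ i ∧ j.Prime ∧ Anchor t M i ∧ q ≠ j ∧
      ∃ x ∈ invertedIn t M j, x ≠ 1 := by
    by_cases hqr : q = r
    · exact ⟨r, l, hlr, Fact.out, hA, hqr ▸ hlr.symm, hmv⟩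
    · exact ⟨l, r, hlr.symm, hA.prime, C.anchor_all h2 hA hmv, hqr, hA.moved⟩
  haveI : Fact j.Prime := ⟨hjp⟩
  obtain ⟨x, hx, hx1⟩ := hmj
  obtain ⟨y, hy, hy1, hyt, hyu⟩ := C.exists_side_conj ⟨x, hx.1, fun hc =>
    hx1 (eq_one_of_fixed_inverted C.tt hc hx.2 (C.op_odd hx.1))⟩
  intro a ha
  exact C.centralizer_conj_le h2 hAi hij hy hy1 (Or.inl hyt) (Or.inr hyu)
    (mem_centralizer_singleton_iff.2 (C.commute_op hqj hy hyt hyu ha).symm.eq)

/-- One moved part. -/
theorem false_of_one_moved (h2 : TwoPrimes M) {s : ℕ} (hA : Anchor t M s)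
    (hone : ∀ l, l.Prime → l ≠ s → ∀ x ∈ Op l M, Commute t x) : False := by
  haveI := C.hG.isSimple
  haveI : Fact s.Prime := ⟨hA.prime⟩
  set S : Set G := {x | x ∈ invertedIn t M s ∧ x ∈ M'} with hS
  set A := closure S with hAdef
  have hAF : A ≤ Op s M := (closure_le _).2 fun x hx => hx.1.1
  have hAM : A ≤ M := hAF.trans (Cfsg.Agent.S1312.op_le s M)
  have hAM' : A ≤ M' := (closure_le _).2 fun x hx => hx.2
  obtain ⟨w, hw, hw1⟩ := hA.moved
  have hmv : ∃ a ∈ Op s M, ¬ Commute t a := ⟨w, hw.1, fun hc =>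
    hw1 (eq_one_of_fixed_inverted C.tt hc hw.2 (C.op_odd hw.1))⟩
  obtain ⟨z₀, hz₀, hz₀1, hz₀u, hz₀t⟩ := C.exists_side hmv
  have hz₀A : z₀ ∈ A := subset_closure ⟨⟨hz₀, hz₀t⟩, C.mem_conj_of_commute hz₀u⟩
  have hA1 : A ≠ ⊥ := fun e => hz₀1 (mem_bot.1 (e ▸ hz₀A))
  set N := normalizer (A : Set G) with hN
  have hnorm : ∀ {c : G}, c ∈ M → c ∈ M' → Commute c t → c ∈ N := by
    intro c hc hc' hct
    refine mem_normalizer_fintype fun x hx => ?_
    have : A ≤ A.comap (MulAut.conj c).toMonoidHom := (closure_le _).2 fun a ha =>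
      subset_closure ⟨conj_mem_invertedIn hc hct ha.1, mul_mem (mul_mem hc' ha.2) (inv_mem hc')⟩
    exact this hx
  have htM' : t ∈ M' := C.mem_conj_of_commute C.hc.symm
  have huM' : u ∈ M' := C.mem_conj_of_commute (Commute.refl u)
  have htN : t ∈ N := hnorm C.t_mem htM' (Commute.refl t)
  have huN : u ∈ N := hnorm C.u_mem huM' C.hc.symm
  have hXN : ∀ l, l.Prime → l ≠ s → ∀ x ∈ Op l M, x ∈ N := fun l hl hls x hx => by
    haveI : Fact l.Prime := ⟨hl⟩
    exact centralizer_le_normalizer _ (mem_centralizer_iff.2 fun a ha =>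
      (op_commute hls M hx (hAF ha)).symm)
  obtain ⟨N₁, hN₁, hNN₁⟩ := C.exists_max hA1 hAM
  have hNtop : N ≠ ⊤ := fun e => hN₁.1 (top_le_iff.1 (e ▸ hNN₁))
  have hAN : A ≤ N := le_normalizer
  have hl : Cfsg.layer ↥N = ⊥ := by
    by_contra hL
    obtain ⟨v, hv, hR, hP⟩ := exists_inner C.hG C.ht C.hu C.hne C.hc N hNtop htN huN hL
    haveI := ((op_isPGroup s M).to_le hAF).isNilpotent
    have hvz := hR A hAN le_rfl inferInstance z₀ hz₀A
    have hz₀odd := C.op_odd hz₀
    rcases hv with rfl | rfl | rfl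
    · exact hz₀1 (eq_one_of_fixed_inverted C.tt hvz hz₀t hz₀odd)
    · obtain ⟨y, hy, hy1, hyt, hyu⟩ := C.exists_side_conj hmv
      have hyN : y ∈ N := hnorm (C.mem_of_commute hyt) (Cfsg.Agent.S1312.op_le s _ hy) hyt.symm
      refine hy1 (hP (Op s M' ⊓ N) inf_le_right ?_ ((op_isPGroup s M').to_le inf_le_left).isNilpotent ?_
        y ⟨hy, hyN⟩ hyu)
      · obtain ⟨k, hk⟩ := ((op_isPGroup s M').to_le (inf_le_left : Op s M' ⊓ N ≤ Op s M')).exists_card_eq
        rw [hk]
        exact ((Fact.out : s.Prime).odd_of_ne_two (C.ne_two hz₀ hz₀1)).pow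
      · intro c hc
        refine mem_normalizer_fintype fun b hb => ⟨conj_mem_op (C.centralizer_u_le hc.2) hb.1, ?_⟩
        show c * b * c⁻¹ ∈ N
        exact mul_mem (mul_mem hc.1 hb.2) (inv_mem hc.1)
    · refine hz₀1 (eq_one_of_fixed_inverted C.tt ?_ hz₀t hz₀odd)
      have h1 := hvz.mul_left hz₀u
      rwa [mul_assoc, C.uu, mul_one] at h1
  have hQN : (Cfsg.generalizedFittingSubgroup ↥M).map M.subtype ⊓ normalizer (A : Set G) ≤ N := inf_le_right
  have hQF : A ≤ (Cfsg.fittingSubgroup ↥M).map M.subtype := hAF.trans (op_le_fitting M s)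
  have hAT : A ≤ Op s N := le_op hAN le_rfl ((op_isPGroup s M).to_le hAF)
  -- the parts of `F(N)` in `π(F(M)) - {s}` are fixed by `t`
  have hT : ∀ q, q.Prime → q ≠ s → Op q M ≠ ⊥ → ∀ τ ∈ Op q N, Commute t τ := by
    intro q hq hqs hqM
    haveI : Fact q.Prime := ⟨hq⟩
    have hTM : Op q N ≤ M := C.op_le h2 hQF hQN q hqM
    obtain ⟨f₀, hf₀, hf₀1⟩ := (bot_or_exists_ne_one _).resolve_left hqM
    have hq2 : q ≠ 2 := C.ne_two hf₀ hf₀1
    refine fun τ hτ => (mem_centralizer_singleton_iff.1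
      (le_of_fixed_inverted C.tt (H := Op q N) (K := centralizer ({t} : Set G)) ?_
        (fun x hx => conj_odd hq2 (op_isPGroup q N) hx)
        (fun x _ hx => mem_centralizer_singleton_iff.2 hx.symm.eq) ?_ hτ)).symm
    · intro x hx
      simpa [inv_eq_of_mul_eq_one_right C.tt] using conj_mem_op htN hx
    intro τ hτ hτt
    have hτo := conj_odd hq2 (op_isPGroup q N) hτ
    have hfix : ∀ l, l.Prime → ∀ f ∈ Op l M, Commute τ f := by
      intro l hl f hf
      haveI : Fact l.Prime := ⟨hl⟩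
      have key : l ≠ q → f ∈ N → Commute τ f := fun hlq hfN => by
        have h1 : τ * f * τ⁻¹ * f⁻¹ ∈ Op l M := mul_mem (conj_mem_op (hTM hτ) hf) (inv_mem hf)
        have h2 : τ * f * τ⁻¹ * f⁻¹ ∈ Op q N := by
          rw [show τ * f * τ⁻¹ * f⁻¹ = τ * (f * τ⁻¹ * f⁻¹) by group]
          exact mul_mem hτ (conj_mem_op hfN (inv_mem hτ))
        have h3 := eq_one_of_two_primes hlq (op_isPGroup l M) (op_isPGroup q N) h1 h2
        exact mul_inv_eq_iff_eq_mul.1 (mul_inv_eq_one.1 h3)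
      by_cases hls : l = s
      · subst hls
        have hcomm : ⁅Op l M, Op q N⁆ = ⊥ := by
          refine Cfsg.Lib.Coprime.commutator_eq_bot_of_AxB (p := l) (Op l M) A (Op q N) (op_isPGroup l M)
            ((op_isPGroup l M).to_le hAF) ?_ (hAM.trans (le_normalizer_op l M))
            (hTM.trans (le_normalizer_op l M)) ?_ ?_
          · obtain ⟨k, hk⟩ := (op_isPGroup q N).exists_card_eq
            rw [hk]
            exact ((Nat.coprime_primes hq Fact.out).2 hqs).pow_left k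
          · exact fun b hb => mem_centralizer_iff.2 fun a ha => op_commute (Ne.symm hqs) N (hAT ha) hb
          · rintro g ⟨hg, hgA⟩
            refine mem_centralizer_iff.2 fun b hb => ?_
            have hgN : g ∈ N := centralizer_le_normalizer _ hgA
            have h1 : b * g * b⁻¹ * g⁻¹ ∈ Op l M := mul_mem (conj_mem_op (hTM hb) hg) (inv_mem hg)
            have h2 : b * g * b⁻¹ * g⁻¹ ∈ Op q N := by
              rw [show b * g * b⁻¹ * g⁻¹ = b * (g * b⁻¹ * g⁻¹) by group]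
              exact mul_mem hb (conj_mem_op hgN (inv_mem hb))
            have h3 := eq_one_of_two_primes (Ne.symm hqs) (op_isPGroup l M) (op_isPGroup q N) h1 h2
            exact mul_inv_eq_iff_eq_mul.1 (mul_inv_eq_one.1 h3)
        exact mem_centralizer_iff.1 (commutator_eq_bot_iff_le_centralizer.1 hcomm hf) τ hτ
      · by_cases hlq : l = q
        · subst hlq
          exact commute_of_inverted_fixed C.tt hτt (hone l hl hls f hf)
            (hone l hl hls _ (conj_mem_op (hTM hτ) hf)) hτo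
        · exact key hlq (hXN l hl hls f hf)
    obtain ⟨k, hk⟩ := IsPGroup.iff_orderOf.1 (op_isPGroup q N) ⟨τ, hτ⟩
    rw [← orderOf_coe] at hk
    have hτF : τ ∈ Op q M := mem_op_of_fitting (mem_fitting_of_commute C.layer (hTM hτ) hfix)
      ⟨k, by rw [← hk, pow_orderOf_eq_one]⟩
    rw [eq_one_of_fixed_inverted C.tt (hone q hq hqs τ hτF) hτt hτo]
    exact one_mem _
  -- `A` centralizes `O_q(M')`
  have hAX : ∀ q, q.Prime → q ≠ s → ∀ x ∈ Op q M', ∀ a ∈ A, Commute x a := by
    intro q hq hqs x hx a ha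
    haveI : Fact q.Prime := ⟨hq⟩
    by_cases hx1 : x = 1
    · rw [hx1]; exact Commute.one_left a
    have hq2 : q ≠ 2 := C.ne_two (C.op_conj_back hx) fun e => hx1 (conj_eq_one_iff.1 e)
    suffices hle : A ≤ centralizer ({x} : Set G) from (mem_centralizer_singleton_iff.1 (hle ha)).symm
    refine (closure_le _).2 fun b hb => mem_centralizer_singleton_iff.2 ?_
    refine (commute_of_fixed_commute hq2 (op_isPGroup q M') C.tt (fun c hc => ?_)
      (le_normalizer_op q M' hb.2) hb.1.2 (C.op_odd hb.1.1) ?_ ?_ x hx).eq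
    · simpa [inv_eq_of_mul_eq_one_right C.tt] using conj_mem_op htM' hc
    · obtain ⟨k, hk⟩ := IsPGroup.iff_orderOf.1 (op_isPGroup s M) ⟨b, hb.1.1⟩
      rw [← orderOf_coe] at hk
      rw [hk]
      exact ((Nat.coprime_primes Fact.out hq).2 (Ne.symm hqs)).pow_left k
    · intro c hc hct
      have h1 : b * c * b⁻¹ * c⁻¹ ∈ Op q M' := mul_mem (conj_mem_op hb.2 hc) (inv_mem hc)
      have h2 : b * c * b⁻¹ * c⁻¹ ∈ Op s M := by
        rw [show b * c * b⁻¹ * c⁻¹ = b * (c * b⁻¹ * c⁻¹) by group]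
        exact mul_mem hb.1.1 (conj_mem_op (C.mem_of_commute hct) (inv_mem hb.1.1))
      have h3 := eq_one_of_two_primes hqs (op_isPGroup q M') (op_isPGroup s M) h1 h2
      exact mul_inv_eq_iff_eq_mul.1 (mul_inv_eq_one.1 h3)
  have hX'N : ∀ q, q.Prime → q ≠ s → ∀ x ∈ Op q M', x ∈ N := fun q hq hqs x hx =>
    centralizer_le_normalizer _ (mem_centralizer_iff.2 fun a ha => (hAX q hq hqs x hx a ha).symm.eq)
  -- (i)
  have hi : ∀ q, q.Prime → q ≠ s → Op q M' ≤ M := by
    intro q hq hqs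
    haveI : Fact q.Prime := ⟨hq⟩
    refine le_of_fixed_inverted C.tt (H := Op q M')
      (fun c hc => by simpa [inv_eq_of_mul_eq_one_right C.tt] using conj_mem_op htM' hc)
      (fun c hc => C.op_conj_odd hc) (fun c _ hct => C.mem_of_commute hct) fun x hx hxt => ?_
    by_cases hx1 : x = 1
    · rw [hx1]; exact one_mem _
    have hxN := hX'N q hq hqs x hx
    have hxo := C.op_conj_odd hx
    have hxu : Commute u x := by
      have h1 := hone q hq hqs _ (C.op_conj_back hx)
      have h2 := h1.map (MulAut.conj h⁻¹).toMonoidHom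
      simp only [MulEquiv.coe_toMonoidHom, MulAut.conj_apply, inv_inv] at h2
      rwa [show h⁻¹ * (h * x * h⁻¹) * h = x by group, show h⁻¹ * t * h = u by rw [← C.hh']; group] at h2
    have hxC := C.centralizer_conj_le h2 hA hqs hx hx1 (Or.inr hxt) (Or.inl hxu)
    have hB : ∀ p, p.Prime → Op p M = ⊥ → Op p N = ⊥ := by
      intro p hp hpM
      haveI : Fact p.Prime := ⟨hp⟩
      obtain ⟨hinf, hinv, hodd⟩ := C.op_facts htN hQF hQN p hpM
      refine eq_bot_iff.2 fun b hb => mem_bot.2 ?_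
      have hbx : Commute x b := commute_of_inverted_inverted C.tt hxt (hinv b hb)
        (hinv _ (conj_mem_op hxN hb)) hxo
      have hbM' : b ∈ M' := hxC (mem_centralizer_singleton_iff.2 hbx.symm.eq)
      obtain ⟨k, hk⟩ := IsPGroup.iff_orderOf.1 (op_isPGroup p N) ⟨b, hb⟩
      rw [← orderOf_coe] at hk
      have hfix : ∀ j, j.Prime → ∀ m ∈ Op j M, Commute (h * b * h⁻¹) m := by
        intro j hj m hm
        haveI : Fact j.Prime := ⟨hj⟩
        have hm' : h⁻¹ * m * h ∈ Op j M' := C.mem_op_conj_iff.2 (by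
          rwa [show h * (h⁻¹ * m * h) * h⁻¹ = m by group])
        by_cases hm1 : m = 1
        · rw [hm1]; exact Commute.one_right _
        have hjp : j ≠ p := fun e => hm1 (by rw [e, hpM, mem_bot] at hm; exact hm)
        have h1 : Commute b (h⁻¹ * m * h) := by
          refine commute_of_fixed_commute (C.ne_two hm hm1) (op_isPGroup j M') C.tt
            (fun c hc => by simpa [inv_eq_of_mul_eq_one_right C.tt] using conj_mem_op htM' hc)
            (le_normalizer_op j M' hbM') (hinv b hb) (hodd b hb) ?_ ?_ _ hm'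
          · rw [hk]
            exact ((Nat.coprime_primes hp hj).2 (Ne.symm hjp)).pow_left k
          · intro c hc hct
            have hcN : c ∈ N := hnorm (C.mem_of_commute hct) (Cfsg.Agent.S1312.op_le j _ hc) hct.symm
            have h1 : b * c * b⁻¹ * c⁻¹ ∈ Op j M' := mul_mem (conj_mem_op hbM' hc) (inv_mem hc)
            have h2 : b * c * b⁻¹ * c⁻¹ ∈ Op p N := by
              rw [show b * c * b⁻¹ * c⁻¹ = b * (c * b⁻¹ * c⁻¹) by group]
              exact mul_mem hb (conj_mem_op hcN (inv_mem hb))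
            have h3 := eq_one_of_two_primes hjp (op_isPGroup j M') (op_isPGroup p N) h1 h2
            exact mul_inv_eq_iff_eq_mul.1 (mul_inv_eq_one.1 h3)
        have h2 := C.commute_conj h1
        rwa [show h * (h⁻¹ * m * h) * h⁻¹ = m by group] at h2
      have h3 : h * b * h⁻¹ ∈ Op p M := mem_op_of_fitting
        (mem_fitting_of_commute C.layer (C.conj_back hbM') hfix)
        ⟨k, by rw [← hk, conj_pow, pow_orderOf_eq_one, mul_one, mul_inv_cancel]⟩
      rw [hpM, mem_bot] at h3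
      exact conj_eq_one_iff.1 h3
    obtain ⟨j, hj, hjs, hD⟩ : ∃ j, j.Prime ∧ j ≠ s ∧ Op j M ⊓ Op j N ≠ ⊥ := by
      by_contra hall
      push Not at hall
      obtain ⟨l, hl', hls, hlM⟩ := h2 s
      haveI : Fact l.Prime := ⟨hl'⟩
      obtain ⟨f, hf, hf1⟩ := (bot_or_exists_ne_one _).resolve_left hlM
      have hfN := hXN l hl' hls f hf
      have hfix : ∀ p, p.Prime → ∀ τ ∈ Op p N, Commute f τ := by
        intro p hp τ hτ
        haveI : Fact p.Prime := ⟨hp⟩
        by_cases hpM : Op p M = ⊥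
        · rw [hB p hp hpM, mem_bot] at hτ; rw [hτ]; exact Commute.one_right f
        have h1 : f * τ * f⁻¹ * τ⁻¹ ∈ Op p N := mul_mem (conj_mem_op hfN hτ) (inv_mem hτ)
        have h2' : f * τ * f⁻¹ * τ⁻¹ ∈ Op l M := by
          rw [show f * τ * f⁻¹ * τ⁻¹ = f * (τ * f⁻¹ * τ⁻¹) by group]
          exact mul_mem hf (conj_mem_op (C.op_le h2 hQF hQN p hpM hτ) (inv_mem hf))
        refine mul_inv_eq_iff_eq_mul.1 (mul_inv_eq_one.1 ?_)
        by_cases hpl : p = l
        · subst hpl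
          exact mem_bot.1 (hall p hp hls ▸ ⟨h2', h1⟩)
        · exact eq_one_of_two_primes hpl (op_isPGroup p N) (op_isPGroup l M) h1 h2'
      obtain ⟨k, hk⟩ := IsPGroup.iff_orderOf.1 (op_isPGroup l M) ⟨f, hf⟩
      rw [← orderOf_coe] at hk
      have hfF : f ∈ Op l N := mem_op_of_fitting (mem_fitting_of_commute hl hfN hfix)
        ⟨k, by rw [← hk, pow_orderOf_eq_one]⟩
      exact hf1 (mem_bot.1 (hall l hl' hls ▸ ⟨hf, hfF⟩))
    haveI : Fact j.Prime := ⟨hj⟩
    have hjM : Op j M ≠ ⊥ := fun e => hD (by rw [e, bot_inf_eq])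
    have hn : ∀ {v : G}, v ∈ M → v ∈ N → v ∈ normalizer ((Op j M ⊓ Op j N : Subgroup G) : Set G) :=
      fun hvM hvN => mem_normalizer_fintype fun b hb => ⟨conj_mem_op hvM hb.1, conj_mem_op hvN hb.2⟩
    refine C.normalizer_le h2 hA hjs hD inf_le_left (hn C.t_mem htN) (hn C.u_mem huN)
      (centralizer_le_normalizer _ (mem_centralizer_iff.2 fun b hb => ?_))
    exact (commute_of_inverted_fixed C.tt hxt (hT j hj hjs hjM b hb.2)
      (hT j hj hjs hjM _ (conj_mem_op hxN hb.2)) hxo).symm.eq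
  have hi' : ∀ q, q.Prime → q ≠ s → Op q M ≤ M' := fun q hq hqs x hx => by
    haveI : Fact q.Prime := ⟨hq⟩
    exact C.mem_conj_iff.2 (hi q hq hqs (C.mem_op_conj hx))
  obtain ⟨l, hl', hls, hlM⟩ := h2 s
  haveI : Fact l.Prime := ⟨hl'⟩
  -- (ii)
  have hii : Op s M' ⊓ centralizer (A : Set G) ≤ M := by
    have hcA : ∀ {v e : G}, v ∈ N → e ∈ centralizer (A : Set G) → v * e * v⁻¹ ∈ centralizer (A : Set G) := by
      intro v e hv he
      refine mem_centralizer_iff.2 fun a ha => ?_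
      have h1 : v⁻¹ * a * v ∈ A := by
        have := (mem_normalizer_iff.1 (inv_mem hv) a).1 ha
        rwa [inv_inv] at this
      have h2' := mem_centralizer_iff.1 he _ h1
      calc a * (v * e * v⁻¹) = v * ((v⁻¹ * a * v) * e) * v⁻¹ := by group
        _ = v * (e * (v⁻¹ * a * v)) * v⁻¹ := by rw [h2']
        _ = _ := by group
    refine le_of_fixed_inverted C.tt (H := Op s M' ⊓ centralizer (A : Set G))
      (fun c hc => ⟨by simpa [inv_eq_of_mul_eq_one_right C.tt] using conj_mem_op htM' hc.1,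
        by simpa [inv_eq_of_mul_eq_one_right C.tt] using hcA htN hc.2⟩)
      (fun c hc => C.op_conj_odd hc.1) (fun c _ hct => C.mem_of_commute hct) fun e he het => ?_
    have heo := C.op_conj_odd he.1
    have heN : e ∈ N := centralizer_le_normalizer _ he.2
    have hfM : normalizer (Op l M : Set G) = M :=
      normalizer_eq_max C.max hlM (Cfsg.Agent.S1312.op_le l M) (le_normalizer_op l M)
    refine hfM.le (centralizer_le_normalizer _ (mem_centralizer_iff.2 fun f hf => ?_))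
    have hfN := hXN l hl' hls f hf
    have hfM' : f ∈ M' := hi' l hl' hls hf
    set c := e * f * e⁻¹ * f⁻¹ with hc
    have hcS : c ∈ Op s M' := by
      rw [hc, show e * f * e⁻¹ * f⁻¹ = e * (f * e⁻¹ * f⁻¹) by group]
      exact mul_mem he.1 (conj_mem_op hfM' (inv_mem he.1))
    have hcN : c ∈ N := mul_mem (mul_mem (mul_mem heN hfN) (inv_mem heN)) (inv_mem hfN)
    have hfix : ∀ p, p.Prime → ∀ τ ∈ Op p N, Commute c τ := by
      intro p hp τ hτ
      haveI : Fact p.Prime := ⟨hp⟩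
      have key : (∀ b ∈ Op p N, Commute e b) ∨ (∀ b ∈ Op p N, Commute f b) := by
        by_cases hps : p = s
        · subst hps
          refine Or.inr fun b hb => ?_
          have hpM : Op p M ≠ ⊥ := fun e' => hz₀1 (by rw [e', mem_bot] at hz₀; exact hz₀)
          have h1 : f * b * f⁻¹ * b⁻¹ ∈ Op p N := mul_mem (conj_mem_op hfN hb) (inv_mem hb)
          have h2' : f * b * f⁻¹ * b⁻¹ ∈ Op l M := by
            rw [show f * b * f⁻¹ * b⁻¹ = f * (b * f⁻¹ * b⁻¹) by group]
            exact mul_mem hf (conj_mem_op (C.op_le h2 hQF hQN p hpM hb) (inv_mem hf))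
          exact mul_inv_eq_iff_eq_mul.1 (mul_inv_eq_one.1
            (eq_one_of_two_primes (Ne.symm hls) (op_isPGroup p N) (op_isPGroup l M) h1 h2'))
        refine Or.inl fun b hb => ?_
        by_cases hpM : Op p M = ⊥
        · obtain ⟨-, hinv, -⟩ := C.op_facts htN hQF hQN p hpM
          exact commute_of_inverted_inverted C.tt het (hinv b hb) (hinv _ (conj_mem_op heN hb)) heo
        · exact commute_of_inverted_fixed C.tt het (hT p hp hps hpM b hb)
            (hT p hp hps hpM _ (conj_mem_op heN hb)) heo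
      rcases key with hk | hk
      · have h1 : Commute (f * e⁻¹ * f⁻¹) τ := by
          have h0 := ((hk _ (conj_mem_op (inv_mem hfN) hτ)).inv_left).map (MulAut.conj f).toMonoidHom
          simp only [MulEquiv.coe_toMonoidHom, MulAut.conj_apply, inv_inv] at h0
          rwa [show f * (f⁻¹ * τ * f) * f⁻¹ = τ by group] at h0
        rw [hc, show e * f * e⁻¹ * f⁻¹ = e * (f * e⁻¹ * f⁻¹) by group]
        exact (hk τ hτ).mul_left h1
      · have h1 : Commute (e * f * e⁻¹) τ := by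
          have h0 := (hk _ (conj_mem_op (inv_mem heN) hτ)).map (MulAut.conj e).toMonoidHom
          simp only [MulEquiv.coe_toMonoidHom, MulAut.conj_apply, inv_inv] at h0
          rwa [show e * (e⁻¹ * τ * e) * e⁻¹ = τ by group] at h0
        exact h1.mul_left (hk τ hτ).inv_left
    obtain ⟨k, hk⟩ := IsPGroup.iff_orderOf.1 (op_isPGroup s M') ⟨c, hcS⟩
    rw [← orderOf_coe] at hk
    have hcT : c ∈ Op s N := mem_op_of_fitting (mem_fitting_of_commute hl hcN hfix)
      ⟨k, by rw [← hk, pow_orderOf_eq_one]⟩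
    have hsM : Op s M ≠ ⊥ := fun e' => hz₀1 (by rw [e', mem_bot] at hz₀; exact hz₀)
    have hfc : Commute f c := by
      have h1 : f * c * f⁻¹ * c⁻¹ ∈ Op s N := mul_mem (conj_mem_op hfN hcT) (inv_mem hcT)
      have h2' : f * c * f⁻¹ * c⁻¹ ∈ Op l M := by
        rw [show f * c * f⁻¹ * c⁻¹ = f * (c * f⁻¹ * c⁻¹) by group]
        exact mul_mem hf (conj_mem_op (C.op_le h2 hQF hQN s hsM hcT) (inv_mem hf))
      exact mul_inv_eq_iff_eq_mul.1 (mul_inv_eq_one.1
        (eq_one_of_two_primes (Ne.symm hls) (op_isPGroup s N) (op_isPGroup l M) h1 h2'))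
    have hc1 : c = 1 := by
      refine eq_one_of_conj_eq_mul (z := f) (m := e⁻¹) (by rw [hc]; group) hfc ?_
      obtain ⟨i, hi⟩ := IsPGroup.iff_orderOf.1 (op_isPGroup l M) ⟨f, hf⟩
      rw [← orderOf_coe] at hi
      rw [hi, hk]
      exact (((Nat.coprime_primes hl' Fact.out).2 hls).pow_left i).pow_right k
    exact (mul_inv_eq_iff_eq_mul.1 (mul_inv_eq_one.1 (hc ▸ hc1))).symm
  -- (iii)
  refine C.false_of_le h2 fun q hq => ?_
  by_cases hqs : q = s
  swap
  · exact hi' q hq hqs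
  subst hqs
  set A' := A.map (MulAut.conj h).toMonoidHom with hA'
  have hA'M : A' ≤ M := by
    rintro _ ⟨a, ha, rfl⟩
    exact C.conj_back (hAM' ha)
  have hhN : h * h ∈ N := by
    refine hnorm C.hh_mem (C.mem_conj_iff.2 ?_) ?_
    · rw [show h * (h * h) * h⁻¹ = h * h by group]; exact C.hh_mem
    · show h * h * t = t * (h * h)
      calc h * h * t = h * (h * t * h⁻¹) * h⁻¹ * (h * h) := by group
        _ = _ := by rw [C.hh, C.hh']
  have hfix : Op q M ⊓ centralizer (A' : Set G) ≤ M' := by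
    rintro f ⟨hf, hfA⟩
    refine C.mem_conj_iff.2 (hii ⟨C.mem_op_conj hf, mem_centralizer_iff.2 fun a ha => ?_⟩)
    have ha0 : (h * h)⁻¹ * a * (h * h) ∈ A := by
      have := (mem_normalizer_iff.1 (inv_mem hhN) a).1 ha
      rwa [inv_inv] at this
    have h1 := C.commute_conj (show Commute (h * ((h * h)⁻¹ * a * (h * h)) * h⁻¹) f from
      mem_centralizer_iff.1 hfA _ (mem_map_of_mem _ ha0))
    rw [show h * (h * ((h * h)⁻¹ * a * (h * h)) * h⁻¹) * h⁻¹ = a by group] at h1
    exact h1.eq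
  have hcomm : ⁅Op q M, Op l M'⁆ = ⊥ := by
    refine Cfsg.Lib.Coprime.commutator_eq_bot_of_AxB (p := q) (Op q M) A' (Op l M') (op_isPGroup q M)
      (((op_isPGroup q M).to_le hAF).map _) ?_ (hA'M.trans (le_normalizer_op q M))
      ((hi l hl' hls).trans (le_normalizer_op q M)) ?_ ?_
    · obtain ⟨k, hk⟩ := (op_isPGroup l M').exists_card_eq
      rw [hk]
      exact ((Nat.coprime_primes hl' hq).2 hls).pow_left k
    · refine fun x hx => mem_centralizer_iff.2 ?_
      rintro _ ⟨a, ha, rfl⟩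
      exact op_commute (Ne.symm hls) M' (C.mem_op_conj (hAF ha)) hx
    · intro f hf
      refine mem_centralizer_iff.2 fun x hx => ?_
      have hfM' := hfix hf
      have h1 : x * f * x⁻¹ * f⁻¹ ∈ Op q M := mul_mem (conj_mem_op (hi l hl' hls hx) hf.1) (inv_mem hf.1)
      have h2' : x * f * x⁻¹ * f⁻¹ ∈ Op l M' := by
        rw [show x * f * x⁻¹ * f⁻¹ = x * (f * x⁻¹ * f⁻¹) by group]
        exact mul_mem hx (conj_mem_op hfM' (inv_mem hx))
      exact mul_inv_eq_iff_eq_mul.1 (mul_inv_eq_one.1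
        (eq_one_of_two_primes (Ne.symm hls) (op_isPGroup q M) (op_isPGroup l M') h1 h2'))
  intro f hf
  have hfX := commutator_eq_bot_iff_le_centralizer.1 hcomm hf
  have hfM : normalizer (Op l M : Set G) = M :=
    normalizer_eq_max C.max hlM (Cfsg.Agent.S1312.op_le l M) (le_normalizer_op l M)
  refine C.mem_conj_iff.2 (hfM.le (centralizer_le_normalizer _ (mem_centralizer_iff.2 fun m hm => ?_)))
  have hm' : h⁻¹ * m * h ∈ Op l M' := C.mem_op_conj_iff.2 (by
    rwa [show h * (h⁻¹ * m * h) * h⁻¹ = m by group])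
  have h1 := C.commute_conj (show Commute (h⁻¹ * m * h) f from mem_centralizer_iff.1 hfX _ hm')
  rw [show h * (h⁻¹ * m * h) * h⁻¹ = m by group] at h1
  exact h1.eq

/-- An anchor gives a contradiction. -/
theorem false_of_anchor (h2 : TwoPrimes M) {r : ℕ} (hA : Anchor t M r) : False := by
  by_cases hone : ∃ l, l.Prime ∧ l ≠ r ∧ ∃ x ∈ Op l M, ¬ Commute t x
  · obtain ⟨l, hl, hlr, hmv⟩ := hone
    haveI : Fact l.Prime := ⟨hl⟩
    obtain ⟨z, hz, hz1, -, hzt⟩ := C.exists_side hmv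
    exact C.false_of_two_moved h2 hA hlr ⟨z, ⟨hz, hzt⟩, hz1⟩
  · push Not at hone
    exact C.false_of_one_moved h2 hA hone

/-- There is an anchor, here or at the maximal overgroup of a normalizer. -/
theorem false_of_two_primes (h2 : TwoPrimes M) : False := by
  haveI := C.hG.isSimple
  obtain ⟨r, hr, hmv⟩ := C.exists_moved
  haveI : Fact r.Prime := ⟨hr⟩
  obtain ⟨x, hx, hx1, -, hxt⟩ := C.exists_side hmv
  have hxI : x ∈ invertedIn t M r := ⟨hx, hxt⟩
  by_cases hcen : centralizer (invertedIn t M r) ≤ M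
  · exact C.false_of_anchor h2 ⟨hr, ⟨x, hxI, hx1⟩, hcen⟩
  set Q := closure (invertedIn t M r) with hQdef
  have hQM : Q ≤ Op r M := (closure_le _).2 fun a ha => ha.1
  have hQ1 : Q ≠ ⊥ := fun e => hx1 (mem_bot.1 (e ▸ subset_closure hxI))
  obtain ⟨N, hN, hQN⟩ := C.exists_max hQ1 (hQM.trans (Cfsg.Agent.S1312.op_le r M))
  have hCN : centralizer ({t} : Set G) ≤ N := fun c hc =>
    hQN (C.le_normalizer_closure (C.le hc) (mem_centralizer_singleton_iff.1 hc) r)
  have htN : t ∈ N := hCN (mem_centralizer_singleton_iff.2 rfl)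
  have huN : u ∈ N := hCN (mem_centralizer_singleton_iff.2 C.hc.symm.eq)
  have hdN : d ∈ N := hCN (mem_centralizer_singleton_iff.2 C.hd.eq)
  have hne : M ≠ N := by
    intro e
    apply hcen
    rw [← centralizer_closure]
    exact ((centralizer_le_normalizer _).trans hQN).trans e.ge
  have hsub : ∀ a ∈ invertedIn t M r, a ∈ N := fun a ha => hQN (le_normalizer (subset_closure ha))
  obtain ⟨y, hy, hy1, hyt, hyu⟩ := C.exists_side_conj hmv
  obtain ⟨z, hz, hz1, hzt, hzw⟩ := C.swap.exists_side_conj hmv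
  have hl : Cfsg.layer ↥N = ⊥ := C.layer_eq_bot_of_witnesses hN.1 htN huN hx (hsub x hxI) hx1 hxt
    hy (hCN (mem_centralizer_singleton_iff.2 hyt.symm.eq)) hy1 hyu
    hz (hCN (mem_centralizer_singleton_iff.2 hzt.symm.eq)) hz1 hzw
  have hQF : Q ≤ (Cfsg.fittingSubgroup ↥M).map M.subtype := hQM.trans (op_le_fitting M r)
  have hQN' : (Cfsg.generalizedFittingSubgroup ↥M).map M.subtype ⊓ normalizer (Q : Set G) ≤ N :=
    inf_le_right.trans hQN
  obtain ⟨q, hq, hqM, hqN⟩ : ∃ q, q.Prime ∧ Op q M = ⊥ ∧ Op q N ≠ ⊥ := by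
    by_contra hall
    push Not at hall
    refine hne (C.eq_of_fitting_le h2 hN htN hl ⟨Q, hQ1, hQF, hQN'⟩ fun p hp => ?_)
    haveI : Fact p.Prime := ⟨hp⟩
    by_cases hpM : Op p M = ⊥
    · rw [hall p hp hpM]; exact bot_le
    · exact C.op_le h2 hQF hQN' p hpM
  haveI : Fact q.Prime := ⟨hq⟩
  obtain ⟨-, hinv, hodd⟩ := C.op_facts htN hQF hQN' q hqM
  obtain ⟨b, hb, hb1⟩ := (bot_or_exists_ne_one _).resolve_left hqN
  have hqr : q ≠ r := fun e => hx1 (by rw [← e, hqM, mem_bot] at hx; exact hx)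
  -- `h` is not in `N`
  have hhN : h ∉ N := by
    intro hhN
    have hu' : ∀ a ∈ Op q N, u * a * u = a⁻¹ := fun a ha => by
      have ha' : h⁻¹ * a * h⁻¹⁻¹ ∈ Op q N := conj_mem_op (inv_mem hhN) ha
      have := inverted_conj (h := h) (hinv _ ha')
      rwa [C.hh, show h * (h⁻¹ * a * h⁻¹⁻¹) * h⁻¹ = a by group] at this
    have hw' : t * u * b * (t * u) = b⁻¹ := by
      have hb' : d⁻¹ * b * d⁻¹⁻¹ ∈ Op q N := conj_mem_op (inv_mem hdN) hb
      have := inverted_conj (h := d) (hu' _ hb')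
      rwa [C.hdu, show d * (d⁻¹ * b * d⁻¹⁻¹) * d⁻¹ = b by group] at this
    refine hb1 (eq_one_of_fixed_inverted C.ww (commute_of_conj_self C.ww ?_) hw' (hodd b hb))
    calc t * u * b * (t * u) = t * u * b * (u * t) := by rw [C.hc.eq]
      _ = t * (u * b * u) * t := by group
      _ = b := by rw [hu' b hb, inv_inverted C.tt (hinv b hb)]
  have hodd2 : Odd (Nat.card ↥(Cfsg.fittingSubgroup ↥N)) := by
    haveI : Fact (Nat.Prime 2) := ⟨Nat.prime_two⟩
    rw [← Nat.not_even_iff_odd, even_iff_two_dvd, dvd_card_fitting_iff N 2, not_not]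
    obtain ⟨-, -, hodd'⟩ := C.op_facts htN hQF hQN' 2 C.op_two
    refine eq_bot_iff.2 fun a ha => mem_bot.2 (orderOf_eq_one_iff.1 ?_)
    obtain ⟨k, hk⟩ := IsPGroup.iff_orderOf.1 (op_isPGroup 2 N) ⟨a, ha⟩
    rw [← orderOf_coe] at hk
    rcases k with _ | k
    · rw [hk, pow_zero]
    · have := hodd' a ha
      rw [hk, pow_succ] at this
      exact absurd this (Nat.not_odd_iff_even.2 ((2 ^ k).even_mul.2 (Or.inr even_two)))
  have C' : Ctx t u h d N :=
    { hG := C.hG, ht := C.ht, hu := C.hu, hne := C.hne, hc := C.hc, max := hN, le := hCN, layer := hl,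
      odd := hodd2, hh := C.hh, hh' := C.hh', hd := C.hd, hdu := C.hdu, hM := hhN }
  have h2' : TwoPrimes N := by
    intro p
    by_contra hall
    push Not at hall
    have hqp : q = p := by
      by_contra e
      exact hqN (hall q hq e)
    subst hqp
    have hxN := hsub x hxI
    have hfix : ∀ p', p'.Prime → ∀ a ∈ Op p' N, Commute x a := by
      intro p' hp' a ha
      by_cases e : p' = q
      · subst e
        exact commute_of_inverted_inverted C.tt hxt (hinv a ha) (hinv _ (conj_mem_op hxN ha)) (C.op_odd hx)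
      · rw [hall p' hp' e, mem_bot] at ha; rw [ha]; exact Commute.one_right x
    obtain ⟨k, hk⟩ := IsPGroup.iff_orderOf.1 (op_isPGroup r M) ⟨x, hx⟩
    rw [← orderOf_coe] at hk
    have hxF : x ∈ Op r N := mem_op_of_fitting (mem_fitting_of_commute hl hxN hfix)
      ⟨k, by rw [← hk, pow_orderOf_eq_one]⟩
    rw [hall r hr (Ne.symm hqr), mem_bot] at hxF
    exact hx1 hxF
  refine C'.false_of_anchor h2' (r := q) ⟨hq, ⟨b, ⟨hb, hinv b hb⟩, hb1⟩, ?_⟩
  have hset : invertedIn t N q = (Op q N : Set G) := Set.ext fun a => ⟨fun ha => ha.1, fun ha => ⟨ha, hinv a ha⟩⟩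
  rw [hset]
  exact (centralizer_le_normalizer _).trans
    (normalizer_eq_max hN hqN (Cfsg.Agent.S1312.op_le q N) (le_normalizer_op q N)).le

end Ctx

/-- Theorem A for at least two primes: the odd Fitting subgroup is a `p`-group. -/
theorem pGroup (hG : GWMin G) (h8 : 8 ∣ Nat.card G) {t : G} {M : Subgroup G} (ht : orderOf t = 2)
    (hM : IsCoatom M) (hCM : centralizer ({t} : Set G) ≤ M) (hl : Cfsg.layer ↥M = ⊥)
    (hodd : Odd (Nat.card ↥(Cfsg.fittingSubgroup ↥M))) {u : G} (hu : orderOf u = 2) (hc : Commute u t)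
    (hne : u ≠ t) (hnf : ∀ m ∈ M, m * t * m⁻¹ ≠ u) :
    ∃ p : ℕ, p.Prime ∧ p ≠ 2 ∧ IsPGroup p ↥(Cfsg.fittingSubgroup ↥M) := by
  obtain ⟨h, d, hh, hh', hd, hdu⟩ := exists_frame hG h8 ht hu hne hc.symm
  have C : Ctx t u h d M := ⟨hG, ht, hu, hne, hc.symm, hM, hCM, hl, hodd, hh, hh', hd, hdu,
    fun hhM => hnf h hhM hh⟩
  obtain ⟨p, hp⟩ : ∃ p : ℕ, ∀ q : ℕ, q.Prime → q ≠ p → Op q M = ⊥ := by
    by_contra hall
    push Not at hall
    exact C.false_of_two_primes fun p => by
      obtain ⟨q, hq, hqp, hne⟩ := hall p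
      exact ⟨q, hq, hqp, hne⟩
  obtain ⟨r, hr, x, hx, hxt⟩ := C.exists_moved
  haveI : Fact r.Prime := ⟨hr⟩
  have hx1 : x ≠ 1 := fun e => hxt (e ▸ Commute.one_right t)
  obtain rfl : r = p := by
    by_contra e
    exact hx1 (mem_bot.1 (hp r hr e ▸ hx))
  refine ⟨r, hr, C.ne_two hx hx1, ?_⟩
  refine (Cfsg.Lib.Core.pCore_isPGroup r ↥M).to_le ?_
  rw [Cfsg.Lib.Core.fittingSubgroup_eq_iSup_pCore]
  refine iSup_le fun q => ?_
  by_cases e : (q : ℕ) = r
  · rw [e]
  · have h0 := (map_eq_bot_iff_of_injective _ M.subtype_injective).1 (hp q q.2 e)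
    rw [h0]; exact bot_le

end Cfsg.Lib.GW.OddMax
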