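import Cfsg.Agent.Lib.GW.AlmostSimple
import Cfsg.Agent.Lib.GW.DGroupDihedral
import Cfsg.Agent.Lib.GW.PGL
import Cfsg.Agent.Lib.GW.Klein.Side
import Cfsg.Agent.Lib.Dickson.OddProduct
import Cfsg.Agent.Lib.PGroup.Basic
import Cfsg.Agent.S1312
import Cfsg.Agent.Lib.Sig.BenderPair

/-!
# Gorenstein–Walter, Theorem A: the inner involution of a proper subgroup with a component

In `PSL₂(q)` and `A₇` an involution `v` fixes every nilpotent subgroup of odd order normalized by `C(v)`.
So if a proper subgroup `N` containing a four group has a component, some involution of the four group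
inverts only the identity in such subgroups of `N` and centralizes the solvable normal subgroups.
-/

set_option autoImplicit false
set_option linter.style.haveILetI false

namespace Cfsg.Lib.GW.OddMax

open Subgroup
open Cfsg.Agent.S1312 (Op op_le op_isPGroup le_normalizer_op le_op)

universe u

theorem commute_of_conj_self {G : Type*} [Group G] {v x : G} (hv : v * v = 1) (h : v * x * v = x) :
    Commute v x := by
  show v * x = x * v
  conv_rhs => rw [← h, mul_assoc, hv, mul_one]

theorem fix_of_commute' {G : Type*} [Group G] {v x : G} (hv : v * v = 1) (h : Commute v x) :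
    v * x * v = x := by
  rw [h.eq, mul_assoc, hv, mul_one]

/-- The computation behind the cases of `A₇`: `v` is the commutator of `r` and `s`, both of which act
on `⟨x⟩` modulo `K`. -/
theorem eq_one_of_cyclic_mod {G : Type*} [Group G] {K : Subgroup G} {v r s x : G} (hv : v * v = 1)
    (hvr : Commute v r) (hvs : Commute v s) (hrs : r * s = v * (s * r))
    (hKv : ∀ k ∈ K, Commute v k) (hKx : ∀ k ∈ K, Commute x k)
    (hKr : ∀ k ∈ K, r * k * r⁻¹ ∈ K) (hKs : ∀ k ∈ K, s * k * s⁻¹ ∈ K)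
    (hr : ∃ i : ℤ, ∃ k ∈ K, r * x * r⁻¹ = x ^ i * k) (hs : ∃ j : ℤ, ∃ k ∈ K, s * x * s⁻¹ = x ^ j * k)
    (hxinv : v * x * v = x⁻¹) (hxodd : Odd (orderOf x)) : x = 1 := by
  obtain ⟨i, k₁, hk₁, hr⟩ := hr
  obtain ⟨j, k₂, hk₂, hs⟩ := hs
  have hpow : ∀ (m : ℤ) (k : G), k ∈ K → (x ^ m * k) = k * x ^ m := fun m k hk => ((hKx k hk).zpow_left m).eq
  have hzr : r * (x ^ j * k₂) * r⁻¹ = x ^ (i * j) * (k₁ ^ j * (r * k₂ * r⁻¹)) := by
    rw [show r * (x ^ j * k₂) * r⁻¹ = (r * x ^ j * r⁻¹) * (r * k₂ * r⁻¹) by group, ← conj_zpow, hr,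
      ((hKx k₁ hk₁).zpow_left i).mul_zpow, ← zpow_mul, mul_assoc]
  have hzs : s * (x ^ i * k₁) * s⁻¹ = x ^ (i * j) * (k₂ ^ i * (s * k₁ * s⁻¹)) := by
    rw [show s * (x ^ i * k₁) * s⁻¹ = (s * x ^ i * s⁻¹) * (s * k₁ * s⁻¹) by group, ← conj_zpow, hs,
      ((hKx k₂ hk₂).zpow_left j).mul_zpow, ← zpow_mul, mul_comm j i, mul_assoc]
  set y := (s * r) * x * (s * r)⁻¹ with hy
  have hy' : y = x ^ (i * j) * (k₂ ^ i * (s * k₁ * s⁻¹)) := by
    rw [← hzs, ← hr, hy]; group
  have hvi : v⁻¹ = v := inv_eq_of_mul_eq_one_right hv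
  have hyv : v * y * v = x ^ (i * j) * (k₁ ^ j * (r * k₂ * r⁻¹)) := by
    rw [← hzr, ← hs]
    calc v * y * v = (v * (s * r)) * x * (v * (s * r))⁻¹ := by rw [hy, mul_inv_rev v, hvi]; group
      _ = (r * s) * x * (r * s)⁻¹ := by rw [hrs]
      _ = _ := by group
  have hc : Commute v (s * r) := hvs.mul_right hvr
  have hyinv : v * y * v = y⁻¹ := by
    have hfix : ∀ z : G, Commute v z → v * z * v = z := fun z hz => fix_of_commute' hv hz
    calc v * y * v = (v * (s * r) * v) * (v * x * v) * (v * (s * r)⁻¹ * v) := by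
          rw [hy]
          rw [show (v * (s * r) * v) * (v * x * v) * (v * (s * r)⁻¹ * v) =
            v * (s * r) * (v * v) * x * (v * v) * (s * r)⁻¹ * v by group, hv]
          group
      _ = _ := by rw [hfix _ hc, hxinv, hfix _ hc.inv_right, hy]; group
  have hyodd : Odd (orderOf y) := by rwa [hy, Cfsg.Lib.Invol.orderOf_conj_eq]
  have hk : ∀ {k : G}, k ∈ K → v * k * v = k := fun hk => fix_of_commute' hv (hKv _ hk)
  rw [hyv] at hyinv
  have hyy : y * y ∈ K := by
    have hb : k₁ ^ j * (r * k₂ * r⁻¹) ∈ K := mul_mem (zpow_mem hk₁ j) (hKr k₂ hk₂)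
    have ha : k₂ ^ i * (s * k₁ * s⁻¹) ∈ K := mul_mem (zpow_mem hk₂ i) (hKs k₁ hk₁)
    have e : y = (k₁ ^ j * (r * k₂ * r⁻¹))⁻¹ * (x ^ (i * j))⁻¹ := by
      rw [← mul_inv_rev, hyinv, inv_inv]
    have e2 : y * y = (k₂ ^ i * (s * k₁ * s⁻¹)) * (k₁ ^ j * (r * k₂ * r⁻¹))⁻¹ := by
      calc y * y = x ^ (i * j) * (k₂ ^ i * (s * k₁ * s⁻¹) * (k₁ ^ j * (r * k₂ * r⁻¹))⁻¹) *
            (x ^ (i * j))⁻¹ := by conv_lhs => arg 1; rw [hy']
                                  rw [e]; group
        _ = _ := by rw [hpow _ _ (mul_mem ha (inv_mem hb)), mul_inv_cancel_right]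
    rw [e2]
    exact mul_mem ha (inv_mem hb)
  have h2 : v * (y * y) * v = (y * y)⁻¹ := by
    calc v * (y * y) * v = (v * y * v) * (v * y * v) := by
          rw [show (v * y * v) * (v * y * v) = v * y * (v * v) * y * v by group, hv]; group
      _ = y⁻¹ * y⁻¹ := by rw [hyv, hyinv]
      _ = _ := (mul_inv_rev y y).symm
  have hyy1 : y * y = 1 := by
    rw [hk hyy] at h2
    obtain ⟨m, hm⟩ := exists_pow_sq_eq (x := y * y) (hyodd.of_dvd_nat
      (by rw [← pow_two]; exact orderOf_pow_dvd 2))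
    rw [← hm, mul_eq_one_iff_eq_inv.2 h2, one_pow]
  obtain ⟨m, hm⟩ := exists_pow_sq_eq hyodd
  rw [hyy1, one_pow] at hm
  rw [hy] at hm
  exact conj_eq_one_iff.1 hm.symm

section Alt

local notation "A7" => alternatingGroup (Fin 7)

/-- `A₇` for one involution. -/
theorem alt_seven_inner_std (v : A7) (hv : v = ⟨Equiv.swap 0 1 * Equiv.swap 2 3,
      Equiv.Perm.mem_alternatingGroup.2 (by decide)⟩)
    {P : Subgroup A7} [Group.IsNilpotent P] (hodd : Odd (Nat.card P))
    (hn : centralizer ({v} : Set A7) ≤ normalizer (P : Set A7)) {x : A7} (hx : x ∈ P)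
    (hinv : v * x * v = x⁻¹) : x = 1 := by
  subst hv
  set v : A7 := ⟨Equiv.swap 0 1 * Equiv.swap 2 3, Equiv.Perm.mem_alternatingGroup.2 (by decide)⟩
  set r : A7 := ⟨Equiv.swap 0 2 * Equiv.swap 2 1 * Equiv.swap 1 3 * Equiv.swap 4 5,
    Equiv.Perm.mem_alternatingGroup.2 (by decide)⟩
  set s : A7 := ⟨Equiv.swap 0 2 * Equiv.swap 1 3, Equiv.Perm.mem_alternatingGroup.2 (by decide)⟩
  set c : A7 := ⟨Equiv.swap 4 5 * Equiv.swap 5 6, Equiv.Perm.mem_alternatingGroup.2 (by decide)⟩
  have hvv : v * v = 1 := by decide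
  have hvr : Commute v r := show v * r = r * v by decide
  have hvs : Commute v s := show v * s = s * v by decide
  have hvc : Commute v c := show v * c = c * v by decide
  have hrs : r * s = v * (s * r) := by decide
  have hrc : r * c * r⁻¹ = c⁻¹ := by decide
  have hsc : s * c * s⁻¹ = c := by decide
  have hc3 : c ^ 3 = 1 := by decide
  have hc1 : c ≠ 1 := by decide
  by_contra hx1
  -- an element of prime order
  have hxodd : Odd (orderOf x) := hodd.of_dvd_nat (Subgroup.orderOf_dvd_natCard _ hx)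
  have hox : orderOf x ≠ 1 := fun h => hx1 (orderOf_eq_one_iff.1 h)
  obtain ⟨p, hp, m, hm⟩ := Nat.exists_prime_and_dvd hox
  haveI : Fact p.Prime := ⟨hp⟩
  have hm0 : m ≠ 0 := fun h => by rw [h, mul_zero] at hm; exact (orderOf_pos x).ne' hm
  set y := x ^ m with hy
  have hyo : orderOf y = p := by
    rw [orderOf_pow_of_dvd hm0 (hm ▸ dvd_mul_left m p), hm, Nat.mul_div_cancel _ (Nat.pos_of_ne_zero hm0)]
  have hyinv : v * y * v = y⁻¹ := by
    have h := pow_conj_inv (show v * x * v⁻¹ = x⁻¹ by rw [inv_eq_of_mul_eq_one_right hvv, hinv]) m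
    rwa [inv_eq_of_mul_eq_one_right hvv, inv_pow] at h
  have hp2 : p ≠ 2 := fun h => by
    rw [hm, h] at hxodd
    exact (Nat.not_odd_iff_even.2 (even_two_mul m)) hxodd
  have hy1 : y ≠ 1 := fun h => hp.one_lt.ne (by rw [← hyo, h, orderOf_one])
  have hyodd : Odd (orderOf y) := hyo ▸ hp.odd_of_ne_two hp2
  refine hy1 ?_
  set S := Op p P with hS
  have hyS : y ∈ S := by
    refine Cfsg.Lib.Sig.BenderPair.mem_op_of_fitting ?_ ⟨1, by rw [pow_one, ← hyo, pow_orderOf_eq_one]⟩
    exact ⟨⟨y, pow_mem hx m⟩, Cfsg.Lib.Core.le_fittingSubgroup' (N := ⊤) inferInstance inferInstance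
      (mem_top _), rfl⟩
  have hnS : centralizer ({v} : Set A7) ≤ normalizer (S : Set A7) :=
    hn.trans (Cfsg.Lib.Core.normalizer_le_normalizer_map_char _)
  have hconj : ∀ {g : A7}, Commute v g → ∀ {z : A7}, z ∈ S → g * z * g⁻¹ ∈ S := fun hg z hz =>
    (mem_normalizer_iff.1 (hnS (mem_centralizer_singleton_iff.2 hg.symm.eq)) z).1 hz
  obtain ⟨k, hk⟩ := (op_isPGroup p P).exists_card_eq
  have h7 : Nat.card A7 = 2520 := by
    rw [Nat.card_eq_fintype_card]
    have h := two_mul_card_alternatingGroup (α := Fin 7)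
    rw [Fintype.card_perm, Fintype.card_fin] at h
    have h' : Nat.factorial 7 = 5040 := rfl
    omega
  have hdvd : p ^ k ∣ 2520 := by
    rw [← hk, ← h7]; exact card_subgroup_dvd_card _
  by_cases hk1 : k ≤ 1
  · -- cyclic
    have hz : zpowers y = S := by
      refine eq_of_le_of_card_ge (zpowers_le.2 hyS) ?_
      rw [Nat.card_zpowers, hyo, hk]
      calc p ^ k ≤ p ^ 1 := Nat.pow_le_pow_right hp.pos hk1
        _ = p := pow_one p
    refine eq_one_of_cyclic_mod (K := ⊥) hvv hvr hvs hrs ?_ ?_ ?_ ?_ ?_ ?_ hyinv hyodd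
    · rintro k hk'; rw [mem_bot.1 hk']; exact Commute.one_right _
    · rintro k hk'; rw [mem_bot.1 hk']; exact Commute.one_right _
    · rintro k hk'; simp [mem_bot.1 hk']
    · rintro k hk'; simp [mem_bot.1 hk']
    · obtain ⟨i, hi⟩ := mem_zpowers_iff.1 (hz ▸ hconj hvr hyS : r * y * r⁻¹ ∈ zpowers y)
      exact ⟨i, 1, one_mem _, by rw [mul_one, hi]⟩
    · obtain ⟨i, hi⟩ := mem_zpowers_iff.1 (hz ▸ hconj hvs hyS : s * y * s⁻¹ ∈ zpowers y)
      exact ⟨i, 1, one_mem _, by rw [mul_one, hi]⟩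
  have hp3 : p = 3 := by
    have h2 : p ^ 2 ∣ 2520 := (pow_dvd_pow p (by omega)).trans hdvd
    have h50 : p ≤ 50 := by
      by_contra h
      have h' := Nat.pow_le_pow_left (show 51 ≤ p by omega) 2
      have := Nat.le_of_dvd (by norm_num) h2
      omega
    interval_cases p <;> first | rfl | omega | (norm_num at h2; done) | norm_num at hp
  subst hp3
  have hk2 : k = 2 := by
    by_contra h
    exact absurd ((pow_dvd_pow 3 (show 3 ≤ k by omega)).trans hdvd) (by norm_num)
  subst hk2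
  haveI : Fact (Nat.Prime 3) := ⟨hp⟩
  have hcS : c ∈ S := by
    have hcp : IsPGroup 3 (zpowers c) := IsPGroup.of_card (n := 1) (by
      rw [Nat.card_zpowers, orderOf_eq_prime hc3 hc1, pow_one])
    have hsup : IsPGroup 3 ↥(S ⊔ zpowers c) := IsPGroup.to_sup_of_normal_left' (op_isPGroup 3 P) hcp
      (zpowers_le.2 (hnS (mem_centralizer_singleton_iff.2 hvc.symm.eq)))
    obtain ⟨l, hl⟩ := hsup.exists_card_eq
    have hl2 : l ≤ 2 := by
      by_contra h
      have h' : (3 : ℕ) ^ l ∣ 2520 := by rw [← hl, ← h7]; exact card_subgroup_dvd_card _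
      exact absurd ((pow_dvd_pow 3 (show 3 ≤ l by omega)).trans h') (by norm_num)
    have heq : S = S ⊔ zpowers c := eq_of_le_of_card_ge le_sup_left (by
      rw [hl, hk]; exact Nat.pow_le_pow_right (by norm_num) hl2)
    exact heq ▸ mem_sup_right (mem_zpowers c)
  have hab : ∀ a ∈ S, ∀ b ∈ S, Commute a b := fun a ha b hb =>
    congrArg Subtype.val ((IsPGroup.isMulCommutative_of_card_eq_prime_sq (p := 3) hk).is_comm.comm (⟨a, ha⟩ : S) ⟨b, hb⟩)
  have hfix : ∀ z ∈ zpowers c, Commute v z := fun z hz => by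
    obtain ⟨i, rfl⟩ := mem_zpowers_iff.1 hz
    exact hvc.zpow_right i
  have hyc : y ∉ zpowers c := fun h => hy1 (eq_one_of_fixed_inverted hvv (hfix y h) hyinv hyodd)
  have hprod : ∀ z ∈ S, ∃ i : ℤ, ∃ w ∈ zpowers c, z = y ^ i * w := by
    have hle : zpowers y ≤ normalizer (zpowers c : Set A7) := by
      refine le_trans ?_ (centralizer_le_normalizer _)
      rw [zpowers_le]
      refine mem_centralizer_iff.2 fun w hw => ?_
      obtain ⟨i, rfl⟩ := mem_zpowers_iff.1 hw
      exact ((hab c hcS y hyS).zpow_left i).eq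
    have hsup : zpowers y ⊔ zpowers c = S := by
      refine eq_of_le_of_card_ge (sup_le (zpowers_le.2 hyS) (zpowers_le.2 hcS)) ?_
      have h3 : Nat.card (zpowers c) = 3 := by rw [Nat.card_zpowers, orderOf_eq_prime hc3 hc1]
      have hlt : 3 < Nat.card ↥(zpowers y ⊔ zpowers c) := by
        rw [← h3]
        refine lt_of_le_of_ne (card_le_of_le le_sup_right) fun h => hyc ?_
        exact (eq_of_le_of_card_ge le_sup_right h.ge).ge (mem_sup_left (mem_zpowers y))
      obtain ⟨l, hl⟩ := ((op_isPGroup 3 P).to_le (sup_le (zpowers_le.2 hyS) (zpowers_le.2 hcS) :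
        zpowers y ⊔ zpowers c ≤ S)).exists_card_eq
      rw [hl] at hlt ⊢
      rw [hk]
      refine Nat.pow_le_pow_right (by norm_num) ?_
      by_contra h
      have := Nat.pow_le_pow_right (show 0 < 3 by norm_num) (show l ≤ 1 by omega)
      omega
    intro z hz
    rw [← hsup, ← SetLike.mem_coe, coe_mul_of_left_le_normalizer_right _ _ hle] at hz
    obtain ⟨a, ha, w, hw, rfl⟩ := hz
    obtain ⟨i, rfl⟩ := mem_zpowers_iff.1 ha
    exact ⟨i, w, hw, rfl⟩
  refine eq_one_of_cyclic_mod (K := zpowers c) hvv hvr hvs hrs hfix ?_ ?_ ?_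
    (hprod _ (hconj hvr hyS)) (hprod _ (hconj hvs hyS)) hyinv hyodd
  · rintro w hw; exact hab y hyS w (zpowers_le.2 hcS hw)
  · rintro w hw
    obtain ⟨i, rfl⟩ := mem_zpowers_iff.1 hw
    rw [← conj_zpow, hrc]
    exact zpow_mem (inv_mem (mem_zpowers c)) i
  · rintro w hw
    obtain ⟨i, rfl⟩ := mem_zpowers_iff.1 hw
    rw [← conj_zpow, hsc]
    exact zpow_mem (mem_zpowers c) i

end Alt

section GW

variable {X : Type*} [Group X] [Finite X]

/-- An involution of `PSL₂(q)` or `A₇` inverts only the identity in a nilpotent subgroup of odd order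
normalized by its centralizer. -/
theorem inner_fix (hX : IsGW X) {P : Subgroup X} [Group.IsNilpotent P] (hodd : Odd (Nat.card P)) {v : X}
    (hv : orderOf v = 2) (hn : centralizer ({v} : Set X) ≤ normalizer (P : Set X)) {x : X} (hx : x ∈ P)
    (hinv : v * x * v = x⁻¹) : x = 1 := by
  have hvv : v * v = 1 := Cfsg.Lib.Invol.inv_mul_self hv
  rcases hX with ⟨F, i, j, hF, h3, ⟨e⟩⟩ | ⟨⟨e⟩⟩
  swap
  · set a : alternatingGroup (Fin 7) :=
      ⟨Equiv.swap 0 1 * Equiv.swap 2 3, Equiv.Perm.mem_alternatingGroup.2 (by decide)⟩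
    obtain ⟨g, hg⟩ := isConj_iff.1 (DGroup.alt_seven_conj (x := e v) (y := a)
      (by rw [e.orderOf_eq, hv]) (orderOf_eq_prime (by decide) (by decide)))
    let φ : X ≃* alternatingGroup (Fin 7) := e.trans (MulAut.conj g)
    have hφv : φ v = a := hg
    let ψ := P.equivMapOfInjective φ.toMonoidHom φ.injective
    haveI : Group.IsNilpotent ↥(P.map φ.toMonoidHom) :=
      Group.nilpotent_of_surjective ψ.toMonoidHom ψ.surjective
    refine φ.injective ((alt_seven_inner_std a rfl (P := P.map φ.toMonoidHom) ?_ ?_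
      (mem_map_of_mem _ hx) ?_).trans (map_one φ).symm)
    · rwa [← Nat.card_congr ψ.toEquiv]
    · intro c hc
      obtain ⟨c', rfl⟩ := φ.surjective c
      refine (le_normalizer_map φ.toMonoidHom) (mem_map_of_mem _ (hn (mem_centralizer_singleton_iff.2 ?_)))
      refine φ.injective ?_
      rw [map_mul, map_mul, hφv]
      exact mem_centralizer_singleton_iff.1 hc
    · 
      rw [← hφv, MulEquiv.coe_toMonoidHom, ← map_mul, ← map_mul, hinv, map_inv]
  letI := i; letI := j
  have hq : Fintype.card F % 2 = 1 := Nat.odd_iff.1 hF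
  have huniq : ∀ {a b y : X}, y ≠ 1 → Odd (orderOf y) → orderOf a = 2 → orderOf b = 2 →
      Commute a y → Commute b y → a = b := by
    intro a b y hy hyo ha hb hay hby
    refine e.injective (psl_involution_unique hq (y := e y) ?_ (by rw [e.orderOf_eq, ha])
      (by rw [e.orderOf_eq, hb]) (hay.map e.toMonoidHom) (hby.map e.toMonoidHom))
    intro h
    obtain ⟨k, hk⟩ := exists_pow_sq_eq hyo
    rw [← map_mul, MulEquiv.map_eq_one_iff] at h
    rw [h, one_pow] at hk
    exact hy hk.symm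
  have hconj : ∀ {a : X}, orderOf a = 2 → IsConj v a := fun {a} ha => by
    have h := (Cfsg.Lib.Dickson.isConj_of_involutions (by omega) (X := e v) (Y := e a)
      (by rw [e.orderOf_eq, hv]) (by rw [e.orderOf_eq, ha]))
    obtain ⟨g, hg⟩ := isConj_iff.1 h
    exact isConj_iff.2 ⟨e.symm g, e.injective (by simp [hg])⟩
  by_contra hx1
  have hodd' : ∀ {z}, z ∈ P → Odd (orderOf z) := fun hz => hodd.of_dvd_nat (Subgroup.orderOf_dvd_natCard _ hz)
  have hPZ : ∀ z ∈ center P, Commute v (z : X) → z = 1 := by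
    intro z hz hvz
    by_contra hz1
    have hcx : Commute x (z : X) := congrArg Subtype.val (mem_center_iff.1 hz ⟨x, hx⟩)
    have h := huniq (a := x * v * x⁻¹) (b := v) (fun h => hz1 (Subtype.ext h)) (hodd' z.2)
      (by rw [Cfsg.Lib.Invol.orderOf_conj_eq, hv]) hv ((hcx.mul_left hvz).mul_left hcx.inv_left) hvz
    exact hx1 (eq_one_of_fixed_inverted hvv (mul_inv_eq_iff_eq_mul.1 h).symm hinv (hodd' hx))
  set Z := (center P).map P.subtype with hZdef
  have hnZ : centralizer ({v} : Set X) ≤ normalizer (Z : Set X) :=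
    hn.trans (Cfsg.Lib.Core.normalizer_le_normalizer_map_char _)
  have hconjZ : ∀ {c}, Commute v c → ∀ {z}, z ∈ Z → c * z * c⁻¹ ∈ Z := fun hc z hz =>
    (mem_normalizer_iff.1 (hnZ (mem_centralizer_singleton_iff.2 hc.symm.eq)) z).1 hz
  have hZab : ∀ {a b}, a ∈ Z → b ∈ Z → Commute a b := by
    rintro _ _ ⟨a, ha, rfl⟩ ⟨b, hb, rfl⟩
    exact congrArg Subtype.val (mem_center_iff.1 hb a)
  have hZfix : ∀ z ∈ Z, Commute v z → z = 1 := by
    rintro _ ⟨z, hz, rfl⟩ hc
    rw [hPZ z hz hc]; rfl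
  have hZodd : ∀ {z}, z ∈ Z → Odd (orderOf z) := by
    rintro _ ⟨z, -, rfl⟩; exact hodd' z.2
  have hZinv : ∀ {z}, z ∈ Z → v * z * v = z⁻¹ := fun hz => inverts_of_fixed_trivial hvv
    (fun w hw => by simpa [inv_eq_of_mul_eq_one_right hvv] using hconjZ (Commute.refl v) hw) hZfix hz
  obtain ⟨z, hz, hz1⟩ : ∃ z ∈ Z, z ≠ 1 := by
    haveI : Nontrivial P := ⟨⟨x, hx⟩, 1, fun h => hx1 (congrArg Subtype.val h)⟩
    haveI : Nontrivial (center P) := (nontrivial_iff_ne_bot _).2 (Group.IsNilpotent.center_ne_bot P)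
    obtain ⟨z, hz⟩ := exists_ne (1 : center P)
    exact ⟨_, mem_map_of_mem _ z.2, fun h => hz (Subtype.ext (Subtype.ext h))⟩
  -- a second involution
  obtain ⟨v', hv', hvv', hne⟩ : ∃ v' : X, orderOf v' = 2 ∧ Commute v v' ∧ v' ≠ v := by
    obtain ⟨W, -, hW⟩ := exists_klein hq (⊤ : Subgroup X) (topEquiv.trans e)
    haveI := hW
    haveI : Finite W := IsKleinFour.instFinite
    have hw2 : ∀ w ∈ W, w ≠ 1 → orderOf w = 2 := fun w hw hw1 =>
      Cfsg.Lib.Invol.orderOf_eq_two_of hw1 (Cfsg.Lib.Invol.klein_mul_self hw)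
    haveI : Nontrivial W := Finite.one_lt_card_iff_nontrivial.1 (by rw [IsKleinFour.card_four]; norm_num)
    obtain ⟨⟨a, ha⟩, ha1⟩ := exists_ne (1 : W)
    obtain ⟨⟨b, hb⟩, hb1, hba⟩ : ∃ b : W, b ≠ 1 ∧ b ≠ ⟨a, ha⟩ := by
      by_contra hno
      push Not at hno
      classical
      haveI := Fintype.ofFinite W
      have hle : (Finset.univ : Finset W).card ≤ ({1, ⟨a, ha⟩} : Finset W).card := Finset.card_le_card fun b _ => by
        by_cases hb : b = 1
        · simp [hb]
        · simp [hno b hb]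
      have := hle.trans Finset.card_le_two
      rw [Finset.card_univ, ← Nat.card_eq_fintype_card, IsKleinFour.card_four] at this
      omega
    obtain ⟨g, hg⟩ := isConj_iff.1 (hconj (hw2 a ha fun h => ha1 (Subtype.ext h))).symm
    refine ⟨g * b * g⁻¹, by rw [Cfsg.Lib.Invol.orderOf_conj_eq, hw2 b hb fun h => hb1 (Subtype.ext h)],
      hg ▸ (show Commute a b from Cfsg.Lib.Invol.klein_comm ha hb).map (MulAut.conj g).toMonoidHom, fun h => ?_⟩
    exact hba (Subtype.ext (mul_left_cancel (mul_right_cancel (h.trans hg.symm))))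
  -- it can be chosen to fix a central element
  obtain ⟨a, w, ha, ha1, hw, hvw, hwne, hwa⟩ : ∃ a w : X, a ∈ Z ∧ a ≠ 1 ∧ orderOf w = 2 ∧ Commute v w ∧
      w ≠ v ∧ Commute w a := by
    have hv'' : v' * v' = 1 := Cfsg.Lib.Invol.inv_mul_self hv'
    have hz' : v' * z * v' ∈ Z := by
      simpa [inv_eq_of_mul_eq_one_right hv''] using hconjZ hvv' hz
    by_cases h : z * (v' * z * v') = 1
    · refine ⟨z, v * v', hz, hz1, ?_, ?_, ?_, ?_⟩
      · refine Cfsg.Lib.Invol.orderOf_eq_two_of (fun h' => hne ?_) ?_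
        · rw [eq_inv_of_mul_eq_one_right h', inv_eq_of_mul_eq_one_right hvv]
        · rw [mul_assoc, ← mul_assoc v', ← hvv'.eq, mul_assoc, hv'', mul_one, hvv]
      · exact (Commute.refl v).mul_right hvv'
      · exact fun h' => Cfsg.Lib.Invol.ne_one hv' (mul_eq_left.1 h')
      · have e1 : v' * z * v' = z⁻¹ := eq_inv_of_mul_eq_one_right h
        have e2 : v * v' * z * (v' * v) = z := by
          rw [show v * v' * z * (v' * v) = v * (v' * z * v') * v by group, e1, inv_inverted hvv (hZinv hz)]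
        show _ = _
        conv_rhs => rw [← e2, mul_assoc, show v' * v * (v * v') = 1 by
          rw [mul_assoc, ← mul_assoc v, hvv, one_mul, hv''], mul_one]
    · refine ⟨_, v', mul_mem hz hz', h, hv', hvv', hne, commute_of_conj_self hv'' ?_⟩
      calc v' * (z * (v' * z * v')) * v' = (v' * z * v') * z * (v' * v') := by group
        _ = _ := by rw [hv'', mul_one, (hZab hz' hz).eq]
  -- `C(v) ≤ C(w)`
  have hle : centralizer ({v} : Set X) ≤ centralizer ({w} : Set X) := by
    intro c hc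
    have hcv : Commute v c := (mem_centralizer_singleton_iff.1 hc).symm
    set b := c * a * c⁻¹ with hb
    have hbZ : b ∈ Z := hconjZ hcv ha
    have hb1 : b ≠ 1 := fun h => ha1 (conj_eq_one_iff.1 h)
    have hwb : Commute w b := by
      have hab := hZab ha hbZ
      have h := huniq (a := b * w * b⁻¹) (b := w) ha1 (hZodd ha)
        (by rw [Cfsg.Lib.Invol.orderOf_conj_eq, hw]) hw
        (((hab.symm).mul_left hwa).mul_left hab.symm.inv_left) hwa
      exact (mul_inv_eq_iff_eq_mul.1 h).symm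
    have h := huniq (a := c * w * c⁻¹) (b := w) hb1 (hZodd hbZ)
      (by rw [Cfsg.Lib.Invol.orderOf_conj_eq, hw]) hw (hwa.map (MulAut.conj c).toMonoidHom) hwb
    exact mem_centralizer_singleton_iff.2 (mul_inv_eq_iff_eq_mul.1 h)
  obtain ⟨g, hg⟩ := isConj_iff.1 (hconj hw)
  have hmap : centralizer ({w} : Set X) ≤ (centralizer ({v} : Set X)).map (MulAut.conj g).toMonoidHom := by
    intro c hc
    refine ⟨g⁻¹ * c * g, mem_centralizer_singleton_iff.2 ?_, by simp [mul_assoc]⟩
    have h := mem_centralizer_singleton_iff.1 hc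
    rw [← hg] at h
    calc g⁻¹ * c * g * v = g⁻¹ * (c * (g * v * g⁻¹)) * g := by group
      _ = g⁻¹ * ((g * v * g⁻¹) * c) * g := by rw [h]
      _ = v * (g⁻¹ * c * g) := by group
  have heq := eq_of_le_of_card_ge hle ((card_le_of_le hmap).trans
    (card_map_of_injective (MulAut.conj g).injective).le)
  have hav : a ∈ centralizer ({v} : Set X) := heq.ge (mem_centralizer_singleton_iff.2 hwa.symm.eq)
  exact ha1 (hZfix a ha (mem_centralizer_singleton_iff.1 hav).symm)

end GW

section Component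

variable {G : Type u} [Group G] [Finite G]

/-- If a proper subgroup containing a four group has a component, one involution `v` of the four group
lies in it: `v` centralizes the solvable normal subgroups and inverts only the identity in nilpotent
subgroups of odd order normalized by the centralizer of `v`. -/
theorem exists_inner (hG : GWMin G) {t u : G} (ht : orderOf t = 2) (hu : orderOf u = 2) (hne : u ≠ t)
    (hc : Commute t u) (N : Subgroup G) (hN : N ≠ ⊤) (htN : t ∈ N) (huN : u ∈ N)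
    (hL : Cfsg.layer ↥N ≠ ⊥) :
    ∃ v : G, (v = t ∨ v = u ∨ v = t * u) ∧
      (∀ R : Subgroup G, R ≤ N → N ≤ normalizer (R : Set G) → Group.IsSolvable R → ∀ x ∈ R, Commute v x) ∧
      (∀ P : Subgroup G, P ≤ N → Odd (Nat.card P) → Group.IsNilpotent P →
        N ⊓ centralizer ({v} : Set G) ≤ normalizer (P : Set G) → ∀ x ∈ P, v * x * v = x⁻¹ → x = 1) := by
  haveI : Fact (Nat.Prime 2) := ⟨Nat.prime_two⟩
  obtain ⟨L, hLc⟩ : ∃ L : Subgroup ↥N, Cfsg.IsComponent L := by
    by_contra h
    push Not at h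
    exact hL (Cfsg.Lib.Core.layer_eq_bot_iff.2 h)
  have hDN : TwoCycDih ↥N := hG.twoCycDih.subgroup N
  haveI hLn : L.Normal := Cfsg.Lib.Core.normal_iff_map_conj.2 fun g =>
    component_unique hDN (Cfsg.Lib.Core.IsComponent.map_conj hLc g) hLc
  have hLns : ¬ Group.IsSolvable L := Cfsg.Lib.Core.quasisimple_not_solvable hLc.2
  have hnoinv : ∀ z ∈ center L, orderOf z ≠ 2 := fun z hz ho =>
    hLns (isSolvable_of_complement (complement_of_central (hDN.subgroup L) ho hz))
  -- an involution of the four group in `L`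
  set t₀ : N := ⟨t, htN⟩ with ht₀
  set u₀ : N := ⟨u, huN⟩ with hu₀
  have ht0 : t₀ * t₀ = 1 := Subtype.ext (Cfsg.Lib.Invol.inv_mul_self ht)
  have hu0 : u₀ * u₀ = 1 := Subtype.ext (Cfsg.Lib.Invol.inv_mul_self hu)
  obtain ⟨V, hVK, htV, huV, -⟩ := Cfsg.Agent.S1255.exists_four (u := t₀) (z := u₀) ht0 hu0
    (fun h => Cfsg.Lib.Invol.ne_one ht (congrArg Subtype.val h))
    (fun h => Cfsg.Lib.Invol.ne_one hu (congrArg Subtype.val h))
    (fun h => hne (congrArg Subtype.val h).symm) (Subtype.ext hc.eq)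
  haveI := hVK
  obtain ⟨T, hVT⟩ := (IsPGroup.of_card (p := 2) (n := 2)
    (by rw [IsKleinFour.card_four]; norm_num) : IsPGroup 2 V).exists_le_sylow
  obtain ⟨v₀, hv₀V, hv₀L, hv₀o⟩ : ∃ v₀ : N, v₀ ∈ V ∧ v₀ ∈ L ∧ orderOf v₀ = 2 := by
    have hne0 : L.subgroupOf (T : Subgroup N) ≠ ⊥ := by
      have h4 : 2 ∣ Nat.card L := by
        by_contra h
        exact hLns (Cfsg.Agent.S0205.result (Nat.odd_iff.2 (by omega)))
      obtain ⟨z, hz⟩ := exists_prime_orderOf_dvd_card' 2 h4
      rw [← orderOf_coe] at hz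
      obtain ⟨T', hT'⟩ := (IsPGroup.of_card (p := 2) (n := 1)
        (by rw [Nat.card_zpowers, hz, pow_one]) : IsPGroup 2 (zpowers (z : N))).exists_le_sylow
      obtain ⟨g, rfl⟩ := MulAction.exists_smul_eq N T T'
      have hzT : (z : N) ∈ ((g • T : Sylow 2 N) : Subgroup N) := hT' (mem_zpowers _)
      rw [Sylow.coe_subgroup_smul, Subgroup.mem_smul_pointwise_iff_exists] at hzT
      obtain ⟨y, hy, hyz⟩ := hzT
      intro hbot
      have hyL : y ∈ L := by
        have hgy : g * y * g⁻¹ ∈ L := by rw [show g * y * g⁻¹ = (z : N) from hyz]; exact z.2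
        have : g⁻¹ * (g * y * g⁻¹) * g⁻¹⁻¹ ∈ L := hLn.conj_mem _ hgy _
        simpa [mul_assoc] using this
      have h1 : (⟨y, hy⟩ : (T : Subgroup N)) ∈ L.subgroupOf (T : Subgroup N) := hyL
      rw [hbot, mem_bot] at h1
      have hz1 : (z : N) = 1 := by
        rw [← hyz, show y = 1 from congrArg Subtype.val h1]
        show g * 1 * g⁻¹ = 1
        rw [mul_one, mul_inv_cancel]
      rw [hz1, orderOf_one] at hz
      omega
    obtain ⟨y, hy, hy1⟩ := (bot_or_exists_ne_one _).resolve_left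
      (Cfsg.Lib.PGroup.inf_center_ne_bot T.2 hne0)
    obtain ⟨k, hk⟩ := IsPGroup.iff_orderOf.1 T.2 y
    obtain ⟨i, hi⟩ := exists_involution_of_mem y hk hy1
    set s : N := ((y ^ i : (T : Subgroup N)) : N) with hs
    have hsc : ∀ z ∈ (T : Subgroup N), Commute z s := fun z hz =>
      congrArg Subtype.val (mem_center_iff.1 (pow_mem hy.2 i) ⟨z, hz⟩)
    have hso : orderOf s = 2 := by rw [hs, orderOf_coe, hi]
    have hsL : s ∈ L := by
      rw [hs, SubmonoidClass.coe_pow]; exact pow_mem hy.1 i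
    refine ⟨s, ?_, hsL, hso⟩
    let S : Set N := {t₀, u₀, s}
    have hS : ∀ a ∈ S, ∀ b ∈ S, a * b = b * a := by
      have h1 := (hsc t₀ (hVT htV)).eq
      have h2 := (hsc u₀ (hVT huV)).eq
      have h3 : t₀ * u₀ = u₀ * t₀ := Subtype.ext hc.eq
      rintro a (rfl | rfl | rfl) b (rfl | rfl | rfl) <;>
        first | rfl | exact h1 | exact h1.symm | exact h2 | exact h2.symm | exact h3 | exact h3.symm
    haveI := Subgroup.isMulCommutative_closure hS
    set A := closure S with hA
    have hsq : ∀ a ∈ A, a * a = 1 := by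
      intro a ha
      induction ha using closure_induction with
      | mem a ha =>
        rcases ha with rfl | rfl | rfl
        · exact ht0
        · exact hu0
        · exact Cfsg.Lib.Invol.inv_mul_self hso
      | one => exact one_mul 1
      | mul a b ha hb ha2 hb2 =>
        have hab : a * b = b * a := congrArg Subtype.val (mul_comm' (⟨a, ha⟩ : A) ⟨b, hb⟩)
        calc a * b * (a * b) = a * (b * a) * b := by group
          _ = a * a * (b * b) := by rw [← hab]; group
          _ = 1 := by rw [ha2, hb2, one_mul]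
      | inv a ha ha2 => rw [← mul_inv_rev, ha2, inv_one]
    have hA2 : IsPGroup 2 A := fun a => ⟨1, Subtype.ext (by
      rw [pow_one, pow_two]; exact hsq _ a.2)⟩
    have hcard := PGL.card_le_four_of_cycDih (hDN A hA2) fun a => Subtype.ext (hsq _ a.2)
    have hVA : V ≤ A := by
      intro w hw
      by_cases hw1 : w = 1
      · rw [hw1]; exact one_mem _
      have htA : t₀ ∈ A := subset_closure (Or.inl rfl)
      have huA : u₀ ∈ A := subset_closure (Or.inr (Or.inl rfl))
      rcases Cfsg.Lib.Invol.klein_mem_cases htV huV (fun h => Cfsg.Lib.Invol.ne_one ht (congrArg Subtype.val h))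
        (fun h => Cfsg.Lib.Invol.ne_one hu (congrArg Subtype.val h))
        (fun h => hne (congrArg Subtype.val h).symm) hw hw1 with rfl | rfl | rfl
      · exact htA
      · exact huA
      · exact mul_mem htA huA
    have hVA' : V = A := eq_of_le_of_card_ge hVA (hcard.trans (IsKleinFour.card_four (G := V)).ge)
    exact hVA' ▸ subset_closure (Or.inr (Or.inr rfl))
  have hv₀1 : v₀ ≠ 1 := Cfsg.Lib.Invol.ne_one hv₀o
  have hvv : v₀ * v₀ = 1 := Cfsg.Lib.Invol.inv_mul_self hv₀o
  refine ⟨(v₀ : G), ?_, ?_, ?_⟩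
  · rcases Cfsg.Lib.Invol.klein_mem_cases htV huV (fun h => Cfsg.Lib.Invol.ne_one ht (congrArg Subtype.val h))
      (fun h => Cfsg.Lib.Invol.ne_one hu (congrArg Subtype.val h))
      (fun h => hne (congrArg Subtype.val h).symm) hv₀V hv₀1 with h | h | h
    · exact Or.inl (congrArg Subtype.val h)
    · exact Or.inr (Or.inl (congrArg Subtype.val h))
    · exact Or.inr (Or.inr (congrArg Subtype.val h))
  · intro R hR hn hs x hx
    haveI := hs
    have h := Cfsg.Lib.Core.component_commute_solvable hLc (H := R.subgroupOf N)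
      (Group.isSolvable_of_isSolvable_injective (f := (subgroupOfEquivOfLe hR).toMonoidHom)
        (subgroupOfEquivOfLe hR).injective)
      (fun l _ => mem_normalizer_iff.2 fun z => mem_normalizer_iff.1 (hn l.2) z)
    exact congrArg Subtype.val
      (mem_centralizer_iff.1 (commutator_eq_bot_iff_le_centralizer.1 h hv₀L)
        (⟨x, hR hx⟩ : N) (mem_subgroupOf.2 hx)).symm
  intro P hPN hPodd hPn hPC x hx hinv
  haveI := hPn
  set x₀ : N := ⟨x, hPN hx⟩ with hx₀
  have hxodd : Odd (orderOf x₀) := by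
    rw [← orderOf_coe]; exact hPodd.of_dvd_nat (Subgroup.orderOf_dvd_natCard _ hx)
  have hinv₀ : v₀ * x₀ * v₀ = x₀⁻¹ := Subtype.ext hinv
  have hxL : x₀ ∈ L := by
    refine mem_of_sq_mem hxodd ?_
    have h : x₀ * x₀ = x₀ * v₀ * x₀⁻¹ * v₀ := by
      rw [mul_assoc (x₀ * v₀), mul_assoc x₀ v₀, ← mul_assoc v₀, inv_inverted hvv hinv₀]
    rw [h]
    exact mul_mem (hLn.conj_mem _ hv₀L _) hv₀L
  -- the simple quotient
  haveI := hLc.2.2
  set q := QuotientGroup.mk' (center L) with hq
  have hna : ¬ IsMulCommutative (L ⧸ center L) := fun h => by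
    refine Cfsg.Lib.Core.quasisimple_center_ne_top hLc.2 (eq_top_iff.2 ?_)
    rw [← Cfsg.Lib.Core.quasisimple_commutator hLc.2]
    exact Subgroup.Normal.quotient_commutative_iff_commutator_le.1 h
  have hgw : IsGW (L ⧸ center L) := by
    refine hG.below _ hna (sylowDihedral_of_not_solvable ((hDN.subgroup L).quotient _)
      (not_isSolvable_of_simple hna)) ?_
    exact lt_of_le_of_lt ((Nat.card_le_card_of_surjective _ (QuotientGroup.mk_surjective (s := center L))).trans
      (card_le_card_group L)) (Cfsg.Lib.Core.lt_card_of_ne_top hN)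
  set P₁ : Subgroup L := (P.subgroupOf N).subgroupOf L with hP₁
  let j : P₁ →* P := MonoidHom.mk' (fun z => ⟨((z : L) : N), z.2⟩) fun a b => rfl
  have hj : Function.Injective j := fun a b h =>
    Subtype.ext (Subtype.ext (Subtype.ext (congrArg (Subtype.val : P → G) h)))
  haveI : Group.IsNilpotent P₁ := Group.nilpotent_of_mulEquiv (MonoidHom.ofInjective hj).symm
  haveI : Group.IsNilpotent ↥(P₁.map q) :=
    Group.nilpotent_of_surjective (q.subgroupMap P₁) (MonoidHom.subgroupMap_surjective _ _)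
  set vL : L := ⟨v₀, hv₀L⟩ with hvL
  have hvLo : orderOf vL = 2 := by rw [← orderOf_coe]; exact hv₀o
  have hqv : orderOf (q vL) = 2 := by
    refine Cfsg.Lib.Invol.orderOf_eq_two_of (fun h => hnoinv vL ((QuotientGroup.eq_one_iff vL).1 h) hvLo) ?_
    rw [← map_mul, Cfsg.Lib.Invol.inv_mul_self hvLo, map_one]
  have hx1 : q ⟨x₀, hxL⟩ = 1 := by
    refine inner_fix hgw (P := P₁.map q) ?_ hqv ?_ (mem_map_of_mem q (show (⟨x₀, hxL⟩ : L) ∈ P₁ from hx)) ?_
    · exact hPodd.of_dvd_nat ((card_map_dvd P₁ q).trans (card_dvd_of_injective j hj))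
    · intro c hc
      obtain ⟨l, rfl⟩ := QuotientGroup.mk'_surjective _ c
      refine le_normalizer_map q (mem_map_of_mem q ?_)
      have hc' := mem_centralizer_singleton_iff.1 hc
      set z := l * vL * l⁻¹ * vL with hz
      have hzc : z ∈ center L := by
        refine (QuotientGroup.eq_one_iff z).1 ?_
        show q z = 1
        rw [hz, map_mul, map_mul, map_mul, map_inv, hc', mul_inv_cancel_right, ← map_mul,
          Cfsg.Lib.Invol.inv_mul_self hvLo, map_one]
      have hvv' : vL * vL = 1 := Cfsg.Lib.Invol.inv_mul_self hvLo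
      have hzz : z * z = 1 := by
        have e : l * vL * l⁻¹ = z * vL := by rw [hz, mul_assoc _ vL vL, hvv', mul_one]
        have e2 : z * vL * (z * vL) = 1 := by
          rw [← e, show l * vL * l⁻¹ * (l * vL * l⁻¹) = l * (vL * vL) * l⁻¹ by group, hvv', mul_one,
            mul_inv_cancel]
        calc z * z = z * (vL * vL) * z := by rw [hvv', mul_one]
          _ = z * vL * (vL * z) := by group
          _ = 1 := by rw [mem_center_iff.1 hzc vL, e2]
      have hz1 : z = 1 := by
        by_contra h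
        exact hnoinv z hzc (Cfsg.Lib.Invol.orderOf_eq_two_of h hzz)
      have hlv : Commute ((l : N) : G) (v₀ : G) := by
        have e : l * vL * l⁻¹ = vL :=
          (eq_inv_of_mul_eq_one_left (hz ▸ hz1)).trans (inv_eq_of_mul_eq_one_right hvv')
        exact congrArg (fun w : L => ((w : N) : G)) (mul_inv_eq_iff_eq_mul.1 e)
      have hm := hPC ⟨(l : N).2, mem_centralizer_singleton_iff.2 hlv.eq⟩
      exact mem_normalizer_iff.2 fun w => mem_normalizer_iff.1 hm ((w : N) : G)
    · rw [← map_mul, ← map_mul, ← map_inv]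
      exact congrArg q (Subtype.ext hinv₀)
  have hfix : Commute (v₀ : G) x := congrArg (fun w : L => ((w : N) : G))
    (mem_center_iff.1 ((QuotientGroup.eq_one_iff (⟨x₀, hxL⟩ : L)).1 hx1) vL)
  exact eq_one_of_fixed_inverted (congrArg Subtype.val hvv) hfix hinv
    (hPodd.of_dvd_nat (Subgroup.orderOf_dvd_natCard _ hx))

end Component

end Cfsg.Lib.GW.OddMax
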