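import Cfsg.Agent.Lib.GW.OddMaxCases
import Cfsg.Agent.Lib.GW.OvergroupBase

/-!
# Gorenstein–Walter, Theorem A: the odd Fitting subgroup is a `p`-group
-/

set_option autoImplicit false

namespace Cfsg.Lib.GW

universe u

/-- With an unfused four group through `t` the Fitting subgroup of the maximal overgroup is a `p`-group. -/
theorem oddMax_pGroup {G : Type u} [Group G] [Finite G] (hG : GWMin G) (h8 : 8 ∣ Nat.card G) {t u : G}
    {M : Subgroup G} (hM : OddMax t M) (hu : Unfused t u M) :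
    ∃ p : ℕ, p.Prime ∧ p ≠ 2 ∧ IsPGroup p ↥(Cfsg.fittingSubgroup ↥M) :=
  OddMax.pGroup hG h8 hM.ht hM.hM hM.hC hM.layer hM.odd hu.1 hu.2.1 hu.ne hu.2.2

end Cfsg.Lib.GW
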