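import Cfsg.Agent.Lib.GW.OrderBound

/-!
# Overgroups of the centralizer of an involution with two classes of involutions

The subgroup of index two containing one of the fused noncentral involutions has one class.
-/

set_option autoImplicit false
set_option linter.unusedSectionVars false
set_option maxHeartbeats 400000

namespace Cfsg.Lib.GW

open Cfsg Cfsg.Lib.Block

universe u

variable {G : Type u} [Group G] [Finite G] {P : Sylow 2 G} {n : ℕ} {σ τ : G}

theorem σ_notMem_of_index_two (g : Gens (P : Subgroup G) n σ τ) {H₀ : Subgroup G}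
    (h2 : H₀.index = 2) (hτ : τ ∈ H₀) : σ ∉ H₀ := by
  haveI : Fact (Nat.Prime 2) := ⟨Nat.prime_two⟩
  intro hσ
  have hle : (P : Subgroup G) ≤ H₀ := by
    rw [← g.gen, Subgroup.closure_le]
    rintro x (rfl | rfl) <;> assumption
  refine P.not_dvd_index ?_
  have := Subgroup.index_dvd_of_le hle
  rwa [h2] at this

theorem sylow_index_two (g : Gens (P : Subgroup G) n σ τ) {H₀ : Subgroup G}
    (h2 : H₀.index = 2) (hσ : σ ∉ H₀) :
    2 * Nat.card ((P : Subgroup G) ⊓ H₀ : Subgroup G) = Nat.card (P : Subgroup G) ∧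
      ∃ Q : Sylow 2 H₀, (Q : Subgroup H₀) = ((P : Subgroup G) ⊓ H₀).subgroupOf H₀ := by
  haveI : Fact (Nat.Prime 2) := ⟨Nat.prime_two⟩
  haveI := Subgroup.normal_of_index_eq_two h2
  have hri : H₀.relIndex (P : Subgroup G) = 2 := by
    rcases (Nat.dvd_prime Nat.prime_two).1
      (h2 ▸ Subgroup.relIndex_dvd_index_of_normal H₀ (P : Subgroup G)) with h | h
    · exact absurd (Subgroup.relIndex_eq_one.1 h g.σ_mem) hσ
    · exact h
  have hcard : 2 * Nat.card ((P : Subgroup G) ⊓ H₀ : Subgroup G) = Nat.card (P : Subgroup G) := by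
    rw [← (H₀.subgroupOf (P : Subgroup G)).card_mul_index, ← Subgroup.relIndex, hri,
      Nat.mul_comm]
    congr 1
    rw [← Subgroup.card_map_of_injective (P : Subgroup G).subtype_injective
      (K := H₀.subgroupOf (P : Subgroup G)), Subgroup.subgroupOf_map_subtype, inf_comm]
  refine ⟨hcard, Sylow.ofCard (((P : Subgroup G) ⊓ H₀).subgroupOf H₀) ?_, rfl⟩
  rw [Nat.card_congr (Subgroup.subgroupOfEquivOfLe inf_le_right).toEquiv]
  have hG : (Nat.card G).factorization 2 = (Nat.card H₀).factorization 2 + 1 := by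
    rw [← H₀.card_mul_index, h2, Nat.factorization_mul Nat.card_pos.ne' two_ne_zero,
      Finsupp.add_apply, Nat.prime_two.factorization_self]
  have hP := P.card_eq_multiplicity
  rw [hG, pow_succ', ← hcard] at hP
  exact mul_left_cancel₀ two_ne_zero hP

theorem half_centralizer (g : Gens (P : Subgroup G) n σ τ) {H₀ : Subgroup G}
    (h2 : H₀.index = 2) (hσ : σ ∉ H₀) (z : H₀) (hz : (z : G) = σ ^ (2 ^ (n - 2))) :
    2 * Nat.card (Subgroup.centralizer ({z} : Set H₀)) =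
      Nat.card (Subgroup.centralizer ({σ ^ (2 ^ (n - 2))} : Set G)) := by
  haveI := Subgroup.normal_of_index_eq_two h2
  set C := Subgroup.centralizer ({σ ^ (2 ^ (n - 2))} : Set G) with hC
  have hri : H₀.relIndex C = 2 := by
    rcases (Nat.dvd_prime Nat.prime_two).1 (h2 ▸ Subgroup.relIndex_dvd_index_of_normal H₀ C) with
      h | h
    · exact absurd (Subgroup.relIndex_eq_one.1 h (g.le_centralizer g.σ_mem)) hσ
    · exact h
  rw [← (H₀.subgroupOf C).card_mul_index, ← Subgroup.relIndex, hri, Nat.mul_comm]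
  congr 1
  have e1 : (Subgroup.centralizer ({z} : Set H₀)).map H₀.subtype =
      (H₀.subgroupOf C).map C.subtype := by
    rw [Subgroup.subgroupOf_map_subtype]
    ext x
    constructor
    · rintro ⟨w, hw, rfl⟩
      refine ⟨w.2, Subgroup.mem_centralizer_singleton_iff.2 ?_⟩
      rw [← hz]
      exact congrArg Subtype.val (Subgroup.mem_centralizer_singleton_iff.1 hw)
    · rintro ⟨hx0, hxC⟩
      refine ⟨⟨x, hx0⟩, Subgroup.mem_centralizer_singleton_iff.2 (Subtype.ext ?_), rfl⟩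
      show x * (z : G) = (z : G) * x
      rw [hz]
      exact Subgroup.mem_centralizer_singleton_iff.1 hxC
  rw [← Subgroup.card_map_of_injective H₀.subtype_injective, e1,
    Subgroup.card_map_of_injective C.subtype_injective]

/-- The lower bound coming from a subgroup of index two with one class of involutions. -/
theorem two_class_lower (g : Gens (P : Subgroup G) n σ τ) (H₀ : Subgroup G) (h2 : H₀.index = 2)
    (hτ : τ ∈ H₀) (h1 : OneClass H₀) :
    3 * (Nat.card (Subgroup.centralizer ({σ ^ (2 ^ (n - 2))} : Set G)) : ℚ) ^ 3 ≤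
      4 * Nat.card G *
        (Nat.card (Subgroup.centralizer ({σ ^ (2 ^ (n - 2)), τ} : Set G)) : ℚ) ^ 2 := by
  haveI : Fact (Nat.Prime 2) := ⟨Nat.prime_two⟩
  haveI := Subgroup.normal_of_index_eq_two h2
  have hn := g.three_le
  have hσ := σ_notMem_of_index_two g h2 hτ
  have hσ2 : σ ^ 2 ∈ H₀ := by
    rw [pow_two]
    exact Subgroup.mul_self_mem_of_index_two h2 σ
  obtain ⟨hPc, Q, hQ⟩ := sylow_index_two g h2 hσ
  have hG : (Nat.card G : ℚ) = 2 * Nat.card H₀ := by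
    rw [← H₀.card_mul_index, h2]
    push_cast
    ring
  set J := σ ^ (2 ^ (n - 2)) with hJ
  have hJe : J = (σ ^ 2) ^ (2 ^ (n - 3)) := by
    rw [hJ, ← pow_mul, ← pow_succ']
    congr 2
    omega
  have hJ0 : J ∈ H₀ := hJe ▸ pow_mem hσ2 _
  have hc := half_centralizer g h2 hσ ⟨J, hJ0⟩ rfl
  rw [← hc]
  set c0 := Nat.card (Subgroup.centralizer ({(⟨J, hJ0⟩ : H₀)} : Set H₀))
  set a := Nat.card (Subgroup.centralizer ({J, τ} : Set G))
  push_cast
  rw [hG]
  suffices h : ∃ k : ℕ, k ≤ a ∧ 3 * (c0 : ℚ) ^ 3 ≤ Nat.card H₀ * (k : ℚ) ^ 2 by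
    obtain ⟨k, hk, hb⟩ := h
    have hk2 : (k : ℚ) ^ 2 ≤ (a : ℚ) ^ 2 :=
      pow_le_pow_left₀ (Nat.cast_nonneg _) (Nat.cast_le.2 hk) 2
    have h0 : (0 : ℚ) ≤ Nat.card H₀ := Nat.cast_nonneg _
    nlinarith [mul_le_mul_of_nonneg_left hk2 h0]
  by_cases hn4 : 4 ≤ n
  · have g0 : Gens ((Q : Subgroup H₀)) (n - 1) ⟨σ ^ 2, hσ2⟩ ⟨τ, hτ⟩ := by
      rw [hQ]
      exact (g.index_two hn4 h2 hτ hσ).subgroupOf hσ2 hτ
    obtain ⟨hl, -⟩ := order_bounds g0 h1
    have eJ : (⟨σ ^ 2, hσ2⟩ : H₀) ^ (2 ^ (n - 1 - 2)) = ⟨J, hJ0⟩ := Subtype.ext (by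
      show (σ ^ 2) ^ (2 ^ (n - 1 - 2)) = J
      rw [hJe, show n - 1 - 2 = n - 3 by omega])
    rw [eJ] at hl
    have hb : Nat.card (Subgroup.centralizer
        ({(⟨J, hJ0⟩ : H₀), (⟨σ ^ 2, hσ2⟩ : H₀) * ⟨τ, hτ⟩} : Set H₀)) =
        Nat.card (Subgroup.centralizer ({(⟨J, hJ0⟩ : H₀), ⟨τ, hτ⟩} : Set H₀)) := by
      let φ : H₀ ≃* H₀ := MulAut.conjNormal σ
      have hs : (φ : H₀ → H₀) '' ({(⟨J, hJ0⟩ : H₀), ⟨τ, hτ⟩} : Set H₀) =
          {(⟨J, hJ0⟩ : H₀), (⟨σ ^ 2, hσ2⟩ : H₀) * ⟨τ, hτ⟩} := by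
        rw [Set.image_pair]
        congr 1
        · refine Subtype.ext ?_
          show σ * J * σ⁻¹ = J
          rw [hJ, ((Commute.refl σ).pow_right _).eq, mul_inv_cancel_right]
        · refine congrArg _ (Subtype.ext ?_)
          show σ * τ * σ⁻¹ = σ ^ 2 * τ
          rw [← g.rel, pow_two]
          have hτi : τ⁻¹ = τ := inv_eq_of_mul_eq_one_right (by
            rw [← pow_two, ← g.orderOf_τ, pow_orderOf_eq_one])
          rw [hτi, ← mul_assoc, ← mul_assoc, mul_assoc σ τ τ,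
            show τ * τ = 1 by rw [← pow_two, ← g.orderOf_τ, pow_orderOf_eq_one], mul_one]
      rw [← hs, ← Subgroup.card_map_of_injective (f := φ.toMonoidHom) φ.injective
        (K := Subgroup.centralizer ({(⟨J, hJ0⟩ : H₀), ⟨τ, hτ⟩} : Set H₀))]
      congr 2
      ext x
      constructor
      · intro hx
        refine ⟨φ.symm x, Subgroup.mem_centralizer_iff.2 fun y hy => φ.injective ?_, by simp⟩
        have := Subgroup.mem_centralizer_iff.1 hx (φ y) ⟨y, hy, rfl⟩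
        simpa using this
      · rintro ⟨w, hw, rfl⟩
        rw [Subgroup.mem_centralizer_iff]
        rintro _ ⟨y, hy, rfl⟩
        show φ y * φ w = φ w * φ y
        rw [← map_mul, ← map_mul, Subgroup.mem_centralizer_iff.1 hw y hy]
    rw [hb] at hl
    set k := Nat.card (Subgroup.centralizer ({(⟨J, hJ0⟩ : H₀), ⟨τ, hτ⟩} : Set H₀)) with hk
    refine ⟨k, ?_, ?_⟩
    · have := card_centralizer_le_of_subgroup ({(⟨J, hJ0⟩ : H₀), ⟨τ, hτ⟩} : Set H₀)
      rwa [Set.image_pair] at this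
    · have hk0 : (0 : ℚ) < k := Nat.cast_pos.2 Nat.card_pos
      have e : 3 / 4 * (c0 : ℚ) ^ 3 * (1 / k + 1 / k) ^ 2 = 3 * (c0 : ℚ) ^ 3 / (k : ℚ) ^ 2 := by
        field_simp
        ring
      rw [e, div_le_iff₀ (pow_pos hk0 2)] at hl
      exact hl
  · have hn3 : n = 3 := by omega
    subst hn3
    have hcl := g.inf_index_two h2 hτ hσ
    have hP4 : Nat.card ((P : Subgroup G) ⊓ H₀ : Subgroup G) = 4 := by
      have := g.toDihSylow.card
      norm_num at this
      omega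
    have hσ4 : σ ^ 2 * σ ^ 2 = 1 := by
      have h4 : orderOf σ = 4 := by rw [g.orderOf_σ]; norm_num
      rw [← pow_add, show 2 + 2 = orderOf σ by omega, pow_orderOf_eq_one]
    have hτ2 : τ * τ = 1 := by rw [← pow_two, ← g.orderOf_τ, pow_orderOf_eq_one]
    have hcomm : Commute (σ ^ 2) τ := g.center_commute_τ.symm
    have hsq : ∀ x ∈ (P : Subgroup G) ⊓ H₀, x * x = 1 := by
      intro x hx
      rw [← hcl, Set.insert_eq, Subgroup.closure_union, ← Subgroup.zpowers_eq_closure,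
        ← Subgroup.zpowers_eq_closure, ← SetLike.mem_coe,
        Subgroup.coe_mul_of_right_le_normalizer_left] at hx
      · obtain ⟨u, ⟨i, rfl⟩, v, ⟨j, rfl⟩, rfl⟩ := hx
        show (σ ^ 2) ^ i * τ ^ j * ((σ ^ 2) ^ i * τ ^ j) = 1
        rw [((hcomm.zpow_zpow i j).symm).mul_mul_mul_comm, ← (Commute.refl (σ ^ 2)).mul_zpow,
          ← (Commute.refl τ).mul_zpow, hσ4, hτ2, one_zpow, one_zpow, one_mul]
      · refine Subgroup.zpowers_le.2 (Subgroup.mem_normalizer_iff.2 fun y => ?_)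
        have key : ∀ y ∈ Subgroup.zpowers (σ ^ 2), τ * y * τ⁻¹ = y := by
          rintro _ ⟨i, rfl⟩
          show τ * (σ ^ 2) ^ i * τ⁻¹ = (σ ^ 2) ^ i
          rw [((hcomm.zpow_left i).symm).eq, mul_inv_cancel_right]
        constructor
        · exact fun hy => (key y hy).symm ▸ hy
        · intro hy
          have := key _ hy
          rw [mul_left_inj, mul_right_inj] at this
          rwa [← this]
    have hQK : KleinCond Q := by
      refine ⟨?_, fun x hx => Subtype.ext (hsq _ ?_), h1⟩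
      · show Nat.card (Q : Subgroup H₀) = 4
        rw [hQ, Nat.card_congr (Subgroup.subgroupOfEquivOfLe inf_le_right).toEquiv, hP4]
      · rw [hQ] at hx
        exact hx
    have hJQ : (⟨J, hJ0⟩ : H₀) ∈ (Q : Subgroup H₀) := by
      rw [hQ]
      exact ⟨g.center_mem, hJ0⟩
    obtain ⟨hl, -⟩ := klein_bounds hQK hJQ (by rw [Subgroup.orderOf_mk]; exact g.orderOf_center)
    refine ⟨_, ?_, hl⟩
    refine (card_centralizer_le_of_subgroup _).trans
      (Subgroup.card_le_of_le (Subgroup.centralizer_le ?_))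
    intro x hx
    rcases hx with hx | hx
    · exact ⟨⟨J, hJ0⟩, hJQ, hx.symm⟩
    · refine ⟨⟨τ, hτ⟩, ?_, (Set.mem_singleton_iff.1 hx).symm⟩
      rw [hQ]
      exact ⟨g.τ_mem, hτ⟩

/-- The index of an overgroup of the centralizer with two classes of involutions. -/
theorem index_le_two_class (g : Gens (P : Subgroup G) n σ τ) (hG : OneClass G) (H : Subgroup G)
    (hC : Subgroup.centralizer ({σ ^ (2 ^ (n - 2))} : Set G) ≤ H) (H₀ : Subgroup H)
    (h2 : H₀.index = 2) (hτ : τ ∈ H₀.map H.subtype) (h1 : OneClass H₀) :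
    (H.index : ℚ) ≤
      5 * (1 + (Nat.card (Subgroup.centralizer ({σ ^ (2 ^ (n - 2)), τ} : Set G)) : ℚ) /
        (Nat.card (Subgroup.centralizer ({σ ^ (2 ^ (n - 2)), σ * τ} : Set G)) : ℚ)) ^ 2 := by
  haveI : Fact (Nat.Prime 2) := ⟨Nat.prime_two⟩
  have hPH : (P : Subgroup G) ≤ H := g.le_centralizer.trans hC
  have gH : Gens ((P.subtype hPH : Sylow 2 H) : Subgroup H) n ⟨σ, hPH g.σ_mem⟩ ⟨τ, hPH g.τ_mem⟩ := by
    rw [Sylow.coe_subtype]
    exact g.subgroupOf _ _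
  have hτ0 : (⟨τ, hPH g.τ_mem⟩ : H) ∈ H₀ := by
    obtain ⟨w, hw, he⟩ := hτ
    rwa [show (⟨τ, hPH g.τ_mem⟩ : H) = w from Subtype.ext he.symm]
  have hl := two_class_lower gH H₀ h2 hτ0 h1
  obtain ⟨-, hu⟩ := order_bounds g hG
  have e1 : Nat.card (Subgroup.centralizer
      ({(⟨σ, hPH g.σ_mem⟩ : H) ^ (2 ^ (n - 2))} : Set H)) =
      Nat.card (Subgroup.centralizer ({σ ^ (2 ^ (n - 2))} : Set G)) :=
    card_centralizer_singleton _ hC
  have e2 : Nat.card (Subgroup.centralizer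
      ({(⟨σ, hPH g.σ_mem⟩ : H) ^ (2 ^ (n - 2)), ⟨τ, hPH g.τ_mem⟩} : Set H)) =
      Nat.card (Subgroup.centralizer ({σ ^ (2 ^ (n - 2)), τ} : Set G)) := by
    have := card_centralizer_image (H := H)
      ({(⟨σ, hPH g.σ_mem⟩ : H) ^ (2 ^ (n - 2)), ⟨τ, hPH g.τ_mem⟩} : Set H)
      (by rw [Set.image_pair]; exact (centralizer_pair_le g τ).trans hC)
    rwa [Set.image_pair] at this
  rw [e1, e2] at hl
  refine index_le_of_card ?_
  set c : ℚ := (Nat.card (Subgroup.centralizer ({σ ^ (2 ^ (n - 2))} : Set G)) : ℚ)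
  set a : ℚ := (Nat.card (Subgroup.centralizer ({σ ^ (2 ^ (n - 2)), τ} : Set G)) : ℚ)
  set b : ℚ := (Nat.card (Subgroup.centralizer ({σ ^ (2 ^ (n - 2)), σ * τ} : Set G)) : ℚ)
  have ha : 0 < a := Nat.cast_pos.2 Nat.card_pos
  have hb : 0 < b := Nat.cast_pos.2 Nat.card_pos
  have e : (1 / a + 1 / b) ^ 2 = (1 + a / b) ^ 2 / a ^ 2 := by field_simp
  calc (Nat.card G : ℚ) ≤ 15 / 4 * c ^ 3 * (1 / a + 1 / b) ^ 2 := hu
    _ = 5 / 4 * (1 + a / b) ^ 2 * (3 * c ^ 3 / a ^ 2) := by rw [e]; ring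
    _ ≤ 5 / 4 * (1 + a / b) ^ 2 * (4 * (Nat.card H : ℚ)) := by
      refine mul_le_mul_of_nonneg_left ?_ (by positivity)
      rw [div_le_iff₀ (pow_pos ha 2)]
      exact hl
    _ = 5 * (1 + a / b) ^ 2 * Nat.card H := by ring

end Cfsg.Lib.GW
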