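import Cfsg.Agent.Lib.GW.PGL
import Cfsg.Agent.Lib.GW.AlmostSimple
import Cfsg.Agent.Lib.Dickson.Overgroups
import Cfsg.Agent.Lib.Dickson.Involutions
import Cfsg.Agent.Lib.Dickson.DihedralMax
import Cfsg.Agent.Lib.Dickson.OddProduct
import Cfsg.Agent.Lib.Dickson.Maximal.Conj
import Cfsg.Agent.Lib.Dickson.Maximal.FieldCase
import Cfsg.Agent.Lib.Core.Cores
import Cfsg.Agent.S4231

/-!
# Two commuting outer involutions of `PGL₂(q)`: their centralizers generate `PSL₂(q)`
-/

set_option autoImplicit false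
set_option linter.style.haveILetI false
set_option maxRecDepth 10000

namespace Cfsg.Lib.GW.OuterPair

open Subgroup Matrix Cfsg.Lib.Linear.AutPSL Cfsg.Lib.Linear.Descent

/-- The elements fixed by an automorphism. -/
def fixSub {G : Type*} [Group G] (α : MulAut G) : Subgroup G := α.toMonoidHom.eqLocus (MonoidHom.id G)

theorem mem_fixSub {G : Type*} [Group G] {α : MulAut G} {x : G} : x ∈ fixSub α ↔ α x = x := Iff.rfl

/-- The fixed points contain no four group. -/
def NoFour {G : Type*} [Group G] (α : MulAut G) : Prop :=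
  ∀ u v : G, α u = u → α v = v → u * u = 1 → v * v = 1 → u * v = v * u → u = 1 ∨ v = 1 ∨ u = v

section Field

variable {F : Type*} [Field F] [Fintype F]

local notation "PSL2" => Matrix.ProjectiveSpecialLinearGroup (Fin 2) F
local notation "SL2" => Matrix.SpecialLinearGroup (Fin 2) F
local notation "M2" => Matrix (Fin 2) (Fin 2) F

omit [Fintype F] in
theorem eq_comb {A M : M2} (hA : A 1 1 = -A 0 0) (hne : A ≠ 0) (h2 : (2 : F) ≠ 0) (h : M * A = A * M) :
    ∃ x y : F, M = x • 1 + y • A := by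
  have e00 := congrFun (congrFun h 0) 0
  have e01 := congrFun (congrFun h 0) 1
  have e10 := congrFun (congrFun h 1) 0
  simp [Matrix.mul_apply, Fin.sum_univ_two, hA] at e00 e01 e10
  by_cases ha : A 0 0 = 0
  · by_cases hb : A 0 1 = 0
    · have hc : A 1 0 ≠ 0 := fun hc => hne (by
        ext i j; fin_cases i <;> fin_cases j <;> simp [ha, hb, hc, hA])
      rw [hb] at e00
      rw [ha] at e10
      refine ⟨M 0 0, M 1 0 / A 1 0, ?_⟩
      ext i j
      fin_cases i <;> fin_cases j <;> simp [ha, hb, hA]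
      · exact (mul_eq_zero.1 (by linear_combination e00 : M 0 1 * A 1 0 = 0)).resolve_right hc
      · field_simp
      · exact mul_right_cancel₀ hc (by linear_combination e10)
    · rw [ha] at e01
      refine ⟨M 0 0, M 0 1 / A 0 1, ?_⟩
      ext i j
      fin_cases i <;> fin_cases j <;> simp [ha, hA]
      · field_simp
      · rw [div_mul_eq_mul_div, eq_div_iff hb]; linear_combination -e00
      · exact mul_right_cancel₀ hb (by linear_combination -e01)
  · refine ⟨(M 0 0 + M 1 1) / 2, (M 0 0 - M 1 1) / (2 * A 0 0), ?_⟩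
    ext i j
    fin_cases i <;> fin_cases j <;> simp [hA]
    · field_simp; ring
    · rw [div_mul_eq_mul_div, eq_div_iff (mul_ne_zero h2 ha)]; linear_combination -e01
    · rw [div_mul_eq_mul_div, eq_div_iff (mul_ne_zero h2 ha)]; linear_combination e10
    · field_simp; ring

omit [Fintype F] in
theorem det_comb {A : M2} (hA : A 1 1 = -A 0 0) (x y : F) :
    (x • (1 : M2) + y • A).det = x * x + y * y * A.det := by
  simp [Matrix.det_fin_two, hA]; ring

omit [Fintype F] in
theorem sq_traceless {A : M2} (hA : A 1 1 = -A 0 0) : A * A = (-A.det) • (1 : M2) := by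
  ext i j
  fin_cases i <;> fin_cases j <;> simp [Matrix.mul_apply, Fin.sum_univ_two, Matrix.det_fin_two, hA] <;> ring

theorem two_ne_zero' (hodd : Odd (Fintype.card F)) : (2 : F) ≠ 0 :=
  Cfsg.Lib.Dickson.two_ne_zero_of_odd (Nat.odd_iff.1 hodd)

theorem mk_eq_of_neg {g h : SL2} (he : h.1 = -g.1) : (QuotientGroup.mk h : PSL2) = QuotientGroup.mk g := by
  let z : SL2 := ⟨!![-1, 0; 0, -1], by simp [Matrix.det_fin_two]⟩
  have hz : (QuotientGroup.mk z : PSL2) = 1 := Cfsg.Lib.Dickson.mk_eq_one_of_scalar (c := -1) rfl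
  have : h = g * z := by
    refine Subtype.ext ?_
    rw [Matrix.SpecialLinearGroup.coe_mul, he]
    ext i j
    fin_cases i <;> fin_cases j <;> simp [z, Matrix.mul_apply, Fin.sum_univ_two]
  rw [this, QuotientGroup.mk_mul, hz, mul_one]

/-- The matrices of determinant one commuting with `A`. -/
def W (A : GL (Fin 2) F) : Subgroup SL2 :=
  (centralizer ({A} : Set (GL (Fin 2) F))).comap Matrix.SpecialLinearGroup.toGL

/-- The torus centralized by `A`. -/
def T (A : GL (Fin 2) F) : Subgroup PSL2 := (W A).map (QuotientGroup.mk' _)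

omit [Fintype F] in
theorem mem_W {A : GL (Fin 2) F} {g : SL2} : g ∈ W A ↔ g.1 * A.val = A.val * g.1 := by
  rw [W, Subgroup.mem_comap, mem_centralizer_singleton_iff, Units.ext_iff, Units.val_mul, Units.val_mul]
  rfl

omit [Fintype F] in
theorem T_le_fix (A : GL (Fin 2) F) : T A ≤ fixSub (innd A : MulAut PSL2) := by
  rintro _ ⟨g, hg, rfl⟩
  rw [mem_fixSub]
  show (innd A : MulAut PSL2) (QuotientGroup.mk g) = QuotientGroup.mk g
  rw [innd_mk]
  congr 1
  refine Subtype.ext ?_
  rw [cnjHom_coe, ← mem_W.1 hg, Matrix.mul_assoc, Units.mul_inv, Matrix.mul_one]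

omit [Fintype F] in
theorem val_ne_zero (A : GL (Fin 2) F) : A.val ≠ 0 := fun h => by
  have := A.mul_inv
  rw [h, Matrix.zero_mul] at this
  exact zero_ne_one this

theorem card_T (hodd : Odd (Fintype.card F)) {A : GL (Fin 2) F} (hA : A.val 1 1 = -A.val 0 0) :
    Fintype.card F - 1 ≤ 2 * Nat.card (T A) := by
  classical
  have h2 := two_ne_zero' hodd
  set c := -A.val.det with hc
  let M : Finset F := Finset.univ.filter fun m => 1 - c * m ^ 2 ≠ 0
  have hM : Fintype.card F - 2 ≤ M.card := by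
    have hs : M.card + ((Finset.univ : Finset F).filter fun m => ¬ (1 - c * m ^ 2 ≠ 0)).card =
        Fintype.card F := by
      rw [Finset.card_filter_add_card_filter_not, Finset.card_univ]
    have h3 : ((Finset.univ : Finset F).filter fun m => ¬ (1 - c * m ^ 2 ≠ 0)).card ≤ 2 := by
      by_contra hgt
      rw [not_le] at hgt
      obtain ⟨a, b, d, ha, hb, hd, hab, had, hbd⟩ := Finset.two_lt_card_iff.mp hgt
      simp only [Finset.mem_filter, Finset.mem_univ, true_and, not_not] at ha hb hd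
      have hc0 : c ≠ 0 := fun h => by simp [h] at ha
      have e1 : a + b = 0 := (mul_eq_zero.mp (by
        linear_combination hb - ha : (c * (a - b)) * (a + b) = 0)).resolve_left
          (mul_ne_zero hc0 (sub_ne_zero.mpr hab))
      have e2 : a + d = 0 := (mul_eq_zero.mp (by
        linear_combination hd - ha : (c * (a - d)) * (a + d) = 0)).resolve_left
          (mul_ne_zero hc0 (sub_ne_zero.mpr had))
      exact hbd (by linear_combination e1 - e2)
    omega
  let f : F → F × F := fun m => ((1 + c * m ^ 2) / (1 - c * m ^ 2), 2 * m / (1 - c * m ^ 2))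
  let S : Finset (F × F) := insert ((-1 : F), (0 : F)) (M.image f)
  have hone : ∀ m ∈ M, (f m).1 + 1 = 2 / (1 - c * m ^ 2) := fun m hm => by
    have hQ : 1 - c * m ^ 2 ≠ 0 := (Finset.mem_filter.mp hm).2
    rw [div_add_one hQ]; ring
  have hf : Set.InjOn f M := by
    intro m hm m' hm' he
    have h1 := hone m hm
    rw [he, hone m' hm'] at h1
    have h3 := congrArg Prod.snd he
    simp only [f] at h3
    rw [mul_comm 2 m, mul_comm 2 m', mul_div_assoc, mul_div_assoc, h1] at h3
    exact mul_right_cancel₀ (div_ne_zero h2 (Finset.mem_filter.mp hm).2) h3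
  have hScard : Fintype.card F - 1 ≤ S.card := by
    rw [Finset.card_insert_of_notMem, Finset.card_image_of_injOn hf]
    · omega
    · intro hmem
      obtain ⟨m, hm, he⟩ := Finset.mem_image.1 hmem
      have h1 := hone m hm
      rw [congrArg Prod.fst he, neg_add_cancel] at h1
      exact div_ne_zero h2 (Finset.mem_filter.mp hm).2 h1.symm
  have hS : ∀ p ∈ S, (p.1 • (1 : M2) + p.2 • A.val).det = 1 := by
    intro p hp
    rw [det_comb hA]
    rcases Finset.mem_insert.1 hp with rfl | hp
    · ring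
    · obtain ⟨m, hm, rfl⟩ := Finset.mem_image.1 hp
      have hQ : 1 - c * m ^ 2 ≠ 0 := (Finset.mem_filter.mp hm).2
      rw [show A.val.det = -c by rw [hc, neg_neg]]
      simp only [f]
      field_simp
      ring
  let ι : S → W A := fun p => ⟨⟨_, hS p p.2⟩, mem_W.2 (by simp [add_mul, mul_add])⟩
  have hι : Function.Injective ι := by
    intro p q h
    have h1 : p.1.1 • (1 : M2) + p.1.2 • A.val = q.1.1 • (1 : M2) + q.1.2 • A.val :=
      congrArg (fun w : W A => (w.1.1 : M2)) h
    have ht := congrArg (fun M : M2 => M 0 0 + M 1 1) h1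
    simp [hA] at ht
    have hx : p.1.1 = q.1.1 := mul_left_cancel₀ h2 (by linear_combination ht)
    refine Subtype.ext (Prod.ext hx ?_)
    rw [hx, add_left_cancel_iff] at h1
    exact smul_left_injective F (val_ne_zero A) h1
  have h4 := Nat.card_le_card_of_injective ι hι
  rw [Nat.card_eq_fintype_card, Fintype.card_coe] at h4
  have h5 := Nat.card_le_card_of_injective _
    (Subgroup.inclusion_injective (Subgroup.le_comap_map (QuotientGroup.mk' (center SL2)) (W A)))
  rw [Cfsg.Lib.Core.card_comap_eq _ (QuotientGroup.mk'_surjective _), QuotientGroup.ker_mk'] at h5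
  have hz : Nat.card (center SL2) = 2 := by
    rw [Cfsg.Lib.Linear.card_center_SL, Fintype.card_fin]
    obtain ⟨m, hm⟩ := hodd
    rw [show Fintype.card F - 1 = 2 * m by omega, Nat.gcd_mul_right_right]
  rw [hz] at h5
  exact hScard.trans (h4.trans h5)

theorem T_elt (hodd : Odd (Fintype.card F)) {A : GL (Fin 2) F} (hA : A.val 1 1 = -A.val 0 0) {t : PSL2}
    (ht : t ∈ T A) (ht1 : t ≠ 1) :
    ∃ (g : SL2) (x y : F), (QuotientGroup.mk g : PSL2) = t ∧ g.1 = x • (1 : M2) + y • A.val ∧ y ≠ 0 := by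
  obtain ⟨g, hg, rfl⟩ := ht
  obtain ⟨x, y, hxy⟩ := eq_comb hA (val_ne_zero A) (two_ne_zero' hodd) (mem_W.1 hg)
  refine ⟨g, x, y, rfl, hxy, fun hy => ht1 (Cfsg.Lib.Dickson.mk_eq_one_of_scalar (c := x) ?_)⟩
  rw [hxy, hy]
  ext i j
  fin_cases i <;> fin_cases j <;> simp

theorem odd_T (hodd : Odd (Fintype.card F)) {A : GL (Fin 2) F} (hA : A.val 1 1 = -A.val 0 0)
    (hns : ¬ IsSquare A.val.det) : Odd (Nat.card (T A)) := by
  haveI : Fact (Nat.Prime 2) := ⟨Nat.prime_two⟩
  rw [Nat.odd_iff]
  by_contra hne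
  obtain ⟨t, ht⟩ := exists_prime_orderOf_dvd_card' 2 (G := T A) (by omega)
  rw [← Subgroup.orderOf_coe] at ht
  have ht1 : (t : PSL2) ≠ 1 := fun h => by rw [h, orderOf_one] at ht; omega
  obtain ⟨g, x, y, hgt, hg, hy⟩ := T_elt hodd hA t.2 ht1
  have h0 := Cfsg.Lib.Dickson.trace_zero_of_involution (two_ne_zero' hodd) (g := g)
    (by rw [hgt]; exact orderOf_dvd_iff_pow_eq_one.1 (dvd_of_eq ht)) (by rwa [hgt])
  rw [hg] at h0
  simp [hA] at h0
  have hx : x = 0 := by
    refine (mul_eq_zero.1 (?_ : (2 : F) * x = 0)).resolve_left (two_ne_zero' hodd)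
    linear_combination h0
  have hd := g.2
  rw [hg, det_comb hA, hx] at hd
  refine hns ⟨y⁻¹, ?_⟩
  field_simp
  linear_combination hd

theorem not_dvd_T (hodd : Odd (Fintype.card F)) (p : ℕ) [Fact p.Prime] [CharP F p] {A : GL (Fin 2) F}
    (hA : A.val 1 1 = -A.val 0 0) : ¬ p ∣ Nat.card (T A) := by
  intro hp
  obtain ⟨t, ht⟩ := exists_prime_orderOf_dvd_card' p hp
  rw [← Subgroup.orderOf_coe] at ht
  have ht1 : (t : PSL2) ≠ 1 := fun h => by
    rw [h, orderOf_one] at ht; exact (Fact.out : p.Prime).one_lt.ne ht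
  obtain ⟨g, x, y, hgt, hg, hy⟩ := T_elt hodd hA t.2 ht1
  have h0 := Cfsg.Lib.Dickson.trace_of_pow_char (p := p) (g := g) (by rw [hgt, ← ht, pow_orderOf_eq_one])
  rw [hg] at h0
  simp [hA] at h0
  have h2 := two_ne_zero' hodd
  have hx : x * x = 1 := by
    rcases h0 with h0 | h0
    · have : x = 1 := mul_left_cancel₀ h2 (by linear_combination h0)
      rw [this, one_mul]
    · have : x = -1 := mul_left_cancel₀ h2 (by linear_combination h0)
      rw [this]; ring
  have hd := g.2
  rw [hg, det_comb hA, hx, add_eq_left] at hd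
  have hne : A.val.det ≠ 0 := fun h => by
    have := congrArg Matrix.det A.mul_inv
    rw [Matrix.det_mul, h, zero_mul, Matrix.det_one] at this
    exact zero_ne_one this
  exact hy (mul_self_eq_zero.1 ((mul_eq_zero.1 hd).resolve_right hne))

theorem sq_ne_one_of_T (hodd : Odd (Fintype.card F)) {A : GL (Fin 2) F} (hA : A.val 1 1 = -A.val 0 0)
    (hns : ¬ IsSquare A.val.det) {t : PSL2} (ht : t ∈ T A) (ht1 : t ≠ 1) : t ^ 2 ≠ 1 := by
  intro h
  have h1 : orderOf (⟨t, ht⟩ : T A) ∣ Nat.card (T A) := orderOf_dvd_natCard _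
  rw [Subgroup.orderOf_mk, orderOf_eq_prime h ht1] at h1
  exact Nat.not_even_iff_odd.2 (odd_T hodd hA hns) (even_iff_two_dvd.2 h1)

/-- An involutory inner-diagonal automorphism without a four group among its fixed points is outer. -/
theorem outer_of_noFour (hodd : Odd (Fintype.card F)) {A : GL (Fin 2) F}
    (h2A : (innd A : MulAut PSL2) * innd A = 1) (hA : NoFour (innd A : MulAut PSL2)) :
    A.val 1 1 = -A.val 0 0 ∧ ¬ IsSquare A.val.det := by
  obtain ⟨V, -, hV⟩ := exists_klein (Nat.odd_iff.1 hodd) (⊤ : Subgroup PSL2) topEquiv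
  haveI := hV
  obtain ⟨v, hv⟩ : ∃ v : V, v ≠ 1 := by
    haveI : Nontrivial V := Finite.one_lt_card_iff_nontrivial.1 (by rw [hV.card_four]; norm_num)
    exact exists_ne 1
  obtain ⟨w, hw1, hwv⟩ : ∃ w : V, w ≠ 1 ∧ w ≠ v := by
    classical
    haveI := Fintype.ofFinite V
    by_contra hno
    push Not at hno
    have hsub : (Finset.univ : Finset V) ⊆ {1, v} := fun w _ => by
      by_cases h : w = 1
      · simp [h]
      · simp [hno w h]
    have := Finset.card_le_card hsub
    rw [Finset.card_univ, ← Nat.card_eq_fintype_card, hV.card_four] at this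
    have := this.trans Finset.card_le_two
    omega
  have hsq : ∀ u : V, u * u = 1 := fun u => by
    rw [← pow_two]
    exact orderOf_dvd_iff_pow_eq_one.1 ((Monoid.order_dvd_exponent u).trans (dvd_of_eq hV.exponent_two))
  have hvw : v * w = w * v :=
    calc v * w = (v * w)⁻¹ := eq_inv_of_mul_eq_one_left (hsq _)
      _ = w * v := by rw [_root_.mul_inv_rev, ← eq_inv_of_mul_eq_one_left (hsq v), ← eq_inv_of_mul_eq_one_left (hsq w)]
  have hA1 : (innd A : MulAut PSL2) ≠ 1 := fun h => by
    rcases hA v w (by rw [h]; rfl) (by rw [h]; rfl) (congrArg Subtype.val (hsq v))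
      (congrArg Subtype.val (hsq w)) (congrArg Subtype.val hvw) with h1 | h1 | h1
    · exact hv (Subtype.ext h1)
    · exact hw1 (Subtype.ext h1)
    · exact hwv (Subtype.ext h1.symm)
  obtain ⟨c, hc⟩ := (innd_eq_one_iff le_rfl).1 (show (innd (A * A) : MulAut PSL2) = 1 by rw [map_mul, h2A])
  have htr : A.val 1 1 = -A.val 0 0 := by
    have hc' : A.val * A.val = (c : F) • (1 : M2) := by rw [← Units.val_mul, hc, sc_val]
    set M := A.val with hM
    have e00 := congrFun (congrFun hc' 0) 0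
    have e01 := congrFun (congrFun hc' 0) 1
    have e10 := congrFun (congrFun hc' 1) 0
    have e11 := congrFun (congrFun hc' 1) 1
    simp [Matrix.mul_apply, Fin.sum_univ_two] at e00 e01 e10 e11
    by_contra htr
    have hs : M 0 0 + M 1 1 ≠ 0 := fun h => htr (by linear_combination h)
    have h01 : M 0 1 = 0 :=
      (mul_eq_zero.1 (by linear_combination e01 : (M 0 0 + M 1 1) * M 0 1 = 0)).resolve_left hs
    have h10 : M 1 0 = 0 :=
      (mul_eq_zero.1 (by linear_combination e10 : (M 0 0 + M 1 1) * M 1 0 = 0)).resolve_left hs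
    have hd : M 0 0 = M 1 1 := sub_eq_zero.1 ((mul_eq_zero.1 (by
      linear_combination e00 - e11 : (M 0 0 + M 1 1) * (M 0 0 - M 1 1) = 0)).resolve_left hs)
    have h00 : M 0 0 ≠ 0 := fun h => hs (by rw [← hd, h, add_zero])
    refine hA1 ((innd_eq_one_iff le_rfl).2 ⟨Units.mk0 _ h00, Units.ext ?_⟩)
    rw [sc_val, ← hM, Units.val_mk0]
    ext i j
    fin_cases i <;> fin_cases j <;> simp [h01, h10, hd]
  refine ⟨htr, ?_⟩
  rintro ⟨s, hs⟩
  have hs0 : s ≠ 0 := fun h => by
    have := congrArg Matrix.det A.mul_inv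
    rw [Matrix.det_mul, hs, h, zero_mul, zero_mul, Matrix.det_one] at this
    exact zero_ne_one this
  let U : SL2 := ⟨s⁻¹ • A.val, by rw [Matrix.det_smul, Fintype.card_fin, hs]; field_simp⟩
  set u : PSL2 := QuotientGroup.mk U with hu
  have hconj : (innd A : MulAut PSL2) = MulAut.conj u := by
    rw [hu, conj_mk, show Matrix.SpecialLinearGroup.toGL U = sc (Units.mk0 _ (inv_ne_zero hs0)) * A from
      Units.ext (by rw [Units.val_mul, sc_val, Matrix.smul_mul, Matrix.one_mul]; rfl), map_mul, innd_sc, one_mul]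
  have hu1 : u ≠ 1 := fun h => hA1 (by rw [hconj, h, map_one])
  have hu2 : u ^ 2 = 1 := by
    rw [pow_two]
    exact Cfsg.Lib.Dickson.mk_sq_eq_one_of_trace (A := U) (by simp [U, htr])
  obtain ⟨d, hd⟩ := Cfsg.Lib.Dickson.exists_conj_involution (Nat.odd_iff.1 hodd) (x := (v : PSL2)) (y := u)
    (by rw [pow_two]; exact congrArg Subtype.val (hsq v)) (fun h => hv (Subtype.ext h)) hu2 hu1
  have hww : (w : PSL2) * w = 1 := congrArg Subtype.val (hsq w)
  have hvw' : (v : PSL2) * w = w * v := congrArg Subtype.val hvw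
  rcases hA u (d⁻¹ * w * d) (by rw [hconj, MulAut.conj_apply]; group)
      (by
        rw [hconj, MulAut.conj_apply, ← hd,
          show d⁻¹ * v * d * (d⁻¹ * w * d) * (d⁻¹ * v * d)⁻¹ = d⁻¹ * (v * w * (v : PSL2)⁻¹) * d by group,
          hvw', mul_inv_cancel_right])
      (by rw [← pow_two, hu2])
      (by rw [show d⁻¹ * w * d * (d⁻¹ * w * d) = d⁻¹ * ((w : PSL2) * w) * d by group, hww]; group)
      (by
        rw [← hd, show d⁻¹ * v * d * (d⁻¹ * w * d) = d⁻¹ * ((v : PSL2) * w) * d by group, hvw']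
        group) with h1 | h1 | h1
  · exact hu1 h1
  · exact hw1 (Subtype.ext (by simpa [mul_assoc, inv_mul_eq_one] using h1))
  · rw [← hd] at h1
    exact hwv (Subtype.ext (mul_left_cancel (mul_right_cancel h1)).symm)

theorem anticommute (hodd : Odd (Fintype.card F)) {A B : GL (Fin 2) F} (hA : A.val 1 1 = -A.val 0 0)
    (hB : B.val 1 1 = -B.val 0 0) (hcomm : (innd A : MulAut PSL2) * innd B = innd B * innd A)
    (hne : (innd A : MulAut PSL2) ≠ innd B) : B.val * A.val = -(A.val * B.val) := by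
  have h2 := two_ne_zero' hodd
  obtain ⟨l, hl⟩ := (innd_eq_one_iff le_rfl).1
    (show (innd ((A * B)⁻¹ * (B * A)) : MulAut PSL2) = 1 by
      rw [map_mul, map_inv, map_mul, map_mul, hcomm, inv_mul_cancel])
  have hl' : B.val * A.val = (l : F) • (A.val * B.val) := by
    have h1 : B * A = A * B * sc l := by rw [← hl, mul_inv_cancel_left]
    have h3 := congrArg Units.val h1
    rw [Units.val_mul, Units.val_mul, Units.val_mul, sc_val, Matrix.mul_smul, Matrix.mul_one] at h3
    exact h3
  by_cases hl1 : (l : F) = 1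
  · exfalso
    rw [hl1, one_smul] at hl'
    obtain ⟨x, y, hxy⟩ := eq_comb hA (val_ne_zero A) h2 hl'
    have hx : x = 0 := by
      refine (mul_eq_zero.1 (?_ : (2 : F) * x = 0)).resolve_left h2
      have h3 := hB
      rw [hxy] at h3
      simp [hA] at h3
      linear_combination h3
    rw [hx, zero_smul, zero_add] at hxy
    have hy : y ≠ 0 := fun h => val_ne_zero B (by rw [hxy, h, zero_smul])
    refine hne ?_
    rw [show B = sc (Units.mk0 y hy) * A from Units.ext (by
      rw [Units.val_mul, sc_val, Matrix.smul_mul, Matrix.one_mul, Units.val_mk0, ← hxy]), map_mul, innd_sc,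
      one_mul]
  have h3 := congrArg Matrix.det hl'
  rw [Matrix.det_smul, Fintype.card_fin, Matrix.det_mul, Matrix.det_mul, mul_comm A.val.det] at h3
  have hne0 : B.val.det * A.val.det ≠ 0 := by
    rw [← Matrix.det_mul, ← Units.val_mul]
    exact fun h => by
      have := congrArg Matrix.det (B * A).mul_inv
      rw [Matrix.det_mul, h, zero_mul, Matrix.det_one] at this
      exact zero_ne_one this
  have hl2 : (l : F) * l = 1 := mul_right_cancel₀ hne0 (by rw [one_mul, ← pow_two]; exact h3.symm)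
  rw [hl', (mul_self_eq_one_iff.1 hl2).resolve_left hl1, neg_one_smul]

theorem not_commute (hodd : Odd (Fintype.card F)) {A B : GL (Fin 2) F} (hA : A.val 1 1 = -A.val 0 0)
    (hB : B.val 1 1 = -B.val 0 0) (hnA : ¬ IsSquare A.val.det) (hnB : ¬ IsSquare B.val.det)
    (hBA : B.val * A.val = -(A.val * B.val)) {t s : PSL2} (ht : t ∈ T A) (ht1 : t ≠ 1) (hs : s ∈ T B)
    (hs1 : s ≠ 1) : t * s ≠ s * t := by
  intro hts
  have h2 := two_ne_zero' hodd
  obtain ⟨g, x, y, hgt, hg, hy⟩ := T_elt hodd hA ht ht1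
  obtain ⟨h, u, v, hhs, hh, hv⟩ := T_elt hodd hB hs hs1
  have hx : x ≠ 0 := fun hx => by
    refine sq_ne_one_of_T hodd hA hnA ht ht1 ?_
    rw [← hgt]
    exact (pow_two _).trans (Cfsg.Lib.Dickson.mk_sq_eq_one_of_trace (by rw [hg, hx]; simp [hA]))
  have hu : u ≠ 0 := fun hu => by
    refine sq_ne_one_of_T hodd hB hnB hs hs1 ?_
    rw [← hhs]
    exact (pow_two _).trans (Cfsg.Lib.Dickson.mk_sq_eq_one_of_trace (by rw [hh, hu]; simp [hB]))
  rw [← hgt, ← hhs, ← QuotientGroup.mk_mul, ← QuotientGroup.mk_mul, QuotientGroup.eq,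
    Matrix.SpecialLinearGroup.mem_center_iff] at hts
  obtain ⟨r, hr, hrc⟩ := hts
  rw [Fintype.card_fin] at hr
  have h3 : (h * g).1 = r • (g * h).1 := by
    have h4 : (g * h).1 * ((g * h)⁻¹ * (h * g)).1 = (h * g).1 := by
      rw [← Matrix.SpecialLinearGroup.coe_mul, mul_inv_cancel_left]
    rw [← h4, ← hrc, Matrix.scalar_apply, ← Matrix.smul_one_eq_diagonal, Matrix.mul_smul, Matrix.mul_one]
  rw [Matrix.SpecialLinearGroup.coe_mul, Matrix.SpecialLinearGroup.coe_mul, hg, hh] at h3
  rcases sq_eq_one_iff.1 hr with rfl | rfl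
  · have h4 : ((2 : F) * (y * v)) • (A.val * B.val) = 0 := by
      rw [one_smul] at h3
      have h5 := sub_eq_zero.2 h3.symm
      simp only [add_mul, mul_add, Matrix.smul_mul, Matrix.mul_smul, Matrix.one_mul, Matrix.mul_one,
        smul_smul, hBA] at h5
      rw [← h5]
      module
    rcases smul_eq_zero.1 h4 with h5 | h5
    · exact mul_ne_zero h2 (mul_ne_zero hy hv) h5
    · exact val_ne_zero (A * B) h5
  · have h4 := congrArg (fun M : M2 => M 0 0 + M 1 1) h3
    have h5 := congrArg (fun M : M2 => M 0 0 + M 1 1) hBA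
    simp [Matrix.mul_apply, Fin.sum_univ_two, hA, hB] at h4 h5
    refine mul_ne_zero (mul_ne_zero h2 h2) (mul_ne_zero hx hu) ?_
    linear_combination h4 - y * v * h5

/-- The product of the two outer involutions lies in `PSL₂` and inverts both tori. -/
theorem exists_inverter {A B : GL (Fin 2) F} (hA : A.val 1 1 = -A.val 0 0) (hodd : Odd (Fintype.card F))
    (hnA : ¬ IsSquare A.val.det) (hnB : ¬ IsSquare B.val.det) (hBA : B.val * A.val = -(A.val * B.val)) :
    ∃ l : PSL2, (innd A : MulAut PSL2) l = l ∧ ∀ t ∈ T A, l * t * l⁻¹ = t⁻¹ := by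
  have h2 := two_ne_zero' hodd
  obtain ⟨s, hs⟩ : IsSquare (A.val.det * B.val.det) := by
    classical
    have hchar : ringChar F ≠ 2 := fun h => by
      haveI := ringChar.of_eq h
      exact h2 CharTwo.two_eq_zero
    have hne : ∀ {C : GL (Fin 2) F}, ¬ IsSquare C.val.det → C.val.det ≠ 0 := fun hC h => hC (h ▸ IsSquare.zero)
    rw [← quadraticChar_one_iff_isSquare (mul_ne_zero (hne hnA) (hne hnB)), map_mul,
      (quadraticChar_neg_one_iff_not_isSquare).2 hnA, (quadraticChar_neg_one_iff_not_isSquare).2 hnB]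
    rfl
  have hs0 : s ≠ 0 := fun h => by
    rw [h, mul_zero] at hs
    rcases mul_eq_zero.1 hs with h1 | h1
    · exact hnA (h1 ▸ IsSquare.zero)
    · exact hnB (h1 ▸ IsSquare.zero)
  let L : SL2 := ⟨s⁻¹ • (A.val * B.val), by
    rw [Matrix.det_smul, Fintype.card_fin, Matrix.det_mul, hs]; field_simp⟩
  refine ⟨QuotientGroup.mk L, ?_, ?_⟩
  · rw [innd_mk]
    refine mk_eq_of_neg ?_
    rw [cnjHom_coe]
    show A.val * (s⁻¹ • (A.val * B.val)) * (A⁻¹).val = -(s⁻¹ • (A.val * B.val))
    rw [show A.val * B.val = -(B.val * A.val) by rw [hBA, neg_neg]]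
    simp only [Matrix.mul_smul, Matrix.smul_mul, Matrix.mul_neg, Matrix.neg_mul, Matrix.mul_assoc,
      Units.mul_inv, Matrix.mul_one, smul_neg, neg_neg]
    rw [hBA, smul_neg]
  · intro t ht
    by_cases ht1 : t = 1
    · simp [ht1]
    obtain ⟨g, x, y, hgt, hg, -⟩ := T_elt hodd hA ht ht1
    have hgl : g * L * g = L := by
      refine Subtype.ext ?_
      rw [Matrix.SpecialLinearGroup.coe_mul, Matrix.SpecialLinearGroup.coe_mul]
      show g.1 * (s⁻¹ • (A.val * B.val)) * g.1 = s⁻¹ • (A.val * B.val)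
      have hd := g.2
      rw [hg, det_comb hA] at hd
      have hAAX : ∀ X : M2, A.val * (A.val * X) = (-A.val.det) • X := fun X => by
        rw [← Matrix.mul_assoc, sq_traceless hA, Matrix.smul_mul, Matrix.one_mul]
      rw [hg]
      simp only [add_mul, mul_add, Matrix.smul_mul, Matrix.mul_smul, Matrix.one_mul, Matrix.mul_one,
        Matrix.mul_assoc, smul_smul, hBA, Matrix.mul_neg, Matrix.neg_mul, hAAX, neg_smul, smul_neg, neg_neg]
      calc _ = (s⁻¹ * (x * x + y * y * A.val.det)) • (A.val * B.val) := by module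
        _ = _ := by rw [hd, mul_one]
    have h3 : t * QuotientGroup.mk L * t = QuotientGroup.mk L := by
      rw [← hgt, ← QuotientGroup.mk_mul, ← QuotientGroup.mk_mul, hgl]
    rw [mul_inv_eq_iff_eq_mul, eq_inv_mul_iff_mul_eq, ← mul_assoc]
    exact h3

end Field

end Cfsg.Lib.GW.OuterPair
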