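import Cfsg.Agent.Lib.GW.OuterPair

/-!
# Two commuting outer involutions of `PGL₂(q)`: generation
-/

set_option autoImplicit false
set_option linter.style.haveILetI false
set_option maxRecDepth 100000

namespace Cfsg.Lib.GW.OuterPair

open Subgroup Equiv Cfsg.Lib.Linear.AutPSL

theorem perm_four_sq_cases : ∀ w : Perm (Fin 4), w * w * (w * w) = 1 →
    w * w = 1 ∨ w * w = swap 0 1 * swap 2 3 ∨ w * w = swap 0 2 * swap 1 3 ∨ w * w = swap 0 3 * swap 1 2 := by
  decide

theorem perm_four_three_cases : ∀ g : Perm (Fin 4), g ^ 3 = 1 → g ≠ 1 →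
    (g * (swap 0 1 * swap 2 3) * g⁻¹ = swap 0 2 * swap 1 3 ∧
      g * (swap 0 2 * swap 1 3) * g⁻¹ = swap 0 3 * swap 1 2 ∧
      g * (swap 0 3 * swap 1 2) * g⁻¹ = swap 0 1 * swap 2 3) ∨
    (g * (swap 0 1 * swap 2 3) * g⁻¹ = swap 0 3 * swap 1 2 ∧
      g * (swap 0 3 * swap 1 2) * g⁻¹ = swap 0 2 * swap 1 3 ∧
      g * (swap 0 2 * swap 1 3) * g⁻¹ = swap 0 1 * swap 2 3) := by
  decide

theorem double_squares : (swap 0 1 * swap 2 3 : Perm (Fin 4)) ≠ 1 ∧
    (swap 0 1 * swap 2 3 : Perm (Fin 4)) * (swap 0 1 * swap 2 3) = 1 ∧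
    (∃ w : Perm (Fin 4), w * w = swap 0 1 * swap 2 3) ∧
    (∃ w : Perm (Fin 4), w * w = swap 0 2 * swap 1 3) := by
  refine ⟨by decide, by decide, ⟨swap 0 2 * swap 2 1 * swap 1 3, by decide⟩,
    ⟨swap 0 1 * swap 1 2 * swap 2 3, by decide⟩⟩

theorem cycle_fix {G : Type*} [Group G] (φ : MulAut G) (hφ : ∀ x, φ (φ x) = x) {g d1 d2 d3 : G}
    (hfix : φ g = g) (e1 : g * d1 * g⁻¹ = d2) (e2 : g * d2 * g⁻¹ = d3) (e3 : g * d3 * g⁻¹ = d1)
    (h13 : d1 ≠ d3) (h23 : d2 ≠ d3) (him : φ d1 = d1 ∨ φ d1 = d2 ∨ φ d1 = d3) :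
    φ d1 = d1 ∧ φ d2 = d2 ∧ φ d3 = d3 := by
  have hconj : ∀ x, φ (g * x * g⁻¹) = g * φ x * g⁻¹ := fun x => by rw [map_mul, map_mul, map_inv, hfix]
  have h12 : φ d2 = g * φ d1 * g⁻¹ := by rw [← hconj, e1]
  rcases him with h | h | h
  · have h2 : φ d2 = d2 := by rw [h12, h, e1]
    exact ⟨h, h2, by rw [← e2, hconj, h2]⟩
  · have hb : φ d2 = d1 := by rw [← h, hφ]
    exact absurd (hb.symm.trans (by rw [h12, h, e2])) h13
  · have hb : φ d3 = d1 := by rw [← h, hφ]
    exact absurd (φ.injective ((by rw [h12, h, e3] : φ d2 = d1).trans hb.symm)) h23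

/-- An involutory automorphism of `S₄` fixing an element of order three fixes the four group. -/
theorem perm_four_fix (φ : MulAut (Perm (Fin 4))) (hφ : ∀ x, φ (φ x) = x) {g : Perm (Fin 4)} (hg : g ^ 3 = 1)
    (hg1 : g ≠ 1) (hfix : φ g = g) :
    φ (swap 0 1 * swap 2 3) = swap 0 1 * swap 2 3 ∧ φ (swap 0 2 * swap 1 3) = swap 0 2 * swap 1 3 := by
  obtain ⟨h1, h11, ⟨w, hw⟩, -⟩ := double_squares
  have h := perm_four_sq_cases (φ w) (by rw [← map_mul, hw, ← map_mul, h11, map_one])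
  rw [← map_mul, hw] at h
  have him := h.resolve_left fun h => h1 (φ.injective (h.trans (map_one φ).symm))
  rcases perm_four_three_cases g hg hg1 with ⟨e1, e2, e3⟩ | ⟨e1, e2, e3⟩
  · obtain ⟨f1, f2, -⟩ := cycle_fix φ hφ hfix e1 e2 e3 (by decide) (by decide) him
    exact ⟨f1, f2⟩
  · obtain ⟨f1, -, f2⟩ := cycle_fix φ hφ hfix e1 e2 e3 (by decide) (by decide)
      (him.elim Or.inl fun h => Or.inr h.symm)
    exact ⟨f1, f2⟩

/-- An involutory automorphism of `A₅` fixing an element of order five is trivial. -/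
theorem alt_five_fix (φ : MulAut (alternatingGroup (Fin 5))) (hφ : φ * φ = 1) {g : alternatingGroup (Fin 5)}
    (hg : orderOf g = 5) (hfix : φ g = g) : φ = 1 := by
  haveI : Fact (Nat.Prime 2) := ⟨Nat.prime_two⟩
  obtain ⟨σ, rfl⟩ := Cfsg.Agent.S4231.mem_range 5 le_rfl φ (Or.inl (by norm_num))
  have hinj := Cfsg.Agent.S4231.conj_inj 5 (by norm_num)
  have hσ : σ ^ 2 ^ 1 = 1 := hinj (by rw [pow_one, pow_two, map_mul, hφ, map_one])
  obtain ⟨z, hz⟩ := Equiv.Perm.exists_fixed_point_of_prime (p := 2) (n := 1) (by simp) hσ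
  have hcom : Commute σ (g : Perm (Fin 5)) := by
    have h := congrArg Subtype.val hfix
    rw [MulAut.conjNormal_apply] at h
    exact mul_inv_eq_iff_eq_mul.1 h
  rw [← Subgroup.orderOf_coe] at hg
  have hc : (g : Perm (Fin 5)).IsCycle :=
    Equiv.Perm.isCycle_of_prime_order'' (by norm_num) (by rw [hg, Fintype.card_fin])
  have hsupp : (g : Perm (Fin 5)).support = Finset.univ := by
    refine Finset.eq_univ_of_card _ ?_
    rw [← hc.orderOf, hg, Fintype.card_fin]
  have h1 : σ = 1 := Equiv.ext fun y => by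
    obtain ⟨i, hi⟩ := hc.sameCycle (x := z) (y := y)
      (Equiv.Perm.mem_support.1 (hsupp ▸ Finset.mem_univ z)) (Equiv.Perm.mem_support.1 (hsupp ▸ Finset.mem_univ y))
    rw [Perm.one_apply, ← hi]
    exact (congrArg (fun p : Perm (Fin 5) => p z) (hcom.zpow_right i).eq).trans
      (congrArg ((g : Perm (Fin 5)) ^ i) hz)
  rw [h1, map_one]

variable {F : Type*} [Field F] [Fintype F]

local notation "PSL2" => Matrix.ProjectiveSpecialLinearGroup (Fin 2) F

/-- The fixed groups of two commuting involutory outer automorphisms generate `PSL₂(q)`. -/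
theorem fix_sup_eq_top (hodd : Odd (Fintype.card F)) (h5 : 5 ≤ Fintype.card F) {A B : GL (Fin 2) F}
    (hA2 : (innd A : MulAut PSL2) * innd A = 1) (hB2 : (innd B : MulAut PSL2) * innd B = 1)
    (hcomm : (innd A : MulAut PSL2) * innd B = innd B * innd A) (hne : (innd A : MulAut PSL2) ≠ innd B)
    (hA : NoFour (innd A : MulAut PSL2)) (hB : NoFour (innd B : MulAut PSL2)) :
    fixSub (innd A : MulAut PSL2) ⊔ fixSub (innd B : MulAut PSL2) = ⊤ := by
  obtain ⟨htA, hnA⟩ := outer_of_noFour hodd hA2 hA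
  obtain ⟨htB, hnB⟩ := outer_of_noFour hodd hB2 hB
  have hBA := anticommute hodd htA htB hcomm hne
  obtain ⟨l, hlα, hlT⟩ := exists_inverter htA hodd hnA hnB hBA
  set α : MulAut PSL2 := innd A with hα
  set β : MulAut PSL2 := innd B with hβ
  set H := fixSub α ⊔ fixSub β with hH
  by_contra hne'
  have hlH : l ∈ H := mem_sup_left hlα
  have hTA : T A ≤ H := (T_le_fix A).trans le_sup_left
  have hTB : T B ≤ H := (T_le_fix B).trans le_sup_right
  have hinv : ∀ x, α (α x) = x := fun x => DFunLike.congr_fun hA2 x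
  have hαH : ∀ x ∈ H, α x ∈ H := by
    have h1 : H ≤ H.comap α.toMonoidHom := by
      refine sup_le (fun x hx => ?_) (fun x hx => mem_sup_right ?_)
      · show α x ∈ H
        rw [show α x = x from hx]; exact mem_sup_left hx
      · show β (α x) = α x
        rw [show β (α x) = α (β x) from (DFunLike.congr_fun hcomm x).symm, show β x = x from hx]
    exact h1
  obtain ⟨p, hpp, hcp, -⟩ := Cfsg.Lib.Dickson.exists_char (F := F)
  haveI : Fact p.Prime := ⟨hpp⟩
  haveI := hcp
  have hTodd := odd_T hodd htA hnA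
  have hT2 := card_T hodd htA
  have hTB2 := card_T hodd htB
  have hTne : ∀ {C : GL (Fin 2) F}, Fintype.card F - 1 ≤ 2 * Nat.card (T C) → Odd (Nat.card (T C)) →
      ∃ t ∈ T C, t ≠ 1 := by
    intro C hC hodd'
    haveI : Nontrivial (T C) := Finite.one_lt_card_iff_nontrivial.1 (by omega)
    obtain ⟨t, ht⟩ := exists_ne (1 : T C)
    exact ⟨t, t.2, fun h => ht (Subtype.ext h)⟩
  obtain ⟨t, htT, ht1⟩ := hTne hT2 hTodd
  obtain ⟨s, hsT, hs1⟩ := hTne hTB2 (odd_T hodd htB hnB)
  have hnc := not_commute hodd htA htB hnA hnB hBA htT ht1 hsT hs1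
  have ht2 := sq_ne_one_of_T hodd htA hnA htT ht1
  have hs2 := sq_ne_one_of_T hodd htB hnB hsT hs1
  have hdvdH : Nat.card (T A) ∣ Nat.card H := card_dvd_of_le hTA
  rcases Cfsg.Lib.Dickson.psl_subgroup_cases p H with
    ⟨k, -, ⟨hc, -⟩ | ⟨⟨e⟩⟩⟩ | ⟨-, P, hP⟩ | ⟨-, hc⟩
  · -- cyclic
    haveI := hc
    obtain ⟨c, hc'⟩ := IsCyclic.exists_generator (α := H)
    obtain ⟨i, hi⟩ := mem_zpowers_iff.1 (hc' ⟨t, hTA htT⟩)
    obtain ⟨j, hj⟩ := mem_zpowers_iff.1 (hc' ⟨s, hTB hsT⟩)
    refine hnc (congrArg Subtype.val (show (⟨t, hTA htT⟩ : H) * ⟨s, hTB hsT⟩ = ⟨s, hTB hsT⟩ * ⟨t, hTA htT⟩ from ?_))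
    rw [← hi, ← hj, ← zpow_add, ← zpow_add, add_comm]
  · -- dihedral
    have hr : ∀ u (hu : u ∈ H), u ^ 2 ≠ 1 → ∃ i, e ⟨u, hu⟩ = DihedralGroup.r i := by
      intro u hu hu2
      rcases hcase : e ⟨u, hu⟩ with i | i
      · exact ⟨i, rfl⟩
      · refine absurd (congrArg Subtype.val (e.injective (a₁ := ⟨u, hu⟩ ^ 2) (a₂ := 1) ?_)) hu2
        rw [map_pow, hcase, map_one, pow_two, DihedralGroup.sr_mul_self]
    obtain ⟨i, hi⟩ := hr t (hTA htT) ht2
    obtain ⟨j, hj⟩ := hr s (hTB hsT) hs2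
    refine hnc (congrArg Subtype.val (show (⟨t, hTA htT⟩ : H) * ⟨s, hTB hsT⟩ = ⟨s, hTB hsT⟩ * ⟨t, hTA htT⟩ from ?_))
    refine e.injective ?_
    rw [map_mul, map_mul, hi, hj, DihedralGroup.r_mul_r, DihedralGroup.r_mul_r, add_comm]
  · -- Borel
    have h := Cfsg.Lib.Dickson.sq_mem_of_mem_normalizer p P (hP (hTA htT)) (hP hlH) (hlT t htT)
    obtain ⟨k, hk⟩ := IsPGroup.iff_orderOf.1 P.isPGroup' ⟨t ^ 2, h⟩
    rw [Subgroup.orderOf_mk] at hk
    have hd : orderOf (⟨t ^ 2, pow_mem htT 2⟩ : T A) ∣ Nat.card (T A) := orderOf_dvd_natCard _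
    rw [Subgroup.orderOf_mk, hk] at hd
    refine ht2 (orderOf_eq_one_iff.1 (hk.trans ?_))
    rcases k with _ | k
    · rfl
    · exact absurd ((dvd_pow_self p k.succ_ne_zero).trans hd) (not_dvd_T hodd p htA)
  rcases hc with ⟨⟨e⟩⟩ | ⟨⟨e⟩⟩ | ⟨⟨e⟩⟩ | ⟨K, _, _, m, hKp, hK3, hKm, hiso⟩
  · -- A₄
    have h := Cfsg.Lib.Dickson.dihedral_four_excluded (e ⟨t, hTA htT⟩) (e ⟨l, hlH⟩) (by
      rw [← map_mul, ← map_inv, ← map_mul, ← map_inv]
      exact congrArg e (Subtype.ext (hlT t htT)))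
    rw [← map_pow, ← map_one e] at h
    exact ht2 (congrArg Subtype.val (e.injective h))
  · -- S₄
    have h24 : Nat.card H = 24 := Cfsg.Lib.Dickson.card_target_perm e
    have h3 : Nat.card (T A) = 3 := by
      have h1 : Nat.card (T A) ∣ 3 := (Nat.Coprime.dvd_mul_left
        ((Nat.coprime_two_right.2 hTodd).pow_right 3)).1 (show Nat.card (T A) ∣ 2 ^ 3 * 3 by rw [h24] at hdvdH; exact hdvdH)
      refine ((Nat.dvd_prime Nat.prime_three).1 h1).resolve_left fun h => ?_
      omega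
    have ht3 : t ^ 3 = 1 := by
      have := pow_card_eq_one' (x := (⟨t, htT⟩ : T A))
      rw [h3] at this
      exact congrArg Subtype.val this
    let φ₀ : MulAut H :=
      { toFun := fun x => ⟨α x, hαH x x.2⟩
        invFun := fun x => ⟨α x, hαH x x.2⟩
        left_inv := fun x => Subtype.ext (hinv x)
        right_inv := fun x => Subtype.ext (hinv x)
        map_mul' := fun x y => Subtype.ext (map_mul α (x : PSL2) y) }
    let φ : MulAut (Perm (Fin 4)) := MulAut.congr e φ₀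
    have hφapp : ∀ x, φ x = e (φ₀ (e.symm x)) := fun _ => rfl
    obtain ⟨f1, f2⟩ := perm_four_fix φ (fun x => by
        rw [hφapp, hφapp, e.symm_apply_apply, show φ₀ (φ₀ (e.symm x)) = e.symm x from Subtype.ext (hinv _),
          e.apply_symm_apply])
      (g := e ⟨t, hTA htT⟩) (by rw [← map_pow, ← map_one e]; exact congrArg e (Subtype.ext ht3))
      (fun h => ht1 (congrArg Subtype.val (e.injective (h.trans (map_one e).symm))))
      (by rw [hφapp, e.symm_apply_apply]; exact congrArg e (Subtype.ext (T_le_fix A htT)))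
    have hfix : ∀ x, φ x = x → α (e.symm x : PSL2) = e.symm x := fun x hx => by
      rw [hφapp] at hx
      exact congrArg Subtype.val ((e.eq_symm_apply).2 hx)
    have hm : ∀ x y : Perm (Fin 4), (e.symm x : PSL2) * e.symm y = e.symm (x * y) := fun x y => by
      rw [map_mul, Subgroup.coe_mul]
    have hi : ∀ x y : Perm (Fin 4), (e.symm x : PSL2) = e.symm y → x = y := fun x y h =>
      e.symm.injective (Subtype.ext h)
    rcases hA _ _ (hfix _ f1) (hfix _ f2)
      (by rw [hm, show (swap 0 1 * swap 2 3 : Perm (Fin 4)) * (swap 0 1 * swap 2 3) = 1 by decide, map_one]; rfl)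
      (by rw [hm, show (swap 0 2 * swap 1 3 : Perm (Fin 4)) * (swap 0 2 * swap 1 3) = 1 by decide, map_one]; rfl)
      (by rw [hm, hm, show (swap 0 1 * swap 2 3 : Perm (Fin 4)) * (swap 0 2 * swap 1 3) =
        (swap 0 2 * swap 1 3) * (swap 0 1 * swap 2 3) by decide]) with h | h | h
    · exact absurd (hi _ 1 (by rw [h, map_one]; rfl)) (by decide)
    · exact absurd (hi _ 1 (by rw [h, map_one]; rfl)) (by decide)
    · exact absurd (hi _ _ h) (by decide)
  · -- A₅
    have h60 : Nat.card H = 60 := Cfsg.Lib.Dickson.card_target_five e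
    rw [h60] at hdvdH
    by_cases hfive : 5 ∣ Nat.card (T A)
    · haveI : Fact (Nat.Prime 5) := ⟨by norm_num⟩
      obtain ⟨u, hu⟩ := exists_prime_orderOf_dvd_card' 5 hfive
      rw [← Subgroup.orderOf_coe] at hu
      let φ₀ : MulAut H :=
        { toFun := fun x => ⟨α x, hαH x x.2⟩
          invFun := fun x => ⟨α x, hαH x x.2⟩
          left_inv := fun x => Subtype.ext (hinv x)
          right_inv := fun x => Subtype.ext (hinv x)
          map_mul' := fun x y => Subtype.ext (map_mul α (x : PSL2) y) }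
      let φ : MulAut (alternatingGroup (Fin 5)) := MulAut.congr e φ₀
      have hφapp : ∀ x, φ x = e (φ₀ (e.symm x)) := fun _ => rfl
      have hφ1 := alt_five_fix φ (MulEquiv.ext fun x => by
          rw [MulAut.mul_apply, hφapp, hφapp, e.symm_apply_apply,
            show φ₀ (φ₀ (e.symm x)) = e.symm x from Subtype.ext (hinv _), e.apply_symm_apply]
          rfl)
        (g := e ⟨u, hTA u.2⟩) (by rw [MulEquiv.orderOf_eq, Subgroup.orderOf_mk, hu])
        (by rw [hφapp, e.symm_apply_apply]; exact congrArg e (Subtype.ext (T_le_fix A u.2)))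
      have hfix : ∀ x, α (e.symm x : PSL2) = e.symm x := fun x => by
        have hx : e (φ₀ (e.symm x)) = x := by rw [← hφapp, hφ1]; rfl
        exact congrArg Subtype.val ((e.eq_symm_apply).2 hx)
      have hm : ∀ x y : alternatingGroup (Fin 5), (e.symm x : PSL2) * e.symm y = e.symm (x * y) := fun x y => by
        rw [map_mul, Subgroup.coe_mul]
      have hi : ∀ x y : alternatingGroup (Fin 5), (e.symm x : PSL2) = e.symm y → x = y := fun x y h =>
        e.symm.injective (Subtype.ext h)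
      let v1 : alternatingGroup (Fin 5) := ⟨swap 0 1 * swap 2 3, by rw [Equiv.Perm.mem_alternatingGroup]; decide⟩
      let v2 : alternatingGroup (Fin 5) := ⟨swap 0 2 * swap 1 3, by rw [Equiv.Perm.mem_alternatingGroup]; decide⟩
      rcases hA _ _ (hfix v1) (hfix v2)
        (by rw [hm, show v1 * v1 = 1 by decide, map_one]; rfl)
        (by rw [hm, show v2 * v2 = 1 by decide, map_one]; rfl)
        (by rw [hm, hm, show v1 * v2 = v2 * v1 by decide]) with h | h | h
      · exact absurd (hi _ 1 (by rw [h, map_one]; rfl)) (by decide : v1 ≠ 1)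
      · exact absurd (hi _ 1 (by rw [h, map_one]; rfl)) (by decide : v2 ≠ 1)
      · exact absurd (hi _ _ h) (by decide : v1 ≠ v2)
    · have h3 : Nat.card (T A) ∣ 3 := by
        have hc5 : Nat.Coprime (Nat.card (T A)) 5 :=
          ((Nat.prime_five.coprime_iff_not_dvd).2 hfive).symm
        exact (((Nat.coprime_two_right.2 hTodd).pow_right 2).mul_right hc5).dvd_of_dvd_mul_left
          (show Nat.card (T A) ∣ 2 ^ 2 * 5 * 3 from hdvdH)
      have hle := Nat.le_of_dvd (by norm_num) h3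
      have hq : Fintype.card F = 5 ∨ Fintype.card F = 7 := by
        obtain ⟨c, hc⟩ := hodd
        omega
      have hG := Cfsg.Lib.Dickson.card_psl_mul (K := F) (Nat.odd_iff.1 hodd)
      have hdG := card_subgroup_dvd_card H
      rw [h60] at hdG
      rcases hq with hq | hq <;> rw [hq] at hG <;> norm_num at hG
      · exact hne' (Subgroup.eq_top_of_card_eq H (by rw [h60]; omega))
      · rw [show Nat.card PSL2 = 168 by omega] at hdG
        norm_num at hdG
  · -- subfields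
    by_cases hm : m = 1
    · rw [hm, pow_one] at hKm
      exact hne' (Cfsg.Lib.Dickson.eq_top_of_full hKm hiso)
    have hm2 : 2 ≤ m := by
      rcases m with _ | m
      · rw [pow_zero] at hKm; omega
      · omega
    set r := Fintype.card K with hr
    have hrodd : Odd r := by
      rcases Nat.even_or_odd r with he | ho
      · exact absurd (hKm ▸ he.pow_of_ne_zero (by omega)) (Nat.not_even_iff_odd.2 hodd)
      · exact ho
    have hH : Nat.card (T A) ∣ r * (r ^ 2 - 1) := by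
      refine hdvdH.trans ?_
      rcases hiso with ⟨⟨e⟩, hK2⟩ | ⟨⟨e⟩⟩
      · rw [Nat.card_congr e.toEquiv]
        exact ⟨2, by rw [← Cfsg.Lib.Dickson.card_psl_mul hK2, mul_comm]⟩
      · rw [Nat.card_congr e.toEquiv, Cfsg.Lib.Dickson.card_PGL_two_eq]
    obtain ⟨f, -, hf⟩ := @FiniteField.card K _ _ p hKp
    have hcr : Nat.Coprime (Nat.card (T A)) r := by
      rw [hr, hf]
      exact ((hpp.coprime_iff_not_dvd.2 (not_dvd_T hodd p htA)).symm).pow_right _
    have hd := (hcr.dvd_mul_left).1 hH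
    have h8 : 8 ∣ r ^ 2 - 1 := Nat.eight_dvd_sq_sub_one_of_odd hrodd
    have hmul := (((Nat.coprime_two_right.2 hTodd).pow_right 3).symm).mul_dvd_of_dvd_of_dvd h8 hd
    have hr2 : 9 ≤ r ^ 2 := by nlinarith
    have hle := Nat.le_of_dvd (by omega) hmul
    have hq : r ^ 2 ≤ Fintype.card F := hKm ▸ Nat.pow_le_pow_right (by omega) hm2
    omega

end Cfsg.Lib.GW.OuterPair
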