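import Cfsg.Agent.Lib.GW.QGroupKernel
import Cfsg.Agent.Lib.TwoGroup.QuasiDihedral
import Cfsg.Agent.Lib.TwoGroup.Wreathed
import Cfsg.Agent.Lib.Local.Sylow
import Cfsg.Agent.Lib.Core.Cores
import Cfsg.Agent.S4231

/-!
# Q-groups with trivial core, from the theorem of Gorenstein and Walter
-/

set_option autoImplicit false
set_option linter.style.haveILetI false

namespace Cfsg.Lib.GW

open Subgroup Cfsg.Lib.TwoGroup
open scoped commutatorElement MatrixGroups

universe u

theorem SL_two_index_ne_two {F : Type*} [Field F] [Fintype F] (hodd : Odd (Fintype.card F))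
    (M : Subgroup SL(2, F)) : M.index ≠ 2 := by
  intro hM
  have h2 : (2 : F) ≠ 0 := Ring.two_ne_zero fun h => by
    haveI := ringChar.of_eq h
    exact Nat.not_even_iff_odd.2 hodd (FiniteField.even_card_iff_char_two.1 h |> Nat.even_iff.2)
  have htop : M = ⊤ := by
    rw [eq_top_iff, ← Cfsg.Lib.Linear.closure_transvection_eq_top, Subgroup.closure_le]
    rintro _ ⟨i, j, hij, c, rfl⟩
    rw [show c = c / 2 + c / 2 by field_simp; ring, Matrix.SpecialLinearGroup.transvection_add]
    exact mul_self_mem_of_index_two hM _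
  rw [htop, index_top] at hM
  omega

theorem SL_two_not_le_center {G : Type*} [Group G] {F : Type*} [Field F] [Fintype F]
    (hodd : Odd (Fintype.card F)) {L : Subgroup G} (e : L ≃* SL(2, F)) : ¬ L ≤ center G := by
  intro hL
  have hc : center SL(2, F) = ⊤ := by
    rw [eq_top_iff]
    intro x _
    rw [mem_center_iff]
    intro y
    refine e.symm.injective (Subtype.ext ?_)
    rw [map_mul, map_mul, Subgroup.coe_mul, Subgroup.coe_mul]
    exact mem_center_iff.1 (hL (e.symm x).2) _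
  have h2 : Nat.card (center SL(2, F)) = 2 := by
    rw [Cfsg.Lib.Linear.card_center_SL, Fintype.card_fin]
    obtain ⟨m, hm⟩ := hodd
    rw [show Fintype.card F - 1 = 2 * m by omega, Nat.gcd_mul_right_right]
  rw [hc, card_top, Cfsg.Lib.Linear.Two.card_SL_two] at h2
  have h3 : 3 ≤ Fintype.card F := by
    obtain ⟨m, hm⟩ := hodd
    have := Fintype.one_lt_card (α := F)
    omega
  have h8 : 8 ≤ Fintype.card F ^ 2 - 1 := by
    have : 9 ≤ Fintype.card F ^ 2 := by nlinarith
    omega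
  nlinarith

/-- A subgroup with no subgroup of index two lies in every normal subgroup of two-power index. -/
theorem le_of_no_index_two {H : Type*} [Group H] [Finite H] {K M : Subgroup H} [K.Normal] {a : ℕ}
    (hK : K.index = 2 ^ a) (hM : ∀ R : Subgroup M, R.index ≠ 2) : M ≤ K := by
  intro x hx
  by_contra hxK
  set f : M →* H ⧸ K := (QuotientGroup.mk' K).comp M.subtype with hf
  have h2 : IsPGroup 2 (H ⧸ K) := IsPGroup.of_card (n := a) (by rw [← index_eq_card, hK])
  have hne : Nontrivial f.range := by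
    refine ⟨⟨⟨f ⟨x, hx⟩, _, rfl⟩, 1, fun h => hxK ?_⟩⟩
    exact (QuotientGroup.eq_one_iff x).1 (congrArg Subtype.val h)
  obtain ⟨R, hR⟩ := index_two_of_two_group (h2.to_subgroup f.range) hne
  exact hM (R.comap f.rangeRestrict)
    (by rw [R.index_comap_of_surjective f.rangeRestrict_surjective, hR])

theorem pow_four_of_two_elt_aut_alt7 (φ : MulAut (alternatingGroup (Fin 7))) {i : ℕ}
    (h : orderOf φ = 2 ^ i) : φ ^ 4 = 1 := by
  obtain ⟨σ, rfl⟩ := Cfsg.Agent.S4231.mem_range 7 (by norm_num) φ (Or.inl (by norm_num))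
  rw [orderOf_injective _ (Cfsg.Agent.S4231.conj_inj 7 (by norm_num))] at h
  suffices hσ : orderOf σ ∣ 4 by
    rw [← map_pow, orderOf_dvd_iff_pow_eq_one.1 hσ, map_one]
  rw [← Equiv.Perm.lcm_cycleType, Multiset.lcm_dvd]
  intro k hk
  have hk7 : k ≤ 7 := by
    refine (Multiset.le_sum_of_mem hk).trans ?_
    rw [Equiv.Perm.sum_cycleType]
    simpa using σ.support.card_le_univ
  have hdvd : k ∣ 2 ^ i := h ▸ Equiv.Perm.dvd_of_mem_cycleType hk
  obtain ⟨j, -, rfl⟩ := (Nat.dvd_prime_pow Nat.prime_two).1 hdvd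
  have hj : j ≤ 2 := by
    by_contra hj
    have := Nat.pow_le_pow_right (show 0 < 2 by norm_num) (show 3 ≤ j by omega)
    omega
  exact (pow_dvd_pow 2 hj).trans (by norm_num)

/-- The action of automorphisms on the quotient by the center. -/
def centerQuotientAut (A : Type*) [Group A] : MulAut A →* MulAut (A ⧸ center A) where
  toFun φ := QuotientGroup.congr (center A) (center A) φ (characteristic_iff_map_eq.1 inferInstance φ)
  map_one' := MulEquiv.ext fun q => by
    induction q using QuotientGroup.induction_on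
    rfl
  map_mul' φ ψ := MulEquiv.ext fun q => by
    induction q using QuotientGroup.induction_on
    rfl

theorem centerQuotientAut_injective {A : Type*} [Group A] (hA : commutator A = ⊤) :
    Function.Injective (centerQuotientAut A) := by
  rw [← MonoidHom.ker_eq_bot_iff, eq_bot_iff]
  intro φ hφ
  rw [Subgroup.mem_bot]
  refine MulEquiv.ext fun l => ?_
  have hz : ∀ a : A, a⁻¹ * φ a ∈ center A := fun a => by
    have h1 := DFunLike.congr_fun (show centerQuotientAut A φ = 1 from hφ) (a : A ⧸ center A)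
    exact QuotientGroup.eq.1 (show ((φ a : A) : A ⧸ center A) = a from h1).symm
  have hle : commutator A ≤ φ.toMonoidHom.eqLocus (MonoidHom.id A) := by
    rw [_root_.commutator_def, commutator_le]
    intro a _ b _
    show φ ⁅a, b⁆ = ⁅a, b⁆
    rw [map_commutatorElement, show φ a = a * (a⁻¹ * φ a) by group, show φ b = b * (b⁻¹ * φ b) by group,
      Cfsg.Lib.Chev.comm_mul_central (hz a) (hz b)]
  rw [hA] at hle
  exact hle (mem_top l)

/-- In a group with quasi-dihedral or wreathed Sylow 2-subgroups, no quaternion normal section is the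
double cover of `A₇`. -/
theorem not_double_cover_alt7 {H : Type u} [Group H] [Finite H] (S : Sylow 2 H)
    (hS : Cfsg.IsQuasiDihedral (S : Subgroup H) ∨ Cfsg.IsWreathed (S : Subgroup H))
    (L : Subgroup H) [L.Normal] (hL : commutator L = ⊤)
    (hc : Cfsg.IsNonsplitDoubleCover ↥L ↥(alternatingGroup (Fin 7))) {K : Subgroup H} [K.Normal]
    (P : Sylow 2 K) (hPS : (P : Subgroup K) = (S : Subgroup H).subgroupOf K) (hPL : (S : Subgroup H) ⊓ K ≤ L)
    (hLK : L ≤ K) {m : ℕ} (e : (P : Subgroup K) ≃* QuaternionGroup (2 ^ m)) : False := by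
  haveI : Fact (Nat.Prime 2) := ⟨Nat.prime_two⟩
  obtain ⟨hZ, ⟨i⟩, -⟩ := hc
  -- fourth powers of elements of `S` centralize `L`
  set Φ : H →* MulAut (alternatingGroup (Fin 7)) :=
    ((MulAut.congr i).toMonoidHom.comp (centerQuotientAut ↥L)).comp (MulAut.conjNormal (H := L)) with hΦ
  have hfour : ∀ s ∈ (S : Subgroup H), ∀ l ∈ L, Commute (s ^ 4) l := by
    intro s hs l hl
    obtain ⟨k, hk⟩ := IsPGroup.iff_orderOf.1 S.isPGroup' ⟨s, hs⟩
    rw [Subgroup.orderOf_mk] at hk
    have h1 := orderOf_map_dvd Φ s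
    rw [hk, Nat.dvd_prime_pow Nat.prime_two] at h1
    obtain ⟨j, -, hj⟩ := h1
    have h4 : Φ (s ^ 4) = 1 := by rw [map_pow, pow_four_of_two_elt_aut_alt7 _ hj]
    have h5 : (MulAut.conjNormal (H := L) (s ^ 4) : MulAut ↥L) = 1 := by
      refine centerQuotientAut_injective hL ?_
      rw [map_one]
      exact (MulAut.congr i).injective (h4.trans (map_one (MulAut.congr i)).symm)
    have h6 := congrArg Subtype.val (DFunLike.congr_fun h5 ⟨l, hl⟩)
    rw [MulAut.conjNormal_apply] at h6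
    exact mul_inv_eq_iff_eq_mul.1 h6
  have h16K : 16 ∣ Nat.card (P : Subgroup K) := by
    have hcard : Nat.card L = 2520 * 2 := by
      rw [card_eq_card_quotient_mul_card_subgroup (center ↥L), hZ, Nat.card_congr i.toEquiv,
        nat_card_alternatingGroup, Nat.card_fin]
      rfl
    have h16 : 2 ^ 4 ∣ Nat.card K := Dvd.dvd.trans ⟨315, by rw [hcard]; norm_num⟩ (card_dvd_of_le hLK)
    rw [P.card_eq_multiplicity]
    exact pow_dvd_pow 2 ((Nat.prime_two.pow_dvd_iff_le_factorization (Nat.card_pos).ne').1 h16)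
  set Q : Subgroup (S : Subgroup H) := K.subgroupOf (S : Subgroup H) with hQ
  have hcomm : ∀ s q : (S : Subgroup H), q ∈ Q → Commute (s ^ 4) q := fun s q hq =>
    Subtype.ext (by simpa using (hfour s s.2 q (hPL ⟨q.2, hq⟩)).eq)
  let eP : Q ≃* (P : Subgroup K) :=
    { toFun := fun q => ⟨⟨(q.1 : H), q.2⟩, by rw [hPS]; exact q.1.2⟩
      invFun := fun p => ⟨⟨(p.1 : H), mem_subgroupOf.1 (hPS.le p.2)⟩, p.1.2⟩
      left_inv := fun _ => rfl
      right_inv := fun _ => rfl
      map_mul' := fun _ _ => rfl }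
  let eQ : Q ≃* QuaternionGroup (2 ^ m) := eP.trans e
  have hQc : Nat.card Q = 4 * 2 ^ m := by
    haveI : NeZero (2 ^ m) := ⟨by positivity⟩
    rw [Nat.card_congr eQ.toEquiv, Nat.card_eq_fintype_card, QuaternionGroup.card]
  have hQ16 : 16 ∣ Nat.card Q := by
    rwa [hQc, ← QuaternionGroup.card (n := 2 ^ m), ← Nat.card_eq_fintype_card, ← Nat.card_congr e.toEquiv]
  have hm : 2 ≤ m := by
    rw [hQc] at hQ16
    by_contra hm
    interval_cases m <;> norm_num at hQ16
  haveI : NeZero (2 ^ m) := ⟨by positivity⟩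
  have hQne : ¬ ∀ a b : Q, a * b = b * a := by
    intro hc
    have h1 := congrArg (fun g : QuaternionGroup (2 ^ m) => g)
      (eQ.symm.injective.eq_iff.1 (by rw [map_mul, map_mul]; exact hc _ _) :
        (QuaternionGroup.xa 0 : QuaternionGroup (2 ^ m)) * QuaternionGroup.a 1 =
          QuaternionGroup.a 1 * QuaternionGroup.xa 0)
    simp only [QuaternionGroup.xa_mul_a, QuaternionGroup.a_mul_xa, QuaternionGroup.xa.injEq] at h1
    have h2 : ((2 : ℕ) : ZMod (2 * 2 ^ m)) = 0 := by linear_combination h1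
    rw [ZMod.natCast_eq_zero_iff] at h2
    have h3 := Nat.le_of_dvd (by norm_num) h2
    have h4 := Nat.pow_le_pow_right (show 0 < 2 by norm_num) hm
    omega
  rcases hS with hS | hS
  · obtain ⟨n, ⟨d⟩⟩ := exists_sd hS
    obtain ⟨k, hk⟩ : ∃ k : ℤ, d.x ^ k * d.y ∈ Q := by
      by_contra hno
      push Not at hno
      refine hQne fun a b => Subtype.ext ?_
      have hmem : ∀ q : Q, ∃ k : ℤ, (q : (S : Subgroup H)) = d.x ^ k := fun q => by
        obtain ⟨k, hk | hk⟩ := d.normal_form (q : (S : Subgroup H))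
        · exact ⟨k, hk⟩
        · exact absurd (hk ▸ q.2) (hno k)
      obtain ⟨k, hk⟩ := hmem a
      obtain ⟨l, hl⟩ := hmem b
      rw [Subgroup.coe_mul, Subgroup.coe_mul, hk, hl, ← zpow_add, ← zpow_add, add_comm]
    have h1 : Commute (d.x ^ (4 : ℤ)) (d.x ^ k * d.y) := by
      rw [zpow_ofNat]
      exact hcomm d.x _ hk
    have h4 := Int.le_of_dvd (by norm_num) (d.commute_y_iff.1 h1)
    have hn : n = 3 := by
      have h5 := d.three_le
      by_contra hne
      have : (4 : ℤ) ≤ SD.P n := by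
        rw [SD.P]
        calc (4 : ℤ) = 2 ^ 2 := by norm_num
          _ ≤ 2 ^ (n - 2) := pow_le_pow_right₀ (by norm_num) (by omega)
      linarith
    subst hn
    have htop : Q = ⊤ := by
      refine Subgroup.eq_top_of_card_eq Q (le_antisymm (Subgroup.card_le_card_group Q) ?_)
      rw [d.card]
      exact Nat.le_of_dvd Nat.card_pos hQ16
    have hyQ : d.y ∈ Q := htop ▸ mem_top _
    have hzQ : d.z ∈ Q := htop ▸ mem_top _
    have h6 := eQ.injective ((Cfsg.Lib.Invol.quaternion_eq_of_orderOf_two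
        (by rw [eQ.orderOf_eq, Subgroup.orderOf_mk, d.hy] : orderOf (eQ ⟨d.y, hyQ⟩) = 2)).trans
      (Cfsg.Lib.Invol.quaternion_eq_of_orderOf_two
        (by rw [eQ.orderOf_eq, Subgroup.orderOf_mk, d.orderOf_z] : orderOf (eQ ⟨d.z, hzQ⟩) = 2)).symm)
    have h7 : d.y = d.z := congrArg Subtype.val h6
    refine d.y_notMem ?_
    rw [h7, SD.z]
    exact zpow_mem (mem_zpowers _) _
  · obtain ⟨n, ⟨d⟩⟩ := exists_w hS
    obtain ⟨a, b, hab⟩ : ∃ a b : ℤ, d.e a b * d.z ∈ Q := by
      by_contra hno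
      push Not at hno
      refine hQne fun a b => Subtype.ext ?_
      have hmem : ∀ q : Q, ∃ a b, (q : (S : Subgroup H)) = d.e a b := fun q => by
        obtain ⟨a, b, hk | hk⟩ := d.normal_form (q : (S : Subgroup H))
        · exact ⟨a, b, hk⟩
        · exact absurd (hk ▸ q.2) (hno a b)
      obtain ⟨u, v, hk⟩ := hmem a
      obtain ⟨u', v', hl⟩ := hmem b
      rw [Subgroup.coe_mul, Subgroup.coe_mul, hk, hl]
      exact d.e_comm u v u' v'
    have h1 : Commute (d.e 4 0) (d.e a b * d.z) := by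
      rw [show d.e 4 0 = d.x ^ 4 by rw [d.e_x, zpow_ofNat]]
      exact hcomm d.x _ hab
    have h4 := Int.le_of_dvd (by norm_num) (d.commute_ez.1 h1)
    -- `A` has exponent four
    have hA4 : ∀ s ∈ d.A, s ^ 4 = 1 := by
      intro s hs
      obtain ⟨u, v, rfl⟩ := d.mem_A.1 hs
      rw [← zpow_natCast, d.e_zpow, d.e_eq_one]
      obtain ⟨t, ht⟩ := (d.commute_ez.1 h1)
      push_cast
      exact ⟨⟨t * u, by linear_combination u * ht⟩, ⟨t * v, by linear_combination v * ht⟩⟩
    set p := eQ.symm (QuaternionGroup.a 1) with hp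
    have hpo : ((p : Q) : (S : Subgroup H)) ^ 4 ≠ 1 := by
      intro hcon
      have h5 := orderOf_dvd_of_pow_eq_one hcon
      rw [Subgroup.orderOf_coe, hp, MulEquiv.orderOf_eq, QuaternionGroup.orderOf_a_one] at h5
      have h6 := Nat.le_of_dvd (by norm_num) h5
      have h7 := Nat.pow_le_pow_right (show 0 < 2 by norm_num) hm
      omega
    obtain ⟨u, v, huv⟩ : ∃ u v, ((p : Q) : (S : Subgroup H)) = d.e u v * d.z := by
      obtain ⟨u, v, hk | hk⟩ := d.normal_form ((p : Q) : (S : Subgroup H))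
      · exact absurd (hA4 _ (hk ▸ d.mem_A.2 ⟨u, v, rfl⟩)) hpo
      · exact ⟨u, v, hk⟩
    have hcen : ((p * p : Q) : (S : Subgroup H)) ∈ center (S : Subgroup H) := by
      rw [Subgroup.coe_mul, huv, d.ez_ez, d.mem_center_e, add_comm v u, sub_self]
      exact dvd_zero _
    have h8 : QuaternionGroup.xa 0 * (QuaternionGroup.a 1 * QuaternionGroup.a 1) =
        (QuaternionGroup.a 1 * QuaternionGroup.a 1) * (QuaternionGroup.xa 0 : QuaternionGroup (2 ^ m)) := by
      refine eQ.symm.injective ?_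
      simp only [map_mul]
      exact Subtype.ext (mem_center_iff.1 hcen _)
    simp only [QuaternionGroup.a_mul_a, QuaternionGroup.xa_mul_a, QuaternionGroup.a_mul_xa,
      QuaternionGroup.xa.injEq] at h8
    have h9 : ((4 : ℕ) : ZMod (2 * 2 ^ m)) = 0 := by linear_combination h8
    rw [ZMod.natCast_eq_zero_iff] at h9
    have h10 := Nat.le_of_dvd (by norm_num) h9
    have h11 := Nat.pow_le_pow_right (show 0 < 2 by norm_num) hm
    omega

/-- The structure of a Q-group with trivial core. -/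
theorem q_group (h : SimpleGW.{u}) {H : Type u} [Group H] [Finite H] (S : Sylow 2 H)
    (hS : Cfsg.IsQuasiDihedral (S : Subgroup H) ∨ Cfsg.IsWreathed (S : Subgroup H))
    (hO : Cfsg.oddCore H = ⊥) {K : Subgroup H} [K.Normal] {a : ℕ} (hKi : K.index = 2 ^ a)
    (hK2 : ∀ M : Subgroup ↥K, M.index ≠ 2)
    (hP : ∀ P : Sylow 2 ↥K, ∃ m : ℕ, 1 ≤ m ∧ Nonempty ((P : Subgroup ↥K) ≃* QuaternionGroup (2 ^ m))) :
    ∃ (F : Type) (_ : Field F) (_ : Fintype F), Odd (Fintype.card F) ∧ ∃ L : Subgroup H,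
      L.Normal ∧ L ≤ K ∧ (S : Subgroup H) ⊓ K ≤ L ∧ Nonempty (↥L ≃* SL(2, F)) ∧
      ((Fintype.card F = 3 ∧ L = K) ∨
        (3 < Fintype.card F ∧ ⁅L, L⁆ = L ∧ K ⊓ centralizer (L : Set H) ≤ L ∧
          (∀ M : Subgroup H, M ≤ K → ⁅M, M⁆ = M → M ≤ L) ∧
          (∀ M : Subgroup H, M ≤ K → M.Normal → ¬ M.subgroupOf K ≤ center K → L ≤ M))) := by
  haveI : Fact (Nat.Prime 2) := ⟨Nat.prime_two⟩
  have hOK : Cfsg.oddCore K = ⊥ := by
    refine (map_eq_bot_iff_of_injective _ K.subtype_injective).1 (le_bot_iff.1 ?_)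
    exact (Cfsg.Lib.Core.pPrimeCore_map_le_of_isSubnormal (p := 2) (Normal.isSubnormal inferInstance)).trans
      hO.le
  obtain ⟨P, hPS⟩ := Cfsg.Lib.Local.exists_sylow_inf S K
  obtain ⟨m, hm, ⟨e⟩⟩ := hP P
  rcases quaternion_kernel h hOK hK2 P hm e with ⟨-, ⟨i⟩⟩ | ⟨L, -, hLp, hLZ, hPL, hCL, hmax, hmin, hiso⟩
  · refine ⟨ZMod 3, inferInstance, inferInstance, ?_, K, inferInstance, le_rfl, inf_le_right, ⟨i⟩,
      Or.inl ⟨ZMod.card 3, rfl⟩⟩
    rw [ZMod.card]; decide
  set L' := L.map K.subtype with hL'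
  have hL'p : ⁅L', L'⁆ = L' := by rw [hL', ← map_commutator, hLp]
  have hL'K : L' ≤ K := map_subtype_le L
  have hmax' : ∀ M : Subgroup H, M ≤ K → ⁅M, M⁆ = M → M ≤ L' := by
    intro M hMK hM
    have h1 : ⁅M.subgroupOf K, M.subgroupOf K⁆ = M.subgroupOf K :=
      Subgroup.map_injective K.subtype_injective (by rw [map_commutator, map_subgroupOf_eq_of_le hMK, hM])
    rw [← map_subgroupOf_eq_of_le hMK]
    exact map_mono (hmax _ h1)
  haveI hL'n : L'.Normal := by
    refine ⟨fun l hl g => ?_⟩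
    refine hmax' (L'.map (MulAut.conj g).toMonoidHom) ?_ (by rw [← map_commutator, hL'p])
      (mem_map_of_mem _ hl)
    rintro _ ⟨y, hy, rfl⟩
    exact Normal.conj_mem inferInstance y (hL'K hy) g
  have eL : L ≃* L' := L.equivMapOfInjective K.subtype K.subtype_injective
  have hSK : (S : Subgroup H) ⊓ K ≤ L' := fun x hx =>
    ⟨⟨x, hx.2⟩, hPL (by rw [hPS]; exact hx.1), rfl⟩
  rcases hiso with ⟨F, _, _, hodd, h3, ⟨iL⟩⟩ | hcov
  · refine ⟨F, inferInstance, inferInstance, hodd, L', hL'n, hL'K, hSK, ⟨eL.symm.trans iL⟩,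
      Or.inr ⟨h3, hL'p, ?_, hmax', ?_⟩⟩
    · rintro x ⟨hxK, hxC⟩
      refine ⟨⟨x, hxK⟩, hLZ (hCL _ (mem_centralizer_iff.2 fun y hy => Subtype.ext ?_)), rfl⟩
      exact mem_centralizer_iff.1 hxC _ (mem_map_of_mem _ hy)
    · intro M hMK hM hMc
      rw [← map_subgroupOf_eq_of_le hMK]
      exact map_mono (hmin _ (hM.subgroupOf K) hMc)
  · exfalso
    have hL'top : commutator L' = ⊤ := by
      refine Subgroup.map_injective L'.subtype_injective ?_
      rw [map_subtype_commutator, hL'p, ← MonoidHom.range_eq_map, range_subtype]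
    refine not_double_cover_alt7 S hS L' hL'top ?_ P hPS hSK hL'K e
    obtain ⟨hZ, ⟨i⟩, hns⟩ := hcov
    have hmap : (center L).map (eL : L →* L') = center L' := by
      ext x
      constructor
      · rintro ⟨z, hz, rfl⟩
        exact mem_center_iff.2 fun y => eL.symm.injective (by simpa using mem_center_iff.1 hz (eL.symm y))
      · intro hx
        exact ⟨eL.symm x, mem_center_iff.2 fun y => eL.injective (by simpa using mem_center_iff.1 hx (eL y)),
          eL.apply_symm_apply x⟩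
    refine ⟨?_, ⟨(QuotientGroup.congr _ _ eL hmap).symm.trans i⟩, fun R hR => hns (R.comap (eL : L →* L')) ?_⟩
    · rw [← hmap, card_map_of_injective eL.injective, hZ]
    · refine isComplement'_of_card_mul_and_disjoint ?_ ?_
      · have h1 := hR.card_mul
        rw [← hmap, card_map_of_injective eL.injective] at h1
        have hcR : Nat.card (R.comap (eL : L →* L')) = Nat.card R :=
          Nat.card_congr (Equiv.subtypeEquiv eL.toEquiv fun _ => Iff.rfl)
        rw [← hcR] at h1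
        exact h1.trans (Nat.card_congr eL.toEquiv).symm
      · rw [disjoint_iff, eq_bot_iff]
        intro x hx
        have h2 : eL x ∈ center L' ⊓ R := ⟨hmap.le (mem_map_of_mem _ hx.1), hx.2⟩
        rw [disjoint_iff.1 hR.disjoint, Subgroup.mem_bot] at h2
        rw [Subgroup.mem_bot]
        exact eL.injective (h2.trans (map_one eL).symm)

/-- S1216 from the theorem of Gorenstein and Walter. -/
theorem q_group_corefree (h : SimpleGW.{u}) {H : Type u} [Group H] [Finite H] (S : Sylow 2 H)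
    (hS : Cfsg.IsQuasiDihedral (S : Subgroup H) ∨ Cfsg.IsWreathed (S : Subgroup H))
    (hO : Cfsg.oddCore H = ⊥) {K : Subgroup H} [K.Normal] {a : ℕ} (hKi : K.index = 2 ^ a)
    (hK2 : ∀ M : Subgroup ↥K, M.index ≠ 2)
    (hP : ∀ P : Sylow 2 ↥K, ∃ m : ℕ, 1 ≤ m ∧ Nonempty ((P : Subgroup ↥K) ≃* QuaternionGroup (2 ^ m))) :
    ∃ L₀ : Subgroup H, L₀.Normal ∧
      (∃ (F : Type) (_ : Field F) (_ : Fintype F), Odd (Fintype.card F) ∧
        Nonempty (L₀ ≃* Matrix.SpecialLinearGroup (Fin 2) F)) ∧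
      ∀ L₁ : Subgroup H, L₁.Normal → (∃ (F : Type) (_ : Field F) (_ : Fintype F), Odd (Fintype.card F) ∧
        Nonempty (L₁ ≃* Matrix.SpecialLinearGroup (Fin 2) F)) → L₁ = L₀ := by
  obtain ⟨F, _, _, hodd, L, hLn, hLK, -, ⟨i⟩, hc⟩ := q_group h S hS hO hKi hK2 hP
  refine ⟨L, hLn, ⟨F, inferInstance, inferInstance, hodd, ⟨i⟩⟩, ?_⟩
  rintro L₁ hL₁ ⟨E, _, _, hEodd, ⟨j⟩⟩
  haveI := hL₁
  have hL₁K : L₁ ≤ K := by
    refine le_of_no_index_two hKi fun R hR => ?_
    refine SL_two_index_ne_two hEodd (R.comap j.symm.toMonoidHom) ?_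
    rw [R.index_comap_of_surjective j.symm.surjective, hR]
  have hcL : Nat.card L = Fintype.card F * (Fintype.card F ^ 2 - 1) := by
    rw [Nat.card_congr i.toEquiv, Cfsg.Lib.Linear.Two.card_SL_two]
  have hc₁ : Nat.card L₁ = Fintype.card E * (Fintype.card E ^ 2 - 1) := by
    rw [Nat.card_congr j.toEquiv, Cfsg.Lib.Linear.Two.card_SL_two]
  have hE3 : 3 ≤ Fintype.card E := by
    obtain ⟨k, hk⟩ := hEodd
    have := Fintype.one_lt_card (α := E)
    omega
  rcases hc with ⟨hF, hLeq⟩ | ⟨hF, -, -, hmax, hmin⟩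
  · refine eq_of_le_of_card_ge (hLeq ▸ hL₁K) ?_
    rw [hcL, hc₁, hF]
    have : 9 ≤ Fintype.card E ^ 2 := by nlinarith
    exact Nat.mul_le_mul hE3 (by omega)
  · have hnc : ¬ L₁.subgroupOf K ≤ center K :=
      SL_two_not_le_center hEodd ((subgroupOfEquivOfLe hL₁K).trans j)
    have hle := hmin L₁ hL₁K hL₁ hnc
    refine le_antisymm (hmax L₁ hL₁K ?_) hle
    have h4 : 4 ≤ Fintype.card E := by
      by_contra h4
      have h24 : Nat.card L₁ = 24 := by rw [hc₁, show Fintype.card E = 3 by omega]; norm_num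
      have h1 := Subgroup.card_le_of_le hle
      rw [h24, hcL] at h1
      have h5 : 5 ≤ Fintype.card F := by
        obtain ⟨k, hk⟩ := hodd
        omega
      have h25 : 25 ≤ Fintype.card F ^ 2 := by nlinarith
      have h120 : 5 * 24 ≤ Fintype.card F * (Fintype.card F ^ 2 - 1) := Nat.mul_le_mul h5 (by omega)
      omega
    have hp := congrArg (Subgroup.map j.symm.toMonoidHom)
      (Cfsg.Lib.Linear.commutator_SL_eq_top' (ι := Fin 2) (F := E) (Or.inr h4))
    rw [commutator_map_top _ j.symm.surjective, map_top_of_surjective _ j.symm.surjective] at hp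
    rw [← map_subtype_commutator, hp, ← MonoidHom.range_eq_map, range_subtype]

end Cfsg.Lib.GW
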