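import Cfsg.Agent.Lib.GW.OrderBound
import Cfsg.Agent.Lib.GW.Min

/-!
# Gorenstein–Walter: Step N

No proper overgroup of the centralizer of an involution has one class of involutions.
-/

set_option autoImplicit false

namespace Cfsg.Lib.GW

universe u

/-- A Sylow 2-subgroup of order at least eight is dihedral of order a power of two. -/
theorem exists_dihedral_exponent {G : Type u} [Group G] [Finite G] (h : SylowDihedral G)
    (h8 : 8 ∣ Nat.card G) (P : Sylow 2 G) :
    ∃ n : ℕ, 3 ≤ n ∧ Nonempty ((P : Subgroup G) ≃* DihedralGroup (2 ^ (n - 1))) := by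
  haveI : Fact (Nat.Prime 2) := ⟨Nat.prime_two⟩
  obtain ⟨m, -, ⟨e⟩⟩ := h P
  have hc : 2 * m = 2 ^ (Nat.card G).factorization 2 := by
    rw [← P.card_eq_multiplicity, ← DihedralGroup.nat_card]
    exact (Nat.card_congr e.toEquiv).symm
  have h3 : 3 ≤ (Nat.card G).factorization 2 :=
    (Nat.prime_two.pow_dvd_iff_le_factorization Nat.card_pos.ne').1 (by norm_num; exact h8)
  refine ⟨_, h3, ?_⟩
  have hm : m = 2 ^ ((Nat.card G).factorization 2 - 1) := by
    obtain ⟨k, hk⟩ : ∃ k, (Nat.card G).factorization 2 = k + 1 := ⟨_, (Nat.succ_pred (by omega)).symm⟩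
    rw [hk, pow_succ'] at hc
    rw [hk, Nat.add_sub_cancel]
    omega
  exact hm ▸ ⟨e⟩

/-- Step N. -/
theorem stepN : StepN.{u} := by
  intro G _ _ hG h8 t H ht hC hne hH
  haveI := hG.isSimple
  haveI : Fact (Nat.Prime 2) := ⟨Nat.prime_two⟩
  obtain ⟨P⟩ : Nonempty (Sylow 2 G) := inferInstance
  obtain ⟨n, hn, hP⟩ := exists_dihedral_exponent hG.sylow h8 P
  exact hne (eq_top_of_simple' P hn hP hG.oneClass ht H hC hH)

end Cfsg.Lib.GW
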